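import Groth.Agent.Lib.OX.KFlat
import Mathlib.Algebra.Homology.Embedding.CochainComplex

/-! # Bounded above complexes of flat modules are K-flat -/

set_option autoImplicit false
set_option maxHeartbeats 800000
universe v u

open CategoryTheory CategoryTheory.Limits AlgebraicGeometry HomologicalComplex

namespace GrothLib.Trunc

variable {A : Type u} [Category.{v} A] [HasZeroMorphisms A] [∀ P : Prop, HasColimitsOfShape (Discrete (PLift P)) A]
  (K : CochainComplex A ℤ) (a : ℤ)

/-- The part of `K` in degrees `≥ a`. -/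
noncomputable def geObj : CochainComplex A ℤ where
  X n := ∐ fun _ : PLift (a ≤ n) => K.X n
  d i j := Sigma.desc fun _ => if h : a ≤ j then K.d i j ≫ Sigma.ι (fun _ : PLift (a ≤ j) => K.X j) ⟨h⟩ else 0
  shape i j h := Sigma.hom_ext _ _ fun s => by
    rw [Sigma.ι_desc, comp_zero]
    split_ifs
    · rw [K.shape i j h, zero_comp]
    · rfl
  d_comp_d' i j k _ _ := Sigma.hom_ext _ _ fun s => by
    rw [Sigma.ι_desc_assoc, comp_zero]
    split_ifs <;> simp

theorem isZero_geObj_X {n : ℤ} (h : ¬ a ≤ n) [HasZeroObject A] : IsZero ((geObj K a).X n) :=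
  (IsZero.iff_id_eq_zero _).2 (Sigma.hom_ext _ _ fun s => absurd s.down h)

/-- The inclusion in `K`. -/
noncomputable def geι : geObj K a ⟶ K where
  f n := Sigma.desc fun _ => 𝟙 _
  comm' i j hij := Sigma.hom_ext _ _ fun s => by
    have hj : a ≤ j := le_trans s.down (le_of_lt (by
      have h : i + 1 = j := hij
      omega))
    erw [Sigma.ι_desc_assoc, Category.id_comp, Sigma.ι_desc_assoc]
    rw [dif_pos hj]
    erw [Category.assoc, Sigma.ι_desc, Category.comp_id]

theorem isIso_geι_f {n : ℤ} (h : a ≤ n) : IsIso ((geι K a).f n) :=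
  ⟨Sigma.ι (fun _ : PLift (a ≤ n) => K.X n) ⟨h⟩,
    Sigma.hom_ext _ _ fun _ => by erw [Sigma.ι_desc_assoc, Category.id_comp, Category.comp_id],
    Sigma.ι_desc _ _⟩

theorem mono_geι_f [HasZeroObject A] (n : ℤ) : Mono ((geι K a).f n) := by
  by_cases h : a ≤ n
  · have := isIso_geι_f K a h
    infer_instance
  · exact (isZero_geObj_X K a h).mono _

/-- The transition maps. -/
noncomputable def geMap [HasZeroObject A] {a' : ℤ} (h : a' ≤ a) : geObj K a ⟶ geObj K a' where
  f n := Sigma.desc fun s => Sigma.ι (fun _ : PLift (a' ≤ n) => K.X n) ⟨le_trans h s.down⟩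
  comm' i j hij := Sigma.hom_ext _ _ fun s => by
    have hj : a ≤ j := le_trans s.down (le_of_lt (by
      have h : i + 1 = j := hij
      omega))
    erw [Sigma.ι_desc_assoc, Sigma.ι_desc, Sigma.ι_desc_assoc]
    rw [dif_pos (le_trans h hj), dif_pos hj]
    erw [Category.assoc, Sigma.ι_desc]
    rfl

theorem geMap_ι [HasZeroObject A] {a' : ℤ} (h : a' ≤ a) : geMap K a h ≫ geι K a' = geι K a :=
  HomologicalComplex.hom_ext _ _ fun n => Sigma.hom_ext _ _ fun s => by
    erw [Sigma.ι_desc_assoc, Sigma.ι_desc, Sigma.ι_desc]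

variable [HasZeroObject A] (b : ℤ)

/-- The increasing sequence of truncations starting at degree `b`. -/
noncomputable def geFun : ℕ ⥤ CochainComplex A ℤ :=
  Functor.ofSequence (X := fun k : ℕ => geObj K (b - k)) fun k => geMap K _ (by push_cast; omega)

/-- The cocone with point `K`. -/
noncomputable def geCocone : Cocone (geFun K b) :=
  ⟨K, NatTrans.ofSequence (fun k => geι K (b - k)) fun k =>
    (congrArg (· ≫ _) (Functor.ofSequence_map_homOfLE_succ _ k)).trans
      ((geMap_ι K _ _).trans (Category.comp_id _).symm)⟩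

omit [HasZeroMorphisms A] [∀ P : Prop, HasColimitsOfShape (Discrete (PLift P)) A] [HasZeroObject A] in
private theorem fac_aux₁ {P Q R L : A} {t : P ⟶ Q} {ιk : P ⟶ L} {ι₀ : Q ⟶ L} {v : L ⟶ Q} {sk : P ⟶ R}
    {s₀ : Q ⟶ R} (hw : t ≫ ι₀ = ιk) (hv : ι₀ ≫ v = 𝟙 Q) (hs : t ≫ s₀ = sk) : ιk ≫ v ≫ s₀ = sk := by
  rw [← hw, Category.assoc, reassoc_of% hv, hs]

omit [HasZeroMorphisms A] [∀ P : Prop, HasColimitsOfShape (Discrete (PLift P)) A] [HasZeroObject A] in
private theorem fac_aux₂ {P Q R L : A} {t : Q ⟶ P} {ιk : P ⟶ L} {ι₀ : Q ⟶ L} {v : L ⟶ Q} {sk : P ⟶ R}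
    {s₀ : Q ⟶ R} (hm : Mono ιk) (hw : t ≫ ιk = ι₀) (hv : v ≫ ι₀ = 𝟙 L) (hs : t ≫ sk = s₀) :
    ιk ≫ v ≫ s₀ = sk := by
  have h : ιk ≫ v ≫ t = 𝟙 P := by
    rw [← cancel_mono ιk, Category.assoc, Category.assoc, hw, hv, Category.comp_id, Category.id_comp]
  rw [← hs, ← Category.assoc v, ← Category.assoc ιk, h, Category.id_comp]

/-- `K` is the union of its truncations. -/
noncomputable def isColimitGeCocone : IsColimit (geCocone K b) :=
  HomologicalComplex.isColimitOfEval _ _ fun n => by
    let E := HomologicalComplex.eval A (ComplexShape.up ℤ) n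
    let k₀ : ℕ := (b - n).toNat
    have hiso : ∀ k : ℕ, k₀ ≤ k → IsIso ((geι K (b - k)).f n) := fun k hk => isIso_geι_f K _ (by omega)
    have hw : ∀ {k m : ℕ} (h : k ≤ m), ((geFun K b).map (homOfLE h)).f n ≫ (geι K (b - m)).f n =
        (geι K (b - k)).f n := fun h => by
      rw [← HomologicalComplex.comp_f]
      exact congrArg (fun φ => HomologicalComplex.Hom.f φ n) ((geCocone K b).w (homOfLE h))
    let v := @inv _ _ _ _ ((geι K (b - k₀)).f n) (hiso k₀ le_rfl)
    have hv₁ : (geι K (b - k₀)).f n ≫ v = 𝟙 _ := @IsIso.hom_inv_id _ _ _ _ _ (hiso k₀ le_rfl)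
    have hv₂ : v ≫ (geι K (b - k₀)).f n = 𝟙 _ := @IsIso.inv_hom_id _ _ _ _ _ (hiso k₀ le_rfl)
    refine { desc := fun s => v ≫ s.ι.app k₀, fac := fun s k => ?_, uniq := fun s m hm => ?_ }
    · rcases le_total k k₀ with hk | hk
      · exact fac_aux₁ (hw hk) hv₁ (s.w (homOfLE hk))
      · have := mono_geι_f K (b - k) n
        exact fac_aux₂ this (hw hk) hv₂ (s.w (homOfLE hk))
    · exact ((Category.id_comp m).symm.trans ((congrArg (· ≫ m) hv₂).symm.trans (Category.assoc _ _ _))).trans
        (congrArg (v ≫ ·) (hm k₀))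

/-- The top graded piece. -/
noncomputable def geTop : geObj K a ⟶ (HomologicalComplex.single A (ComplexShape.up ℤ) a).obj (K.X a) :=
  HomologicalComplex.mkHomToSingle ((geι K a).f a) fun i hi =>
    (isZero_geObj_X K a (by
      have h : i + 1 = a := hi
      omega)).eq_of_src _ _

theorem geMap_geTop (h : a ≤ a + 1) : geMap K (a + 1) h ≫ geTop K a = 0 :=
  HomologicalComplex.to_single_hom_ext ((isZero_geObj_X K (a + 1) (by omega)).eq_of_src _ _)

end GrothLib.Trunc

namespace GrothLib.OX

open GrothLib.Trunc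

variable {X : Scheme.{u}} (K : CochainComplex X.Modules ℤ)

theorem geShortExact (a : ℤ) :
    (ShortComplex.mk _ _ (geMap_geTop K a (by omega))).ShortExact := by
  refine HomologicalComplex.shortExact_of_degreewise_shortExact _ fun n => ?_
  let T := (ShortComplex.mk _ _ (geMap_geTop K a (by omega))).map
    (HomologicalComplex.eval X.Modules (ComplexShape.up ℤ) n)
  change T.ShortExact
  have hfac : T.f ≫ (geι K a).f n = (geι K (a + 1)).f n :=
    congrArg (fun φ => HomologicalComplex.Hom.f φ n) (geMap_ι K (a + 1) (show a ≤ a + 1 by omega))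
  by_cases hn : n = a
  · subst hn
    have hz : IsZero T.X₁ := isZero_geObj_X K _ (by omega)
    have hg : IsIso T.g := by
      change IsIso ((geTop K n).f n)
      rw [geTop, HomologicalComplex.mkHomToSingle_f]
      have := isIso_geι_f K n le_rfl
      infer_instance
    exact { exact := (T.exact_iff_mono (hz.eq_of_src _ _)).2 inferInstance
            mono_f := hz.mono _
            epi_g := inferInstance }
  · have hz : IsZero T.X₃ := HomologicalComplex.isZero_single_obj_X (ComplexShape.up ℤ) a _ n hn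
    have hf : IsIso T.f := by
      by_cases hna : a ≤ n
      · exact @IsIso.of_isIso_comp_right _ _ _ _ _ T.f ((geι K a).f n) (isIso_geι_f K a hna)
          (by rw [hfac]; exact isIso_geι_f K (a + 1) (show a + 1 ≤ n by omega))
      · exact (isZero_geObj_X K (a + 1) (show ¬ a + 1 ≤ n by omega)).isIso (isZero_geObj_X K a hna) _
    exact { exact := (T.exact_iff_epi (hz.eq_of_tgt _ _)).2 inferInstance
            mono_f := inferInstance
            epi_g := hz.epi _ }

/-- A bounded above complex of flat modules is K-flat. -/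
theorem isKFlat_of_bounded_above (b : ℤ) (hb : ∀ n, b < n → IsZero (K.X n)) (hflat : FlatTerms K) :
    DCoh.IsKFlat K := by
  have hzero : DCoh.IsKFlat (geObj K (b + 1)) := by
    refine isKFlat_of_isZero ((IsZero.iff_id_eq_zero _).2 (HomologicalComplex.hom_ext _ _ fun n => ?_))
    by_cases h : b + 1 ≤ n
    · have := isIso_geι_f K (b + 1) h
      exact ((hb n (by omega)).of_iso (asIso ((geι K (b + 1)).f n))).eq_of_src _ _
    · exact (isZero_geObj_X K _ h).eq_of_src _ _
  have hk : ∀ k : ℕ, DCoh.IsKFlat (geObj K (b + 1 - k)) := by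
    intro k
    induction k with
    | zero => simpa using hzero
    | succ k ih =>
      have := isKFlat_X₂ (S := ShortComplex.mk _ _ (geMap_geTop K (b + 1 - (k + 1 : ℕ)) (by omega)))
        (tensorCx_shortExact_of_flat (geShortExact K _) (flatTerms_single _ (hflat _) _))
        (show DCoh.IsKFlat (geObj K (b + 1 - (k + 1 : ℕ) + 1)) by
          rwa [show b + 1 - ((k + 1 : ℕ) : ℤ) + 1 = b + 1 - (k : ℤ) by push_cast; omega])
        (isKFlat_single _ (hflat _) _)
      exact this
  exact isKFlat_of_iso ((colimit.isColimit _).coconePointUniqueUpToIso (isColimitGeCocone K (b + 1)))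
    (isKFlat_colimit (geFun K (b + 1)) hk)

end GrothLib.OX
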