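import Groth.Agent.Lib.OX.LTensor
import Groth.Agent.Lib.OX.KFlatBounded
import Mathlib.Algebra.Homology.DerivedCategory.Fractions
import Mathlib.Algebra.Homology.HomotopyCategory.ShiftSequence

/-! # Tor amplitude through K-flat representatives -/

set_option autoImplicit false
set_option maxHeartbeats 400000
universe v u

open CategoryTheory CategoryTheory.Limits AlgebraicGeometry HomologicalComplex
open CategoryTheory.Pretriangulated

attribute [local instance] HasDerivedCategory.standard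

namespace GrothLib.OX

theorem isZero_homology_map {A B : Type*} [Category A] [Category B] [Abelian A] [Abelian B] (F : A ⥤ B)
    [F.PreservesZeroMorphisms] (K : CochainComplex A ℤ) (i : ℤ) (h : IsZero (K.X i)) :
    IsZero (((F.mapHomologicalComplex (ComplexShape.up ℤ)).obj K).homology i) :=
  (exactAt_iff_isZero_homology _ i).1 (ExactAt.of_isZero (F.map_isZero h))

theorem flat_of_modIso {R : Type u} [CommRing R] {N N' : ModuleCat.{u} R} (e : N ≅ N') (h : Module.Flat R N) :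
    Module.Flat R N' := Module.Flat.of_linearEquiv e.toLinearEquiv.symm

variable {X Y : Scheme.{u}}

/-- Tor amplitude through a K-flat representative. -/
def Amp (a b : ℤ) (K : DCoh.D X) : Prop :=
  ∃ P : CochainComplex X.Modules ℤ, DCoh.IsKFlat P ∧ Nonempty (DerivedCategory.Q.obj P ≅ K) ∧
    ∀ (G : X.Modules) (i : ℤ), i < a ∨ b < i → IsZero (((tensorModCx G).obj P).homology i)

theorem amp_of_iso {a b : ℤ} {K K' : DCoh.D X} (e : K ≅ K') : Amp a b K → Amp a b K' :=
  fun ⟨P, hP, ⟨e'⟩, h⟩ => ⟨P, hP, ⟨e' ≪≫ e⟩, h⟩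

theorem amp_shift {a b : ℤ} {K : DCoh.D X} (n : ℤ) {a' b' : ℤ} (ha : a' = a - n) (hb : b' = b - n)
    (h : Amp a b K) : Amp a' b' (K⟦n⟧) := by
  obtain ⟨P, hP, ⟨e⟩, h⟩ := h
  refine ⟨P⟦n⟧, isKFlat_shift hP n,
    ⟨((DerivedCategory.Q (C := X.Modules)).commShiftIso n).app P ≪≫ (shiftFunctor (DCoh.D X) n).mapIso e⟩,
    fun G i hi => ?_⟩
  refine (h G (n + i) (by omega)).of_iso ?_
  exact (homologyFunctor X.Modules (ComplexShape.up ℤ) i).mapIso (((tensorModCx G).commShiftIso n).app P) ≪≫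
    (((homologyFunctor X.Modules (ComplexShape.up ℤ) 0).shiftIso n i (n + i) rfl).app _)

theorem quasiIso_tensorModCx {K L : CochainComplex X.Modules ℤ} (φ : K ⟶ L) [QuasiIso φ] (hK : DCoh.IsKFlat K)
    (hL : DCoh.IsKFlat L) (G : X.Modules) : QuasiIso ((tensorModCx G).map φ) :=
  (DerCat.quasiIso_iff_acyclic_mappingCone _).2
    (DerCat.acyclic_of_iso (CochainComplex.mappingCone.mapHomologicalComplexIso φ _)
      (acyclic_tensor_module ((DerCat.quasiIso_iff_acyclic_mappingCone φ).1 inferInstance)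
        (isKFlat_mappingCone φ hK hL) G))

theorem amp_of_vanishesOutside {a b : ℤ} {K : DCoh.D X} (h : DCoh.HasFlatAmplitudeIn a b K) : Amp a b K := by
  obtain ⟨E, hE, hflat, ⟨e⟩⟩ := h
  refine ⟨E, isKFlat_of_bounded_above E b (fun n hn => hE n (Or.inr hn)) hflat, ⟨e⟩, fun G i hi => ?_⟩
  exact isZero_homology_map ((DCoh.tensorBi (X := X)).flip.obj G) E i (hE i hi)

theorem hasTorAmplitudeIn_of_amp {a b : ℤ} {K : DCoh.D X} (h : Amp a b K) : DCoh.HasTorAmplitudeIn a b K := by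
  obtain ⟨P, hP, ⟨e⟩, h⟩ := h
  intro F hF i hi
  obtain ⟨w⟩ := hd_ltensor F P hP e i
  exact (h F i hi).of_iso w

/-- Given a distinguished triangle, the amplitude of the third term. -/
theorem amp_obj₃ {T : Triangle (DCoh.D X)} (hT : T ∈ distinguishedTriangles) {a b : ℤ}
    (h₁ : Amp (a + 1) (b + 1) T.obj₁) (h₂ : Amp a b T.obj₂) : Amp a b T.obj₃ := by
  obtain ⟨P₁, hP₁, ⟨e₁⟩, h₁⟩ := h₁
  obtain ⟨P₂, hP₂, ⟨e₂⟩, h₂⟩ := h₂
  obtain ⟨X', s, hs, g, hg⟩ := DerivedCategory.right_fac (e₁.hom ≫ T.mor₁ ≫ e₂.inv)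
  obtain ⟨N, r, hN, -, hr, -⟩ := exists_kflat_resolution X'
  have hQr : IsIso (DerivedCategory.Q.map r) := (DerivedCategory.isIso_Q_map_iff_quasiIso _ r).2 hr
  have hQrs : IsIso (DerivedCategory.Q.map (r ≫ s)) := by
    rw [Functor.map_comp]; infer_instance
  have hqrs : QuasiIso (r ≫ s) := (DerivedCategory.isIso_Q_map_iff_quasiIso _ _).1 hQrs
  let φ : N ⟶ P₂ := r ≫ g
  have hd := DerivedCategory.mappingCone_triangle_distinguished φ
  let eT := isoTriangleOfIso₁₂ _ _ hd hT (@asIso _ _ _ _ (DerivedCategory.Q.map (r ≫ s)) hQrs ≪≫ e₁) e₂ (by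
    change DerivedCategory.Q.map φ ≫ e₂.hom = (DerivedCategory.Q.map (r ≫ s) ≫ e₁.hom) ≫ T.mor₁
    have : e₁.hom ≫ T.mor₁ = (inv (DerivedCategory.Q.map s) ≫ DerivedCategory.Q.map g) ≫ e₂.hom := by
      rw [← hg]; simp
    rw [Category.assoc, this]
    simp [φ])
  refine ⟨CochainComplex.mappingCone φ, isKFlat_mappingCone φ hN hP₂, ⟨Triangle.π₃.mapIso eT⟩, fun G i hi => ?_⟩
  have hz₁ : IsZero ((((tensorModCx G).obj N)⟦(1 : ℤ)⟧).homology i) := by
    refine (h₁ G (1 + i) (by omega)).of_iso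
      ((((homologyFunctor X.Modules (ComplexShape.up ℤ) 0).shiftIso 1 i (1 + i) rfl).app _) ≪≫ ?_)
    have := quasiIso_tensorModCx (r ≫ s) hN hP₁ G
    exact @asIso _ _ _ _ (homologyMap ((tensorModCx G).map (r ≫ s)) (1 + i))
      ((quasiIsoAt_iff_isIso_homologyMap _ _).1 inferInstance)
  have hS : (coneShortComplex ((tensorModCx G).map φ)).ShortExact :=
    HomologicalComplex.shortExact_of_degreewise_shortExact _ fun q => (coneSplitting _ q).shortExact
  exact ((hS.homology_exact₂ i).isZero_of_both_zeros ((h₂ G i hi).eq_of_src _ _) (hz₁.eq_of_tgt _ _)).of_iso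
    ((homologyFunctor X.Modules (ComplexShape.up ℤ) i).mapIso
      (CochainComplex.mappingCone.mapHomologicalComplexIso φ _))

/-- The amplitude of the middle term. -/
theorem amp_obj₂ {T : Triangle (DCoh.D X)} (hT : T ∈ distinguishedTriangles) {a b : ℤ}
    (h₁ : Amp a b T.obj₁) (h₃ : Amp a b T.obj₃) : Amp a b T.obj₂ :=
  amp_obj₃ (inv_rot_of_distTriang T hT) (amp_shift (-1) (by omega) (by omega) h₃) h₁

/-- The amplitude of the first term. -/
theorem amp_obj₁ {T : Triangle (DCoh.D X)} (hT : T ∈ distinguishedTriangles) {a b : ℤ}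
    (h₂ : Amp (a + 1) (b + 1) T.obj₂) (h₃ : Amp a b T.obj₃) : Amp (a + 1) (b + 1) T.obj₁ :=
  amp_obj₃ (inv_rot_of_distTriang _ (inv_rot_of_distTriang T hT))
    (amp_shift (-1) (by omega) (by omega) h₂) (amp_shift (-1) (by omega) (by omega) h₃)

theorem flat_extendScalars {R S : Type u} [CommRing R] [CommRing S] (φ : R →+* S) (N : ModuleCat.{u} R)
    (h : Module.Flat R N) : Module.Flat S ((ModuleCat.extendScalars φ).obj N) :=
  let := φ.toAlgebra
  Module.Flat.baseChange R S N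

theorem flat_pullback (f : X ⟶ Y) (M : Y.Modules) (h : FlatMod.IsFlat M) :
    FlatMod.IsFlat ((Scheme.Modules.pullback f).obj M) := by
  refine (flat_iff _).2 fun x => ?_
  have := (flat_iff M).1 h (f x)
  have := flat_extendScalars (f.stalkMap x).hom ((stalk (f x)).obj M) this
  exact flat_of_modIso ((pullStalkIso f x).app M).symm this

/-- Derived pullback preserves flat amplitude. -/
theorem flatAmplitude_lpull (f : X ⟶ Y) [DCoh.HasLpull f] {a b : ℤ} {E : DCoh.D Y}
    (h : DCoh.HasFlatAmplitudeIn a b E) : DCoh.HasFlatAmplitudeIn a b ((DCoh.Lpull f).obj E) := by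
  obtain ⟨E', hv, hflat, ⟨e⟩⟩ := h
  obtain ⟨v⟩ := lpull_value f E' (isKFlat_of_bounded_above E' b (fun n hn => hv n (Or.inr hn)) hflat)
  exact ⟨((Scheme.Modules.pullback f).mapHomologicalComplex (ComplexShape.up ℤ)).obj E',
    fun i hi => (Scheme.Modules.pullback f).map_isZero (hv i hi), fun i => flat_pullback f _ (hflat i),
    ⟨v.symm ≪≫ (DCoh.Lpull f).mapIso e⟩⟩

end GrothLib.OX
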