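import Groth.Agent.Lib.OX.PullbackTensor
import Groth.Agent.Lib.OX.TorAmp
import Groth.Agent.Lib.DCoh.LocFree
import Groth.Agent.Lib.AssPts.Flat
import Groth.Agent.Lib.QCoh.Abelian
import Mathlib.Algebra.Category.ModuleCat.Sheaf.PullbackFree

/-! # Finite locally free modules: flatness, pullback, tensor products -/

set_option autoImplicit false
set_option maxHeartbeats 400000
universe u

open CategoryTheory CategoryTheory.Limits MonoidalCategory AlgebraicGeometry Opposite TopologicalSpace

namespace GrothLib.OX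

variable {X Y : Scheme.{u}}

instance final_opensMap (f : X ⟶ Y) : (Opens.map f.base).Final where
  out d := by
    have : Nonempty (StructuredArrow d (Opens.map f.base)) := ⟨StructuredArrow.mk (Y := (⊤ : Y.Opens)) (homOfLE le_top)⟩
    refine zigzag_isConnected fun a b => ?_
    let t : StructuredArrow d (Opens.map f.base) := StructuredArrow.mk (Y := (⊤ : Y.Opens)) (homOfLE le_top)
    have h : ∀ c : StructuredArrow d (Opens.map f.base), Nonempty (c ⟶ t) := fun c =>
      ⟨StructuredArrow.homMk (homOfLE le_top) (Subsingleton.elim _ _)⟩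
    obtain ⟨ha⟩ := h a
    obtain ⟨hb⟩ := h b
    exact (Zigzag.of_hom ha).trans (Zigzag.of_inv hb)

/-- The pullback of the structure sheaf is the structure sheaf. -/
noncomputable def pullUnitIso (f : X ⟶ Y) :
    (Scheme.Modules.pullback f).obj (Coh.structureModule Y) ≅ Coh.structureModule X :=
  haveI : (SheafOfModules.pushforward.{u} f.toRingCatSheafHom).IsRightAdjoint :=
    (Scheme.Modules.pullbackPushforwardAdjunction f).isRightAdjoint
  @asIso _ _ _ _ (SheafOfModules.pullbackObjUnitToUnit f.toRingCatSheafHom)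
    (SheafOfModules.instIsIsoPullbackObjUnitToUnitOfFinal (F := Opens.map f.base) f.toRingCatSheafHom)

/-- The pullback of a finite free module is finite free. -/
noncomputable def pullFreeModIso (f : X ⟶ Y) (n : ℕ) :
    (Scheme.Modules.pullback f).obj (FlatMod.freeMod Y n) ≅ FlatMod.freeMod X n :=
  have : PreservesColimitsOfShape (Discrete (Fin n)) (Scheme.Modules.pullback f) := inferInstance
  PreservesCoproduct.iso (Scheme.Modules.pullback f) _ ≪≫ Sigma.mapIso (fun _ => pullUnitIso f)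

theorem flat_structureModule (X : Scheme.{u}) : FlatMod.IsFlat (Coh.structureModule X) := fun x => by
  obtain ⟨e⟩ := AssPts.exists_stalk_unit_equiv x
  exact Module.Flat.of_linearEquiv e.symm

theorem flat_freeMod (X : Scheme.{u}) (n : ℕ) : FlatMod.IsFlat (FlatMod.freeMod X n) :=
  flat_colimit (colimit.isColimit _) fun _ => flat_structureModule X

theorem flat_of_bijective {R S : Type u} [CommRing R] [CommRing S] (φ : R →+* S) (hφ : Function.Bijective φ)
    (N : ModuleCat.{u} R) (h : Module.Flat S ((ModuleCat.extendScalars φ).obj N)) : Module.Flat R N := by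
  let := φ.toAlgebra
  let e : R ≃ₐ[R] S := AlgEquiv.ofBijective (Algebra.ofId R S) hφ
  have : Module.Flat R S := Module.Flat.of_linearEquiv e.toLinearEquiv.symm
  have h' : Module.Flat S (TensorProduct R S N) := h
  have : Module.Flat R (TensorProduct R S N) := Module.Flat.trans R S _
  exact Module.Flat.of_linearEquiv
    ((TensorProduct.congr e.toLinearEquiv.symm (LinearEquiv.refl R N)).trans (TensorProduct.lid R N)).symm

theorem flat_of_restrict {M : X.Modules} (h : ∀ x : X, ∃ U : X.Opens, x ∈ U ∧ FlatMod.IsFlat (M.restrict U.ι)) :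
    FlatMod.IsFlat M := (flat_iff M).2 fun x => by
  obtain ⟨U, hx, hU⟩ := h x
  have h1 := (flat_iff _).1 (flat_of_iso ((Scheme.Modules.restrictFunctorIsoPullback U.ι).app M) hU) ⟨x, hx⟩
  have h2 := flat_of_modIso ((pullStalkIso U.ι ⟨x, hx⟩).app M) h1
  exact flat_of_bijective (U.ι.stalkMap ⟨x, hx⟩).hom
    (ConcreteCategory.bijective_of_isIso (U.ι.stalkMap ⟨x, hx⟩)) _ h2

theorem flat_of_isFinLocFree {M : X.Modules} (h : FlatMod.IsFinLocFree M) : FlatMod.IsFlat M :=
  flat_of_restrict fun x => by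
    obtain ⟨U, n, hx, ⟨e⟩⟩ := h x
    exact ⟨U, hx, flat_of_iso e.symm (flat_freeMod _ n)⟩

/-- Pullback, restricted to the preimage of an open. -/
noncomputable def pullSquareIso (f : X ⟶ Y) (U : Y.Opens) :
    Scheme.Modules.pullback f ⋙ Scheme.Modules.restrictFunctor (f ⁻¹ᵁ U).ι ≅
      Scheme.Modules.restrictFunctor U.ι ⋙ Scheme.Modules.pullback (f ∣_ U) :=
  Functor.isoWhiskerLeft _ (Scheme.Modules.restrictFunctorIsoPullback _) ≪≫
    Scheme.Modules.pullbackComp _ _ ≪≫ Scheme.Modules.pullbackCongr (morphismRestrict_ι f U).symm ≪≫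
    (Scheme.Modules.pullbackComp _ _).symm ≪≫
    Functor.isoWhiskerRight (Scheme.Modules.restrictFunctorIsoPullback _).symm _

theorem isFinLocFree_pullback (f : X ⟶ Y) {M : Y.Modules} (h : FlatMod.IsFinLocFree M) :
    FlatMod.IsFinLocFree ((Scheme.Modules.pullback f).obj M) := fun x => by
  obtain ⟨U, n, hx, ⟨e⟩⟩ := h (f x)
  exact ⟨f ⁻¹ᵁ U, n, hx, ⟨(pullSquareIso f U).app M ≪≫ (Scheme.Modules.pullback (f ∣_ U)).mapIso e ≪≫
    pullFreeModIso _ n⟩⟩

/-- The structure sheaf is a unit for the tensor product. -/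
noncomputable def tensorUnitLeftIso (M : X.Modules) :
    ((DCoh.tensorBi (X := X)).obj (Coh.structureModule X)).obj M ≅ M :=
  DCoh.shP.mapIso (show DCoh.toP.obj (Coh.structureModule X) ⊗ DCoh.toP.obj M ≅ DCoh.toP.obj M from
    λ_ (DCoh.toP.obj M)) ≪≫
    (asIso (PresheafOfModules.sheafificationAdjunction (R := X.ringCatSheaf) (𝟙 X.ringCatSheaf.obj)).counit).app M

/-- The tensor product of two finite free modules. -/
noncomputable def tensorFreeIso (X : Scheme.{u}) (m n : ℕ) :
    ((DCoh.tensorBi (X := X)).obj (FlatMod.freeMod X m)).obj (FlatMod.freeMod X n) ≅ FlatMod.freeMod X (m * n) :=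
  have : PreservesColimitsOfShape (Discrete (Fin m)) ((DCoh.tensorBi (X := X)).flip.obj (FlatMod.freeMod X n)) :=
    inferInstance
  PreservesCoproduct.iso ((DCoh.tensorBi (X := X)).flip.obj (FlatMod.freeMod X n)) _ ≪≫
    Sigma.mapIso (fun _ => tensorUnitLeftIso (FlatMod.freeMod X n)) ≪≫
    sigmaSigmaIso (fun _ : Fin m => Fin n) (fun _ _ => Coh.structureModule X) ≪≫
    Sigma.whiskerEquiv (g := fun _ : Fin (m * n) => Coh.structureModule X)
      ((Equiv.sigmaEquivProd (Fin m) (Fin n)).trans finProdFinEquiv) (fun _ => Iso.refl _)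

theorem isFinLocFree_tensor {M N : X.Modules} (hM : FlatMod.IsFinLocFree M) (hN : FlatMod.IsFinLocFree N) :
    FlatMod.IsFinLocFree (((DCoh.tensorBi (X := X)).obj M).obj N) := fun x => by
  obtain ⟨U, m, hxU, ⟨i⟩⟩ := hM x
  obtain ⟨V, n, hxV, ⟨j⟩⟩ := hN x
  obtain ⟨i'⟩ := DCoh.exists_free_restrict_le (inf_le_left : U ⊓ V ≤ U) i
  obtain ⟨j'⟩ := DCoh.exists_free_restrict_le (inf_le_right : U ⊓ V ≤ V) j
  let P := Scheme.Modules.restrictFunctorIsoPullback (U ⊓ V).ι
  refine ⟨U ⊓ V, m * n, ⟨hxU, hxV⟩, ⟨?_⟩⟩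
  exact P.app _ ≪≫ pullTensorIso (U ⊓ V).ι M N ≪≫
    ((DCoh.tensorBi (X := (U ⊓ V : X.Opens).toScheme)).mapIso ((P.app M).symm ≪≫ i')).app _ ≪≫
    ((DCoh.tensorBi (X := (U ⊓ V : X.Opens).toScheme)).obj _).mapIso ((P.app N).symm ≪≫ j') ≪≫
    tensorFreeIso _ m n

/-- A family supported on a finite set. -/
noncomputable def sigmaSupportIso {C : Type*} [Category C] [HasZeroMorphisms C] {J : Type} [DecidableEq J]
    (M : J → C) [HasCoproduct M] (S : Finset J) [HasCoproduct fun j : S => M j]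
    (h : ∀ j, j ∉ S → IsZero (M j)) : ∐ M ≅ ∐ fun j : S => M j where
  hom := Sigma.desc fun j => if hj : j ∈ S then Sigma.ι (fun j : S => M j) ⟨j, hj⟩ else 0
  inv := Sigma.desc fun j => Sigma.ι M j
  hom_inv_id := Sigma.hom_ext _ _ fun j => by
    by_cases hj : j ∈ S
    · simp [hj]
    · exact (h j hj).eq_of_src _ _
  inv_hom_id := Sigma.hom_ext _ _ fun ⟨j, hj⟩ => by simp [hj]

theorem isFinLocFree_sigma {J : Type} [Fintype J] (M : J → X.Modules) (h : ∀ j, FlatMod.IsFinLocFree (M j)) :
    FlatMod.IsFinLocFree (∐ M) := fun x => by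
  choose U n hx e using fun j => h j x
  let V : X.Opens := ⟨⋂ j, (U j : Set X), isOpen_iInter_of_finite fun j => (U j).2⟩
  have hV : ∀ j, V ≤ U j := fun j => Set.iInter_subset (fun j => (U j : Set X)) j
  have e' := fun j => DCoh.exists_free_restrict_le (hV j) (e j).some
  have : PreservesColimitsOfShape (Discrete J) (Scheme.Modules.restrictFunctor V.ι) := inferInstance
  exact ⟨V, ∑ i : Fin (Fintype.card J), n ((Fintype.equivFin J).symm i), Set.mem_iInter.2 hx,
    ⟨PreservesCoproduct.iso (Scheme.Modules.restrictFunctor V.ι) M ≪≫ Sigma.mapIso (fun j => (e' j).some) ≪≫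
      sigmaSigmaIso (fun j : J => Fin (n j)) (fun _ _ => Coh.structureModule _) ≪≫
      Sigma.whiskerEquiv (g := fun _ : Fin (∑ i : Fin (Fintype.card J), n ((Fintype.equivFin J).symm i)) => Coh.structureModule _)
        ((Equiv.sigmaCongrLeft' (β := fun j => Fin (n j)) (Fintype.equivFin J)).trans finSigmaFinEquiv) (fun _ => Iso.refl _)⟩⟩

end GrothLib.OX
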