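import Groth.Agent.Lib.OX.LocalHomotopy
import Mathlib.RingTheory.LocalRing.Module

/-! # A flat cokernel of finite locally free modules is finite locally free -/

set_option autoImplicit false
set_option maxHeartbeats 800000
universe u

open CategoryTheory CategoryTheory.Limits AlgebraicGeometry Opposite TopologicalSpace

namespace GrothLib.OX

variable {X : Scheme.{u}}

theorem flat_restrict {U : Scheme.{u}} (j : U ⟶ X) [IsOpenImmersion j] {M : X.Modules} (h : FlatMod.IsFlat M) :
    FlatMod.IsFlat ((Scheme.Modules.restrictFunctor j).obj M) :=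
  flat_of_iso ((Scheme.Modules.restrictFunctorIsoPullback j).app M).symm (flat_pullback j M h)

/-- Stalks of a restriction, as a natural isomorphism with a base change. -/
noncomputable def restrictStalkExtIso {U : Scheme.{u}} (j : U ⟶ X) [IsOpenImmersion j] (y : U) :
    Scheme.Modules.restrictFunctor j ⋙ stalk y ≅ stalk (j y) ⋙ ModuleCat.extendScalars (j.stalkMap y).hom :=
  Functor.isoWhiskerRight (Scheme.Modules.restrictFunctorIsoPullback j) _ ≪≫ pullStalkIso j y

theorem stalk_map_restrict_eq_zero {U : Scheme.{u}} (j : U ⟶ X) [IsOpenImmersion j] (y : U) {M N : X.Modules}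
    (g : M ⟶ N) (h : (stalk (j y)).map g = 0) : (stalk y).map ((Scheme.Modules.restrictFunctor j).map g) = 0 := by
  have h0 : (stalk (j y) ⋙ ModuleCat.extendScalars (j.stalkMap y).hom).map g = 0 :=
    (congrArg (ModuleCat.extendScalars (j.stalkMap y).hom).map h).trans
      ((ModuleCat.extendScalars (j.stalkMap y).hom).map_zero _ _)
  refine (NatIso.naturality_2 (restrictStalkExtIso j y) g).symm.trans ?_
  rw [h0, zero_comp, comp_zero]

theorem isIso_stalk_map_restrict {U : Scheme.{u}} (j : U ⟶ X) [IsOpenImmersion j] (y : U) {M N : X.Modules}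
    (g : M ⟶ N) (h : IsIso ((stalk (j y)).map g)) : IsIso ((stalk y).map ((Scheme.Modules.restrictFunctor j).map g)) := by
  have h0 : IsIso ((stalk (j y) ⋙ ModuleCat.extendScalars (j.stalkMap y).hom).map g) :=
    inferInstanceAs (IsIso ((ModuleCat.extendScalars (j.stalkMap y).hom).map ((stalk (j y)).map g)))
  exact ((MorphismProperty.isomorphisms _).arrow_mk_iso_iff
    (Arrow.isoMk ((restrictStalkExtIso j y).app M) ((restrictStalkExtIso j y).app N)
      ((restrictStalkExtIso j y).hom.naturality g).symm)).2 h0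

theorem exists_restrict_unit_hom_eq_zero {N : X.Modules} (g : Coh.structureModule X ⟶ N) (x : X)
    (h : (stalk x).map g = 0) :
    ∃ W : X.Opens, x ∈ W ∧ ∀ W' ≤ W, (Scheme.Modules.restrictFunctor W'.ι).map g = 0 := by
  let s := g.val.app (op ⊤) (1 : X.ringCatSheaf.obj.obj (op ⊤))
  have hs : germ (DCoh.toP.obj N) ⊤ (show x ∈ (⊤ : X.Opens) from trivial) s = 0 :=
    (stalkPre_map_germ (DCoh.toP.map g) ⊤ trivial _).symm.trans
      (congrArg (fun f : (stalk x).obj (Coh.structureModule X) ⟶ (stalk x).obj N =>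
        f (germ (DCoh.toP.obj (Coh.structureModule X)) ⊤ trivial (1 : X.ringCatSheaf.obj.obj (op ⊤)))) h)
  obtain ⟨W, hW, iU, iV, e⟩ := TopCat.Presheaf.germ_eq (prs (DCoh.toP.obj N)) x (show x ∈ (⊤ : X.Opens) from trivial)
    (show x ∈ (⊤ : X.Opens) from trivial) s 0 (hs.trans (map_zero _).symm)
  refine ⟨W, hW, fun W' hW' => ?_⟩
  have hm : N.val.map (homOfLE (le_top : W ≤ ⊤)).op s = 0 :=
    (PresheafOfModules.congr_map_apply N.val (congrArg Quiver.Hom.op (Subsingleton.elim _ iU)) s).trans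
      (e.trans (map_zero ((prs (DCoh.toP.obj N)).map iV.op).hom))
  have hle : W'.ι ''ᵁ ⊤ ≤ W := (W'.ι_image_le ⊤).trans hW'
  have key := restrict_ofTop_comp (𝟙 N) g W' W hle (0 : N.val.obj (op W)) hm.symm
  have hz : ofTop (N := (Scheme.Modules.restrictFunctor W'.ι).obj N) (N.val.map (homOfLE hle).op (0 : N.val.obj (op W))) = 0 :=
    hom_ext_top _ _ ((ofTop_app_top _).trans (map_zero (N.val.map (homOfLE hle).op).hom))
  rw [hz, comp_zero, zero_comp] at key
  exact key.symm

theorem exists_restrict_free_hom_eq_zero {n : ℕ} {N : X.Modules} (g : FlatMod.freeMod X n ⟶ N) (x : X)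
    (h : (stalk x).map g = 0) : ∃ W : X.Opens, x ∈ W ∧ (Scheme.Modules.restrictFunctor W.ι).map g = 0 := by
  have hi := fun i => exists_restrict_unit_hom_eq_zero (Sigma.ι (fun _ : Fin n => Coh.structureModule X) i ≫ g) x
    (by rw [Functor.map_comp, h, comp_zero])
  choose U hU hz using hi
  let W : X.Opens := ⟨⋂ i, (U i : Set X), isOpen_iInter_of_finite fun i => (U i).2⟩
  have hW : ∀ i, W ≤ U i := fun i => Set.iInter_subset (fun i => (U i : Set X)) i
  let R := Scheme.Modules.restrictFunctor W.ι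
  refine ⟨W, Set.mem_iInter.2 hU, ?_⟩
  rw [← cancel_epi (PreservesCoproduct.iso R (fun _ : Fin n => Coh.structureModule X)).inv, comp_zero]
  refine Sigma.hom_ext _ _ fun i => ?_
  rw [comp_zero, PreservesCoproduct.inv_hom, ι_comp_sigmaComparison_assoc]
  exact (R.map_comp _ _).symm.trans (hz i W (hW i))

/-- A map out of a finite locally free module vanishing at a point vanishes nearby. -/
theorem exists_restrict_hom_eq_zero {M N : X.Modules} (hM : FlatMod.IsFinLocFree M) (g : M ⟶ N) (x : X)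
    (h : (stalk x).map g = 0) :
    ∃ (U : Scheme.{u}) (j : U ⟶ X) (_ : IsOpenImmersion j), x ∈ Set.range j ∧
      (Scheme.Modules.restrictFunctor j).map g = 0 := by
  obtain ⟨V, n, hx, ⟨e⟩⟩ := hM x
  let R := Scheme.Modules.restrictFunctor V.ι
  obtain ⟨W, hW, hz⟩ := exists_restrict_free_hom_eq_zero (e.inv ≫ R.map g) (⟨x, hx⟩ : V.toScheme)
    (((stalk _).map_comp _ _).trans ((congrArg (_ ≫ ·) (stalk_map_restrict_eq_zero V.ι ⟨x, hx⟩ g h)).trans comp_zero))
  let R' := Scheme.Modules.restrictFunctor W.ι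
  have hz' : R'.map (R.map g) = 0 := by
    rw [← cancel_epi (R'.map e.inv), comp_zero]
    exact (R'.map_comp _ _).symm.trans hz
  refine ⟨W.toScheme, W.ι ≫ V.ι, inferInstance, ⟨⟨⟨x, hx⟩, hW⟩, rfl⟩, ?_⟩
  refine (NatIso.naturality_2 (Scheme.Modules.restrictFunctorComp W.ι V.ι) g).symm.trans ?_
  change _ ≫ R'.map (R.map g) ≫ _ = 0
  rw [hz', zero_comp, comp_zero]

theorem isFinLocFree_freeMod (X : Scheme.{u}) (n : ℕ) : FlatMod.IsFinLocFree (FlatMod.freeMod X n) := fun _ =>
  ⟨⊤, n, trivial, ⟨DCoh.restrictFreeModIso _ n⟩⟩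

theorem exists_stalk_one (x : X) : ∃ o : (stalk x).obj (Coh.structureModule X),
    Submodule.span (X.presheaf.stalk x) {o} = ⊤ := by
  obtain ⟨e⟩ := AssPts.exists_stalk_unit_equiv x
  refine ⟨e 1, eq_top_iff.2 fun m _ => Submodule.mem_span_singleton.2 ⟨e.symm m, ?_⟩⟩
  exact ((e.map_smul (e.symm m) 1).symm.trans (congrArg e (mul_one _))).trans (e.apply_symm_apply m)

theorem free_stalk_span (x : X) (n : ℕ) (o : (stalk x).obj (Coh.structureModule X))
    (ho : Submodule.span (X.presheaf.stalk x) {o} = ⊤) {P : ModuleCat.{u} (X.presheaf.stalk x)}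
    (g g' : (stalk x).obj (FlatMod.freeMod X n) ⟶ P)
    (h : ∀ i, g ((stalk x).map (Sigma.ι (fun _ : Fin n => Coh.structureModule X) i) o) =
      g' ((stalk x).map (Sigma.ι (fun _ : Fin n => Coh.structureModule X) i) o)) : g = g' := by
  have : PreservesColimitsOfSize.{0, 0} (stalk x) := (stalkSkyAdj x).leftAdjoint_preservesColimits
  refine (isColimitOfPreserves (stalk x) (colimit.isColimit
    (Discrete.functor fun _ : Fin n => Coh.structureModule X))).hom_ext fun i => ?_
  refine ModuleCat.hom_ext (LinearMap.ext_on ho fun z hz => ?_)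
  rw [Set.mem_singleton_iff] at hz
  subst hz
  exact h i.as

theorem exists_basis_sub {A : Type u} [CommRing A] [IsLocalRing A] (M : ModuleCat.{u} A) {n : ℕ}
    (hM : Module.Flat A M) (v : Fin n → M) (hv : Submodule.span A (Set.range v) = ⊤) :
    ∃ (r : ℕ) (α : Fin r → Fin n) (b : Module.Basis (Fin r) A M), ∀ i, b i = v (α i) := by
  classical
  have : Module.Finite A M := ⟨⟨Finset.univ.image v, by rw [Finset.coe_image, Finset.coe_univ, Set.image_univ, hv]⟩⟩
  have : Module.Free A M := Module.free_of_flat_of_isLocalRing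
  have : Module.Projective A M := Module.Projective.of_free
  have : Module.FinitePresentation A M := @Module.finitePresentation_of_projective A M _ _ _ this _
  obtain ⟨κ, a, b, hb⟩ := Module.exists_basis_of_span_of_flat (fun i : ULift.{u} (Fin n) => v i.down) (by
    rw [show (fun i : ULift.{u} (Fin n) => v i.down) = v ∘ Equiv.ulift from rfl,
      Equiv.ulift.surjective.range_comp, hv])
  have : Finite κ := Module.Finite.finite_basis b
  let : Fintype κ := Fintype.ofFinite κ
  refine ⟨Fintype.card κ, fun i => (a ((Fintype.equivFin κ).symm i)).down, b.reindex (Fintype.equivFin κ), fun i => ?_⟩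
  rw [Module.Basis.reindex_apply, hb]

theorem span_stalk_epi {n : ℕ} {Q : X.Modules} (π : FlatMod.freeMod X n ⟶ Q) [Epi π] (x : X)
    (o : (stalk x).obj (Coh.structureModule X)) (ho : Submodule.span (X.presheaf.stalk x) {o} = ⊤) :
    Submodule.span (X.presheaf.stalk x) (Set.range fun i =>
      (stalk x).map (Sigma.ι (fun _ : Fin n => Coh.structureModule X) i ≫ π) o) = ⊤ := by
  let S := Submodule.span (X.presheaf.stalk x)
    (Set.range fun i => (stalk x).map (Sigma.ι (fun _ : Fin n => Coh.structureModule X) i ≫ π) o)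
  have hq : (stalk x).map π ≫ ModuleCat.ofHom S.mkQ = 0 := free_stalk_span x n o ho _ _ fun i =>
    (Submodule.Quotient.mk_eq_zero S).2 (Submodule.subset_span ⟨i, by
      simp only [Functor.map_comp]
      rfl⟩)
  refine eq_top_iff.2 fun m _ => ?_
  obtain ⟨m', rfl⟩ := (ModuleCat.epi_iff_surjective ((stalk x).map π)).1 inferInstance m
  exact (Submodule.Quotient.mk_eq_zero S).1 (congrArg (fun g : _ ⟶ ModuleCat.of _ (_ ⧸ S) => g m') hq)

theorem isIso_of_basis_images {A : Type u} [CommRing A] {F Q : ModuleCat.{u} A} (φ : F ⟶ Q) {r : ℕ}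
    (w : Fin r → F) (b : Module.Basis (Fin r) A Q) (hφ : ∀ i, φ (w i) = b i)
    (hext : ∀ g g' : F ⟶ F, (∀ i, g (w i) = g' (w i)) → g = g') : IsIso φ := by
  refine ⟨ModuleCat.ofHom (b.constr A w), hext _ _ fun i => ?_, ModuleCat.hom_ext (b.ext fun i => ?_)⟩
  · change b.constr A w (φ (w i)) = w i
    rw [hφ, Module.Basis.constr_basis]
  · change φ (b.constr A w (b i)) = b i
    rw [Module.Basis.constr_basis, hφ]

theorem exists_stalk_iso_of_flat {n : ℕ} {Q : X.Modules} (π : FlatMod.freeMod X n ⟶ Q) [Epi π]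
    (x : X) (hQ : Module.Flat (X.presheaf.stalk x) ((stalk x).obj Q)) :
    ∃ (r : ℕ) (s : FlatMod.freeMod X r ⟶ FlatMod.freeMod X n), IsIso ((stalk x).map (s ≫ π)) := by
  obtain ⟨o, ho⟩ := exists_stalk_one x
  obtain ⟨r, α, b, hb⟩ := exists_basis_sub ((stalk x).obj Q) hQ _ (span_stalk_epi π x o ho)
  let s : FlatMod.freeMod X r ⟶ FlatMod.freeMod X n :=
    Sigma.desc fun i => Sigma.ι (fun _ : Fin n => Coh.structureModule X) (α i)
  refine ⟨r, s, isIso_of_basis_images _
    (fun i => (stalk x).map (Sigma.ι (fun _ : Fin r => Coh.structureModule X) i) o) b (fun i => ?_)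
    fun g g' h => free_stalk_span x r o ho g g' h⟩
  change ((stalk x).map (Sigma.ι (fun _ : Fin r => Coh.structureModule X) i) ≫ (stalk x).map (s ≫ π)) o = _
  rw [← Functor.map_comp, Sigma.ι_desc_assoc, hb]

theorem exists_restrict_free_of_flat_at {n : ℕ} {P Q : X.Modules} (d : P ⟶ FlatMod.freeMod X n)
    (π : FlatMod.freeMod X n ⟶ Q) (w : d ≫ π = 0) (hex : (ShortComplex.mk d π w).Exact) [Epi π]
    (hP : FlatMod.IsFinLocFree P) (x : X) (hQ : Module.Flat (X.presheaf.stalk x) ((stalk x).obj Q)) :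
    ∃ (U : Scheme.{u}) (j : U ⟶ X) (_ : IsOpenImmersion j) (r : ℕ), x ∈ Set.range j ∧
      Nonempty ((Scheme.Modules.restrictFunctor j).obj Q ≅ FlatMod.freeMod U r) := by
  obtain ⟨r, s, hiso⟩ := exists_stalk_iso_of_flat π x hQ
  let ψ := s ≫ π
  obtain ⟨U₁, j₁, hj₁, ⟨y, rfl⟩, hc⟩ := exists_restrict_hom_eq_zero (isFinLocFree_freeMod X n) (π ≫ cokernel.π ψ) x
    (by
      rw [Functor.map_comp, show (stalk x).map (cokernel.π ψ) = 0 by
        rw [← cancel_epi ((stalk x).map ψ), comp_zero, ← Functor.map_comp, cokernel.condition, Functor.map_zero],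
        comp_zero])
  let R₁ := Scheme.Modules.restrictFunctor j₁
  have : Epi (R₁.map ψ) := by
    have hS := (ShortComplex.exact_of_g_is_cokernel (ShortComplex.mk ψ (cokernel.π ψ) (cokernel.condition ψ))
      (cokernelIsCokernel ψ)).map R₁
    exact hS.epi_f (show R₁.map (cokernel.π ψ) = 0 by
      rw [← cancel_epi (R₁.map π), comp_zero]
      exact (R₁.map_comp _ _).symm.trans hc)
  obtain ⟨U₂, j₂, hj₂, u, ⟨z, rfl⟩, hu⟩ := exists_local_lift (isFinLocFree_restrict j₁ (isFinLocFree_freeMod X n))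
    (R₁.map ψ) (R₁.map π) y
  let R₂ := Scheme.Modules.restrictFunctor j₂
  let g : R₂.obj (R₁.obj (FlatMod.freeMod X r)) ⟶ R₂.obj (R₁.obj (FlatMod.freeMod X r)) :=
    𝟙 _ - R₂.map (R₁.map s) ≫ u
  let k := R₂.map (R₁.map d) ≫ u
  have hiso₂ : IsIso ((stalk z).map (R₂.map (R₁.map ψ))) :=
    isIso_stalk_map_restrict j₂ z _ (isIso_stalk_map_restrict j₁ (j₂ z) ψ hiso)
  have hg : (stalk z).map g = 0 := by
    rw [← cancel_mono ((stalk z).map (R₂.map (R₁.map ψ))), zero_comp, ← Functor.map_comp]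
    have : g ≫ R₂.map (R₁.map ψ) = 0 := by
      simp only [g, Preadditive.sub_comp, Category.id_comp, Category.assoc]
      erw [hu]
      rw [← R₂.map_comp, ← R₁.map_comp, sub_self]
    rw [this, Functor.map_zero]
  have hk : (stalk z).map k = 0 := by
    rw [← cancel_mono ((stalk z).map (R₂.map (R₁.map ψ))), zero_comp, ← Functor.map_comp]
    have : k ≫ R₂.map (R₁.map ψ) = 0 := by
      simp only [k, Category.assoc]
      erw [hu]
      rw [← R₂.map_comp, ← R₁.map_comp, w, Functor.map_zero, Functor.map_zero]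
    rw [this, Functor.map_zero]
  obtain ⟨U₃, j₃, hj₃, ⟨t, rfl⟩, hg₃⟩ := exists_restrict_hom_eq_zero
    (isFinLocFree_restrict j₂ (isFinLocFree_restrict j₁ (isFinLocFree_freeMod X _))) g z hg
  obtain ⟨U₄, j₄, hj₄, ⟨p, rfl⟩, hk₄⟩ := exists_restrict_hom_eq_zero
    (isFinLocFree_restrict j₃ (isFinLocFree_restrict j₂ (isFinLocFree_restrict j₁ hP)))
    ((Scheme.Modules.restrictFunctor j₃).map k) t (stalk_map_restrict_eq_zero j₃ t k hk)
  let F := R₁ ⋙ R₂ ⋙ Scheme.Modules.restrictFunctor j₃ ⋙ Scheme.Modules.restrictFunctor j₄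
  let u' : F.obj (FlatMod.freeMod X n) ⟶ F.obj (FlatMod.freeMod X r) :=
    (Scheme.Modules.restrictFunctor j₃ ⋙ Scheme.Modules.restrictFunctor j₄).map u
  have hk' : F.map d ≫ u' = 0 :=
    ((Scheme.Modules.restrictFunctor j₃ ⋙ Scheme.Modules.restrictFunctor j₄).map_comp _ _).symm.trans hk₄
  have hg' : F.map s ≫ u' = 𝟙 _ := by
    have h0 : (Scheme.Modules.restrictFunctor j₃ ⋙ Scheme.Modules.restrictFunctor j₄).map g = 0 :=
      (congrArg (Scheme.Modules.restrictFunctor j₄).map hg₃).trans (Functor.map_zero _ _ _)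
    rw [Functor.map_sub, CategoryTheory.Functor.map_id, sub_eq_zero, Functor.map_comp] at h0
    exact h0.symm
  have hu' : u' ≫ F.map ψ = F.map π :=
    ((Scheme.Modules.restrictFunctor j₃ ⋙ Scheme.Modules.restrictFunctor j₄).map_comp _ _).symm.trans
      (congrArg (Scheme.Modules.restrictFunctor j₃ ⋙ Scheme.Modules.restrictFunctor j₄).map hu)
  have hSF := hex.map F
  have : Epi ((ShortComplex.mk d π w).map F).g := inferInstanceAs (Epi (F.map π))
  obtain ⟨θ', hθ⟩ : ∃ θ', F.map π ≫ θ' = u' := ⟨hSF.desc u' hk', hSF.g_desc u' hk'⟩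
  let ee : F.obj (FlatMod.freeMod X r) ≅ F.obj Q :=
    { hom := F.map ψ
      inv := θ'
      hom_inv_id := by
        rw [show F.map ψ = F.map s ≫ F.map π from F.map_comp _ _, Category.assoc, hθ, hg']
      inv_hom_id := by
        rw [← cancel_epi (F.map π), reassoc_of% hθ, hu', Category.comp_id] }
  let jj := j₄ ≫ j₃ ≫ j₂ ≫ j₁
  let c : Scheme.Modules.restrictFunctor jj ≅ F :=
    Scheme.Modules.restrictFunctorComp _ _ ≪≫ Functor.isoWhiskerRight
      (Scheme.Modules.restrictFunctorComp _ _ ≪≫ Functor.isoWhiskerRight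
        (Scheme.Modules.restrictFunctorComp _ _) _ ≪≫ Functor.associator _ _ _) _ ≪≫ Functor.associator _ _ _
  exact ⟨U₄, jj, inferInstance, r, ⟨p, rfl⟩,
    ⟨c.app Q ≪≫ ee.symm ≪≫ c.symm.app _ ≪≫ DCoh.restrictFreeModIso jj _⟩⟩

theorem exists_restrict_free_of_flat {n : ℕ} {P Q : X.Modules} (d : P ⟶ FlatMod.freeMod X n)
    (π : FlatMod.freeMod X n ⟶ Q) (w : d ≫ π = 0) (hex : (ShortComplex.mk d π w).Exact) [Epi π]
    (hP : FlatMod.IsFinLocFree P) (hQ : FlatMod.IsFlat Q) (x : X) :
    ∃ (U : Scheme.{u}) (j : U ⟶ X) (_ : IsOpenImmersion j) (r : ℕ), x ∈ Set.range j ∧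
      Nonempty ((Scheme.Modules.restrictFunctor j).obj Q ≅ FlatMod.freeMod U r) :=
  exists_restrict_free_of_flat_at d π w hex hP x ((flat_iff Q).1 hQ x)

end GrothLib.OX
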