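import Groth.Agent.Lib.OX.Stalk
import Mathlib.Algebra.Category.ModuleCat.Projective
import Mathlib.Algebra.Category.ModuleCat.AB
import Mathlib.RingTheory.Flat.Basic
import Mathlib.CategoryTheory.Generator.Basic
import Mathlib.CategoryTheory.Abelian.GrothendieckCategory.Basic
import Mathlib.Algebra.Category.ModuleCat.Presheaf.Free

/-! # Exactness in O_X-modules via stalks; the generators; AB5 -/

set_option autoImplicit false
universe u

open CategoryTheory CategoryTheory.Limits AlgebraicGeometry Opposite TopologicalSpace

namespace GrothLib.OX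

variable {X : Scheme.{u}}

instance stalk_isLeftAdjoint (x : X) : (stalk x).IsLeftAdjoint := (stalkSkyAdj x).isLeftAdjoint

instance stalkPre_isLeftAdjoint (x : X) : (stalkPre x).IsLeftAdjoint := (stalkSkyPreAdj x).isLeftAdjoint

attribute [local instance] preservesBinaryBiproducts_of_preservesBinaryCoproducts in
instance stalk_additive (x : X) : (stalk x).Additive := Functor.additive_of_preservesBinaryBiproducts _

/-- The stalk of a section. -/
noncomputable abbrev germM (M : X.Modules) (U : X.Opens) {x : X} (hx : x ∈ U) :
    M.val.obj (op U) →+ stalkObj x (DCoh.toP.obj M) := germ (DCoh.toP.obj M) U hx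

lemma flat_iff (M : X.Modules) :
    FlatMod.IsFlat M ↔ ∀ x : X, Module.Flat (X.presheaf.stalk x) ((stalk x).obj M) := Iff.rfl

/-- A section with vanishing germs vanishes. -/
lemma section_eq_zero {M : X.Modules} {U : X.Opens} (m : M.val.obj (op U))
    (h : ∀ (x : X) (hx : x ∈ U), germM M U hx m = 0) : m = 0 :=
  TopCat.Presheaf.section_ext (C := Ab.{u}) (X := X.carrier) ⟨M.val.presheaf, M.isSheaf⟩ U m 0
    fun x hx => (h x hx).trans (map_zero (germM M U hx)).symm

theorem isZero_iff (M : X.Modules) : IsZero M ↔ ∀ x : X, IsZero ((stalk x).obj M) := by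
  refine ⟨fun h x => (stalk x).map_isZero h, fun h => (IsZero.iff_id_eq_zero M).2 ?_⟩
  refine SheafOfModules.hom_ext (PresheafOfModules.hom_ext fun U => ModuleCat.hom_ext (LinearMap.ext fun m => ?_))
  refine (section_eq_zero (M := M) (U := U.unop) m fun x hx => ?_).trans rfl
  have := (ModuleCat.isZero_iff_subsingleton.1 (h x) : Subsingleton _)
  exact Subsingleton.elim (α := (stalk x).obj M) _ _

/-- A morphism is zero iff it is zero on all stalks. -/
theorem eq_zero_iff {M N : X.Modules} (f : M ⟶ N) : f = 0 ↔ ∀ x : X, (stalk x).map f = 0 := by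
  refine ⟨fun h x => by rw [h, Functor.map_zero], fun h => ?_⟩
  refine SheafOfModules.hom_ext (PresheafOfModules.hom_ext fun U => ModuleCat.hom_ext (LinearMap.ext fun m => ?_))
  refine (section_eq_zero (M := N) (U := U.unop) _ fun x hx => ?_).trans rfl
  have h1 : ((stalk x).map f).hom (germM M U.unop hx m) = 0 := by
    rw [h x]
    rfl
  exact (stalkPre_map_germ (DCoh.toP.map f) U.unop hx m).symm.trans h1

instance stalk_preservesMono (x : X) : (stalk x).PreservesMonomorphisms where
  preserves {M N} f hf := by
    have hf' : Mono (DCoh.toP.map f) := (Scheme.Modules.toPresheafOfModules X).map_mono f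
    rw [ModuleCat.mono_iff_injective, injective_iff_map_eq_zero]
    intro (e : stalkObj x (DCoh.toP.obj M)) he
    obtain ⟨U, hx, m, rfl⟩ := germ_exists _ e
    have h1 : germ (DCoh.toP.obj N) U hx ((DCoh.toP.map f).app (op U) m) = 0 :=
      (stalkPre_map_germ (DCoh.toP.map f) U hx m).symm.trans he
    obtain ⟨W, hW, iU, iV, e'⟩ := TopCat.Presheaf.germ_eq (prs (DCoh.toP.obj N)) x hx hx _ 0
      (h1.trans (map_zero (germ (DCoh.toP.obj N) U hx)).symm)
    have e'' : (DCoh.toP.map f).app (op W) ((DCoh.toP.obj M).map iU.op m) = 0 :=
      (PresheafOfModules.naturality_apply (DCoh.toP.map f) iU.op m).trans (e'.trans (map_zero ((prs (DCoh.toP.obj N)).map iV.op).hom))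
    have hinj : Function.Injective ((DCoh.toP.map f).app (op W)) := by
      have : Mono ((PresheafOfModules.evaluation _ (op W)).map (DCoh.toP.map f)) := inferInstance
      exact (ModuleCat.mono_iff_injective _).1 this
    have h2 := hinj (e''.trans (map_zero ((DCoh.toP.map f).app (op W)).hom).symm)
    exact (germ_map (DCoh.toP.obj M) iU hW m).symm.trans ((congrArg _ h2).trans (map_zero _))

instance stalk_preservesHomology (x : X) : (stalk x).PreservesHomology :=
  ((stalk x).exact_tfae.out 2 0).2 fun S hS => by
    have := hS.mono_f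
    have := hS.epi_g
    exact { exact := (((stalk x).preservesFiniteColimits_tfae.out 3 0 (a := PreservesFiniteColimits (stalk x))
              (b := ∀ S : ShortComplex X.Modules, S.ShortExact → (S.map (stalk x)).Exact ∧ Epi ((stalk x).map S.g))).1
              inferInstance S hS).1
            mono_f := (stalk x).map_mono S.f
            epi_g := (stalk x).map_epi S.g }

instance stalk_preservesFiniteLimits (x : X) : PreservesFiniteLimits (stalk x) :=
  (stalk x).preservesFiniteLimits_of_preservesHomology

theorem exact_iff (S : ShortComplex X.Modules) : S.Exact ↔ ∀ x : X, (S.map (stalk x)).Exact := by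
  refine ⟨fun h x => h.map (stalk x), fun h => ?_⟩
  rw [ShortComplex.exact_iff_isZero_homology, isZero_iff]
  exact fun x => IsZero.of_iso ((ShortComplex.exact_iff_isZero_homology _).1 (h x))
    (S.mapHomologyIso (stalk x)).symm

theorem mono_iff {M N : X.Modules} (f : M ⟶ N) : Mono f ↔ ∀ x : X, Mono ((stalk x).map f) := by
  refine ⟨fun _ x => inferInstance, fun h => Preadditive.mono_of_cancel_zero _ fun {W} g hg => ?_⟩
  rw [eq_zero_iff]
  intro x
  have := h x
  rw [← cancel_mono ((stalk x).map f), zero_comp, ← Functor.map_comp, hg, Functor.map_zero]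

theorem epi_iff {M N : X.Modules} (f : M ⟶ N) : Epi f ↔ ∀ x : X, Epi ((stalk x).map f) := by
  refine ⟨fun _ x => inferInstance, fun h => Preadditive.epi_of_cancel_zero _ fun {W} g hg => ?_⟩
  rw [eq_zero_iff]
  intro x
  have := h x
  rw [← cancel_epi ((stalk x).map f), comp_zero, ← Functor.map_comp, hg, Functor.map_zero]

theorem isIso_iff {M N : X.Modules} (f : M ⟶ N) : IsIso f ↔ ∀ x : X, IsIso ((stalk x).map f) := by
  refine ⟨fun _ x => inferInstance, fun h => ?_⟩
  have : Mono f := (mono_iff f).2 fun x => have := h x; inferInstance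
  have : Epi f := (epi_iff f).2 fun x => have := h x; inferInstance
  exact isIso_of_mono_of_epi f

theorem shortExact_iff (S : ShortComplex X.Modules) :
    S.ShortExact ↔ ∀ x : X, (S.map (stalk x)).ShortExact := by
  refine ⟨fun h x => h.map_of_exact (stalk x), fun h => ?_⟩
  exact { exact := (exact_iff S).2 fun x => (h x).exact
          mono_f := (mono_iff S.f).2 fun x => (h x).mono_f
          epi_g := (epi_iff S.g).2 fun x => (h x).epi_g }

/-- A functor into O_X-modules preserves colimits when all its stalks do. -/
theorem preservesColimit_of_stalk {J : Type u} [SmallCategory J] {C : Type*} [Category C]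
    {K : J ⥤ C} (F : C ⥤ X.Modules) (h : ∀ x : X, PreservesColimit K (F ⋙ stalk x)) :
    PreservesColimit K F where
  preserves {c} hc := by
    have : HasColimit (K ⋙ F) := inferInstance
    let φ : colimit (K ⋙ F) ⟶ F.obj c.pt := colimit.desc _ (F.mapCocone c)
    have : IsIso φ := (isIso_iff φ).2 fun x => by
      have := h x
      let h₁ := isColimitOfPreserves (stalk x) (colimit.isColimit (K ⋙ F))
      let h₂ : IsColimit ((stalk x).mapCocone (F.mapCocone c)) := isColimitOfPreserves (F ⋙ stalk x) hc
      have e : (stalk x).map φ = (h₁.coconePointUniqueUpToIso h₂).hom := by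
        refine h₁.hom_ext fun j => ?_
        rw [h₁.comp_coconePointUniqueUpToIso_hom]
        exact ((stalk x).map_comp _ _).symm.trans (congrArg (stalk x).map (colimit.ι_desc (F.mapCocone c) j))
      rw [e]
      infer_instance
    exact ⟨IsColimit.ofIsoColimit (colimit.isColimit (K ⋙ F))
      (Cocone.ext (asIso φ) fun j => colimit.ι_desc (F.mapCocone c) j)⟩

/-- Filtered colimits of O_X-modules are exact, and so are coproducts. -/
theorem hasExactColimitsOfShape (J : Type u) [SmallCategory J]
    [HasExactColimitsOfShape J AddCommGrpCat.{u}] [∀ x : X, HasExactColimitsOfShape J (ModuleCat.{u} (X.presheaf.stalk x))] :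
    HasExactColimitsOfShape J X.Modules := by
  have : (colim (J := J) (C := X.Modules)).Additive :=
    have := preservesBinaryBiproducts_of_preservesBinaryCoproducts (colim (J := J) (C := X.Modules))
    Functor.additive_of_preservesBinaryBiproducts _
  have hm : (colim (J := J) (C := X.Modules)).PreservesMonomorphisms := ⟨fun {K L} f hf => (mono_iff _).2 fun x => by
    let hK := isColimitOfPreserves (stalk x) (colimit.isColimit K)
    let hL := isColimitOfPreserves (stalk x) (colimit.isColimit L)
    let α : K ⋙ stalk x ⟶ L ⋙ stalk x := Functor.whiskerRight f (stalk x)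
    have : ∀ j, Mono (α.app j) := fun j => inferInstanceAs (Mono ((stalk x).map (f.app j)))
    have : Mono α := NatTrans.mono_of_mono_app α
    exact colim.map_mono' α hK hL ((stalk x).map (colimMap f)) fun j =>
      ((stalk x).map_comp _ _).symm.trans ((congrArg (stalk x).map (ι_colimMap f j)).trans ((stalk x).map_comp _ _))⟩
  refine ⟨?_⟩
  have hp : (colim (J := J) (C := X.Modules)).PreservesHomology :=
    ((colim (J := J) (C := X.Modules)).exact_tfae.out 2 0).2 fun S hS => by
      have := hS.mono_f
      have := hS.epi_g
      have h := ((colim (J := J) (C := X.Modules)).preservesFiniteColimits_tfae.out 3 0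
        (a := PreservesFiniteColimits (colim (J := J) (C := X.Modules)))
        (b := ∀ S : ShortComplex (J ⥤ X.Modules), S.ShortExact → (S.map colim).Exact ∧ Epi (colim.map S.g))).1
        inferInstance S hS
      exact { exact := h.1
              mono_f := (colim (J := J) (C := X.Modules)).map_mono S.f
              epi_g := (colim (J := J) (C := X.Modules)).map_epi S.g }
  exact (colim (J := J) (C := X.Modules)).preservesFiniteLimits_of_preservesHomology

instance ab5 : AB5OfSize.{u, u} X.Modules := ⟨fun J _ _ => hasExactColimitsOfShape J⟩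

instance ab4 (ι : Type u) : HasExactColimitsOfShape (Discrete ι) X.Modules := hasExactColimitsOfShape _

section Gen

variable (X) in
/-- The extension by zero of the structure sheaf of an open, as a free module. -/
noncomputable def gen (U : X.Opens) : X.Modules :=
  DCoh.shP.obj ((PresheafOfModules.free.{u} (X.sheaf.obj ⋙ forget₂ CommRingCat RingCat)).obj (yoneda.obj U))

/-- Maps out of a generator are sections. -/
noncomputable def genHomEquiv (U : X.Opens) (M : X.Modules) : (gen X U ⟶ M) ≃ M.val.obj (op U) :=
  ((PresheafOfModules.sheafificationAdjunction (R := X.ringCatSheaf) (𝟙 X.ringCatSheaf.obj)).homEquiv _ M).trans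
    (((PresheafOfModules.freeAdjunction (X.sheaf.obj ⋙ forget₂ CommRingCat RingCat)).homEquiv _ M.val).trans
      yonedaEquiv)

lemma genHomEquiv_comp (U : X.Opens) {M N : X.Modules} (f : gen X U ⟶ M) (g : M ⟶ N) :
    genHomEquiv U N (f ≫ g) = (g.val.app (op U)) (genHomEquiv U M f) := rfl

theorem projective_stalk_gen (x : X) (U : X.Opens) : Projective ((stalk x).obj (gen X U)) where
  factors {E N} f e he := by
    let s : SkySec x N (op U) := genHomEquiv U ((sky x).obj N) ((stalkSkyAdj x).homEquiv _ N f)
    let t : SkySec x E (op U) := fun h => Function.surjInv ((ModuleCat.epi_iff_surjective e).1 he) (s h)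
    refine ⟨((stalkSkyAdj x).homEquiv _ E).symm ((genHomEquiv U ((sky x).obj E)).symm t), ?_⟩
    apply ((stalkSkyAdj x).homEquiv _ N).injective
    apply (genHomEquiv U ((sky x).obj N)).injective
    rw [Adjunction.homEquiv_naturality_right, Equiv.apply_symm_apply, genHomEquiv_comp, Equiv.apply_symm_apply]
    exact funext fun h => Function.surjInv_eq _ (s h)

theorem flat_gen (U : X.Opens) : FlatMod.IsFlat (gen X U) := fun x => by
  have := projective_stalk_gen x U
  have : Module.Projective (X.presheaf.stalk x) ((stalk x).obj (gen X U)) :=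
    (IsProjective.iff_projective ((stalk x).obj (gen X U))).2 this
  exact @Module.Flat.of_projective _ _ _ _ _ this

theorem gen_isSeparating : ObjectProperty.IsSeparating (ObjectProperty.ofObj (gen X)) := by
  intro M N f g h
  refine SheafOfModules.hom_ext (PresheafOfModules.hom_ext fun U => ModuleCat.hom_ext (LinearMap.ext fun m => ?_))
  have h1 := congrArg (genHomEquiv U.unop N) (h _ ⟨U.unop⟩ ((genHomEquiv U.unop M).symm m))
  rwa [genHomEquiv_comp, genHomEquiv_comp, Equiv.apply_symm_apply] at h1

end Gen

instance : LocallySmall.{u} X.Modules := ⟨fun _ _ => inferInstance⟩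

instance isGrothendieckAbelian : IsGrothendieckAbelian.{u} X.Modules where
  hasSeparator := ⟨⟨_, ObjectProperty.IsSeparating.isSeparator_coproduct (f := gen X) gen_isSeparating⟩⟩

end GrothLib.OX
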