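import Groth.Agent.Lib.OX.Stalk
import Groth.Prelude.Def_DCoh4

/-! # The stalk of a tensor product is the tensor product of the stalks -/

set_option autoImplicit false
set_option maxHeartbeats 400000
universe u

open CategoryTheory CategoryTheory.Limits AlgebraicGeometry Opposite TopologicalSpace MonoidalCategory
open scoped TensorProduct

namespace GrothLib.OX

variable {X : Scheme.{u}} {x : X} (P Q : CohB1.PMod X)

/-- The section `m ⊗ m'` of the tensor product. -/
noncomputable abbrev tsec (U : X.Opens) (m : P.obj (op U)) (m' : Q.obj (op U)) : (P ⊗ Q).obj (op U) :=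
  (m ⊗ₜ[X.presheaf.obj (op U)] m' : _)

lemma tsec_map {U V : X.Opens} (i : U ⟶ V) (m : P.obj (op V)) (m' : Q.obj (op V)) :
    (P ⊗ Q).map i.op (tsec P Q V m m') = tsec P Q U (P.map i.op m) (Q.map i.op m') := rfl

lemma germ_tsec_eq {U U' : X.Opens} (hx : x ∈ U) (hx' : x ∈ U') {m : P.obj (op U)} {m₁ : P.obj (op U')}
    {m' : Q.obj (op U)} {m₁' : Q.obj (op U')} (h : germ P U hx m = germ P U' hx' m₁)
    (h' : germ Q U hx m' = germ Q U' hx' m₁') :
    germ (P ⊗ Q) U hx (tsec P Q U m m') = germ (P ⊗ Q) U' hx' (tsec P Q U' m₁ m₁') := by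
  obtain ⟨W, hW, iU, iV, e⟩ := TopCat.Presheaf.germ_eq (prs P) x hx hx' m m₁ h
  obtain ⟨W', hW', iU', iV', e'⟩ := TopCat.Presheaf.germ_eq (prs Q) x hx hx' m' m₁' h'
  have e1 : P.map iU.op m = P.map iV.op m₁ := e
  have e2 : Q.map iU'.op m' = Q.map iV'.op m₁' := e'
  let j : W ⊓ W' ⟶ W := homOfLE inf_le_left
  let j' : W ⊓ W' ⟶ W' := homOfLE inf_le_right
  rw [← germ_map (P ⊗ Q) (j ≫ iU) ⟨hW, hW'⟩, ← germ_map (P ⊗ Q) (j ≫ iV) ⟨hW, hW'⟩, tsec_map, tsec_map]
  have a1 : P.map (j ≫ iU).op m = P.map (j ≫ iV).op m₁ :=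
    (PresheafOfModules.map_comp_apply P iU.op j.op m).trans
      ((congrArg (P.map j.op) e1).trans (PresheafOfModules.map_comp_apply P iV.op j.op m₁).symm)
  have a2 : Q.map (j ≫ iU).op m' = Q.map (j ≫ iV).op m₁' :=
    (PresheafOfModules.congr_map_apply Q (congrArg Quiver.Hom.op (Subsingleton.elim (j ≫ iU) (j' ≫ iU'))) m').trans
      ((PresheafOfModules.map_comp_apply Q iU'.op j'.op m').trans
        ((congrArg (Q.map j'.op) e2).trans ((PresheafOfModules.map_comp_apply Q iV'.op j'.op m₁').symm.trans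
          (PresheafOfModules.congr_map_apply Q (congrArg Quiver.Hom.op (Subsingleton.elim (j' ≫ iV') (j ≫ iV))) m₁'))))
  rw [a1, a2]

variable (x)

/-- The product of two germs in the stalk of the tensor product. -/
noncomputable def germMul (e : stalkObj x P) (e' : stalkObj x Q) : stalkObj x (P ⊗ Q) :=
  let h := germ_exists₂ P Q e e'
  germ (P ⊗ Q) h.choose h.choose_spec.choose
    (tsec P Q h.choose h.choose_spec.choose_spec.choose h.choose_spec.choose_spec.choose_spec.choose)

variable {x}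

lemma germMul_germ (U : X.Opens) (hx : x ∈ U) (m : P.obj (op U)) (m' : Q.obj (op U)) :
    germMul x P Q (germ P U hx m) (germ Q U hx m') = germ (P ⊗ Q) U hx (tsec P Q U m m') := by
  let h := germ_exists₂ P Q (germ P U hx m) (germ Q U hx m')
  exact germ_tsec_eq P Q _ _ h.choose_spec.choose_spec.choose_spec.choose_spec.1
    h.choose_spec.choose_spec.choose_spec.choose_spec.2

lemma germMul_add_left (e₁ e₂ : stalkObj x P) (e' : stalkObj x Q) :
    germMul x P Q (e₁ + e₂) e' = germMul x P Q e₁ e' + germMul x P Q e₂ e' := by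
  obtain ⟨U, hU, m₁, m', rfl, rfl⟩ := germ_exists₂ P Q e₁ e'
  obtain ⟨V, hV, m₂, rfl⟩ := germ_exists P e₂
  let i : U ⊓ V ⟶ U := homOfLE inf_le_left
  let j : U ⊓ V ⟶ V := homOfLE inf_le_right
  have hW : x ∈ U ⊓ V := ⟨hU, hV⟩
  rw [← germ_map P i hW m₁, ← germ_map P j hW m₂, ← germ_map Q i hW m', ← map_add, germMul_germ,
    germMul_germ, germMul_germ, ← map_add]
  exact congrArg (germ (P ⊗ Q) (U ⊓ V) hW) (TensorProduct.add_tmul _ _ _)

lemma germMul_add_right (e : stalkObj x P) (e₁' e₂' : stalkObj x Q) :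
    germMul x P Q e (e₁' + e₂') = germMul x P Q e e₁' + germMul x P Q e e₂' := by
  obtain ⟨U, hU, m, m₁, rfl, rfl⟩ := germ_exists₂ P Q e e₁'
  obtain ⟨V, hV, m₂, rfl⟩ := germ_exists Q e₂'
  let i : U ⊓ V ⟶ U := homOfLE inf_le_left
  let j : U ⊓ V ⟶ V := homOfLE inf_le_right
  have hW : x ∈ U ⊓ V := ⟨hU, hV⟩
  rw [← germ_map Q i hW m₁, ← germ_map Q j hW m₂, ← germ_map P i hW m, ← map_add, germMul_germ,
    germMul_germ, germMul_germ, ← map_add]
  exact congrArg (germ (P ⊗ Q) (U ⊓ V) hW) (TensorProduct.tmul_add _ _ _)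

lemma germMul_smul_left (r : X.presheaf.stalk x) (e : stalkObj x P) (e' : stalkObj x Q) :
    germMul x P Q (r • e) e' = r • germMul x P Q e e' := by
  obtain ⟨U, hU, s, m, rfl, rfl⟩ := germ_exists_smul P r e
  obtain ⟨V, hV, m', rfl⟩ := germ_exists Q e'
  let i : U ⊓ V ⟶ U := homOfLE inf_le_left
  let j : U ⊓ V ⟶ V := homOfLE inf_le_right
  have hW : x ∈ U ⊓ V := ⟨hU, hV⟩
  rw [← germ_map P i hW m, ← germ_map Q j hW m', ← TopCat.Presheaf.germ_res_apply X.presheaf i x hW s,
    ← germ_smul', germMul_germ, germMul_germ, ← germ_smul']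
  exact congrArg (germ (P ⊗ Q) (U ⊓ V) hW) (TensorProduct.smul_tmul' _ _ _).symm

lemma germMul_smul_right (r : X.presheaf.stalk x) (e : stalkObj x P) (e' : stalkObj x Q) :
    germMul x P Q e (r • e') = r • germMul x P Q e e' := by
  obtain ⟨U, hU, s, m', rfl, rfl⟩ := germ_exists_smul Q r e'
  obtain ⟨V, hV, m, rfl⟩ := germ_exists P e
  let i : U ⊓ V ⟶ U := homOfLE inf_le_left
  let j : U ⊓ V ⟶ V := homOfLE inf_le_right
  have hW : x ∈ U ⊓ V := ⟨hU, hV⟩
  rw [← germ_map Q i hW m', ← germ_map P j hW m, ← TopCat.Presheaf.germ_res_apply X.presheaf i x hW s,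
    ← germ_smul', germMul_germ, germMul_germ, ← germ_smul']
  exact congrArg (germ (P ⊗ Q) (U ⊓ V) hW) (TensorProduct.tmul_smul _ _ _)

variable (x)

/-- Multiplication of germs, linearly. -/
noncomputable def stalkTensorHom : (stalkObj x P ⊗ stalkObj x Q : ModuleCat _) ⟶ stalkObj x (P ⊗ Q) :=
  ModuleCat.MonoidalCategory.tensorLift (germMul x P Q) (germMul_add_left P Q)
    (fun r e e' => germMul_smul_left P Q r e e') (germMul_add_right P Q)
    (fun r e e' => germMul_smul_right P Q r e e')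

/-- The pair of germs of a product section, as a map to a skyscraper. -/
noncomputable def stalkTensorPre : P ⊗ Q ⟶ skyPreObj x (stalkObj x P ⊗ stalkObj x Q) where
  app U := ModuleCat.ofHom (X := ((P ⊗ Q).obj U)) (Y := SkySec x (stalkObj x P ⊗ stalkObj x Q) U)
    (TensorProduct.lift
      { toFun := fun m =>
          { toFun := fun m' h => (germ P U.unop h.down m ⊗ₜ[X.presheaf.stalk x] germ Q U.unop h.down m' : _)
            map_add' := fun a b => funext fun h =>
              (congrArg (germ P U.unop h.down m ⊗ₜ[X.presheaf.stalk x] ·) (map_add (germ Q U.unop h.down) a b)).trans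
                (TensorProduct.tmul_add _ _ _)
            map_smul' := fun r a => funext fun h =>
              (congrArg (germ P U.unop h.down m ⊗ₜ[X.presheaf.stalk x] ·) (germ_smul' Q U.unop h.down r a)).trans
                (TensorProduct.tmul_smul _ _ _) }
        map_add' := fun a b => LinearMap.ext fun m' => funext fun h =>
          (congrArg (· ⊗ₜ[X.presheaf.stalk x] germ Q U.unop h.down m') (map_add (germ P U.unop h.down) a b)).trans
            (TensorProduct.add_tmul _ _ _)
        map_smul' := fun r a => LinearMap.ext fun m' => funext fun h =>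
          (congrArg (· ⊗ₜ[X.presheaf.stalk x] germ Q U.unop h.down m') (germ_smul' P U.unop h.down r a)).trans
            (TensorProduct.smul_tmul' _ _ _).symm })
  naturality {U V} i := ModuleCat.MonoidalCategory.tensor_ext fun m m' => funext fun h =>
    congrArg₂ (fun a b => (a ⊗ₜ[X.presheaf.stalk x] b : _)) (germ_map P i.unop h.down m) (germ_map Q i.unop h.down m')

/-- Additive maps out of sections of a tensor product agree when they agree on products. -/
lemma tensor_addHom_ext {U : X.Opens} {A : Type u} [AddCommGroup A] (F G : (P ⊗ Q).obj (op U) →+ A)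
    (h : ∀ m m', F (tsec P Q U m m') = G (tsec P Q U m m')) (t : (P ⊗ Q).obj (op U)) : F t = G t := by
  refine TensorProduct.induction_on (motive := fun t => F t = G t) t ?_ h ?_
  · exact (map_zero F).trans (map_zero G).symm
  · exact fun a b ha hb => (map_add F a b).trans ((congrArg₂ (· + ·) ha hb).trans (map_add G a b).symm)

/-- The inverse of the multiplication of germs. -/
noncomputable def stalkTensorInv : stalkObj x (P ⊗ Q) ⟶ (stalkObj x P ⊗ stalkObj x Q : ModuleCat _) :=
  (stalkHomEquiv x (P ⊗ Q) _).symm (stalkTensorPre x P Q)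

variable {x}

lemma stalkTensorInv_germ (U : X.Opens) (hx : x ∈ U) (m : P.obj (op U)) (m' : Q.obj (op U)) :
    (stalkTensorInv x P Q).hom (germ (P ⊗ Q) U hx (tsec P Q U m m')) =
      (germ P U hx m ⊗ₜ[X.presheaf.stalk x] germ Q U hx m' : _) :=
  stalkDesc_germ (stalkTensorPre x P Q) U hx _

lemma stalkTensorHom_germ (U : X.Opens) (hx : x ∈ U) (m : P.obj (op U)) (m' : Q.obj (op U)) :
    (stalkTensorHom x P Q).hom (germ P U hx m ⊗ₜ[X.presheaf.stalk x] germ Q U hx m' : _) =
      germ (P ⊗ Q) U hx (tsec P Q U m m') :=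
  germMul_germ P Q U hx m m'

variable (x)

/-- The stalk of a tensor product of presheaves of modules. -/
noncomputable def stalkTensorIso :
    (stalkObj x P ⊗ stalkObj x Q : ModuleCat _) ≅ stalkObj x (P ⊗ Q) where
  hom := stalkTensorHom x P Q
  inv := stalkTensorInv x P Q
  hom_inv_id := ModuleCat.MonoidalCategory.tensor_ext fun e e' => by
    obtain ⟨U, hx, m, m', rfl, rfl⟩ := germ_exists₂ P Q e e'
    exact (congrArg (stalkTensorInv x P Q).hom (stalkTensorHom_germ P Q U hx m m')).trans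
      (stalkTensorInv_germ P Q U hx m m')
  inv_hom_id := ModuleCat.hom_ext (LinearMap.ext fun e => by
    obtain ⟨U, hx, t, rfl⟩ := germ_exists (P ⊗ Q) e
    change (stalkTensorHom x P Q).hom ((stalkTensorInv x P Q).hom (germ (P ⊗ Q) U hx t)) = germ (P ⊗ Q) U hx t
    exact tensor_addHom_ext P Q (((stalkTensorHom x P Q).hom.toAddMonoidHom.comp
        (stalkTensorInv x P Q).hom.toAddMonoidHom).comp (germ (P ⊗ Q) U hx)) (germ (P ⊗ Q) U hx)
      (fun m m' => (congrArg (stalkTensorHom x P Q).hom (stalkTensorInv_germ P Q U hx m m')).trans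
        (stalkTensorHom_germ P Q U hx m m')) t)

lemma stalkTensorIso_natural {P P' Q Q' : CohB1.PMod X} (f : P ⟶ P') (g : Q ⟶ Q') :
    (((stalkPre x).map f) ⊗ₘ ((stalkPre x).map g) : _) ≫ (stalkTensorIso x P' Q').hom =
      (stalkTensorIso x P Q).hom ≫ (stalkPre x).map (f ⊗ₘ g) :=
  ModuleCat.MonoidalCategory.tensor_ext fun e e' => by
    obtain ⟨U, hx, m, m', rfl, rfl⟩ := germ_exists₂ P Q e e'
    refine Eq.trans ?_ ((congrArg ((stalkPre x).map (f ⊗ₘ g)).hom (stalkTensorHom_germ P Q U hx m m')).trans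
      (stalkPre_map_germ (f ⊗ₘ g) U hx _)).symm
    exact (congrArg₂ (germMul x P' Q') (stalkPre_map_germ f U hx m) (stalkPre_map_germ g U hx m')).trans
      (germMul_germ P' Q' U hx _ _)

/-- The stalk of the tensor bifunctor of O_X-modules. -/
noncomputable def stalkTensorBiIso (M N : X.Modules) :
    (stalk x).obj (((DCoh.tensorBi (X := X)).obj M).obj N) ≅ (stalk x).obj M ⊗ (stalk x).obj N :=
  (shPStalkIso x).app (DCoh.toP.obj M ⊗ DCoh.toP.obj N) ≪≫ (stalkTensorIso x _ _).symm

lemma stalkTensorBiIso_natural₂ (M : X.Modules) {N N' : X.Modules} (g : N ⟶ N') :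
    (stalk x).map (((DCoh.tensorBi (X := X)).obj M).map g) ≫ (stalkTensorBiIso x M N').hom =
      (stalkTensorBiIso x M N).hom ≫ ((stalk x).obj M ◁ (stalk x).map g) := by
  have h1 := (shPStalkIso x).hom.naturality (DCoh.toP.obj M ◁ DCoh.toP.map g)
  have h2 := stalkTensorIso_natural x (𝟙 (DCoh.toP.obj M)) (DCoh.toP.map g)
  rw [CategoryTheory.Functor.map_id, id_tensorHom, id_tensorHom] at h2
  simp only [stalkTensorBiIso, Iso.trans_hom, Iso.symm_hom, Iso.app_hom, Category.assoc]
  refine (Category.assoc _ _ _).symm.trans ((congrArg (· ≫ _) h1).trans ((Category.assoc _ _ _).trans ?_))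
  refine congrArg (_ ≫ ·) ((Iso.comp_inv_eq _).2 ?_)
  exact (((Category.assoc _ _ _).trans (congrArg (_ ≫ ·) h2)).trans (Iso.inv_hom_id_assoc _ _)).symm

lemma stalkTensorBiIso_natural₁ {M M' : X.Modules} (f : M ⟶ M') (N : X.Modules) :
    (stalk x).map (((DCoh.tensorBi (X := X)).map f).app N) ≫ (stalkTensorBiIso x M' N).hom =
      (stalkTensorBiIso x M N).hom ≫ ((stalk x).map f ▷ (stalk x).obj N) := by
  have h1 := (shPStalkIso x).hom.naturality (DCoh.toP.map f ▷ DCoh.toP.obj N)
  have h2 := stalkTensorIso_natural x (DCoh.toP.map f) (𝟙 (DCoh.toP.obj N))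
  rw [CategoryTheory.Functor.map_id, tensorHom_id, tensorHom_id] at h2
  simp only [stalkTensorBiIso, Iso.trans_hom, Iso.symm_hom, Iso.app_hom, Category.assoc]
  refine (Category.assoc _ _ _).symm.trans ((congrArg (· ≫ _) h1).trans ((Category.assoc _ _ _).trans ?_))
  refine congrArg (_ ≫ ·) ((Iso.comp_inv_eq _).2 ?_)
  exact (((Category.assoc _ _ _).trans (congrArg (_ ≫ ·) h2)).trans (Iso.inv_hom_id_assoc _ _)).symm

end GrothLib.OX
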