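import Groth.Agent.Lib.OX.Exact
import Groth.Agent.Lib.OX.StalkTensor
import Mathlib.RingTheory.Flat.Stability
import Mathlib.RingTheory.Flat.Equalizer
import Mathlib.RingTheory.Flat.CategoryTheory
import Mathlib.Algebra.Category.ModuleCat.Monoidal.Closed
import Mathlib.Algebra.Category.ModuleCat.Monoidal.Symmetric
import Mathlib.Algebra.Category.ModuleCat.Presheaf.Monoidal

/-! # The tensor product of O_X-modules: colimits, symmetry, flatness -/

set_option autoImplicit false
universe u

open CategoryTheory CategoryTheory.Limits AlgebraicGeometry Opposite MonoidalCategory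

namespace GrothLib.OX

variable {X : Scheme.{u}}

/-- The symmetry of the tensor bifunctor. -/
noncomputable def tensorBraiding : (DCoh.tensorBi (X := X)).flip ≅ DCoh.tensorBi :=
  NatIso.ofComponents
    (fun M => NatIso.ofComponents (fun N => DCoh.shP.mapIso (β_ (DCoh.toP.obj N) (DCoh.toP.obj M)))
      (fun f => (DCoh.shP.map_comp _ _).symm.trans
        ((congrArg DCoh.shP.map (BraidedCategory.braiding_naturality_left (DCoh.toP.map f) (DCoh.toP.obj M))).trans
          (DCoh.shP.map_comp _ _))))
    (fun f => NatTrans.ext (funext fun N => (DCoh.shP.map_comp _ _).symm.trans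
      ((congrArg DCoh.shP.map (BraidedCategory.braiding_naturality_right (DCoh.toP.obj N) (DCoh.toP.map f))).trans
        (DCoh.shP.map_comp _ _))))

/-- Tensoring on the left, computed on stalks. -/
noncomputable def tensorLeftStalkIso (x : X) (M : X.Modules) :
    (DCoh.tensorBi (X := X)).obj M ⋙ stalk x ≅ stalk x ⋙ tensorLeft ((stalk x).obj M) :=
  NatIso.ofComponents (fun N => stalkTensorBiIso x M N) (fun g => stalkTensorBiIso_natural₂ x M g)

/-- Tensoring on the right, computed on stalks. -/
noncomputable def tensorRightStalkIso (x : X) (N : X.Modules) :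
    (DCoh.tensorBi (X := X)).flip.obj N ⋙ stalk x ≅ stalk x ⋙ tensorRight ((stalk x).obj N) :=
  NatIso.ofComponents (fun M => stalkTensorBiIso x M N) (fun f => stalkTensorBiIso_natural₁ x f N)

instance preservesColimitsOfSize_tensorBi_obj (M : X.Modules) :
    PreservesColimitsOfSize.{u, u} ((DCoh.tensorBi (X := X)).obj M) where
  preservesColimitsOfShape := ⟨fun {K} => preservesColimit_of_stalk _ fun x =>
    preservesColimit_of_natIso K (tensorLeftStalkIso x M).symm⟩

instance preservesColimitsOfSize_tensorBi_flip_obj (N : X.Modules) :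
    PreservesColimitsOfSize.{u, u} ((DCoh.tensorBi (X := X)).flip.obj N) :=
  preservesColimits_of_natIso (tensorBraiding.app N).symm

instance additive_tensorBi_flip_obj (N : X.Modules) : ((DCoh.tensorBi (X := X)).flip.obj N).Additive where
  map_add {M M' f g} := by
    change ((DCoh.tensorBi (X := X)).map (f + g)).app N = _
    rw [Functor.map_add]
    rfl

lemma flat_of_iso {M N : X.Modules} (e : M ≅ N) (h : FlatMod.IsFlat M) : FlatMod.IsFlat N :=
  (flat_iff N).2 fun x =>
    have := (flat_iff M).1 h x
    Module.Flat.of_linearEquiv ((stalk x).mapIso e).toLinearEquiv.symm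

lemma flat_of_isZero {M : X.Modules} (h : IsZero M) : FlatMod.IsFlat M :=
  (flat_iff M).2 fun x => by
    have := ModuleCat.isZero_iff_subsingleton.1 ((stalk x).map_isZero h)
    exact inferInstance

/-- Tensoring with a flat module is exact. -/
theorem tensor_map_shortExact {F : X.Modules} (hF : FlatMod.IsFlat F) {S : ShortComplex X.Modules}
    (hS : S.ShortExact) : (S.map ((DCoh.tensorBi (X := X)).flip.obj F)).ShortExact := by
  refine (shortExact_iff _).2 fun x => ?_
  have := (flat_iff F).1 hF x
  have : PreservesFiniteColimits (tensorRight ((stalk x).obj F)) :=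
    preservesFiniteColimits_of_natIso (BraidedCategory.tensorLeftIsoTensorRight _)
  exact ShortComplex.shortExact_of_iso (S.mapNatIso (tensorRightStalkIso x F)).symm
    (((shortExact_iff S).1 hS x).map_of_exact (tensorRight ((stalk x).obj F)))

/-- The stalk of a skyscraper at its point. -/
instance isIso_sky_counit (x : X) (N : ModuleCat.{u} (X.presheaf.stalk x)) :
    IsIso ((stalkSkyAdj x).counit.app N) := by
  rw [ConcreteCategory.isIso_iff_bijective]
  have hc : ∀ (U : X.Opens) (hx : x ∈ U) (m : SkySec x N (op U)),
      ((stalkSkyAdj x).counit.app N).hom (germ (skyPreObj x N) U hx m) = m ⟨hx⟩ := fun U hx m => by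
    have hc' : (stalkSkyAdj x).counit.app N = (stalkHomEquiv x (skyPreObj x N) N).symm (𝟙 _) := by
      simp only [stalkSkyAdj, stalkSkyPreAdj, Adjunction.mkOfHomEquiv_counit_app, Adjunction.mkOfHomEquiv_homEquiv]
      rfl
    rw [hc']
    exact stalkDesc_germ (𝟙 (skyPreObj x N)) U hx m
  refine ⟨(injective_iff_map_eq_zero _).2 fun e he => ?_, fun n => ⟨germ (skyPreObj x N) ⊤ trivial (fun _ => n), hc ⊤ trivial _⟩⟩
  obtain ⟨U, hx, m, rfl⟩ := germ_exists (skyPreObj x N) e
  have : m = 0 := funext fun h => (hc U hx m).symm.trans he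
  exact (congrArg (germ (skyPreObj x N) U hx) this).trans (map_zero _)

/-- A module whose tensor product preserves monomorphisms is flat. -/
theorem flat_of_tensor_mono {F : X.Modules}
    (h : ∀ {M N : X.Modules} (f : M ⟶ N), Mono f → Mono (((DCoh.tensorBi (X := X)).flip.obj F).map f)) :
    FlatMod.IsFlat F := (flat_iff F).2 fun x => by
  refine Module.Flat.iff_rTensor_preserves_injective_linearMap.2 fun {N N'} _ _ _ _ g hg => ?_
  let g' : ModuleCat.of (X.presheaf.stalk x) N ⟶ ModuleCat.of (X.presheaf.stalk x) N' := ModuleCat.ofHom g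
  have : Mono g' := (ModuleCat.mono_iff_injective g').2 hg
  have : (sky x).IsRightAdjoint := (stalkSkyAdj x).isRightAdjoint
  have := h ((sky x).map g') inferInstance
  have h2 : Mono ((stalk x).map (((DCoh.tensorBi (X := X)).flip.obj F).map ((sky x).map g'))) := inferInstance
  have h3 : Mono ((stalk x).map ((sky x).map g') ▷ (stalk x).obj F) :=
    ((MorphismProperty.monomorphisms _).arrow_mk_iso_iff
      (Arrow.isoMk ((tensorRightStalkIso x F).app ((sky x).obj (ModuleCat.of (X.presheaf.stalk x) N)))
        ((tensorRightStalkIso x F).app ((sky x).obj (ModuleCat.of (X.presheaf.stalk x) N')))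
        ((tensorRightStalkIso x F).hom.naturality ((sky x).map g')).symm)).1 h2
  have h4 : Mono (g' ▷ (stalk x).obj F) :=
    ((MorphismProperty.monomorphisms _).arrow_mk_iso_iff
      (Arrow.isoMk (whiskerRightIso (asIso ((stalkSkyAdj x).counit.app (ModuleCat.of (X.presheaf.stalk x) N))) _)
        (whiskerRightIso (asIso ((stalkSkyAdj x).counit.app (ModuleCat.of (X.presheaf.stalk x) N'))) _)
        (by
          simp only [Arrow.mk_hom, whiskerRightIso_hom, asIso_hom, ← comp_whiskerRight]
          exact congrArg (· ▷ (stalk x).obj F) ((stalkSkyAdj x).counit.naturality g').symm))).1 h3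
  exact (ModuleCat.mono_iff_injective _).1 h4

/-- Flatness is exactness of the tensor product. -/
theorem flat_iff_tensor_exact (F : X.Modules) :
    FlatMod.IsFlat F ↔ ∀ S : ShortComplex X.Modules, S.ShortExact →
      (S.map ((DCoh.tensorBi (X := X)).flip.obj F)).ShortExact := by
  refine ⟨fun h S hS => tensor_map_shortExact h hS, fun h => flat_of_tensor_mono fun {M N} f hf => ?_⟩
  exact (h (ShortComplex.mk f (cokernel.π f) (cokernel.condition f))
    { exact := ShortComplex.exact_of_g_is_cokernel _ (cokernelIsCokernel f) }).mono_f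

/-- An extension of a flat module by a flat module is flat. -/
theorem flat_extension {S : ShortComplex X.Modules} (hS : S.ShortExact) (h₁ : FlatMod.IsFlat S.X₁)
    (h₃ : FlatMod.IsFlat S.X₃) : FlatMod.IsFlat S.X₂ := by
  refine flat_of_tensor_mono fun {M N} f hf => Preadditive.mono_of_cancel_zero _ fun {T} t ht => ?_
  let T' := DCoh.tensorBi (X := X)
  have hN : Mono ((T'.obj N).map S.f) := by
    refine (mono_iff _).2 fun x => ?_
    have := (flat_iff _).1 h₃ x
    have h' := (shortExact_iff S).1 hS x
    have hinj : Function.Injective (LinearMap.lTensor ((stalk x).obj N) ((stalk x).map S.f).hom) :=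
      LinearMap.lTensor_injective_of_exact_of_flat ((stalk x).map S.g).hom
        (ShortComplex.ShortExact.moduleCat_surjective_g h') ((stalk x).map S.f).hom
        (ShortComplex.ShortExact.moduleCat_injective_f h')
        ((ShortComplex.ShortExact.moduleCat_exact_iff_function_exact _).1 h'.exact) _
    exact ((MorphismProperty.monomorphisms _).arrow_mk_iso_iff
      (Arrow.isoMk ((tensorLeftStalkIso x N).app _) ((tensorLeftStalkIso x N).app _)
        ((tensorLeftStalkIso x N).hom.naturality S.f).symm)).2 ((ModuleCat.mono_iff_injective _).2 hinj)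
  have m₁ : Mono ((T'.map f).app S.X₁) := ((tensor_map_shortExact h₁ (S := ShortComplex.mk f (cokernel.π f)
    (cokernel.condition f)) { exact := ShortComplex.exact_of_g_is_cokernel _ (cokernelIsCokernel f) }).mono_f)
  have m₃ : Mono ((T'.map f).app S.X₃) := ((tensor_map_shortExact h₃ (S := ShortComplex.mk f (cokernel.π f)
    (cokernel.condition f)) { exact := ShortComplex.exact_of_g_is_cokernel _ (cokernelIsCokernel f) }).mono_f)
  have ht' : t ≫ (T'.map f).app S.X₂ = 0 := ht
  have h3 : t ≫ (T'.obj M).map S.g = 0 := by
    rw [← cancel_mono ((T'.map f).app S.X₃), Category.assoc, (T'.map f).naturality, reassoc_of% ht', zero_comp,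
      zero_comp]
  have : PreservesFiniteColimits (T'.obj M) := PreservesColimits.preservesFiniteColimits (T'.obj M)
  have hex := ((T'.obj M).preservesFiniteColimits_tfae.out 3 0
    (a := PreservesFiniteColimits (T'.obj M))
    (b := ∀ S : ShortComplex X.Modules, S.ShortExact → (S.map (T'.obj M)).Exact ∧ Epi ((T'.obj M).map S.g))).1
    inferInstance S hS
  obtain ⟨A, π, hπ, w, hw⟩ := hex.1.exact_up_to_refinements t h3
  have hw' : π ≫ t = w ≫ (T'.obj M).map S.f := hw
  let w' : A ⟶ (T'.obj M).obj S.X₁ := w
  have hw'' : π ≫ t = w' ≫ (T'.obj M).map S.f := hw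
  have hwz : w' = 0 := by
    rw [← cancel_mono ((T'.map f).app S.X₁), zero_comp, ← cancel_mono ((T'.obj N).map S.f), zero_comp,
      Category.assoc, ← (T'.map f).naturality, ← reassoc_of% hw'', ht', comp_zero]
  rw [← cancel_epi π, comp_zero, hw'', hwz, zero_comp]

end GrothLib.OX
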