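import Groth.Agent.Lib.OX.RpushCoprod
import Groth.Agent.Lib.DerCat.CohIn
import Groth.Agent.Lib.SiteDer.RlimMap
import Groth.Agent.Lib.Cohom.AffineSections

/-! # `Rf_*` along an affine morphism detects objects and isomorphisms in `D_qc` -/

set_option autoImplicit false
set_option maxHeartbeats 400000
universe u

open CategoryTheory CategoryTheory.Limits AlgebraicGeometry Opposite Pretriangulated

attribute [local instance] HasDerivedCategory.standard

namespace GrothLib.OX

variable {X S : Scheme.{u}}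

/-- A quasi-coherent module without sections on the members of an affine open cover is zero. -/
theorem isZero_of_affine_cover {M : X.Modules} (hM : Coh.IsQCoh M) {I : Type*} (U : I → X.Opens)
    (hU : ∀ i, IsAffineOpen (U i)) (hcov : ∀ x : X, ∃ i, x ∈ U i) (h : ∀ i (t : Γ(M, U i)), t = 0) : IsZero M := by
  refine (isLocGen_genF (X := X)).isZero fun W g => (isLocGen_genF (X := X)).sep g ?_
  refine SiteDer.Locally.trans_family (fun W' W'' f k hk => by rw [Functor.map_comp, Category.assoc, hk, comp_zero])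
    (ι := {p : Σ i, Γ(X, U i) // X.basicOpen p.2 ≤ W}) (fun p => homOfLE p.2) (fun x hx => ?_)
    fun p => SiteDer.Locally.of_forall fun T k => ?_
  · obtain ⟨i, hi⟩ := hcov x
    obtain ⟨s, hsW, hxs⟩ := (hU i).exists_basicOpen_le ⟨x, hx⟩ hi
    exact ⟨X.basicOpen s, homOfLE hsW, Sieve.ofArrows_mk
      (fun p : {p : Σ i, Γ(X, U i) // X.basicOpen p.2 ≤ W} => X.basicOpen p.1.2) (fun p => homOfLE p.2)
      ⟨⟨i, s⟩, hsW⟩, hxs⟩
  · obtain ⟨⟨i, s⟩, hs⟩ := p
    have := hM
    obtain ⟨n, t, ht⟩ := Cohom.exists_pow_smul_eq_map (hU i) M s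
      (genSec M _ ((genF X).map (homOfLE hs) ≫ g))
    rw [h i t, map_zero] at ht
    have hu : IsUnit ((X.presheaf.map (homOfLE (X.basicOpen_le s)).op s) ^ n) :=
      (RingedSpace.isUnit_res_basicOpen X.toRingedSpace s).pow n
    have hz : (genF X).map (homOfLE hs) ≫ g = 0 :=
      (genSec M _).injective (((hu.smul_eq_zero).1 ht.symm).trans (SiteDer.secMod_zero M _).symm)
    rw [Functor.map_comp, Category.assoc, hz, comp_zero]

/-- `Rf_*` along an affine morphism detects zero objects of `D_qc`. -/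
theorem isZero_of_isZero_Rres (f : X ⟶ S) [IsAffineHom f] {C : DCoh.D X} (hC : DCoh.IsQCohD C)
    (h : IsZero ((SiteDer.Rres (rmor f)).obj C)) (j : ℤ) : IsZero (DCoh.HD C j) := by
  refine isZero_of_affine_cover (hC j) (fun V : S.affineOpens => f ⁻¹ᵁ V.1) (fun V => V.2.preimage f)
    (fun x => ?_) fun V t => ?_
  · obtain ⟨U, hU, hx, -⟩ := exists_isAffineOpen_mem_and_subset (x := f x) (U := ⊤) trivial
    exact ⟨⟨U, hU⟩, hx⟩
  · obtain ⟨φ, hφ⟩ := (theta_bijective (V.2.preimage f) hC j).2 ((genSec (DCoh.HD C j) (f ⁻¹ᵁ V.1)).symm t)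
    have h0 : φ = 0 := by
      let e := SiteDer.pushHomEquiv (rmor f) V.1 j C
      refine ((e.apply_symm_apply φ).symm.trans (congrArg e (h.eq_of_tgt _ 0))).trans ?_
      exact SiteDer.pushHomEquiv_zero (rmor f) V.1 j C
    simp only [h0, SiteDer.theta_zero] at hφ
    rw [← (genSec (DCoh.HD C j) (f ⁻¹ᵁ V.1)).apply_symm_apply t, ← hφ]
    exact SiteDer.secMod_zero _ _

theorem isIso_RR_map (f : X ⟶ S) [DCoh.HasRpush f] {E F : DCoh.D X} (α : E ⟶ F)
    (hα : IsIso ((DCoh.Rpush f).map α)) : IsIso ((RR f).map α) :=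
  (NatIso.isIso_map_iff (rpushIsoRres f) α).1 hα

theorem isZero_Rres_obj {C : Type u} [SmallCategory C] {J : GrothendieckTopology C}
    {O_C : Sheaf J CommRingCat.{u}} {D : Type u} [SmallCategory D] {K : GrothendieckTopology D}
    {O_D : Sheaf K CommRingCat.{u}} (g : ModSite.RMor O_C O_D)
    {T : Triangle (DerivedCategory (ModSite.Mod O_C))} (hT : T ∈ distTriang _)
    (hα : IsIso ((SiteDer.Rres g).map T.mor₁)) : IsZero ((SiteDer.Rres g).obj T.obj₃) := by
  have : (SiteDer.Rres g).IsTriangulated := SiteDer.isTriangulated_res_map g.push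
  exact (Triangle.isZero₃_iff_isIso₁ _ ((SiteDer.Rres g).map_distinguished _ hT)).2 hα

/-- `Rf_*` along an affine morphism reflects isomorphisms in `D_qc`. -/
theorem isIso_of_isIso_Rpush (f : X ⟶ S) [IsAffineHom f] [DCoh.HasRpush f] {E F : DCoh.D X}
    (hE : DCoh.IsQCohD E) (hF : DCoh.IsQCohD F) (α : E ⟶ F) (hα : IsIso ((DCoh.Rpush f).map α)) :
    IsIso α := by
  obtain ⟨C, g, h, hT⟩ := distinguished_cocone_triangle α
  have hC : DCoh.IsQCohD C := DerTrunc.cohIn_obj₂ (P := qcohP X) (rot_of_distTriang _ hT) hF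
    (DerTrunc.cohIn_shift (P := qcohP X) hE 1)
  have hα' : IsIso ((RR f).map α) := isIso_RR_map f α hα
  have hR : IsZero ((RR f).obj C) := isZero_Rres_obj (rmor f) hT hα'
  have h0 : IsZero C := by
    have : IsIso (0 : C ⟶ C) := (DerivedCategory.isIso_iff (C := X.Modules) _).2 fun j =>
      ⟨0, (isZero_of_isZero_Rres f hC hR j).eq_of_src _ _, (isZero_of_isZero_Rres f hC hR j).eq_of_src _ _⟩
    refine (IsZero.iff_id_eq_zero _).2 ?_
    rw [← IsIso.hom_inv_id (0 : C ⟶ C), zero_comp]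
  exact (Triangle.isZero₃_iff_isIso₁ _ hT).1 h0

end GrothLib.OX
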