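import Groth.Agent.Lib.OX.Tensor
import Groth.Agent.Lib.DerCat.Acyclic
import Mathlib.CategoryTheory.Limits.FunctorCategory.Basic
import Mathlib.Algebra.Homology.BifunctorShift
import Mathlib.CategoryTheory.Category.ULift

/-! # The tensor product of complexes of O_X-modules: colimits and exactness -/

set_option autoImplicit false
universe u

open CategoryTheory CategoryTheory.Limits AlgebraicGeometry Opposite MonoidalCategory HomologicalComplex

namespace GrothLib.OX

variable {X : Scheme.{u}}

attribute [local instance] hasFiniteLimits_of_hasLimitsOfSize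

instance hasExactColimitsOfShape_nat : HasExactColimitsOfShape ℕ X.Modules :=
  have : HasExactColimitsOfShape (ULiftHom.{u} (ULift.{u} ℕ)) X.Modules := AB5OfSize.ofShape _
  HasExactColimitsOfShape.of_domain_equivalence X.Modules (ULiftHomULiftCategory.equiv.{u, u} ℕ).symm

variable (L : CochainComplex X.Modules ℤ) (n : ℤ)

/-- The family of summands of degree `n` of the tensor product with `L`. -/
noncomputable def summandsFun : CochainComplex X.Modules ℤ ⥤ (Discrete ℤ ⥤ X.Modules) where
  obj K := Discrete.functor fun p => ((DCoh.tensorBi (X := X)).obj (L.X p)).obj (K.X (n - p))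
  map f := Discrete.natTrans fun p => ((DCoh.tensorBi (X := X)).obj (L.X p.as)).map (f.f (n - p.as))

/-- The degree `n` part of the tensor product with `L` is a coproduct. -/
noncomputable def degIso :
    summandsFun L n ⋙ colim ≅ (DCoh.tensorCx (X := X)).obj L ⋙ HomologicalComplex.eval X.Modules (ComplexShape.up ℤ) n :=
  NatIso.ofComponents
    (fun K =>
      { hom := Sigma.desc fun p => HomologicalComplex.ιMapBifunctor L K (DCoh.tensorBi (X := X)) (ComplexShape.up ℤ) p (n - p) n
          (show p + (n - p) = n by omega)
        inv := HomologicalComplex.mapBifunctorDesc fun p q h =>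
          ((DCoh.tensorBi (X := X)).obj (L.X p)).map (eqToHom (congrArg K.X (show q = n - p by
            have h' : p + q = n := h
            omega))) ≫
            Sigma.ι (fun p => ((DCoh.tensorBi (X := X)).obj (L.X p)).obj (K.X (n - p))) p
        hom_inv_id := Sigma.hom_ext _ _ fun p => by
          erw [Sigma.ι_desc_assoc, HomologicalComplex.ι_mapBifunctorDesc, Category.comp_id]
          rw [eqToHom_refl, CategoryTheory.Functor.map_id, Category.id_comp]
        inv_hom_id := by
          refine HomologicalComplex.mapBifunctor.hom_ext fun p q h => ?_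
          obtain rfl : q = n - p := by
            have h' : p + q = n := h
            omega
          erw [← Category.assoc, HomologicalComplex.ι_mapBifunctorDesc, Category.assoc, Sigma.ι_desc, Category.comp_id]
          rw [eqToHom_refl, CategoryTheory.Functor.map_id, Category.id_comp] })
    (fun {K K'} f => colimit.hom_ext fun ⟨p⟩ => by
      change colimit.ι ((summandsFun L n).obj K) ⟨p⟩ ≫ colimMap ((summandsFun L n).map f) ≫ _ = _
      simp [summandsFun]
      erw [HomologicalComplex.ι_mapBifunctorMap]
      simp
      rfl)

instance preservesColimitsOfSize_summandsFun : PreservesColimitsOfSize.{u, u} (summandsFun L n) where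
  preservesColimitsOfShape {J} _ := preservesColimitsOfShape_of_evaluation _ _ fun p =>
    preservesColimitsOfShape_of_natIso (J := J)
      (F := HomologicalComplex.eval X.Modules (ComplexShape.up ℤ) (n - p.as) ⋙ (DCoh.tensorBi (X := X)).obj (L.X p.as))
      (NatIso.ofComponents fun _ => Iso.refl _)

instance preservesColimitsOfSize_tensorCx_obj :
    PreservesColimitsOfSize.{u, u} ((DCoh.tensorCx (X := X)).obj L) where
  preservesColimitsOfShape {J} _ := ⟨fun {K} => ⟨fun {c} hc => ⟨HomologicalComplex.isColimitOfEval _ _ fun m =>
    have : PreservesColimitsOfShape J (summandsFun L m ⋙ colim) := comp_preservesColimitsOfShape _ _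
    have : PreservesColimitsOfShape J ((DCoh.tensorCx (X := X)).obj L ⋙ HomologicalComplex.eval X.Modules (ComplexShape.up ℤ) m) :=
      preservesColimitsOfShape_of_natIso (degIso L m)
    isColimitOfPreserves ((DCoh.tensorCx (X := X)).obj L ⋙ HomologicalComplex.eval X.Modules (ComplexShape.up ℤ) m) hc⟩⟩⟩

/-- Tensoring with a complex is exact on sequences whose terms are exact for the tensor product. -/
theorem tensorCx_map_shortExact (S : ShortComplex (CochainComplex X.Modules ℤ))
    (h : ∀ (M : X.Modules) (q : ℤ),
      ((S.map (HomologicalComplex.eval X.Modules (ComplexShape.up ℤ) q)).map ((DCoh.tensorBi (X := X)).obj M)).ShortExact) :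
    (S.map ((DCoh.tensorCx (X := X)).obj L)).ShortExact := by
  refine HomologicalComplex.shortExact_of_degreewise_shortExact _ fun m => ?_
  have : (summandsFun L m).PreservesZeroMorphisms := ⟨fun K K' => NatTrans.ext (funext fun p =>
    (((DCoh.tensorBi (X := X)).obj (L.X p.as)).map_zero _ _))⟩
  have hS : (S.map (summandsFun L m)).ShortExact :=
    { exact := by
        rw [ShortComplex.exact_iff_isZero_homology]
        refine Functor.isZero _ fun p => ?_
        exact IsZero.of_iso ((ShortComplex.exact_iff_isZero_homology _).1 (h (L.X p.as) (m - p.as)).exact)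
          ((S.map (summandsFun L m)).mapHomologyIso ((evaluation _ _).obj p)).symm
      mono_f := (NatTrans.mono_iff_mono_app _).2 fun p => (h (L.X p.as) (m - p.as)).mono_f
      epi_g := (NatTrans.epi_iff_epi_app _).2 fun p => (h (L.X p.as) (m - p.as)).epi_g }
  exact ShortComplex.shortExact_of_iso
    (ShortComplex.isoMk ((degIso L m).app _) ((degIso L m).app _) ((degIso L m).app _)
      ((degIso L m).hom.naturality S.f).symm ((degIso L m).hom.naturality S.g).symm)
    (hS.map_of_exact (colim (J := Discrete ℤ) (C := X.Modules)))

variable (M : X.Modules)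

/-- Tensor product is right exact. -/
theorem tensor_right_exact {S : ShortComplex X.Modules} (hS : S.ShortExact) :
    (S.map ((DCoh.tensorBi (X := X)).obj M)).Exact ∧ Epi (((DCoh.tensorBi (X := X)).obj M).map S.g) :=
  have := PreservesColimits.preservesFiniteColimits ((DCoh.tensorBi (X := X)).obj M)
  (((DCoh.tensorBi (X := X)).obj M).preservesFiniteColimits_tfae.out 3 0
    (a := PreservesFiniteColimits ((DCoh.tensorBi (X := X)).obj M))
    (b := ∀ S : ShortComplex X.Modules, S.ShortExact →
      (S.map ((DCoh.tensorBi (X := X)).obj M)).Exact ∧ Epi (((DCoh.tensorBi (X := X)).obj M).map S.g))).1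
    inferInstance S hS

/-- A short exact sequence with flat cokernel stays short exact after tensoring. -/
theorem tensor_left_shortExact {S : ShortComplex X.Modules} (hS : S.ShortExact) (h₃ : FlatMod.IsFlat S.X₃) :
    (S.map ((DCoh.tensorBi (X := X)).obj M)).ShortExact := by
  refine { exact := (tensor_right_exact M hS).1, mono_f := (mono_iff _).2 fun x => ?_, epi_g := (tensor_right_exact M hS).2 }
  have := (flat_iff _).1 h₃ x
  have h' := (shortExact_iff S).1 hS x
  have hinj : Function.Injective (LinearMap.lTensor ((stalk x).obj M) ((stalk x).map S.f).hom) :=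
    LinearMap.lTensor_injective_of_exact_of_flat ((stalk x).map S.g).hom
      (ShortComplex.ShortExact.moduleCat_surjective_g h') ((stalk x).map S.f).hom
      (ShortComplex.ShortExact.moduleCat_injective_f h')
      ((ShortComplex.ShortExact.moduleCat_exact_iff_function_exact _).1 h'.exact) _
  exact ((MorphismProperty.monomorphisms _).arrow_mk_iso_iff
    (Arrow.isoMk ((tensorLeftStalkIso x M).app _) ((tensorLeftStalkIso x M).app _)
      ((tensorLeftStalkIso x M).hom.naturality S.f).symm)).2 ((ModuleCat.mono_iff_injective _).2 hinj)

/-- A coproduct or filtered colimit of flat modules is flat. -/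
theorem flat_colimit {J : Type*} [SmallCategory J] [HasColimitsOfShape J X.Modules]
    [HasExactColimitsOfShape J X.Modules] [∀ N : X.Modules, PreservesColimitsOfShape J ((DCoh.tensorBi (X := X)).obj N)]
    {K : J ⥤ X.Modules} {c : Cocone K} (hc : IsColimit c) (h : ∀ j, FlatMod.IsFlat (K.obj j)) :
    FlatMod.IsFlat c.pt := by
  refine flat_of_tensor_mono fun {M N} f hf => ?_
  let α : K ⋙ (DCoh.tensorBi (X := X)).obj M ⟶ K ⋙ (DCoh.tensorBi (X := X)).obj N :=
    Functor.whiskerLeft K ((DCoh.tensorBi (X := X)).map f)
  have : ∀ j, Mono (α.app j) := fun j =>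
    (tensor_map_shortExact (h j) (S := ShortComplex.mk f (cokernel.π f) (cokernel.condition f))
      { exact := ShortComplex.exact_of_g_is_cokernel _ (cokernelIsCokernel f) }).mono_f
  have : Mono α := NatTrans.mono_of_mono_app α
  exact colim.map_mono' α (isColimitOfPreserves ((DCoh.tensorBi (X := X)).obj M) hc)
    (isColimitOfPreserves ((DCoh.tensorBi (X := X)).obj N) hc) (((DCoh.tensorBi (X := X)).map f).app c.pt)
    (fun j => ((DCoh.tensorBi (X := X)).map f).naturality (c.ι.app j))

end GrothLib.OX
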