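import Mathlib.Algebra.Homology.Bifunctor
import Mathlib.Algebra.Homology.Additive
import Mathlib.CategoryTheory.Preadditive.AdditiveFunctor
import Mathlib.CategoryTheory.Limits.Preserves.Shapes.Products

/-! # An additive functor preserving coproducts commutes with total complexes -/

set_option autoImplicit false
universe v v' u u'

open CategoryTheory CategoryTheory.Limits HomologicalComplex

namespace GrothLib.TotalMap

variable {C : Type u} [Category.{v} C] [Preadditive C] {D : Type u'} [Category.{v'} D] [Preadditive D]
  (G : C ⥤ D) [G.Additive] (B : HomologicalComplex₂ C (ComplexShape.up ℤ) (ComplexShape.up ℤ))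

/-- The bicomplex obtained by applying `G` to every term. -/
noncomputable abbrev mapBicx : HomologicalComplex₂ D (ComplexShape.up ℤ) (ComplexShape.up ℤ) :=
  ((G.mapHomologicalComplex (ComplexShape.up ℤ)).mapHomologicalComplex (ComplexShape.up ℤ)).obj B

variable [∀ J : Type, HasColimitsOfShape (Discrete J) C] [∀ J : Type, HasColimitsOfShape (Discrete J) D]

instance hasTotal {E : Type*} [Category E] [Preadditive E] [∀ J : Type, HasColimitsOfShape (Discrete J) E]
    (K : HomologicalComplex₂ E (ComplexShape.up ℤ) (ComplexShape.up ℤ)) : K.HasTotal (ComplexShape.up ℤ) :=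
  fun _ => inferInstance

/-- The comparison of the total complexes. -/
noncomputable def totalMap : (mapBicx G B).total (ComplexShape.up ℤ) ⟶
    (G.mapHomologicalComplex (ComplexShape.up ℤ)).obj (B.total (ComplexShape.up ℤ)) where
  f n := (mapBicx G B).totalDesc fun p q h => G.map (B.ιTotal (ComplexShape.up ℤ) p q n h)
  comm' n m hnm := by
    refine HomologicalComplex₂.total.hom_ext _ fun p q h => ?_
    have hpq : p + q = n := h
    have hm : n + 1 = m := hnm
    rw [HomologicalComplex₂.ι_totalDesc_assoc, ← Category.assoc, HomologicalComplex₂.total_d, Preadditive.comp_add,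
      HomologicalComplex₂.ι_D₁, HomologicalComplex₂.ι_D₂]
    rw [(mapBicx G B).d₁_eq (ComplexShape.up ℤ) (show (ComplexShape.up ℤ).Rel p (p + 1) from rfl) q m
        (show p + 1 + q = m by omega),
      (mapBicx G B).d₂_eq (ComplexShape.up ℤ) p (show (ComplexShape.up ℤ).Rel q (q + 1) from rfl) m
        (show p + (q + 1) = m by omega)]
    rw [Preadditive.add_comp, Linear.units_smul_comp, Linear.units_smul_comp, Category.assoc, Category.assoc,
      HomologicalComplex₂.ι_totalDesc, HomologicalComplex₂.ι_totalDesc]
    change G.map (B.ιTotal (ComplexShape.up ℤ) p q n h) ≫ G.map ((B.total (ComplexShape.up ℤ)).d n m) = _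
    rw [← G.map_comp, HomologicalComplex₂.total_d, Preadditive.comp_add, HomologicalComplex₂.ι_D₁,
      HomologicalComplex₂.ι_D₂,
      B.d₁_eq (ComplexShape.up ℤ) (show (ComplexShape.up ℤ).Rel p (p + 1) from rfl) q m (show p + 1 + q = m by omega),
      B.d₂_eq (ComplexShape.up ℤ) p (show (ComplexShape.up ℤ).Rel q (q + 1) from rfl) m
        (show p + (q + 1) = m by omega), G.map_add, Units.smul_def, Units.smul_def, G.map_zsmul, G.map_zsmul,
      G.map_comp, G.map_comp]
    rfl

variable [∀ J : Type, PreservesColimitsOfShape (Discrete J) G]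

instance isIso_totalMap : IsIso (totalMap G B) := by
  have : ∀ n, IsIso ((totalMap G B).f n) := fun n => by
    let F := GradedObject.mapObjFun B.toGradedObject
      (ComplexShape.π (ComplexShape.up ℤ) (ComplexShape.up ℤ) (ComplexShape.up ℤ)) n
    have h : (totalMap G B).f n = sigmaComparison G F :=
      Sigma.hom_ext _ _ fun ⟨⟨p, q⟩, hpq⟩ => by
        erw [ι_comp_sigmaComparison]
    rw [h]
    have : HasCoproduct F := inferInstance
    have : HasCoproduct fun b => G.obj (F b) := inferInstance
    have : PreservesColimit (Discrete.functor F) G := inferInstance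
    exact inferInstanceAs (IsIso (sigmaComparison G F))
  exact HomologicalComplex.Hom.isIso_of_components _

/-- `G` commutes with total complexes. -/
noncomputable def totalMapIso : (mapBicx G B).total (ComplexShape.up ℤ) ≅
    (G.mapHomologicalComplex (ComplexShape.up ℤ)).obj (B.total (ComplexShape.up ℤ)) :=
  asIso (totalMap G B)

end GrothLib.TotalMap
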