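import Groth.Agent.Lib.OX.PullbackStalk
import Groth.Agent.Lib.OX.TotalMap
import Groth.Agent.Lib.OX.TensorCx
import Mathlib.Algebra.Category.ModuleCat.Monoidal.Adjunction

/-! # Pullback commutes with tensor products -/

set_option autoImplicit false
set_option maxHeartbeats 400000
universe u

open CategoryTheory CategoryTheory.Limits MonoidalCategory AlgebraicGeometry Opposite
open scoped TensorProduct

namespace GrothLib.OX

variable {X Y : Scheme.{u}} (f : X ⟶ Y)

/-- The sheafification map of a presheaf of modules. -/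
noncomputable def sheafUnit {Z : Scheme.{u}} (P : CohB1.PMod Z) : P ⟶ DCoh.toP.obj (DCoh.shP.obj P) :=
  (PresheafOfModules.sheafificationAdjunction (R := Z.ringCatSheaf) (𝟙 Z.ringCatSheaf.obj)).unit.app P

theorem sheafUnit_natural {Z : Scheme.{u}} {P Q : CohB1.PMod Z} (a : P ⟶ Q) :
    sheafUnit P ≫ DCoh.toP.map (DCoh.shP.map a) = a ≫ sheafUnit Q :=
  ((PresheafOfModules.sheafificationAdjunction (R := Z.ringCatSheaf) (𝟙 Z.ringCatSheaf.obj)).unit.naturality a).symm

/-- Descending a map of presheaves to the sheafification. -/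
noncomputable def shDesc {Z : Scheme.{u}} {P : CohB1.PMod Z} {T : Z.Modules} (c : P ⟶ DCoh.toP.obj T) :
    DCoh.shP.obj P ⟶ T :=
  ((PresheafOfModules.sheafificationAdjunction (R := Z.ringCatSheaf) (𝟙 Z.ringCatSheaf.obj)).homEquiv P T).symm c

theorem sheafUnit_shDesc {Z : Scheme.{u}} {P : CohB1.PMod Z} {T : Z.Modules} (c : P ⟶ DCoh.toP.obj T) :
    sheafUnit P ≫ DCoh.toP.map (shDesc c) = c :=
  (((PresheafOfModules.sheafificationAdjunction (R := Z.ringCatSheaf) (𝟙 Z.ringCatSheaf.obj)).homEquiv_unit P T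
    (shDesc c)).symm).trans (Equiv.apply_symm_apply _ _)

theorem shDesc_natural {Z : Scheme.{u}} {P Q : CohB1.PMod Z} {T T' : Z.Modules} (a : P ⟶ Q)
    (c : Q ⟶ DCoh.toP.obj T) (d : P ⟶ DCoh.toP.obj T') (g : T' ⟶ T) (h : a ≫ c = d ≫ DCoh.toP.map g) :
    DCoh.shP.map a ≫ shDesc c = shDesc d ≫ g :=
  ((PresheafOfModules.sheafificationAdjunction (R := Z.ringCatSheaf) (𝟙 Z.ringCatSheaf.obj)).homEquiv_naturality_left_symm
    a c).symm.trans ((congrArg _ h).trans
      ((PresheafOfModules.sheafificationAdjunction (R := Z.ringCatSheaf) (𝟙 Z.ringCatSheaf.obj)).homEquiv_naturality_right_symm d g))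

/-- The sheafification of a product of sections. -/
noncomputable def tmulSec {Z : Scheme.{u}} (A B : Z.Modules) (U : Z.Opens) (a : (DCoh.toP.obj A).obj (op U))
    (b : (DCoh.toP.obj B).obj (op U)) :
    (DCoh.toP.obj (((DCoh.tensorBi (X := Z)).obj A).obj B)).obj (op U) :=
  (sheafUnit (DCoh.toP.obj A ⊗ DCoh.toP.obj B)).app (op U) (tsec _ _ U a b)

variable {Z : Scheme.{u}} (A B : Z.Modules) (U : Z.Opens)

theorem tmulSec_add_left (a₁ a₂ : (DCoh.toP.obj A).obj (op U)) (b : (DCoh.toP.obj B).obj (op U)) :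
    tmulSec A B U (a₁ + a₂) b = tmulSec A B U a₁ b + tmulSec A B U a₂ b :=
  (congrArg _ (TensorProduct.add_tmul a₁ a₂ b)).trans (map_add _ _ _)

theorem tmulSec_add_right (a : (DCoh.toP.obj A).obj (op U)) (b₁ b₂ : (DCoh.toP.obj B).obj (op U)) :
    tmulSec A B U a (b₁ + b₂) = tmulSec A B U a b₁ + tmulSec A B U a b₂ :=
  (congrArg _ (TensorProduct.tmul_add a b₁ b₂)).trans (map_add _ _ _)

theorem tmulSec_smul_left (r : Z.presheaf.obj (op U)) (a : (DCoh.toP.obj A).obj (op U))
    (b : (DCoh.toP.obj B).obj (op U)) : tmulSec A B U (r • a) b = r • tmulSec A B U a b :=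
  (congrArg _ (TensorProduct.smul_tmul' r a b).symm).trans (map_smul _ _ _)

theorem tmulSec_smul_right (r : Z.presheaf.obj (op U)) (a : (DCoh.toP.obj A).obj (op U))
    (b : (DCoh.toP.obj B).obj (op U)) : tmulSec A B U a (r • b) = r • tmulSec A B U a b :=
  (congrArg _ (TensorProduct.tmul_smul r a b)).trans (map_smul _ _ _)

/-- Products of sections of direct images. -/
noncomputable def muPre (A B : X.Modules) :
    DCoh.toP.obj ((Scheme.Modules.pushforward f).obj A) ⊗ DCoh.toP.obj ((Scheme.Modules.pushforward f).obj B) ⟶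
      DCoh.toP.obj ((Scheme.Modules.pushforward f).obj (((DCoh.tensorBi (X := X)).obj A).obj B)) where
  app U := ModuleCat.MonoidalCategory.tensorLift
    (fun a b => tmulSec A B (f ⁻¹ᵁ U.unop) a b)
    (fun a₁ a₂ b => tmulSec_add_left A B _ a₁ a₂ b)
    (fun r a b => tmulSec_smul_left A B _ ((f.app U.unop).hom r) a b)
    (fun a b₁ b₂ => tmulSec_add_right A B _ a b₁ b₂)
    (fun r a b => tmulSec_smul_right A B _ ((f.app U.unop).hom r) a b)
  naturality {U V} i := ModuleCat.MonoidalCategory.tensor_ext fun a b =>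
    PresheafOfModules.naturality_apply (sheafUnit (DCoh.toP.obj A ⊗ DCoh.toP.obj B))
      ((TopologicalSpace.Opens.map f.base).map i.unop).op (tsec _ _ (f ⁻¹ᵁ U.unop) a b)

/-- Products of pulled back sections. -/
noncomputable def comparePre (M N : Y.Modules) :
    DCoh.toP.obj M ⊗ DCoh.toP.obj N ⟶
      DCoh.toP.obj ((Scheme.Modules.pushforward f).obj (((DCoh.tensorBi (X := X)).obj
        ((Scheme.Modules.pullback f).obj M)).obj ((Scheme.Modules.pullback f).obj N))) :=
  (DCoh.toP.map ((Scheme.Modules.pullbackPushforwardAdjunction f).unit.app M) ⊗ₘ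
    DCoh.toP.map ((Scheme.Modules.pullbackPushforwardAdjunction f).unit.app N)) ≫ muPre f _ _

/-- The comparison from the pullback of a tensor product. -/
noncomputable def pullTensorHom (M N : Y.Modules) :
    (Scheme.Modules.pullback f).obj (((DCoh.tensorBi (X := Y)).obj M).obj N) ⟶
      ((DCoh.tensorBi (X := X)).obj ((Scheme.Modules.pullback f).obj M)).obj ((Scheme.Modules.pullback f).obj N) :=
  ((Scheme.Modules.pullbackPushforwardAdjunction f).homEquiv _ _).symm (shDesc (comparePre f M N))

/-- The image of a section in the pullback. -/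
noncomputable def pullSec (M : Y.Modules) (U : Y.Opens) (m : (DCoh.toP.obj M).obj (op U)) :
    (DCoh.toP.obj ((Scheme.Modules.pullback f).obj M)).obj (op (f ⁻¹ᵁ U)) :=
  (DCoh.toP.map ((Scheme.Modules.pullbackPushforwardAdjunction f).unit.app M)).app (op U) m

theorem pullSec_natural {M M' : Y.Modules} (a : M ⟶ M') (U : Y.Opens) (m : (DCoh.toP.obj M).obj (op U)) :
    pullSec f M' U ((DCoh.toP.map a).app (op U) m) =
      (DCoh.toP.map ((Scheme.Modules.pullback f).map a)).app (op (f ⁻¹ᵁ U)) (pullSec f M U m) :=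
  congrArg (fun t => (DCoh.toP.map t).app (op U) m)
    ((Scheme.Modules.pullbackPushforwardAdjunction f).unit.naturality a)

theorem tmulSec_natural {A A' B B' : X.Modules} (a : A ⟶ A') (b : B ⟶ B') (U : X.Opens)
    (s : (DCoh.toP.obj A).obj (op U)) (t : (DCoh.toP.obj B).obj (op U)) :
    (DCoh.toP.map (DCoh.shP.map (DCoh.toP.map a ⊗ₘ DCoh.toP.map b))).app (op U) (tmulSec A B U s t) =
      tmulSec A' B' U ((DCoh.toP.map a).app (op U) s) ((DCoh.toP.map b).app (op U) t) :=
  congrArg (fun k => k.app (op U) (tsec _ _ U s t))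
    (sheafUnit_natural (DCoh.toP.map a ⊗ₘ DCoh.toP.map b))

theorem comparePre_natural {M M' N N' : Y.Modules} (a : M ⟶ M') (b : N ⟶ N') :
    (DCoh.toP.map a ⊗ₘ DCoh.toP.map b) ≫ comparePre f M' N' =
      comparePre f M N ≫ DCoh.toP.map ((Scheme.Modules.pushforward f).map (DCoh.shP.map
        (DCoh.toP.map ((Scheme.Modules.pullback f).map a) ⊗ₘ DCoh.toP.map ((Scheme.Modules.pullback f).map b)))) :=
  PresheafOfModules.hom_ext fun U => ModuleCat.MonoidalCategory.tensor_ext fun m n =>
    (congrArg₂ (tmulSec _ _ (f ⁻¹ᵁ U.unop)) (pullSec_natural f a U.unop m) (pullSec_natural f b U.unop n)).trans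
      (tmulSec_natural _ _ (f ⁻¹ᵁ U.unop) (pullSec f M U.unop m) (pullSec f N U.unop n)).symm

theorem pullTensorHom_natural {M M' N N' : Y.Modules} (a : M ⟶ M') (b : N ⟶ N') :
    (Scheme.Modules.pullback f).map (DCoh.shP.map (DCoh.toP.map a ⊗ₘ DCoh.toP.map b)) ≫ pullTensorHom f M' N' =
      pullTensorHom f M N ≫ DCoh.shP.map
        (DCoh.toP.map ((Scheme.Modules.pullback f).map a) ⊗ₘ DCoh.toP.map ((Scheme.Modules.pullback f).map b)) :=
  ((Scheme.Modules.pullbackPushforwardAdjunction f).homEquiv_naturality_left_symm _ _).symm.trans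
    ((congrArg _ (shDesc_natural _ _ _ _ (comparePre_natural f a b))).trans
      ((Scheme.Modules.pullbackPushforwardAdjunction f).homEquiv_naturality_right_symm _ _))

theorem pullTensorHom_pullSec (M N : Y.Modules) (U : Y.Opens) (m : (DCoh.toP.obj M).obj (op U))
    (n : (DCoh.toP.obj N).obj (op U)) :
    (DCoh.toP.map (pullTensorHom f M N)).app (op (f ⁻¹ᵁ U)) (pullSec f _ U (tmulSec M N U m n)) =
      tmulSec _ _ (f ⁻¹ᵁ U) (pullSec f M U m) (pullSec f N U n) := by
  have h1 : (Scheme.Modules.pullbackPushforwardAdjunction f).unit.app _ ≫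
      (Scheme.Modules.pushforward f).map (pullTensorHom f M N) = shDesc (comparePre f M N) :=
    (((Scheme.Modules.pullbackPushforwardAdjunction f).homEquiv_unit _ _ (pullTensorHom f M N)).symm).trans
      (Equiv.apply_symm_apply _ _)
  exact (congrArg (fun k => (DCoh.toP.map k).app (op U) (tmulSec M N U m n)) h1).trans
    (congrArg (fun k => k.app (op U) (tsec _ _ U m n)) (sheafUnit_shDesc (comparePre f M N)))

variable (x : X)

/-- The pullback of a germ. -/
theorem pullStalkIso_germ (M : Y.Modules) (U : Y.Opens) (hx : f x ∈ U) (m : (DCoh.toP.obj M).obj (op U)) :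
    ((pullStalkIso f x).hom.app M).hom (germ (DCoh.toP.obj ((Scheme.Modules.pullback f).obj M)) (f ⁻¹ᵁ U) hx
      (pullSec f M U m)) =
      (ModuleCat.extendRestrictScalarsAdj (f.stalkMap x).hom).unit.app ((stalk (f x)).obj M)
        (germ (DCoh.toP.obj M) U hx m) := by
  have h := Adjunction.unit_leftAdjointUniq_hom_app
    (((Scheme.Modules.pullbackPushforwardAdjunction f).comp (stalkSkyAdj x)).ofNatIsoRight (skyPushIso f x))
    ((stalkSkyAdj (f x)).comp (ModuleCat.extendRestrictScalarsAdj (f.stalkMap x).hom)) M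
  exact congrArg (fun (k : M ⟶ (sky (f x)).obj ((ModuleCat.restrictScalars (f.stalkMap x).hom).obj
    ((ModuleCat.extendScalars (f.stalkMap x).hom).obj ((stalk (f x)).obj M)))) => (show SkySec (f x) ((ModuleCat.restrictScalars (f.stalkMap x).hom).obj
    ((ModuleCat.extendScalars (f.stalkMap x).hom).obj ((stalk (f x)).obj M))) (op U) from
      (DCoh.toP.map k).app (op U) m) (PLift.up hx)) h

/-- Sheafification on germs. -/
theorem shPStalkIso_germ {Z : Scheme.{u}} (z : Z) (P : CohB1.PMod Z) (U : Z.Opens) (hz : z ∈ U) (t : P.obj (op U)) :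
    ((shPStalkIso z).hom.app P).hom (germ (DCoh.toP.obj (DCoh.shP.obj P)) U hz
      ((sheafUnit P).app (op U) t)) = germ P U hz t := by
  have h := Adjunction.unit_leftAdjointUniq_hom_app
    ((PresheafOfModules.sheafificationAdjunction (R := Z.ringCatSheaf) (𝟙 Z.ringCatSheaf.obj)).comp (stalkSkyAdj z))
    (stalkSkyPreAdj z) P
  exact congrArg (fun k => (show SkySec z ((stalkPre z).obj P) (op U) from k.app (op U) t) (PLift.up hz)) h

theorem stalkTensorBiIso_germ {Z : Scheme.{u}} (z : Z) (A B : Z.Modules) (U : Z.Opens) (hz : z ∈ U)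
    (a : (DCoh.toP.obj A).obj (op U)) (b : (DCoh.toP.obj B).obj (op U)) :
    (stalkTensorBiIso z A B).hom.hom (germ (DCoh.toP.obj (((DCoh.tensorBi (X := Z)).obj A).obj B)) U hz
      (tmulSec A B U a b)) =
      (germ (DCoh.toP.obj A) U hz a ⊗ₜ[Z.presheaf.stalk z] germ (DCoh.toP.obj B) U hz b : _) :=
  (congrArg (stalkTensorInv z _ _).hom (shPStalkIso_germ z _ U hz (tsec _ _ U a b))).trans
    (stalkTensorInv_germ _ _ U hz a b)

/-- The comparison on stalks is the comparison of base changes. -/
theorem stalk_map_pullTensorHom (M N : Y.Modules) :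
    (stalk x).map (pullTensorHom f M N) ≫ (stalkTensorBiIso x _ _).hom ≫
        ((pullStalkIso f x).hom.app M ⊗ₘ (pullStalkIso f x).hom.app N) =
      (pullStalkIso f x).hom.app _ ≫ (ModuleCat.extendScalars (f.stalkMap x).hom).map (stalkTensorBiIso (f x) M N).hom ≫
        Functor.OplaxMonoidal.δ (ModuleCat.extendScalars (f.stalkMap x).hom) _ _ := by
  rw [← cancel_epi ((pullStalkIso f x).inv.app _), ← cancel_epi
    ((ModuleCat.extendScalars (f.stalkMap x).hom).map (stalkTensorBiIso (f x) M N).inv)]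
  conv_rhs => rw [Iso.inv_hom_id_app_assoc]
  erw [← Functor.map_comp_assoc, Iso.inv_hom_id, CategoryTheory.Functor.map_id, Category.id_comp]
  refine ((ModuleCat.extendRestrictScalarsAdj (f.stalkMap x).hom).homEquiv _ _).injective
    (ModuleCat.MonoidalCategory.tensor_ext fun e e' => ?_)
  obtain ⟨U, hx, m, n, rfl, rfl⟩ := germ_exists₂ (DCoh.toP.obj M) (DCoh.toP.obj N) e e'
  have h0 : (stalkTensorBiIso (f x) M N).inv.hom
      (germ (DCoh.toP.obj M) U hx m ⊗ₜ[Y.presheaf.stalk (f x)] germ (DCoh.toP.obj N) U hx n : _) =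
      germ (DCoh.toP.obj (((DCoh.tensorBi (X := Y)).obj M).obj N)) U hx (tmulSec M N U m n) :=
    (congrArg (stalkTensorBiIso (f x) M N).inv.hom (stalkTensorBiIso_germ (f x) M N U hx m n).symm).trans
      (ConcreteCategory.congr_hom (stalkTensorBiIso (f x) M N).hom_inv_id _)
  have h1 := pullStalkIso_germ f x (((DCoh.tensorBi (X := Y)).obj M).obj N) U hx (tmulSec M N U m n)
  have h2 : ((pullStalkIso f x).inv.app (((DCoh.tensorBi (X := Y)).obj M).obj N)).hom
      ((ModuleCat.extendRestrictScalarsAdj (f.stalkMap x).hom).unit.app ((stalk (f x)).obj _)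
        (germ (DCoh.toP.obj (((DCoh.tensorBi (X := Y)).obj M).obj N)) U hx (tmulSec M N U m n))) =
      germ (DCoh.toP.obj ((Scheme.Modules.pullback f).obj _)) (f ⁻¹ᵁ U) hx (pullSec f _ U (tmulSec M N U m n)) :=
    (congrArg ((pullStalkIso f x).inv.app _).hom h1.symm).trans
      (ConcreteCategory.congr_hom ((pullStalkIso f x).hom_inv_id_app _) _)
  let T := ModuleCat.extendScalars (f.stalkMap x).hom
  let one : ∀ {W : ModuleCat.{u} (Y.presheaf.stalk (f x))}, W → T.obj W := fun {W} w =>
    (ModuleCat.extendRestrictScalarsAdj (f.stalkMap x).hom).unit.app W w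
  change ((stalk x).map (pullTensorHom f M N) ≫ (stalkTensorBiIso x _ _).hom ≫ (_ ⊗ₘ _)).hom
      (((pullStalkIso f x).inv.app _).hom ((T.map (stalkTensorBiIso (f x) M N).inv).hom (one _))) =
    (Functor.OplaxMonoidal.δ T _ _).hom (one _)
  change (((pullStalkIso f x).hom.app M ⊗ₘ (pullStalkIso f x).hom.app N)).hom ((stalkTensorBiIso x _ _).hom.hom
      (((stalk x).map (pullTensorHom f M N)).hom (((pullStalkIso f x).inv.app _).hom
        (one ((stalkTensorBiIso (f x) M N).inv.hom _))))) = _
  refine (congrArg (fun t => (((pullStalkIso f x).hom.app M ⊗ₘ (pullStalkIso f x).hom.app N)).hom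
    ((stalkTensorBiIso x _ _).hom.hom (((stalk x).map (pullTensorHom f M N)).hom
      (((pullStalkIso f x).inv.app _).hom (one t))))) h0).trans ?_
  refine (congrArg (fun t => (((pullStalkIso f x).hom.app M ⊗ₘ (pullStalkIso f x).hom.app N)).hom
    ((stalkTensorBiIso x _ _).hom.hom (((stalk x).map (pullTensorHom f M N)).hom t))) h2).trans ?_
  refine (congrArg (fun t => (((pullStalkIso f x).hom.app M ⊗ₘ (pullStalkIso f x).hom.app N)).hom
    ((stalkTensorBiIso x _ _).hom.hom t)) ((stalkPre_map_germ _ (f ⁻¹ᵁ U) hx _).trans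
      (congrArg (germ _ (f ⁻¹ᵁ U) hx) (pullTensorHom_pullSec f M N U m n)))).trans ?_
  refine (congrArg (fun t => (((pullStalkIso f x).hom.app M ⊗ₘ (pullStalkIso f x).hom.app N)).hom t)
    (stalkTensorBiIso_germ x _ _ (f ⁻¹ᵁ U) hx (pullSec f M U m) (pullSec f N U n))).trans ?_
  exact (congrArg₂ (fun a b => (a ⊗ₜ[X.presheaf.stalk x] b : _)) (pullStalkIso_germ f x M U hx m)
    (pullStalkIso_germ f x N U hx n)).trans rfl

theorem isIso_pullTensorHom (M N : Y.Modules) : IsIso (pullTensorHom f M N) := by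
  refine (isIso_iff _).2 fun x => ?_
  have h := stalk_map_pullTensorHom f x M N
  have h1 : IsIso ((pullStalkIso f x).hom.app M ⊗ₘ (pullStalkIso f x).hom.app N) := inferInstance
  have h2 : IsIso ((stalk x).map (pullTensorHom f M N) ≫ (stalkTensorBiIso x _ _).hom ≫
      ((pullStalkIso f x).hom.app M ⊗ₘ (pullStalkIso f x).hom.app N)) := by rw [h]; infer_instance
  exact @IsIso.of_isIso_comp_right _ _ _ _ _ ((stalk x).map (pullTensorHom f M N)) _ inferInstance h2

/-- Pullback commutes with the tensor product. -/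
noncomputable def pullTensorIso (M N : Y.Modules) :
    (Scheme.Modules.pullback f).obj (((DCoh.tensorBi (X := Y)).obj M).obj N) ≅
      ((DCoh.tensorBi (X := X)).obj ((Scheme.Modules.pullback f).obj M)).obj ((Scheme.Modules.pullback f).obj N) :=
  @asIso _ _ _ _ (pullTensorHom f M N) (isIso_pullTensorHom f M N)

theorem pullTensorIso_natural₂ (M : Y.Modules) {N N' : Y.Modules} (b : N ⟶ N') :
    (Scheme.Modules.pullback f).map (((DCoh.tensorBi (X := Y)).obj M).map b) ≫ (pullTensorIso f M N').hom =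
      (pullTensorIso f M N).hom ≫ ((DCoh.tensorBi (X := X)).obj ((Scheme.Modules.pullback f).obj M)).map
        ((Scheme.Modules.pullback f).map b) := by
  have h := pullTensorHom_natural f (𝟙 M) b
  rw [CategoryTheory.Functor.map_id, CategoryTheory.Functor.map_id, id_tensorHom, CategoryTheory.Functor.map_id,
    id_tensorHom] at h
  exact h

theorem pullTensorIso_natural₁ {M M' : Y.Modules} (a : M ⟶ M') (N : Y.Modules) :
    (Scheme.Modules.pullback f).map (((DCoh.tensorBi (X := Y)).map a).app N) ≫ (pullTensorIso f M' N).hom =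
      (pullTensorIso f M N).hom ≫ ((DCoh.tensorBi (X := X)).map ((Scheme.Modules.pullback f).map a)).app
        ((Scheme.Modules.pullback f).obj N) := by
  have h := pullTensorHom_natural f a (𝟙 N)
  rw [CategoryTheory.Functor.map_id, CategoryTheory.Functor.map_id, tensorHom_id, CategoryTheory.Functor.map_id,
    tensorHom_id] at h
  exact h

/-- The bicomplexes. -/
noncomputable def bicxPullTensorIso (K L : CochainComplex Y.Modules ℤ) :
    TotalMap.mapBicx (Scheme.Modules.pullback f)
      ((((DCoh.tensorBi (X := Y)).mapBifunctorHomologicalComplex (ComplexShape.up ℤ) (ComplexShape.up ℤ)).obj K).obj L) ≅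
    (((DCoh.tensorBi (X := X)).mapBifunctorHomologicalComplex (ComplexShape.up ℤ) (ComplexShape.up ℤ)).obj
      (((Scheme.Modules.pullback f).mapHomologicalComplex (ComplexShape.up ℤ)).obj K)).obj
        (((Scheme.Modules.pullback f).mapHomologicalComplex (ComplexShape.up ℤ)).obj L) :=
  HomologicalComplex.Hom.isoOfComponents
    (fun i => HomologicalComplex.Hom.isoOfComponents (fun j => pullTensorIso f (K.X i) (L.X j))
      (fun j j' _ => (pullTensorIso_natural₂ f (K.X i) (L.d j j')).symm))
    (fun i i' _ => HomologicalComplex.hom_ext _ _ fun j => (pullTensorIso_natural₁ f (K.d i i') (L.X j)).symm)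

instance preservesCoproducts_pullback (J : Type) :
    PreservesColimitsOfShape (Discrete J) (Scheme.Modules.pullback f) :=
  (Scheme.Modules.pullbackPushforwardAdjunction f).leftAdjoint_preservesColimits.preservesColimitsOfShape

/-- Pullback commutes with the tensor product of complexes. -/
noncomputable def pullTensorCxIso (K L : CochainComplex Y.Modules ℤ) :
    ((Scheme.Modules.pullback f).mapHomologicalComplex (ComplexShape.up ℤ)).obj
      (((DCoh.tensorCx (X := Y)).obj K).obj L) ≅
    ((DCoh.tensorCx (X := X)).obj (((Scheme.Modules.pullback f).mapHomologicalComplex (ComplexShape.up ℤ)).obj K)).obj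
      (((Scheme.Modules.pullback f).mapHomologicalComplex (ComplexShape.up ℤ)).obj L) :=
  (TotalMap.totalMapIso (Scheme.Modules.pullback f) _).symm ≪≫
    HomologicalComplex₂.total.mapIso (bicxPullTensorIso f K L) (ComplexShape.up ℤ)

end GrothLib.OX
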