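import Groth.Agent.Lib.OX.LocFreeTensor

/-! # Maps out of finite locally free modules lift locally through epimorphisms -/

set_option autoImplicit false
set_option maxHeartbeats 400000
universe u

open CategoryTheory CategoryTheory.Limits AlgebraicGeometry Opposite TopologicalSpace

namespace GrothLib.OX

variable {X : Scheme.{u}}

/-- The map out of the structure sheaf with prescribed value on `1`. -/
noncomputable def ofTop {N : X.Modules} (m : N.val.obj (op ⊤)) : Coh.structureModule X ⟶ N :=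
  (SheafOfModules.unitHomEquiv N).symm
    (PresheafOfModules.sectionsMk (fun U => N.val.map (homOfLE le_top).op m) (fun U V i => by
      rw [← PresheafOfModules.map_comp_apply]
      rfl))

theorem ofTop_app_top {N : X.Modules} (m : N.val.obj (op ⊤)) :
    (ofTop m).val.app (op ⊤) (1 : X.ringCatSheaf.obj.obj (op ⊤)) = m := by
  have h := congrArg (fun s => s.val (op (⊤ : X.Opens)))
    ((SheafOfModules.unitHomEquiv N).apply_symm_apply
      (PresheafOfModules.sectionsMk (fun U => N.val.map (homOfLE le_top).op m) (fun U V i => by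
        rw [← PresheafOfModules.map_comp_apply]
        rfl)))
  refine h.trans ?_
  exact (PresheafOfModules.congr_map_apply N.val (show (homOfLE le_top).op = 𝟙 (op (⊤ : X.Opens)) from rfl) m).trans
    (ConcreteCategory.congr_hom (N.val.map_id (op ⊤)) m)

theorem hom_ext_top {N : X.Modules} (g g' : Coh.structureModule X ⟶ N)
    (h : g.val.app (op ⊤) (1 : X.ringCatSheaf.obj.obj (op ⊤)) = g'.val.app (op ⊤) (1 : X.ringCatSheaf.obj.obj (op ⊤))) :
    g = g' := by
  refine (SheafOfModules.unitHomEquiv N).injective (Subtype.ext (funext fun U => ?_))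
  have e : ∀ k : Coh.structureModule X ⟶ N, ((SheafOfModules.unitHomEquiv N) k).val U =
      N.val.map (homOfLE (le_top : U.unop ≤ ⊤)).op (k.val.app (op ⊤) (1 : X.ringCatSheaf.obj.obj (op ⊤))) :=
    fun k => (PresheafOfModules.sections_property (M := N.val) ((SheafOfModules.unitHomEquiv N) k)
      (homOfLE (le_top : U.unop ≤ ⊤)).op).symm
  rw [e, e, h]

/-- A section lifts locally through an epimorphism. -/
theorem exists_local_lift_section {M N : X.Modules} (p : M ⟶ N) [Epi p] (s : N.val.obj (op ⊤)) (x : X) :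
    ∃ (W : X.Opens) (m : M.val.obj (op W)), x ∈ W ∧ p.val.app (op W) m = N.val.map (homOfLE le_top).op s := by
  have hp := (ModuleCat.epi_iff_surjective ((stalk x).map p)).1 inferInstance
  obtain ⟨e, he⟩ := hp (germ (DCoh.toP.obj N) ⊤ trivial s)
  obtain ⟨U, hU, m, rfl⟩ := germ_exists (DCoh.toP.obj M) e
  have h1 : germ (DCoh.toP.obj N) U hU (p.val.app (op U) m) = germ (DCoh.toP.obj N) ⊤ trivial s :=
    (stalkPre_map_germ (DCoh.toP.map p) U hU m).symm.trans he
  obtain ⟨W, hW, iU, iT, e'⟩ := TopCat.Presheaf.germ_eq (prs (DCoh.toP.obj N)) x hU (show x ∈ (⊤ : X.Opens) from trivial) _ s h1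
  refine ⟨W, M.val.map iU.op m, hW, ?_⟩
  exact (PresheafOfModules.naturality_apply p.val iU.op m).trans (e'.trans
    (PresheafOfModules.congr_map_apply N.val (congrArg Quiver.Hom.op (Subsingleton.elim _ _)) s))

theorem restrict_ofTop_comp {M N : X.Modules} (p : M ⟶ N) (g : Coh.structureModule X ⟶ N) (W U : X.Opens)
    (hW : W.ι ''ᵁ ⊤ ≤ U) (m : M.val.obj (op U))
    (hm : p.val.app (op U) m = N.val.map (homOfLE le_top).op (g.val.app (op ⊤) (1 : X.ringCatSheaf.obj.obj (op ⊤)))) :
    ((Scheme.Modules.restrictUnitIso W.ι).hom ≫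
      ofTop (N := (Scheme.Modules.restrictFunctor W.ι).obj M) (M.val.map (homOfLE hW).op m)) ≫
        (Scheme.Modules.restrictFunctor W.ι).map p = (Scheme.Modules.restrictFunctor W.ι).map g := by
  refine (Category.assoc _ _ _).trans ((Iso.eq_inv_comp _).1 (hom_ext_top _ _ ?_))
  have hl : p.val.app (op (W.ι ''ᵁ ⊤)) (M.val.map (homOfLE hW).op m) = g.val.app (op (W.ι ''ᵁ ⊤))
      ((Coh.structureModule X).val.map (homOfLE (le_top : W.ι ''ᵁ ⊤ ≤ ⊤)).op (1 : X.ringCatSheaf.obj.obj (op ⊤))) :=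
    (PresheafOfModules.naturality_apply p.val (homOfLE hW).op m).trans
      ((congrArg (fun t => N.val.map (homOfLE hW).op t) hm).trans
        (((PresheafOfModules.map_comp_apply N.val (homOfLE (le_top : U ≤ ⊤)).op (homOfLE hW).op
          (g.val.app (op ⊤) (1 : X.ringCatSheaf.obj.obj (op ⊤)))).symm.trans
        (PresheafOfModules.congr_map_apply N.val (congrArg Quiver.Hom.op (Subsingleton.elim
          (homOfLE hW ≫ homOfLE (le_top : U ≤ ⊤)) (homOfLE (le_top : W.ι ''ᵁ ⊤ ≤ ⊤)))) _)).trans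
          (PresheafOfModules.naturality_apply g.val (homOfLE (le_top : W.ι ''ᵁ ⊤ ≤ ⊤)).op
            (1 : X.ringCatSheaf.obj.obj (op ⊤))).symm))
  have h1 : (Scheme.Modules.restrictUnitIso W.ι).inv.val.app (op ⊤) (1 : W.toScheme.ringCatSheaf.obj.obj (op ⊤)) =
      (Coh.structureModule X).val.map (homOfLE (le_top : W.ι ''ᵁ ⊤ ≤ ⊤)).op (1 : X.ringCatSheaf.obj.obj (op ⊤)) :=
    (map_one (W.ι.appIso ⊤).inv.hom).trans (map_one (X.presheaf.map (homOfLE (le_top : W.ι ''ᵁ ⊤ ≤ ⊤)).op).hom).symm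
  refine (congrArg (((Scheme.Modules.restrictFunctor W.ι).map p).val.app (op ⊤))
    (ofTop_app_top (N := (Scheme.Modules.restrictFunctor W.ι).obj M) (M.val.map (homOfLE hW).op m))).trans ?_
  exact hl.trans (congrArg (g.val.app (op (W.ι ''ᵁ ⊤))) h1).symm

theorem exists_local_lift_free {M N : X.Modules} (p : M ⟶ N) [Epi p] {n : ℕ} (g : FlatMod.freeMod X n ⟶ N)
    (x : X) : ∃ (W : X.Opens) (h : (Scheme.Modules.restrictFunctor W.ι).obj (FlatMod.freeMod X n) ⟶
      (Scheme.Modules.restrictFunctor W.ι).obj M), x ∈ W ∧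
      h ≫ (Scheme.Modules.restrictFunctor W.ι).map p = (Scheme.Modules.restrictFunctor W.ι).map g := by
  let s : Fin n → N.val.obj (op ⊤) := fun i =>
    (Sigma.ι (fun _ : Fin n => Coh.structureModule X) i ≫ g).val.app (op ⊤) (1 : X.ringCatSheaf.obj.obj (op ⊤))
  choose U m hU hm using fun i => exists_local_lift_section p (s i) x
  let W : X.Opens := ⟨⋂ i, (U i : Set X), isOpen_iInter_of_finite fun i => (U i).2⟩
  let R := Scheme.Modules.restrictFunctor W.ι
  have hW : ∀ i, W.ι ''ᵁ ⊤ ≤ U i := fun i => by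
    rw [Scheme.Opens.ι_image_top]
    exact Set.iInter_subset (fun i => (U i : Set X)) i
  let P := PreservesCoproduct.iso R (fun _ : Fin n => Coh.structureModule X)
  refine ⟨W, P.hom ≫ Sigma.desc fun i => (Scheme.Modules.restrictUnitIso W.ι).hom ≫
    ofTop (N := R.obj M) (M.val.map (homOfLE (hW i)).op (m i)), Set.mem_iInter.2 hU, ?_⟩
  rw [← cancel_epi P.inv, Category.assoc, Iso.inv_hom_id_assoc]
  refine Sigma.hom_ext _ _ fun i => ?_
  rw [Sigma.ι_desc_assoc]
  refine (restrict_ofTop_comp p (Sigma.ι (fun _ : Fin n => Coh.structureModule X) i ≫ g) W (U i) (hW i) (m i)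
    (hm i)).trans ?_
  simp only [P, R, Functor.map_comp, PreservesCoproduct.inv_hom, ι_comp_sigmaComparison_assoc]

/-- Maps out of finite locally free modules lift locally through epimorphisms. -/
theorem exists_local_lift {P M N : X.Modules} (hP : FlatMod.IsFinLocFree P) (p : M ⟶ N) [Epi p] (g : P ⟶ N) (x : X) :
    ∃ (U : Scheme.{u}) (j : U ⟶ X) (_ : IsOpenImmersion j)
      (h : (Scheme.Modules.restrictFunctor j).obj P ⟶ (Scheme.Modules.restrictFunctor j).obj M),
      x ∈ Set.range j ∧ h ≫ (Scheme.Modules.restrictFunctor j).map p = (Scheme.Modules.restrictFunctor j).map g := by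
  obtain ⟨V, n, hx, ⟨e⟩⟩ := hP x
  let R := Scheme.Modules.restrictFunctor V.ι
  obtain ⟨W, h, hW, hh⟩ := exists_local_lift_free (R.map p) (e.inv ≫ R.map g) (⟨x, hx⟩ : V.toScheme)
  let R' := Scheme.Modules.restrictFunctor W.ι
  let c := Scheme.Modules.restrictFunctorComp W.ι V.ι
  refine ⟨W.toScheme, W.ι ≫ V.ι, inferInstance, c.hom.app P ≫ R'.map e.hom ≫ h ≫ c.inv.app M,
    ⟨⟨⟨x, hx⟩, hW⟩, rfl⟩, ?_⟩
  have h1 : c.inv.app M ≫ (Scheme.Modules.restrictFunctor (W.ι ≫ V.ι)).map p = R'.map (R.map p) ≫ c.inv.app N :=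
    (c.inv.naturality p).symm
  simp only [Category.assoc]
  refine (((congrArg (fun t => c.hom.app P ≫ R'.map e.hom ≫ h ≫ t) h1).trans
    (congrArg (fun t => c.hom.app P ≫ R'.map e.hom ≫ t)
      ((Category.assoc _ _ _).symm.trans (congrArg (· ≫ c.inv.app N) hh)))).trans
    (congrArg (c.hom.app P ≫ ·) ((Category.assoc _ _ _).symm.trans (congrArg (· ≫ c.inv.app N)
      ((R'.map_comp _ _).symm.trans (congrArg R'.map (Iso.hom_inv_id_assoc _ _))))))).trans ?_
  exact (congrArg (c.hom.app P ≫ ·) (c.inv.naturality g)).trans (Iso.hom_inv_id_app_assoc c P _)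

end GrothLib.OX
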