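import Groth.Agent.Lib.OX.SingleDegree

/-! # The locus where a perfect object is one vector bundle in one degree -/

set_option autoImplicit false
set_option maxHeartbeats 800000
universe u

open CategoryTheory CategoryTheory.Limits AlgebraicGeometry HomologicalComplex

attribute [local instance] HasDerivedCategory.standard

namespace GrothLib.OX

variable {X Y : Scheme.{u}}

/-- The complex with one module in degree `i`. -/
noncomputable abbrev singleCx (i : ℤ) (M : X.Modules) : CochainComplex X.Modules ℤ :=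
  (HomologicalComplex.single X.Modules (ComplexShape.up ℤ) i).obj M

noncomputable def singleShiftIso (i : ℤ) (M : X.Modules) :
    DerivedCategory.Q.obj (singleCx i M) ≅ (DCoh.inD X M)⟦-i⟧ :=
  ((DerivedCategory.singleFunctorIsoCompQ _ i).app M).symm ≪≫
    (((DerivedCategory.singleFunctors X.Modules).shiftIso (-i) i 0 (by omega)).app M).symm

theorem isFinLocFree_of_rank' {M : X.Modules} {r : ℕ} (h : FlatMod.IsFinLocFreeOfRank r M) : FlatMod.IsFinLocFree M :=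
  fun x => let ⟨U, hx, e⟩ := h x; ⟨U, r, hx, e⟩

theorem strictlyPerfect_single (i : ℤ) {M : X.Modules} (h : FlatMod.IsFinLocFree M) :
    DCoh.IsStrictlyPerfect (singleCx i M) := by
  refine ⟨⟨i, i, fun k hk => isZero_single_obj_X _ i M k (by omega)⟩, fun k => ?_⟩
  by_cases hk : k = i
  · subst hk
    exact DCoh.isFinLocFree_of_iso (singleObjXSelf (ComplexShape.up ℤ) k M).symm h
  · exact DCoh.isFinLocFree_of_isZero (isZero_single_obj_X _ i M k hk)

/-- The pullback of the single complex. -/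
noncomputable def pullSingleIso (f : Y ⟶ X) (i : ℤ) (M : X.Modules) :
    (pullCxF f).obj (singleCx i M) ≅ singleCx i ((Scheme.Modules.pullback f).obj M) :=
  (HomologicalComplex.singleMapHomologicalComplex (Scheme.Modules.pullback f) (ComplexShape.up ℤ) i).app M

theorem isFinLocFreeOfRank_pullback (f : Y ⟶ X) {M : X.Modules} {r : ℕ} (h : FlatMod.IsFinLocFreeOfRank r M) :
    FlatMod.IsFinLocFreeOfRank r ((Scheme.Modules.pullback f).obj M) := fun y => by
  obtain ⟨U, hx, ⟨e⟩⟩ := h (f y)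
  exact ⟨f ⁻¹ᵁ U, hx, ⟨(pullSquareIso f U).app M ≪≫ (Scheme.Modules.pullback (f ∣_ U)).mapIso e ≪≫
    pullFreeModIso _ r⟩⟩

theorem isFinLocFreeOfRank_of_local {M : X.Modules} {r : ℕ}
    (h : ∀ x : X, ∃ (U : Scheme.{u}) (j : U ⟶ X) (_ : IsOpenImmersion j), x ∈ Set.range j ∧
      FlatMod.IsFinLocFreeOfRank r ((Scheme.Modules.restrictFunctor j).obj M)) :
    FlatMod.IsFinLocFreeOfRank r M := fun x => by
  obtain ⟨U, j, hj, ⟨y, rfl⟩, hU⟩ := h x
  obtain ⟨V, hy, ⟨e⟩⟩ := hU y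
  let jj := V.ι ≫ j
  have hjj : jj.isoOpensRange.inv ≫ jj = jj.opensRange.ι := by
    rw [Iso.inv_comp_eq, Scheme.Hom.isoOpensRange_hom_ι]
  exact ⟨jj.opensRange, ⟨⟨y, hy⟩, rfl⟩, ⟨((Scheme.Modules.restrictFunctorCongr hjj.symm ≪≫
    Scheme.Modules.restrictFunctorComp jj.isoOpensRange.inv jj).app _) ≪≫
      (Scheme.Modules.restrictFunctor jj.isoOpensRange.inv).mapIso
        ((Scheme.Modules.restrictFunctorComp V.ι j).app _ ≪≫ e) ≪≫ DCoh.restrictFreeModIso _ r⟩⟩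

theorem isFinLocFreeOfRank_of_iso {M N : X.Modules} {r : ℕ} (e : M ≅ N) (h : FlatMod.IsFinLocFreeOfRank r M) :
    FlatMod.IsFinLocFreeOfRank r N := fun x => by
  obtain ⟨U, hx, ⟨i⟩⟩ := h x
  exact ⟨U, hx, ⟨((Scheme.Modules.restrictFunctor U.ι).mapIso e).symm ≪≫ i⟩⟩

theorem oneDeg_of_pull (f : Y ⟶ X) {i : ℤ} {r : ℕ} {P : CochainComplex X.Modules ℤ} (hP : DCoh.IsKFlat P)
    (h : OneDeg i r (DerivedCategory.Q.obj P)) : OneDeg i r (DerivedCategory.Q.obj ((pullCxF f).obj P)) := by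
  obtain ⟨M, hM, ⟨e⟩⟩ := h
  obtain ⟨q⟩ := nonempty_iso_pullCx f hP
    (isKFlat_of_strictlyPerfect (strictlyPerfect_single i (isFinLocFree_of_rank' hM))) (e ≪≫ (singleShiftIso i M).symm)
  exact ⟨_, isFinLocFreeOfRank_pullback f hM,
    ⟨q ≪≫ DerivedCategory.Q.mapIso (pullSingleIso f i M) ≪≫ singleShiftIso i _⟩⟩

theorem isZero_of_local {M : X.Modules}
    (h : ∀ x : X, ∃ (U : Scheme.{u}) (j : U ⟶ X) (_ : IsOpenImmersion j), x ∈ Set.range j ∧
      IsZero ((Scheme.Modules.restrictFunctor j).obj M)) : IsZero M := by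
  rw [IsZero.iff_id_eq_zero, eq_zero_iff]
  intro x
  obtain ⟨U, j, hj, ⟨y, rfl⟩, hU⟩ := h x
  exact stalk_map_eq_zero_of_restrict j y _ (hU.eq_of_src _ _)

theorem HD_oneDeg {i : ℤ} {M : X.Modules} {K : DCoh.D X} (e : K ≅ (DCoh.inD X M)⟦-i⟧) :
    (∀ k, k ≠ i → IsZero (DCoh.HD K k)) ∧ Nonempty (DCoh.HD K i ≅ M) := by
  let E := fun k => (DerivedCategory.homologyFunctor X.Modules k).mapIso (e ≪≫ (singleShiftIso i M).symm) ≪≫
    hdIso (singleCx i M) k
  refine ⟨fun k hk => IsZero.of_iso ?_ (E k), ⟨E i ≪≫ singleObjHomologySelfIso (ComplexShape.up ℤ) i M⟩⟩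
  exact (exactAt_iff_isZero_homology _ _).1 (ExactAt.of_isZero (isZero_single_obj_X _ i M k hk))

/-- An object which is locally one vector bundle in degree `i` is so globally. -/
theorem oneDeg_of_locally {i : ℤ} {r : ℕ} {K : DCoh.D X}
    (h : ∀ x : X, ∃ (U : Scheme.{u}) (j : U ⟶ X) (_ : IsOpenImmersion j), x ∈ Set.range j ∧ OneDeg i r ((resD j).obj K)) :
    OneDeg i r K := by
  have hH : ∀ {U : Scheme.{u}} (j : U ⟶ X) [IsOpenImmersion j] (k : ℤ),
      Nonempty (DCoh.HD ((resD j).obj K) k ≅ (Scheme.Modules.restrictFunctor j).obj (DCoh.HD K k)) :=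
    fun j _ k => DerTrunc.nonempty_homology_mapDerivedCategory (Scheme.Modules.restrictFunctor j) K k
  have hz : ∀ k, k ≠ i → IsZero (DCoh.HD K k) := fun k hk => isZero_of_local fun x => by
    obtain ⟨U, j, hj, hx, M, hM, ⟨e⟩⟩ := h x
    exact ⟨U, j, hj, hx, ((HD_oneDeg e).1 k hk).of_iso (hH j k).some.symm⟩
  have hH' : FlatMod.IsFinLocFreeOfRank r (DCoh.HD K i) := isFinLocFreeOfRank_of_local fun x => by
    obtain ⟨U, j, hj, hx, M, hM, ⟨e⟩⟩ := h x
    exact ⟨U, j, hj, hx, isFinLocFreeOfRank_of_iso ((HD_oneDeg e).2.some.symm ≪≫ (hH j i).some) hM⟩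
  have : K.IsGE i := (DerivedCategory.isGE_iff K i).2 fun k hk => hz k (by omega)
  have : K.IsLE i := (DerivedCategory.isLE_iff K i).2 fun k hk => hz k (by omega)
  obtain ⟨q⟩ := DerTrunc.nonempty_iso_single K i
  exact ⟨_, hH', ⟨q ≪≫ (((DerivedCategory.singleFunctors X.Modules).shiftIso (-i) i 0 (by omega)).app _).symm⟩⟩

theorem fibDim_of_rank [Subsingleton Y] (g : Y ⟶ X) (t : Y) (hT : IsField (Y.presheaf.stalk t)) {M : X.Modules}
    {r : ℕ} (h : FlatMod.IsFinLocFreeOfRank r M) : fibDim g t M = r := by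
  obtain ⟨U, hx, ⟨e⟩⟩ := h (g t)
  obtain ⟨g', hg'⟩ := exists_lift_point g t U.ι ⟨⟨g t, hx⟩, rfl⟩
  exact (ModFibre.finrank_eq_of_iso (((fibResIso U.ι g' g hg' t).app M).symm ≪≫ (fib g' t).mapIso e)).trans
    (fibDim_free g' t r hT)

/-- The open locus. -/
def oneDegLocus (E : DCoh.D X) (i : ℤ) (r : ℕ) : X.Opens :=
  ⟨{x | ∃ (U : Scheme.{u}) (j : U ⟶ X) (_ : IsOpenImmersion j), x ∈ Set.range j ∧ OneDeg i r ((resD j).obj E)}, by
    rw [isOpen_iff_forall_mem_open]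
    rintro x ⟨U, j, hj, hx, h⟩
    exact ⟨j.opensRange, fun y hy => ⟨U, j, hj, hy, h⟩, j.opensRange.2, hx⟩⟩

theorem oneDeg_lpull_of_range (f : Y ⟶ X) [DCoh.HasLpull f] (E : DCoh.D X) {i : ℤ} {r : ℕ}
    (h : Set.range f.base ⊆ (oneDegLocus E i r : Set X)) : OneDeg i r ((DCoh.Lpull f).obj E) := by
  obtain ⟨F, hF, ⟨e⟩⟩ := exists_kflat_rep E
  obtain ⟨v⟩ := lpull_value f F hF
  refine oneDeg_of_locally fun y => ?_
  obtain ⟨U, j, hj, hy, hU⟩ := h ⟨y, rfl⟩
  let W := f ⁻¹ᵁ j.opensRange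
  let f' : W.toScheme ⟶ U := IsOpenImmersion.lift j (W.ι ≫ f) (by rintro _ ⟨z, rfl⟩; exact z.2)
  have hf' : f' ≫ j = W.ι ≫ f := IsOpenImmersion.lift_fac _ _ _
  have hF' : DCoh.IsKFlat ((resCx j).obj F) :=
    isKFlat_of_iso ((NatIso.mapHomologicalComplex (Scheme.Modules.restrictFunctorIsoPullback j) _).app F).symm
      (isKFlat_pullback j hF)
  let c : resCx j ⋙ pullCxF f' ≅ pullCxF f ⋙ resCx W.ι :=
    NatIso.mapHomologicalComplex (Functor.isoWhiskerRight (Scheme.Modules.restrictFunctorIsoPullback j) _ ≪≫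
      Scheme.Modules.pullbackComp f' j ≪≫ Scheme.Modules.pullbackCongr hf' ≪≫
      (Scheme.Modules.pullbackComp W.ι f).symm ≪≫
      Functor.isoWhiskerLeft _ (Scheme.Modules.restrictFunctorIsoPullback W.ι).symm) _
  exact ⟨W.toScheme, W.ι, inferInstance, ⟨⟨y, hy⟩, rfl⟩,
    (oneDeg_of_pull f' hF' (hU.of_iso ((resD j).mapIso e.symm ≪≫ (resDFac j).app F))).of_iso
      (DerivedCategory.Q.mapIso (c.app F) ≪≫ ((resDFac W.ι).app _).symm ≪≫
        (resD W.ι).mapIso (v.symm ≪≫ (DCoh.Lpull f).mapIso e))⟩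

theorem range_subset_of_oneDeg (f : Y ⟶ X) [DCoh.HasLpull f] {E : DCoh.D X} (hE : DCoh.IsPerfect E) {i : ℤ} {r : ℕ}
    (h : OneDeg i r ((DCoh.Lpull f).obj E)) : Set.range f.base ⊆ (oneDegLocus E i r : Set X) := by
  rintro _ ⟨y, rfl⟩
  obtain ⟨F, hF, ⟨e⟩⟩ := exists_kflat_rep E
  obtain ⟨v⟩ := lpull_value f F hF
  obtain ⟨M, hM, ⟨q⟩⟩ := h
  obtain ⟨U, j, hj, hy, P, hP, ⟨α⟩⟩ := isPerfect_iff.1 hE (f y)
  let T := Spec (Y.residueField y)
  have : Subsingleton T := subsingleton_residue y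
  let t : T := IsLocalRing.closedPoint (Y.residueField y)
  have hT := isField_residue y t
  let g₀ : T ⟶ X := Y.fromSpecResidueField y ≫ f
  have hgt : g₀ t = f y := by rw [Scheme.Hom.comp_apply, Scheme.fromSpecResidueField_apply]
  obtain ⟨g, hg⟩ := exists_lift_point g₀ t j (by rw [hgt]; exact hy)
  have hF' : DCoh.IsKFlat ((resCx j).obj F) :=
    isKFlat_of_iso ((NatIso.mapHomologicalComplex (Scheme.Modules.restrictFunctorIsoPullback j) _).app F).symm
      (isKFlat_pullback j hF)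
  obtain ⟨β⟩ := nonempty_iso_pullCx g (isKFlat_of_strictlyPerfect hP) hF'
    (α ≪≫ (resD j).mapIso e.symm ≪≫ (resDFac j).app F)
  let S := singleCx i M
  obtain ⟨γ⟩ := nonempty_iso_pullCx (Y.fromSpecResidueField y) (isKFlat_pullback f hF)
    (isKFlat_of_strictlyPerfect (strictlyPerfect_single i (isFinLocFree_of_rank' hM)))
    (v.symm ≪≫ (DCoh.Lpull f).mapIso e ≪≫ q ≪≫ (singleShiftIso i M).symm)
  let c : resCx j ⋙ pullCxF g ≅ pullCxF f ⋙ pullCxF (Y.fromSpecResidueField y) :=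
    NatIso.mapHomologicalComplex (Functor.isoWhiskerRight (Scheme.Modules.restrictFunctorIsoPullback j) _ ≪≫
      Scheme.Modules.pullbackComp g j ≪≫ Scheme.Modules.pullbackCongr hg ≪≫
      (Scheme.Modules.pullbackComp (Y.fromSpecResidueField y) f).symm) _
  let ε : DerivedCategory.Q.obj ((pullCxF g).obj P) ≅
      DerivedCategory.Q.obj (singleCx i ((Scheme.Modules.pullback (Y.fromSpecResidueField y)).obj M)) :=
    β ≪≫ DerivedCategory.Q.mapIso (c.app F) ≪≫ γ ≪≫ DerivedCategory.Q.mapIso (pullSingleIso _ i M)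
  let H : ∀ k, (fibCx g t P).homology k ≅ (stalk t).obj
      ((singleCx i ((Scheme.Modules.pullback (Y.fromSpecResidueField y)).obj M)).homology k) := fun k =>
    (((pullCxF g).obj P).sc k).mapHomologyIso (stalk t) ≪≫ (stalk t).mapIso
      ((hdIso ((pullCxF g).obj P) k).symm ≪≫ (DerivedCategory.homologyFunctor _ k).mapIso ε ≪≫ hdIso _ k)
  have hconc : FibConc g t P i r := by
    refine ⟨fun k hk => ((stalk t).map_isZero ((exactAt_iff_isZero_homology _ _).1
      (ExactAt.of_isZero (isZero_single_obj_X _ i _ k hk)))).of_iso (H k), ?_⟩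
    exact (ModFibre.finrank_eq_of_iso (H i ≪≫ (stalk t).mapIso (singleObjHomologySelfIso (ComplexShape.up ℤ) i _))).trans
      (fibDim_of_rank (Y.fromSpecResidueField y) t hT hM)
  obtain ⟨a, b, hab⟩ := hP.1
  obtain ⟨W, k, hk, ⟨w, hw⟩, hW⟩ := exists_oneDeg ((max b i) - (min a i)).toNat g t hT hP
    (i := i) (a := min a i) (b := max b i) (r := r) (min_le_right _ _) (le_max_right _ _) (by omega)
    (fun l hl => hab l (by omega)) hconc
  refine ⟨W, k ≫ j, inferInstance,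
    ⟨w, by rw [Scheme.Hom.comp_apply, hw, ← Scheme.Hom.comp_apply, hg, hgt]⟩, ?_⟩
  exact hW.of_iso (((resDFac k).app P).symm ≪≫ (resD k).mapIso α ≪≫ (nonempty_resD_comp k j E).some.symm)

end GrothLib.OX
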