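import Groth.Agent.Lib.OX.TildePerfect
import Groth.Agent.Lib.OX.OneDegLocus
import Groth.Agent.Lib.QCoh.TildeFinite
import Groth.Agent.Lib.Cohom.RpushModules
import Groth.Agent.Lib.Euler.TensorSupport
import Groth.Agent.Lib.DCxRing.Homology

/-! # Reduction of questions on `D_qc` to affine opens -/

set_option autoImplicit false
set_option maxHeartbeats 800000
universe u

open CategoryTheory CategoryTheory.Limits AlgebraicGeometry HomologicalComplex

attribute [local instance] HasDerivedCategory.standard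

namespace GrothLib.OX

variable {X : Scheme.{u}}

/-- Cohomology commutes with restriction. -/
noncomputable def HDResIso {U : Scheme.{u}} (j : U ⟶ X) [IsOpenImmersion j] (K : DCoh.D X) (i : ℤ) :
    DCoh.HD ((resD j).obj K) i ≅ (Scheme.Modules.restrictFunctor j).obj (DCoh.HD K i) :=
  (DerTrunc.homologyMapIso (Scheme.Modules.restrictFunctor j) i).app K

/-- Cohomology commutes with `M ↦ M~`. -/
noncomputable def HDTildeIso {R : CommRingCat.{u}} [PreservesFiniteLimits (tilde.functor R)]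
    (M : DerivedCategory (ModuleCat.{u} R)) (i : ℤ) :
    DCoh.HD ((DCoh.tildeD R).obj M) i ≅
      (tilde.functor R).obj ((DerivedCategory.homologyFunctor (ModuleCat.{u} R) i).obj M) :=
  (DerTrunc.homologyMapIso (tilde.functor R) i).app M

theorem isQCohD_resD {U : Scheme.{u}} (j : U ⟶ X) [IsOpenImmersion j] {K : DCoh.D X} (hK : DCoh.IsQCohD K) :
    DCoh.IsQCohD ((resD j).obj K) := fun i => by
  have : (DCoh.HD K i).IsQuasicoherent := hK i
  exact isQCoh_of_iso (HDResIso j K i).symm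
    (inferInstanceAs ((DCoh.HD K i).restrict j).IsQuasicoherent)

/-- An object of `D_qc` is affine-locally an associated object. -/
theorem exists_tildeD_rep {K : DCoh.D X} (hK : DCoh.IsQCohD K) {R : CommRingCat.{u}}
    [PreservesFiniteLimits (tilde.functor R)] (j : Spec R ⟶ X) [IsOpenImmersion j] :
    ∃ M, Nonempty ((DCoh.tildeD R).obj M ≅ (resD j).obj K) :=
  (tildeD_full_faithful_essImage (R := R)).2.2 _ (isQCohD_resD j hK)

theorem isCoh_tilde_iff {R : CommRingCat.{u}} (M : ModuleCat.{u} R) :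
    Coh.IsCoh ((tilde.functor R).obj M) ↔ Module.Finite R M := by
  refine ⟨fun h => ?_, fun h => QCoh.isCoh_tilde_of_finite M⟩
  have := h.1
  have : Module.Finite R Γ(tilde M, ⊤) := QCoh.moduleFinite_top_spec _ h.2
  exact @Module.Finite.equiv _ _ _ _ _ _ _ _ this (tilde.isoTop M).toLinearEquiv.symm

theorem mem_range_fromSpec {U : X.Opens} (hU : IsAffineOpen U) {x : X} (hx : x ∈ U) : x ∈ Set.range hU.fromSpec :=
  hU.range_fromSpec.symm ▸ hx

theorem isCoh_of_affines {M : X.Modules} (h : ∀ (U : X.Opens) (hU : IsAffineOpen U),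
    Coh.IsCoh ((Scheme.Modules.restrictFunctor hU.fromSpec).obj M)) : Coh.IsCoh M :=
  Euler.isCoh_of_restrict fun x => by
    obtain ⟨U, hU, hx, -⟩ := exists_isAffineOpen_mem_and_subset (x := x) (U := ⊤) trivial
    exact ⟨U, hx, QCoh.isCoh_of_iso ((Scheme.Modules.restrictFunctorComp hU.isoSpec.hom hU.fromSpec).symm ≪≫
      Scheme.Modules.restrictFunctorCongr hU.isoSpec_hom_fromSpec |>.app M)
      (Cohom.isCoh_restrict _ (h U hU) hU.isoSpec.hom)⟩

theorem isLE_of_affines {K : DCoh.D X} {b : ℤ}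
    (h : ∀ x : X, ∃ (U : Scheme.{u}) (j : U ⟶ X) (_ : IsOpenImmersion j), x ∈ Set.range j ∧
      ((resD j).obj K).IsLE b) : K.IsLE b := by
  rw [DerivedCategory.isLE_iff]
  refine fun i hi => isZero_of_local fun x => ?_
  obtain ⟨U, j, hj, hx, hb⟩ := h x
  exact ⟨U, j, hj, hx, (DerivedCategory.isZero_of_isLE _ b i hi).of_iso (HDResIso j K i).symm⟩

/-- Pseudo-coherence is local. -/
theorem isPseudoCoherentD_of_local {m : ℤ} {K : DCoh.D X}
    (h : ∀ x : X, ∃ (U : Scheme.{u}) (j : U ⟶ X) (_ : IsOpenImmersion j), x ∈ Set.range j ∧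
      DCoh.IsPseudoCoherentD m ((resD j).obj K)) : DCoh.IsPseudoCoherentD m K := by
  refine isPseudoCoherentD_iff.2 (locally_comp (P := fun _ => Approx m) (fun hA e => Approx.of_iso hA e) fun x => ?_)
  obtain ⟨U, j, hj, ⟨y, rfl⟩, hm⟩ := h x
  obtain ⟨W, j', hj', hy, hP⟩ := isPseudoCoherentD_iff.1 hm y
  exact ⟨U, j, hj, y, rfl, W, j', hj', hy, hP⟩

/-- Perfectness is local. -/
theorem isPerfect_of_local {K : DCoh.D X}
    (h : ∀ x : X, ∃ (U : Scheme.{u}) (j : U ⟶ X) (_ : IsOpenImmersion j), x ∈ Set.range j ∧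
      DCoh.IsPerfect ((resD j).obj K)) : DCoh.IsPerfect K := by
  refine isPerfect_iff.2 (locally_comp (P := fun _ => Strict) (fun hA e => Strict.of_iso hA e) fun x => ?_)
  obtain ⟨U, j, hj, ⟨y, rfl⟩, hm⟩ := h x
  obtain ⟨W, j', hj', hy, hP⟩ := isPerfect_iff.1 hm y
  exact ⟨U, j, hj, y, rfl, W, j', hj', hy, hP⟩

theorem isPseudoCoherentD_resD {m : ℤ} {K : DCoh.D X} (h : DCoh.IsPseudoCoherentD m K) {U : Scheme.{u}}
    (j : U ⟶ X) [IsOpenImmersion j] : DCoh.IsPseudoCoherentD m ((resD j).obj K) :=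
  isPseudoCoherentD_iff.2 (Locally.restrict (P := fun _ => Approx m) (fun hA e => Approx.of_iso hA e)
    (fun hA _ j _ => Approx.restrict hA j) (isPseudoCoherentD_iff.1 h) j)

theorem isPerfect_resD {K : DCoh.D X} (h : DCoh.IsPerfect K) {U : Scheme.{u}}
    (j : U ⟶ X) [IsOpenImmersion j] : DCoh.IsPerfect ((resD j).obj K) :=
  isPerfect_iff.2 (Locally.restrict (P := fun _ => Strict) (fun hA e => Strict.of_iso hA e)
    (fun hA _ j _ => Strict.restrict hA j) (isPerfect_iff.1 h) j)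

theorem isPerfect_of_iso {K L : DCoh.D X} (h : DCoh.IsPerfect K) (e : K ≅ L) : DCoh.IsPerfect L :=
  isPerfect_iff.2 (Locally.of_iso (P := fun _ => Strict) (fun hA e => Strict.of_iso hA e) (isPerfect_iff.1 h) e)

/-- Pseudo-coherence on a locally Noetherian scheme, affine open by affine open. -/
theorem isPseudoCoherentD_fromSpec_iff [IsLocallyNoetherian X] {E : DCoh.D X} (hE : DCoh.IsQCohD E)
    {U : X.Opens} (hU : IsAffineOpen U) (m : ℤ) :
    DCoh.IsPseudoCoherentD m ((resD hU.fromSpec).obj E) ↔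
      (∃ b, ((resD hU.fromSpec).obj E).IsLE b) ∧
        ∀ i, m ≤ i → Coh.IsCoh ((Scheme.Modules.restrictFunctor hU.fromSpec).obj (DCoh.HD E i)) := by
  have : IsNoetherianRing Γ(X, U) := IsLocallyNoetherian.component_noetherian ⟨U, hU⟩
  obtain ⟨M, ⟨e⟩⟩ := exists_tildeD_rep hE hU.fromSpec
  let H := fun i => (DerivedCategory.homologyFunctor (ModuleCat.{u} Γ(X, U)) i).obj M
  let c : ∀ i, (tilde.functor Γ(X, U)).obj (H i) ≅
      (Scheme.Modules.restrictFunctor hU.fromSpec).obj (DCoh.HD E i) := fun i =>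
    (HDTildeIso M i).symm ≪≫ (DerivedCategory.homologyFunctor _ i).mapIso e ≪≫ HDResIso _ E i
  have hcoh : ∀ i, Module.Finite Γ(X, U) (H i) ↔
      Coh.IsCoh ((Scheme.Modules.restrictFunctor hU.fromSpec).obj (DCoh.HD E i)) := fun i =>
    ⟨fun h => QCoh.isCoh_of_iso (c i) ((isCoh_tilde_iff _).2 h),
      fun h => (isCoh_tilde_iff _).1 (QCoh.isCoh_of_iso (c i).symm h)⟩
  rw [show DCoh.IsPseudoCoherentD m ((resD hU.fromSpec).obj E) ↔ DRing.IsPseudoCoherent Γ(X, U) m M from
    ⟨fun h => (isPseudoCoherentD_tildeD_iff (A := Γ(X, U)) M m).1 (isPseudoCoherentD_of_iso h e.symm),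
      fun h => isPseudoCoherentD_of_iso ((isPseudoCoherentD_tildeD_iff (A := Γ(X, U)) M m).2 h) e⟩]
  have hR : ∀ I : Ideal Γ(X, U), I.FG → Module.FinitePresentation Γ(X, U) I := fun I hI => by
    haveI := Module.Finite.of_fg hI
    exact Module.finitePresentation_of_finite _ I
  rw [DR.isPseudoCoherent_iff_of_coherent hR M m]
  simp only [Module.finitePresentation_iff_finite]
  have hb : (∃ b : ℤ, ∀ i, b < i → Subsingleton (Dual.HD Γ(X, U) M i)) ↔
      ∃ b, ((resD hU.fromSpec).obj E).IsLE b := by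
    refine exists_congr fun b => ?_
    rw [DerivedCategory.isLE_iff]
    refine forall₂_congr fun i _ => ?_
    have f : (DerivedCategory.homologyFunctor _ i).obj ((resD hU.fromSpec).obj E) ≅ (tilde.functor Γ(X, U)).obj (H i) :=
      (HDResIso _ E i) ≪≫ (c i).symm
    refine ⟨fun h => ((tilde.functor _).map_isZero (ModuleCat.isZero_iff_subsingleton.2 h)).of_iso f,
      fun h => ModuleCat.isZero_iff_subsingleton.1 ?_⟩
    rw [IsZero.iff_id_eq_zero]
    refine (tilde.functor _).map_injective ?_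
    exact (h.of_iso f.symm).eq_of_src _ _
  constructor
  · rintro ⟨h1, h2, h3⟩
    refine ⟨hb.1 h1, fun i hi => (hcoh i).1 ?_⟩
    rcases hi.eq_or_lt with rfl | hi
    exacts [h2, h3 i hi]
  · rintro ⟨h1, h2⟩
    exact ⟨hb.2 h1, (hcoh m).2 (h2 m le_rfl), fun i hi => (hcoh i).2 (h2 i hi.le)⟩

end GrothLib.OX
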