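import Groth.Agent.Lib.OX.SumSections
import Mathlib.Topology.Sheaves.MayerVietoris
import Mathlib.Algebra.Homology.DerivedCategory.SingleTriangle
import Mathlib.CategoryTheory.Triangulated.TriangleShift
import Groth.Agent.Lib.QCoh.Qcqs

/-! # Generators over quasi-compact quasi-separated opens see direct sums in `D_qc` -/

set_option autoImplicit false
set_option maxHeartbeats 400000
universe u

open CategoryTheory CategoryTheory.Limits AlgebraicGeometry Opposite TopologicalSpace Pretriangulated
open GrothLib.TriCat (FinHom homSum_of homSum_π)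
open GrothLib.SiteDer (theta)

attribute [local instance] HasDerivedCategory.standard
attribute [local instance] Classical.decEq

namespace GrothLib.OX

variable {X : Scheme.{u}}

/-- The Mayer-Vietoris sequence of the generators. -/
noncomputable def genMV (T U : X.Opens) : ShortComplex X.Modules :=
  ShortComplex.mk (X₁ := (genF X).obj (T ⊓ U))
    (X₂ := (SiteDer.tensSh X.ringCatSheaf).obj
      (SheafCoh.freeY (Opens.grothendieckTopology X.carrier) T ⊞ SheafCoh.freeY (Opens.grothendieckTopology X.carrier) U))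
    (X₃ := (genF X).obj (T ⊔ U))
    ((SiteDer.tensSh X.ringCatSheaf).map (Opens.mayerVietorisSquare T U).shortComplex.f)
    ((SiteDer.tensSh X.ringCatSheaf).map (Opens.mayerVietorisSquare T U).shortComplex.g)
    (((SiteDer.tensSh X.ringCatSheaf).map_comp _ _).symm.trans
      ((congrArg _ (Opens.mayerVietorisSquare T U).shortComplex.zero).trans (Functor.map_zero _ _ _)))

theorem tensSh_total {C : Type u} [SmallCategory C] {J : GrothendieckTopology C} (R : Sheaf J RingCat.{u})
    [HasWeakSheafify J AddCommGrpCat.{u}] [J.WEqualsLocallyBijective AddCommGrpCat.{u}]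
    (A B : Sheaf J AddCommGrpCat.{u}) :
    (SiteDer.tensSh R).map (biprod.fst : A ⊞ B ⟶ A) ≫ (SiteDer.tensSh R).map biprod.inl +
      (SiteDer.tensSh R).map (biprod.snd : A ⊞ B ⟶ B) ≫ (SiteDer.tensSh R).map biprod.inr =
        𝟙 ((SiteDer.tensSh R).obj (A ⊞ B)) := by
  rw [← Functor.map_comp, ← Functor.map_comp, ← Functor.map_add, biprod.total, CategoryTheory.Functor.map_id]

theorem torsionFree_freeY {C : Type u} [SmallCategory C] (J : GrothendieckTopology C) (U : C) :
    SiteDer.torsionFree J (SheafCoh.freeY J U) := by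
  refine SiteDer.torsionFree_presheafToSheaf _ fun X m x hm hx => ?_
  let α := (yoneda.obj U).obj X
  let e := FreeAbelianGroup.equivFinsupp α
  have h := congrArg e (show m • (show FreeAbelianGroup α from x) = 0 from hx)
  rw [map_zsmul, map_zero, smul_eq_zero] at h
  exact e.injective ((h.resolve_left hm).trans (map_zero e).symm)

theorem genMV_shortExact (T U : X.Opens) : (genMV T U).ShortExact := by
  let S := (Opens.mayerVietorisSquare T U).shortComplex
  have hS : S.ShortExact := (Opens.mayerVietorisSquare T U).shortComplex_shortExact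
  have := hS.epi_g
  exact
    { exact := hS.exact.map_of_epi_of_preservesCokernel (SiteDer.tensSh X.ringCatSheaf) this inferInstance
      mono_f := (SiteDer.isExactClass_tensSh X.ringCatSheaf).mono_map S hS (torsionFree_freeY _ (T ⊔ U))
      epi_g := inferInstanceAs (Epi ((SiteDer.tensSh X.ringCatSheaf).map S.g)) }

variable {ι : Type u} (K : ι → DCoh.D X) [HasCoproduct K]

/-- Maps from all shifts of the generator at `T` into `∐ K` are finite sums. -/
def GenFin (T : X.Opens) : Prop :=
  ∀ j : ℤ, FinHom K ((DerivedCategory.singleFunctor X.Modules j).obj ((genF X).obj T))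

/-- The shift of a complex placed in degree zero. -/
noncomputable def singleShiftNeg (M : X.Modules) (j : ℤ) :
    ((DerivedCategory.singleFunctor X.Modules 0).obj M)⟦-j⟧ ≅ (DerivedCategory.singleFunctor X.Modules j).obj M :=
  ((DerivedCategory.singleFunctors X.Modules).shiftIso (-j) j 0 (by omega)).app M

variable {K}

theorem finHom_single_of_total (j : ℤ) {A B M : X.Modules} (i₁ : A ⟶ M) (p₁ : M ⟶ A) (i₂ : B ⟶ M) (p₂ : M ⟶ B)
    (h : p₁ ≫ i₁ + p₂ ≫ i₂ = 𝟙 M) (hA : FinHom K ((DerivedCategory.singleFunctor X.Modules j).obj A))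
    (hB : FinHom K ((DerivedCategory.singleFunctor X.Modules j).obj B)) :
    FinHom K ((DerivedCategory.singleFunctor X.Modules j).obj M) := by
  let F := DerivedCategory.singleFunctor X.Modules j
  refine FinHom.of_total (F.map i₁) (F.map p₁) (F.map i₂) (F.map p₂) ?_ hA hB
  rw [← F.map_comp, ← F.map_comp, ← F.map_add, h, F.map_id]

/-- The Mayer-Vietoris step. -/
theorem GenFin.sup {T U : X.Opens} (hTU : GenFin K (T ⊓ U)) (hT : GenFin K T) (hU : GenFin K U) :
    GenFin K (T ⊔ U) := by
  intro j
  let hS := genMV_shortExact T U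
  let S := genMV T U
  let Tr := (Triangle.shiftFunctor (DCoh.D X) (-j)).obj hS.singleTriangle
  have hTr : Tr ∈ distTriang (DCoh.D X) := Triangle.shift_distinguished _ hS.singleTriangle_distinguished (-j)
  refine FinHom.of_iso (singleShiftNeg S.X₃ j) (FinHom.ext₃ hTr ?_ ?_)
  · refine FinHom.of_iso (singleShiftNeg S.X₂ j).symm ?_
    let G := SiteDer.tensSh X.ringCatSheaf
    let A := SheafCoh.freeY (Opens.grothendieckTopology X.carrier) T
    let B := SheafCoh.freeY (Opens.grothendieckTopology X.carrier) U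
    refine finHom_single_of_total j (M := S.X₂) (G.map (biprod.inl : A ⟶ A ⊞ B)) (G.map biprod.fst)
      (G.map biprod.inr) (G.map biprod.snd) ?_ (hT j) (hU j)
    exact tensSh_total X.ringCatSheaf A B
  · exact FinHom.of_iso ((shiftFunctor _ (1 : ℤ)).mapIso (singleShiftNeg S.X₁ j) ≪≫
      SiteDer.singleShiftOne S.X₁ j).symm (hTU (j - 1))

variable (K)

theorem theta_add {M : X.Modules} {E : DCoh.D X} {j : ℤ}
    (a b : (DerivedCategory.singleFunctor X.Modules j).obj M ⟶ E) : theta (a + b) = theta a + theta b := by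
  simp only [theta, Functor.map_add, Preadditive.comp_add]

/-- Affine opens. -/
theorem genFin_of_isAffineOpen {U : X.Opens} (hU : IsAffineOpen U) (hK : ∀ k, DCoh.IsQCohD (K k)) :
    GenFin K U := fun j φ => by
  obtain ⟨a, ha⟩ := finHom_genF (fun k => DCoh.HD (K k) j) hU.isCompact (theta φ ≫ inv (HDsigma K j))
  have key : ∀ a : DirectSum ι fun k => (genF X).obj U ⟶ DCoh.HD (K k) j,
      ∃ c, theta (PerfAux.homSumToHomCoprod ((DerivedCategory.singleFunctor X.Modules j).obj ((genF X).obj U)) K c) =
        PerfAux.homSumToHomCoprod _ (fun k => DCoh.HD (K k) j) a ≫ HDsigma K j := by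
    intro a
    induction a using DirectSum.induction_on with
    | zero => exact ⟨0, by rw [map_zero, map_zero, zero_comp]; exact SiteDer.theta_zero⟩
    | of k x =>
      obtain ⟨c, hc⟩ := (theta_bijective hU (hK k) j).2 x
      refine ⟨DirectSum.of _ k c, ?_⟩
      rw [homSum_of, homSum_of, SiteDer.theta_comp, Category.assoc, Sigma.ι_desc]
      exact congrArg (· ≫ _) hc
    | add a b ha hb =>
      obtain ⟨c, hc⟩ := ha
      obtain ⟨d, hd⟩ := hb
      exact ⟨c + d, by rw [map_add, theta_add, hc, hd, map_add, Preadditive.add_comp]⟩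
  obtain ⟨c, hc⟩ := key a
  refine ⟨c, (theta_bijective hU (isQCohD_coprod K hK) j).1 (hc.trans ?_)⟩
  rw [ha, Category.assoc, IsIso.inv_hom_id, Category.comp_id]

theorem genFin_bot (hK : ∀ k, DCoh.IsQCohD (K k)) : GenFin K (⊥ : X.Opens) :=
  genFin_of_isAffineOpen K (isAffineOpen_bot X) hK

theorem genFin_iSup_le_affine (hK : ∀ k, DCoh.IsQCohD (K k)) {B : X.Opens} (hB : IsAffineOpen B) :
    ∀ (n : ℕ) (U : Fin n → X.Opens), (∀ i, IsAffineOpen (U i) ∧ U i ≤ B) → GenFin K (⨆ i, U i)
  | 0, U, _ => by rw [iSup_of_empty]; exact genFin_bot K hK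
  | n + 1, U, hU => by
    have e : (⨆ i, U i) = (⨆ i : Fin n, U i.succ) ⊔ U 0 := by
      refine le_antisymm (iSup_le fun i => ?_) (sup_le (iSup_le fun i => le_iSup U i.succ) (le_iSup U 0))
      cases i using Fin.cases with
      | zero => exact le_sup_right
      | succ i => exact le_sup_of_le_left (le_iSup (fun i : Fin n => U i.succ) i)
    rw [e]
    refine GenFin.sup ?_ (genFin_iSup_le_affine hK hB n _ fun i => hU _) (genFin_of_isAffineOpen K (hU 0).1 hK)
    rw [iSup_inf_eq]
    refine genFin_iSup_le_affine hK hB n _ fun i => ⟨?_, inf_le_left.trans (hU _).2⟩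
    have : IsAffine B := hB
    have e : ∀ W : X.Opens, W ≤ B → B.ι ''ᵁ (B.ι ⁻¹ᵁ W) = W := fun W hW ↦ by
      rw [Scheme.Hom.image_preimage_eq_opensRange_inf, Scheme.Opens.opensRange_ι, inf_eq_right.2 hW]
    rw [← e (U i.succ ⊓ U 0) (inf_le_left.trans (hU _).2), Scheme.Hom.preimage_inf]
    refine IsAffineOpen.image_of_isOpenImmersion (IsAffineOpen.inf ?_ ?_) _ <;>
      rw [← Scheme.Hom.isAffineOpen_iff_of_isOpenImmersion B.ι, e _ (hU _).2]
    exacts [(hU _).1, (hU _).1]

/-- Quasi-compact opens of an affine. -/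
theorem genFin_of_le_affine (hK : ∀ k, DCoh.IsQCohD (K k)) {B : X.Opens} (hB : IsAffineOpen B) {T : X.Opens}
    (hTB : T ≤ B) (hT : IsCompact (T : Set X)) : GenFin K T := by
  obtain ⟨ι', _, U, hUA, hUT, hTU⟩ := QCoh.exists_finite_affine_cover hT
  let e := (Fintype.equivFin ι').symm
  have h := genFin_iSup_le_affine K hK hB _ (U ∘ e) fun i => ⟨hUA _, (hUT _).trans hTB⟩
  rwa [show (⨆ i, (U ∘ e) i) = T from by
    rw [show (⨆ i, (U ∘ e) i) = ⨆ i, U i from e.iSup_comp (g := U)]; exact le_antisymm (iSup_le hUT) hTU] at h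

/-- Quasi-compact quasi-separated opens. -/
theorem genFin_of_qcqs (hK : ∀ k, DCoh.IsQCohD (K k)) {V₀ : X.Opens} (hqs : IsQuasiSeparated (V₀ : Set X))
    (T : X.Opens) (hT : IsCompact (T : Set X)) : T ≤ V₀ → GenFin K T := by
  refine compact_open_induction_on T hT (fun _ => genFin_bot K hK) fun T hT U ih hle => ?_
  have hT' : T ≤ V₀ := le_sup_left.trans hle
  have hU' : U.1 ≤ V₀ := le_sup_right.trans hle
  exact GenFin.sup (genFin_of_le_affine K hK U.2 inf_le_right
    (hqs _ _ hT' T.isOpen hT hU' U.1.isOpen U.2.isCompact)) (ih hT') (genFin_of_isAffineOpen K U.2 hK)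

end GrothLib.OX
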