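import Groth.Agent.Lib.OX.TorAmp
import Mathlib.Algebra.Homology.Embedding.CochainComplex

/-! # Flatness from exactness of tensor products; flat amplitude from tor amplitude -/

set_option autoImplicit false
set_option maxHeartbeats 400000
universe u

open CategoryTheory CategoryTheory.Limits AlgebraicGeometry HomologicalComplex MonoidalCategory

attribute [local instance] HasDerivedCategory.standard

namespace GrothLib.OX

variable {X : Scheme.{u}}

/-- A short complex which stays exact after tensoring with every module. -/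
def UExact (S : ShortComplex X.Modules) : Prop :=
  ∀ G : X.Modules, (S.map ((DCoh.tensorBi (X := X)).flip.obj G)).Exact

theorem exact_of_uExact {S : ShortComplex X.Modules} (h : UExact S) : S.Exact := by
  refine (exact_iff S).2 fun x => ?_
  let R : ModuleCat.{u} (X.presheaf.stalk x) := 𝟙_ (ModuleCat.{u} (X.presheaf.stalk x))
  let e : (DCoh.tensorBi (X := X)).flip.obj ((sky x).obj R) ⋙ stalk x ≅ stalk x :=
    tensorRightStalkIso x ((sky x).obj R) ≪≫
      Functor.isoWhiskerLeft (stalk x)
        (((tensoringRight _).mapIso (asIso ((stalkSkyAdj x).counit.app R)) : _ ≅ tensorRight R) ≪≫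
          rightUnitorNatIso (ModuleCat.{u} (X.presheaf.stalk x))) ≪≫ Functor.rightUnitor _
  exact (ShortComplex.exact_iff_of_iso (S.mapNatIso e)).1 ((h ((sky x).obj R)).map (stalk x))

/-- A quotient of a flat module by a universally injective submodule is flat. -/
theorem flat_of_quotient {S : ShortComplex X.Modules} (hS : S.ShortExact) (h₂ : FlatMod.IsFlat S.X₂)
    (hinj : ∀ G : X.Modules, Mono (((DCoh.tensorBi (X := X)).flip.obj G).map S.f)) :
    FlatMod.IsFlat S.X₃ := by
  refine flat_of_tensor_mono fun {M N} f hf => Preadditive.mono_of_cancel_zero _ fun {T} t ht => ?_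
  let T' := DCoh.tensorBi (X := X)
  let E : ShortComplex X.Modules := ShortComplex.mk f (cokernel.π f) (cokernel.condition f)
  have hE : E.ShortExact := { exact := ShortComplex.exact_of_g_is_cokernel _ (cokernelIsCokernel f) }
  have ht' : t ≫ (T'.map f).app S.X₃ = 0 := ht
  have hMr := tensor_right_exact M hS
  have : Epi ((T'.obj M).map S.g) := hMr.2
  obtain ⟨A₁, π₁, hπ₁, p, hp⟩ :=
    (epi_iff_surjective_up_to_refinements ((T'.obj M).map S.g)).1 inferInstance t
  have hpf : (p ≫ (T'.map f).app S.X₂) ≫ (T'.obj N).map S.g = 0 := by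
    rw [Category.assoc, ← (T'.map f).naturality, ← reassoc_of% hp, ht', comp_zero]
  obtain ⟨A₂, π₂, hπ₂, n, hn⟩ := (tensor_right_exact N hS).1.exact_up_to_refinements _ hpf
  have hn' : π₂ ≫ p ≫ (T'.map f).app S.X₂ = n ≫ (T'.obj N).map S.f := hn
  let n' : A₂ ⟶ (T'.obj N).obj S.X₁ := n
  have hn'' : π₂ ≫ p ≫ (T'.map f).app S.X₂ = n' ≫ (T'.obj N).map S.f := hn
  have hmC : Mono (((T'.obj (cokernel f))).map S.f) :=
    ((MorphismProperty.monomorphisms _).arrow_mk_iso_iff
      (Arrow.isoMk (((tensorBraiding (X := X)).app (cokernel f)).app S.X₁)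
        (((tensorBraiding (X := X)).app (cokernel f)).app S.X₂)
        (((tensorBraiding (X := X)).hom.app (cokernel f)).naturality S.f).symm)).1 (hinj (cokernel f))
  have hnq : n' ≫ (T'.map (cokernel.π f)).app S.X₁ = 0 := by
    rw [← cancel_mono ((T'.obj (cokernel f)).map S.f), zero_comp, Category.assoc, ← (T'.map (cokernel.π f)).naturality,
      ← reassoc_of% hn'', ← NatTrans.comp_app, ← T'.map_comp, cokernel.condition, T'.map_zero]
    simp
  have hE1 : ((E.map (T'.flip.obj S.X₁))).Exact :=
    (E.map (T'.flip.obj S.X₁)).exact_of_g_is_cokernel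
      (CokernelCofork.mapIsColimit _ hE.gIsCokernel (T'.flip.obj S.X₁))
  obtain ⟨A₃, π₃, hπ₃, m, hm⟩ := hE1.exact_up_to_refinements n' hnq
  let m' : A₃ ⟶ (T'.obj M).obj S.X₁ := m
  have hm' : π₃ ≫ n' = m' ≫ (T'.map f).app S.X₁ := hm
  have hP : Mono ((T'.map f).app S.X₂) := (tensor_map_shortExact h₂ hE).mono_f
  have hpm : π₃ ≫ π₂ ≫ p = m' ≫ (T'.obj M).map S.f := by
    rw [← cancel_mono ((T'.map f).app S.X₂)]
    simp only [Category.assoc, hn'']
    rw [reassoc_of% hm', (T'.map f).naturality]
  rw [← cancel_epi (π₃ ≫ π₂ ≫ π₁), comp_zero]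
  calc (π₃ ≫ π₂ ≫ π₁) ≫ t = (π₃ ≫ π₂ ≫ p) ≫ (T'.obj M).map S.g := by simp only [Category.assoc, hp]
    _ = 0 := by
      rw [hpm, Category.assoc, ← Functor.map_comp, S.zero, Functor.map_zero, comp_zero]

/-- The kernel of a surjection of flat modules is flat. -/
theorem flat_of_kernel {S : ShortComplex X.Modules} (hS : S.ShortExact) (h₂ : FlatMod.IsFlat S.X₂)
    (h₃ : FlatMod.IsFlat S.X₃) : FlatMod.IsFlat S.X₁ := by
  refine flat_of_tensor_mono fun {M N} f hf => ?_
  let T' := DCoh.tensorBi (X := X)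
  have hP : Mono ((T'.map f).app S.X₂) :=
    (tensor_map_shortExact h₂ (S := ShortComplex.mk f (cokernel.π f) (cokernel.condition f))
      { exact := ShortComplex.exact_of_g_is_cokernel _ (cokernelIsCokernel f) }).mono_f
  have hM : Mono ((T'.obj M).map S.f) := (tensor_left_shortExact M hS h₃).mono_f
  have : Mono ((T'.map f).app S.X₁ ≫ (T'.obj N).map S.f) := by
    rw [← (T'.map f).naturality]
    exact mono_comp _ _
  exact mono_of_mono ((T'.map f).app S.X₁) ((T'.obj N).map S.f)

/-- With flat target and flat cokernel, the kernel of a map out of a flat module is flat. -/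
theorem flat_kernel {A B : X.Modules} (f : A ⟶ B) (hA : FlatMod.IsFlat A) (hB : FlatMod.IsFlat B)
    (hC : FlatMod.IsFlat (cokernel f)) : FlatMod.IsFlat (kernel f) := by
  have hI : FlatMod.IsFlat (Abelian.image f) :=
    flat_of_kernel (S := ShortComplex.mk (Abelian.image.ι f) (cokernel.π f) (kernel.condition _))
      { exact := ShortComplex.exact_of_f_is_kernel _ (kernelIsKernel _) } hB hC
  exact flat_of_kernel
    (S := ShortComplex.mk (kernel.ι f) (Abelian.factorThruImage f)
      (by rw [← cancel_mono (Abelian.image.ι f), Category.assoc, Abelian.image.fac, kernel.condition, zero_comp]))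
    { exact := ShortComplex.exact_of_f_is_kernel _
        (KernelFork.IsLimit.ofι' (kernel.ι f) _ fun {Z} k hk =>
            ⟨kernel.lift f k (by rw [← Abelian.image.fac f, reassoc_of% hk, zero_comp]), kernel.lift_ι _ _ _⟩) }
    hA hI

theorem mono_map_cokernelDesc {A B : Type*} [Category A] [Category B] [Abelian A] [Abelian B] (F : A ⥤ B)
    [F.PreservesZeroMorphisms] [F.PreservesEpimorphisms] (S : ShortComplex A) (h : (S.map F).Exact)
    (ι : cokernel S.f ⟶ S.X₃) (hι : cokernel.π S.f ≫ ι = S.g) : Mono (F.map ι) := by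
  refine Preadditive.mono_of_cancel_zero _ fun {T} t ht => ?_
  obtain ⟨A₁, π₁, hπ₁, p, hp⟩ := (epi_iff_surjective_up_to_refinements (F.map (cokernel.π S.f))).1 inferInstance t
  have hp0 : p ≫ F.map S.g = 0 := by
    rw [← hι, F.map_comp, ← reassoc_of% hp, ht, comp_zero]
  obtain ⟨A₂, π₂, hπ₂, q, hq⟩ := h.exact_up_to_refinements p hp0
  let q' : A₂ ⟶ F.obj S.X₁ := q
  have hq' : π₂ ≫ p = q' ≫ F.map S.f := hq
  rw [← cancel_epi (π₂ ≫ π₁), comp_zero, Category.assoc, hp, reassoc_of% hq', ← F.map_comp, cokernel.condition,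
    F.map_zero, comp_zero]

/-- The cokernel at the end of a universally exact sequence with flat target is flat. -/
theorem flat_cokernel {S : ShortComplex X.Modules} (h : UExact S) (h₃ : FlatMod.IsFlat S.X₃) :
    FlatMod.IsFlat (cokernel S.g) := by
  have hS := exact_of_uExact h
  let ι : cokernel S.f ⟶ S.X₃ := cokernel.desc S.f S.g S.zero
  have : Mono ι := hS.mono_cokernelDesc
  have hι : cokernel.π S.f ≫ ι = S.g := cokernel.π_desc _ _ _
  refine flat_of_quotient (S := ShortComplex.mk ι (cokernel.π S.g)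
      (by rw [← cancel_epi (cokernel.π S.f), reassoc_of% hι, cokernel.condition, comp_zero]))
    { exact := ShortComplex.exact_of_g_is_cokernel _
        (CokernelCofork.IsColimit.ofπ' (cokernel.π S.g) _ fun {Z} k hk =>
          ⟨cokernel.desc S.g k (by rw [← hι, Category.assoc, hk, comp_zero]), cokernel.π_desc _ _ _⟩) }
    h₃ fun G => mono_map_cokernelDesc ((DCoh.tensorBi (X := X)).flip.obj G) S (h G) ι hι

end GrothLib.OX

namespace GrothLib.OX

variable {X : Scheme.{u}}

theorem uExact_sc' (P : CochainComplex X.Modules ℤ) (n : ℤ)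
    (h : ∀ G : X.Modules, IsZero (((tensorModCx G).obj P).homology n)) :
    UExact (P.sc' (n - 1) n (n + 1)) := fun G =>
  (((tensorModCx G).obj P).exactAt_iff' (n - 1) n (n + 1) (by simp) (by simp)).1
    ((exactAt_iff_isZero_homology _ n).2 (h G))

theorem flat_cokernel_d {P : CochainComplex X.Modules ℤ} (hflat : FlatTerms P) (n : ℤ)
    (h : ∀ G : X.Modules, IsZero (((tensorModCx G).obj P).homology n)) :
    FlatMod.IsFlat (cokernel (P.d n (n + 1))) :=
  flat_cokernel (uExact_sc' P n h) (hflat (n + 1))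

theorem exactAt_of_vanish {P : CochainComplex X.Modules ℤ} (n : ℤ)
    (h : ∀ G : X.Modules, IsZero (((tensorModCx G).obj P).homology n)) : P.ExactAt n :=
  (P.exactAt_iff' (n - 1) n (n + 1) (by simp) (by simp)).2 (exact_of_uExact (uExact_sc' P n h))

theorem flat_cycles_top {P : CochainComplex X.Modules ℤ} (hflat : FlatTerms P) (b : ℤ)
    (h : ∀ (G : X.Modules) (n : ℤ), b < n → IsZero (((tensorModCx G).obj P).homology n)) :
    FlatMod.IsFlat (P.cycles b) := by
  have hC : FlatMod.IsFlat (cokernel (P.d b (b + 1))) := by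
    have hex := (P.exactAt_iff' b (b + 1) (b + 1 + 1) (by simp) (by simp)).1
      (exactAt_of_vanish (b + 1) fun G => h G _ (by omega))
    let ι : cokernel (P.d b (b + 1)) ⟶ P.X (b + 1 + 1) := cokernel.desc _ (P.d (b + 1) (b + 1 + 1)) (P.d_comp_d _ _ _)
    have : Mono ι := hex.mono_cokernelDesc
    have hι : cokernel.π (P.d b (b + 1)) ≫ ι = P.d (b + 1) (b + 1 + 1) := cokernel.π_desc _ _ _
    exact flat_of_kernel (S := ShortComplex.mk ι (cokernel.π (P.d (b + 1) (b + 1 + 1)))
        (by rw [← cancel_epi (cokernel.π (P.d b (b + 1))), reassoc_of% hι, cokernel.condition, comp_zero]))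
      { exact := ShortComplex.exact_of_g_is_cokernel _
          (CokernelCofork.IsColimit.ofπ' (cokernel.π _) _ fun {Z} k hk =>
            ⟨cokernel.desc _ k ((congrArg (· ≫ k) hι.symm).trans ((Category.assoc _ _ _).trans ((congrArg (_ ≫ ·) hk).trans comp_zero))), cokernel.π_desc _ _ _⟩) }
      (hflat _) (flat_cokernel_d hflat (b + 1) fun G => h G _ (by omega))
  exact flat_of_iso
    (IsLimit.conePointUniqueUpToIso (kernelIsKernel (P.d b (b + 1))) (P.cyclesIsKernel b (b + 1) (by simp)))
    (flat_kernel _ (hflat b) (hflat (b + 1)) hC)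

/-- A K-flat complex with flat terms and tor amplitude in `[a, b]` is a complex of flat modules in `[a, b]`. -/
theorem flatAmplitude_of_vanish {P : CochainComplex X.Modules ℤ} (hP : DCoh.IsKFlat P) (hflat : FlatTerms P)
    {a b : ℤ} (hab : a ≤ b)
    (h : ∀ (G : X.Modules) (n : ℤ), n < a ∨ b < n → IsZero (((tensorModCx G).obj P).homology n)) :
    DCoh.HasFlatAmplitudeIn a b (DerivedCategory.Q.obj P) := by
  have hLE : P.IsLE b := (P.isLE_iff b).2 fun n hn => exactAt_of_vanish n fun G => h G n (Or.inr hn)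
  let P' := P.truncLE b
  have hflat' : FlatTerms P' := fun n => by
    rcases lt_trichotomy n b with hn | rfl | hn
    · exact flat_of_iso (P.truncLEXIso b n hn).symm (hflat n)
    · exact flat_of_iso (P.truncLEXIsoCycles n).symm
        (flat_cycles_top hflat n fun G i hi => h G i (Or.inr hi))
    · exact flat_of_isZero (CochainComplex.isZero_of_isStrictlyLE P' b n hn)
  have hP' : DCoh.IsKFlat P' :=
    isKFlat_of_bounded_above P' b (fun n hn => CochainComplex.isZero_of_isStrictlyLE P' b n hn) hflat'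
  have : QuasiIso (P.ιTruncLE b) := inferInstance
  have h' : ∀ (G : X.Modules) (n : ℤ), n < a → IsZero (((tensorModCx G).obj P').homology n) := fun G n hn => by
    have := quasiIso_tensorModCx (P.ιTruncLE b) hP' hP G
    exact (h G n (Or.inl hn)).of_iso
      (@asIso _ _ _ _ (homologyMap ((tensorModCx G).map (P.ιTruncLE b)) n)
        ((quasiIsoAt_iff_isIso_homologyMap _ _).1 inferInstance))
  have hGE : P'.IsGE a := (P'.isGE_iff a).2 fun n hn => exactAt_of_vanish n fun G => h' G n hn
  refine ⟨P'.truncGE a, fun n hn => ?_, fun n => ?_,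
    ⟨((asIso (DerivedCategory.Q.map (P'.πTruncGE a))).symm ≪≫ asIso (DerivedCategory.Q.map (P.ιTruncLE b)))⟩⟩
  · rcases hn with hn | hn
    · exact CochainComplex.isZero_of_isStrictlyGE _ a n hn
    · exact (CochainComplex.isZero_of_isStrictlyLE P' b n hn).of_iso (P'.truncGEXIso a n (by omega))
  · rcases lt_trichotomy n a with hn | rfl | hn
    · exact flat_of_isZero (CochainComplex.isZero_of_isStrictlyGE _ a n hn)
    · refine flat_of_iso ((P'.truncGEXIsoOpcycles n).symm) ?_
      have hc := flat_cokernel_d hflat' (n - 1) fun G => h' G _ (by omega)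
      rw [show n - 1 + 1 = n by omega] at hc
      exact flat_of_iso
        (IsColimit.coconePointUniqueUpToIso (cokernelIsCokernel (P'.d (n - 1) n))
          (P'.opcyclesIsCokernel (n - 1) n (by simp))) hc
    · exact flat_of_iso (P'.truncGEXIso a n hn).symm (hflat' n)

/-- Tor amplitude is flat amplitude. -/
theorem hasFlatAmplitudeIn_of_tor (hL : ∀ G : X.Modules, DCoh.HasLTensorMod G) {a b : ℤ} (hab : a ≤ b)
    {E : DCoh.D X} (h : DCoh.HasTorAmplitudeIn a b E) : DCoh.HasFlatAmplitudeIn a b E := by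
  obtain ⟨P, hP, hflat, ⟨e⟩⟩ : ∃ P, DCoh.IsKFlat P ∧ FlatTerms P ∧ Nonempty (DerivedCategory.Q.obj P ≅ E) := by
    obtain ⟨P, q, hP, hflat, hq, -⟩ := exists_kflat_resolution (DerivedCategory.Q.objPreimage E)
    have : IsIso (DerivedCategory.Q.map q) := (DerivedCategory.isIso_Q_map_iff_quasiIso _ q).2 hq
    exact ⟨P, hP, hflat, ⟨asIso (DerivedCategory.Q.map q) ≪≫ DerivedCategory.Q.objObjPreimageIso E⟩⟩
  obtain ⟨E', h1, h2, ⟨e'⟩⟩ := flatAmplitude_of_vanish hP hflat hab fun G n hn => by
    have := hL G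
    obtain ⟨w⟩ := hd_ltensor G P hP e n
    exact (h G n hn).of_iso w.symm
  exact ⟨E', h1, h2, ⟨e' ≪≫ e⟩⟩

end GrothLib.OX
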