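import Groth.Agent.Lib.OX.PCohTriangle
import Groth.Agent.Lib.OX.FlatLocFree
import Groth.Agent.Lib.OX.FlatAmp

/-! # Perfect = pseudo-coherent of locally finite tor dimension -/

set_option autoImplicit false
set_option maxHeartbeats 800000
universe u

open CategoryTheory CategoryTheory.Limits AlgebraicGeometry HomologicalComplex

attribute [local instance] HasDerivedCategory.standard

namespace GrothLib.OX

variable {X : Scheme.{u}}

/-- A flat cokernel of finite locally free modules is finite locally free. -/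
theorem isFinLocFree_cokernel_of_flat {P M : X.Modules} (d : P ⟶ M) (hP : FlatMod.IsFinLocFree P)
    (hM : FlatMod.IsFinLocFree M) (hQ : FlatMod.IsFlat (cokernel d)) : FlatMod.IsFinLocFree (cokernel d) := fun x => by
  obtain ⟨V, n, hx, ⟨e⟩⟩ := hM x
  let R := Scheme.Modules.restrictFunctor V.ι
  have hS := (ShortComplex.exact_of_g_is_cokernel (ShortComplex.mk d (cokernel.π d) (cokernel.condition d))
    (cokernelIsCokernel d)).map R
  let S' := ShortComplex.mk (R.map d ≫ e.hom) (e.inv ≫ R.map (cokernel.π d))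
    (by rw [Category.assoc, e.hom_inv_id_assoc, ← R.map_comp, cokernel.condition, R.map_zero])
  have hS' : S'.Exact := (ShortComplex.exact_iff_of_iso
    (ShortComplex.isoMk (S₁ := (ShortComplex.mk d (cokernel.π d) (cokernel.condition d)).map R) (S₂ := S')
      (Iso.refl _) e (Iso.refl _) (Category.id_comp _)
      ((e.hom_inv_id_assoc _).trans (Category.comp_id _).symm))).1 hS
  obtain ⟨U, j, hj, r, ⟨y, hy⟩, ⟨i⟩⟩ := exists_restrict_free_of_flat _ _ S'.zero hS'
    (isFinLocFree_restrict V.ι hP) (flat_restrict V.ι hQ) (⟨x, hx⟩ : V.toScheme)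
  let jj := j ≫ V.ι
  have hjj : jj.isoOpensRange.inv ≫ jj = jj.opensRange.ι := by
    rw [Iso.inv_comp_eq, Scheme.Hom.isoOpensRange_hom_ι]
  refine ⟨jj.opensRange, r, ⟨y, ?_⟩, ⟨((Scheme.Modules.restrictFunctorCongr hjj.symm ≪≫
    Scheme.Modules.restrictFunctorComp jj.isoOpensRange.inv jj).app _) ≪≫
      (Scheme.Modules.restrictFunctor jj.isoOpensRange.inv).mapIso
        ((Scheme.Modules.restrictFunctorComp j V.ι).app _ ≪≫ i) ≪≫ DCoh.restrictFreeModIso _ r⟩⟩
  exact congrArg V.ι hy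

theorem flat_biprod {M N : X.Modules} (hM : FlatMod.IsFlat M) (hN : FlatMod.IsFlat N) : FlatMod.IsFlat (M ⊞ N) :=
  flat_of_iso (biprod.isoCoprod M N).symm (flat_colimit (colimit.isColimit (pair M N)) fun ⟨j⟩ => by
    cases j
    · exact hM
    · exact hN)

theorem flat_opcycles_of_cone {E F : CochainComplex X.Modules ℤ} (β : E ⟶ F) (a b : ℤ)
    (hE : DCoh.IsStrictlyPerfect E) (hF : DCoh.VanishesOutside F a b) (hflat : ∀ i, FlatMod.IsFlat (F.X i))
    (hC : ∀ i, a - 1 ≤ i → IsZero ((CochainComplex.mappingCone β).homology i)) :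
    FlatMod.IsFlat (cokernel (E.d (a - 1) a)) := by
  obtain ⟨⟨p, q, hpq⟩, hEfl⟩ := hE
  let C := CochainComplex.mappingCone β
  let e := fun i : ℤ => HomologicalComplex.homotopyCofiber.XIsoBiprod β i (i + 1) rfl
  have hCflat : FlatTerms C := fun i =>
    flat_of_iso (e i).symm (flat_biprod (flat_of_isFinLocFree (hEfl (i + 1))) (hflat i))
  have hK : DCoh.IsKFlat C := isKFlat_of_bounded_above C (max q b) (fun i hi =>
    ((biprod_isZero_iff _ _).2 ⟨hpq (i + 1) (Or.inr (by omega)), hF i (Or.inr (by omega))⟩).of_iso (e i)) hCflat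
  have hT : ∀ (G : X.Modules) (i : ℤ), a - 1 ≤ i → IsZero (((tensorModCx G).obj C).homology i) := fun G i hi =>
    isZero_homology_tensorModCx hK (b := a - 2) (fun j hj => hC j (by omega)) G i (by omega)
  have h1 : FlatMod.IsFlat (cokernel (C.d (a - 1) a)) := by
    have := flat_cokernel_d hCflat (a - 1) fun G => hT G _ le_rfl
    rwa [show a - 1 + 1 = a by omega] at this
  have hex := (C.exactAt_iff' (a - 1 - 1) (a - 1) a (by simp) (by simp)).1
    (exactAt_of_vanish (a - 1) fun G => hT G _ le_rfl)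
  let ι : cokernel (C.d (a - 1 - 1) (a - 1)) ⟶ C.X a := cokernel.desc _ (C.d (a - 1) a) (C.d_comp_d _ _ _)
  have : Mono ι := hex.mono_cokernelDesc
  have hι : cokernel.π (C.d (a - 1 - 1) (a - 1)) ≫ ι = C.d (a - 1) a := cokernel.π_desc _ _ _
  have h2 : FlatMod.IsFlat (cokernel (C.d (a - 1 - 1) (a - 1))) :=
    flat_of_kernel (S := ShortComplex.mk ι (cokernel.π (C.d (a - 1) a))
        (by rw [← cancel_epi (cokernel.π (C.d (a - 1 - 1) (a - 1))), reassoc_of% hι, cokernel.condition, comp_zero]))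
      { exact := ShortComplex.exact_of_g_is_cokernel _
          (CokernelCofork.IsColimit.ofπ' (cokernel.π _) _ fun {Z} k hk =>
            ⟨cokernel.desc _ k ((congrArg (· ≫ k) hι.symm).trans ((Category.assoc _ _ _).trans
              ((congrArg (_ ≫ ·) hk).trans comp_zero))), cokernel.π_desc _ _ _⟩) }
      (hCflat _) h1
  have hiso : ∀ (i j : ℤ) (hij : i + 1 = j), i < a →
      IsIso ((CochainComplex.mappingCone.fst β).1.v i j hij) := fun i j hij hi =>
    ⟨(CochainComplex.mappingCone.inl β).v j i (by omega),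
      CochainComplex.mappingCone.ext_to β i j hij (by simp) ((hF i (Or.inl hi)).eq_of_tgt _ _), by simp⟩
  have := hiso (a - 1 - 1) (a - 1) (by omega) (by omega)
  have := hiso (a - 1) a (by omega) (by omega)
  let f₁ := -(CochainComplex.mappingCone.fst β).1.v (a - 1 - 1) (a - 1) (by omega)
  have hneg : ∀ {A B : X.Modules} (g : A ⟶ B), IsIso g → IsIso (-g) := fun g _ =>
    ⟨-inv g, by rw [Preadditive.neg_comp_neg, IsIso.hom_inv_id], by rw [Preadditive.neg_comp_neg, IsIso.inv_hom_id]⟩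
  have : IsIso f₁ := hneg _ inferInstance
  exact flat_of_iso (cokernel.mapIso (C.d (a - 1 - 1) (a - 1)) (E.d (a - 1) a) (asIso f₁)
    (asIso ((CochainComplex.mappingCone.fst β).1.v (a - 1) a (Int.sub_add_cancel a 1)))
    ((CochainComplex.mappingCone.d_fst_v β (a - 1 - 1) (a - 1) a _ _).trans (Preadditive.neg_comp _ _).symm)) h2

theorem strict_of_approx_of_flat {E F : CochainComplex X.Modules ℤ} (β : E ⟶ F) (a b : ℤ)
    (hE : DCoh.IsStrictlyPerfect E) (hF : DCoh.VanishesOutside F a b) (hflat : ∀ i, FlatMod.IsFlat (F.X i))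
    (hβ : DerCat.Good (DerivedCategory.Q.map β) (a - 1)) : Strict (DerivedCategory.Q.obj F) := by
  have hC : ∀ i, a - 1 ≤ i → IsZero ((CochainComplex.mappingCone β).homology i) := fun i hi =>
    have : (DerivedCategory.Q.obj (CochainComplex.mappingCone β)).IsLE (a - 1 - 1) :=
      (DerCat.good_iff_isLE (DerivedCategory.mappingCone_triangle_distinguished β) (a - 1)).1 hβ
    (DerivedCategory.isZero_of_isLE (DerivedCategory.Q.obj (CochainComplex.mappingCone β)) (a - 1 - 1) i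
      (by omega)).of_iso (hdIso _ i).symm
  have hQ := flat_opcycles_of_cone β a b hE hF hflat hC
  obtain ⟨⟨p, q, hpq⟩, hEfl⟩ := hE
  have : F.IsStrictlyGE a := (F.isStrictlyGE_iff a).2 fun i hi => hF i (Or.inl hi)
  let F₀ := fun i => DerivedCategory.homologyFunctorFactors X.Modules i
  have : QuasiIso (CochainComplex.truncGEMap β a) := (CochainComplex.quasiIso_truncGEMap_iff β a).2 fun i hi =>
    (quasiIsoAt_iff_isIso_homologyMap β i).2 (((MorphismProperty.isomorphisms _).arrow_mk_iso_iff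
      (Arrow.isoMk ((F₀ i).app E) ((F₀ i).app F) ((F₀ i).hom.naturality β).symm)).1 (hβ.1 i (by omega)))
  refine ⟨E.truncGE a, ⟨⟨a, max a q, fun i hi => ?_⟩, fun i => ?_⟩,
    ⟨asIso (DerivedCategory.Q.map (CochainComplex.truncGEMap β a)) ≪≫
      (asIso (DerivedCategory.Q.map (F.πTruncGE a))).symm⟩⟩
  · rcases hi with hi | hi
    · exact CochainComplex.isZero_of_isStrictlyGE _ a i hi
    · exact (hpq i (Or.inr (by omega))).of_iso (E.truncGEXIso a i (by omega))
  · rcases lt_trichotomy i a with hi | rfl | hi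
    · exact DCoh.isFinLocFree_of_isZero (CochainComplex.isZero_of_isStrictlyGE _ a i hi)
    · exact DCoh.isFinLocFree_of_iso
        ((IsColimit.coconePointUniqueUpToIso (cokernelIsCokernel (E.d (i - 1) i))
          (E.opcyclesIsCokernel (i - 1) i (by simp))) ≪≫ (E.truncGEXIsoOpcycles i).symm)
        (isFinLocFree_cokernel_of_flat _ (hEfl _) (hEfl _) hQ)
    · exact DCoh.isFinLocFree_of_iso (E.truncGEXIso a i hi).symm (hEfl i)

theorem vanishesOutside_max {E : CochainComplex X.Modules ℤ} {a b : ℤ} (h : DCoh.VanishesOutside E a b) :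
    DCoh.VanishesOutside E a (max a b) := fun i hi => h i (by omega)

theorem isPerfect_of_flatAmplitude {a b : ℤ} {K : DCoh.D X} (h1 : DCoh.HasFlatAmplitudeIn a b K)
    (h2 : DCoh.IsPseudoCoherentD (a - 1) K) : DCoh.IsPerfect K := by
  obtain ⟨F, hF, hflat, ⟨e⟩⟩ := h1
  refine isPerfect_iff.2 (locally_comp Strict.of_iso fun x => ?_)
  obtain ⟨U, j, hj, ⟨y, rfl⟩, hU⟩ := isPseudoCoherentD_iff.1 h2 x
  obtain ⟨E, α, hE, hα⟩ := hU.of_iso ((resD j).mapIso e.symm ≪≫ (resDFac j).app F)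
  obtain ⟨V, β, hy, hβ⟩ := exists_resD_chain hE α y
  have hβ' : DerivedCategory.Q.map β = (resDFac V.ι).inv.app E ≫ (resD V.ι).map α ≫ (resDFac V.ι).hom.app _ := by
    rw [hβ]
    simp
  have hgood : DerCat.Good (DerivedCategory.Q.map β) (a - 1) := by
    rw [hβ']
    exact (DerCat.good_of_isIso _ _).comp ((hα.map _).comp (DerCat.good_of_isIso _ _))
  have hS := strict_of_approx_of_flat β a b (strictlyPerfect_resCx V.ι hE)
    (fun i hi => (Scheme.Modules.restrictFunctor V.ι).map_isZero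
      ((Scheme.Modules.restrictFunctor j).map_isZero (hF i hi)))
    (fun i => flat_restrict V.ι (flat_restrict j (hflat i))) hgood
  exact ⟨U, j, hj, y, rfl, V.toScheme, V.ι, inferInstance, ⟨⟨y, hy⟩, rfl⟩,
    hS.of_iso (((resDFac V.ι).app _).symm ≪≫ (resD V.ι).mapIso
      (((resDFac j).app F).symm ≪≫ (resD j).mapIso e))⟩

theorem flatAmplitude_of_strict {K : DCoh.D X} (h : Strict K) : ∃ a b, DCoh.HasFlatAmplitudeIn a b K := by
  obtain ⟨E, ⟨⟨a, b, hab⟩, hE⟩, ⟨e⟩⟩ := h
  exact ⟨a, b, E, hab, fun i => flat_of_isFinLocFree (hE i), ⟨e⟩⟩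

theorem isPseudoCoherentD_of_isPerfect {K : DCoh.D X} (h : DCoh.IsPerfect K) (m : ℤ) : DCoh.IsPseudoCoherentD m K :=
  isPseudoCoherentD_iff.2 ((isPerfect_iff.1 h).mono fun ⟨E, hE, ⟨e⟩⟩ => ⟨E, e.hom, hE, DerCat.good_of_isIso _ m⟩)

theorem locHasFiniteTorDim_of_isPerfect {K : DCoh.D X} (h : DCoh.IsPerfect K) : DCoh.LocHasFiniteTorDim K := fun x => by
  obtain ⟨V, hx, hV⟩ := h x
  let F := DerivedCategory.Q.objPreimage K
  let e : DerivedCategory.Q.obj F ≅ K := DerivedCategory.Q.objObjPreimageIso K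
  obtain ⟨E, ⟨⟨a, b, hab⟩, hE⟩, ⟨q⟩⟩ := hV F ⟨e⟩
  refine ⟨V, a, b, hx, fun F' ⟨e'⟩ => ⟨E, hab, fun i => flat_of_isFinLocFree (hE i), ?_⟩⟩
  obtain ⟨k⟩ := nonempty_iso_restrictCx V (e ≪≫ e'.symm)
  exact ⟨q.symm ≪≫ k⟩

theorem isPerfect_of_locHasFiniteTorDim {K : DCoh.D X} (h : ∀ m, DCoh.IsPseudoCoherentD m K)
    (h' : DCoh.LocHasFiniteTorDim K) : DCoh.IsPerfect K := by
  refine isPerfect_iff.2 (Locally.of_local Strict.of_iso fun x => ?_)
  obtain ⟨V, a, b, hx, hV⟩ := h' x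
  let F := DerivedCategory.Q.objPreimage K
  let e : DerivedCategory.Q.obj F ≅ K := DerivedCategory.Q.objObjPreimageIso K
  let i : DerivedCategory.Q.obj ((DCoh.restrictCx V).obj F) ≅ (resD V.ι).obj K :=
    ((resDFac V.ι).app F).symm ≪≫ (resD V.ι).mapIso e
  obtain ⟨P, hP, hflat, ⟨p⟩⟩ := hV F ⟨e⟩
  have hpc : DCoh.IsPseudoCoherentD (a - 1) ((resD V.ι).obj K) :=
    isPseudoCoherentD_iff.2 ((isPseudoCoherentD_iff.1 (h (a - 1))).restrict Approx.of_iso
      (fun {_ _} h {_} k hk => @Approx.restrict _ _ _ h _ k hk) V.ι)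
  exact ⟨V.toScheme, V.ι, inferInstance, ⟨⟨x, hx⟩, rfl⟩,
    isPerfect_iff.1 (isPerfect_of_flatAmplitude ⟨P, hP, hflat, ⟨p ≪≫ i⟩⟩ hpc)⟩

theorem flatAmplitude_summand {a b : ℤ} {A B : DCoh.D X} (i : A ⟶ B) (p : B ⟶ A) (hip : i ≫ p = 𝟙 A)
    (h : DCoh.HasFlatAmplitudeIn a b B) : DCoh.HasFlatAmplitudeIn a (max a b) A := by
  obtain ⟨E, hE, hflat, hiso⟩ := h
  have hT := hasTorAmplitudeIn_of_amp (amp_of_vanishesOutside
    (⟨E, vanishesOutside_max hE, hflat, hiso⟩ : DCoh.HasFlatAmplitudeIn a (max a b) B))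
  refine hasFlatAmplitudeIn_of_tor hasLTensorMod (le_max_left a b) fun F hF n hn => ?_
  let G := DCoh.LTensorMod F ⋙ DerivedCategory.homologyFunctor X.Modules n
  have hz : IsZero (G.obj B) := hT F n hn
  have : G.map i ≫ G.map p = 𝟙 _ := by rw [← G.map_comp, hip, G.map_id]
  exact (IsZero.iff_id_eq_zero _).2 (this.symm.trans (by rw [hz.eq_of_tgt (G.map i) 0, zero_comp]))

theorem isPerfect_summand {K L : DCoh.D X} (h : DCoh.IsPerfect (K ⊞ L)) : DCoh.IsPerfect K := by
  refine isPerfect_of_locHasFiniteTorDim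
    (fun m => (isPseudoCoherentD_biprod (isPseudoCoherentD_of_isPerfect h m)).1) fun x => ?_
  obtain ⟨U, j, hj, hx, hU⟩ := isPerfect_iff.1 h x
  obtain ⟨a, b, hab⟩ := flatAmplitude_of_strict hU
  obtain ⟨P, hP, hflat, ⟨p⟩⟩ := flatAmplitude_summand ((resD j).map biprod.inl) ((resD j).map biprod.fst)
    (((resD j).map_comp _ _).symm.trans ((congrArg (resD j).map biprod.inl_fst).trans ((resD j).map_id _))) hab
  have hjj : j.isoOpensRange.inv ≫ j = j.opensRange.ι := by
    rw [Iso.inv_comp_eq, Scheme.Hom.isoOpensRange_hom_ι]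
  refine ⟨j.opensRange, a, max a b, hx, fun F ⟨eF⟩ => ⟨(resCx j.isoOpensRange.inv).obj P,
    fun i hi => (Scheme.Modules.restrictFunctor j.isoOpensRange.inv).map_isZero (hP i hi),
    fun i => flat_restrict _ (hflat i), ⟨((resDFac j.isoOpensRange.inv).app P).symm ≪≫
      (resD j.isoOpensRange.inv).mapIso p ≪≫ (nonempty_resD_comp _ j K).some.symm ≪≫
      (nonempty_resD_congr hjj K).some ≪≫ (resD j.opensRange.ι).mapIso eF.symm ≪≫
      (resDFac j.opensRange.ι).app F⟩⟩⟩

end GrothLib.OX
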