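import Groth.Agent.Lib.OX.FibreRank
import Groth.Agent.Lib.OX.PerfectCriterion

/-! # Strictly perfect complexes with a fibre concentrated in one degree -/

set_option autoImplicit false
set_option maxHeartbeats 800000
universe u

open CategoryTheory CategoryTheory.Limits AlgebraicGeometry HomologicalComplex

attribute [local instance] HasDerivedCategory.standard

namespace GrothLib.OX

variable {X T : Scheme.{u}}

/-- Being finite locally free is local. -/
theorem isFinLocFree_of_local {M : X.Modules}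
    (h : ∀ x : X, ∃ (U : Scheme.{u}) (j : U ⟶ X) (_ : IsOpenImmersion j), x ∈ Set.range j ∧
      FlatMod.IsFinLocFree ((Scheme.Modules.restrictFunctor j).obj M)) : FlatMod.IsFinLocFree M := fun x => by
  obtain ⟨U, j, hj, ⟨y, rfl⟩, hU⟩ := h x
  obtain ⟨V, n, hy, ⟨e⟩⟩ := hU y
  let jj := V.ι ≫ j
  have hjj : jj.isoOpensRange.inv ≫ jj = jj.opensRange.ι := by
    rw [Iso.inv_comp_eq, Scheme.Hom.isoOpensRange_hom_ι]
  exact ⟨jj.opensRange, n, ⟨⟨y, hy⟩, rfl⟩, ⟨((Scheme.Modules.restrictFunctorCongr hjj.symm ≪≫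
    Scheme.Modules.restrictFunctorComp jj.isoOpensRange.inv jj).app _) ≪≫
      (Scheme.Modules.restrictFunctor jj.isoOpensRange.inv).mapIso
        ((Scheme.Modules.restrictFunctorComp V.ι j).app _ ≪≫ e) ≪≫ DCoh.restrictFreeModIso _ n⟩⟩

/-- The kernel of an epimorphism of finite locally free modules. -/
theorem isFinLocFree_kernel {M N : X.Modules} (p : M ⟶ N) [Epi p] (hM : FlatMod.IsFinLocFree M)
    (hN : FlatMod.IsFinLocFree N) : FlatMod.IsFinLocFree (kernel p) := by
  let S := ShortComplex.mk (kernel.ι p) p (kernel.condition p)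
  have hS : S.Exact := ShortComplex.exact_of_f_is_kernel S (kernelIsKernel p)
  have hflat : FlatMod.IsFlat (kernel p) :=
    flat_of_kernel (S := S) { exact := hS } (flat_of_isFinLocFree hM) (flat_of_isFinLocFree hN)
  refine isFinLocFree_of_local fun x => ?_
  obtain ⟨U, j, hj, s, hx, hs⟩ := exists_local_lift hN p (𝟙 N) x
  let R := Scheme.Modules.restrictFunctor j
  refine ⟨U, j, hj, hx, ?_⟩
  have : Epi (S.map R).g := inferInstanceAs (Epi (R.map p))
  have : Mono (S.map R).f := inferInstanceAs (Mono (R.map (kernel.ι p)))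
  let spl := ShortComplex.Splitting.ofExactOfSection (S.map R) (hS.map R) s (hs.trans (R.map_id N)) inferInstance
  let S' : ShortComplex U.Modules := ShortComplex.mk spl.s spl.r spl.s_r
  let spl' : S'.Splitting :=
    { r := (S.map R).g, s := (S.map R).f, f_r := spl.s_g, s_g := spl.f_r, id := by rw [add_comm]; exact spl.id }
  let e : cokernel spl.s ≅ R.obj (kernel p) :=
    IsColimit.coconePointUniqueUpToIso (cokernelIsCokernel spl.s) spl'.shortExact.gIsCokernel
  exact DCoh.isFinLocFree_of_iso e (isFinLocFree_cokernel_of_flat _ (isFinLocFree_restrict j hN)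
    (isFinLocFree_restrict j hM) (flat_of_iso e.symm (flat_restrict j hflat)))

theorem finite_stalk {M : X.Modules} {n : ℕ} (i : M ≅ FlatMod.freeMod X n) (x : X) :
    Module.Free (X.presheaf.stalk x) ((stalk x).obj M) ∧ Module.Finite (X.presheaf.stalk x) ((stalk x).obj M) := by
  obtain ⟨e⟩ := AssPts.exists_stalk_unit_equiv x
  let R := X.presheaf.stalk x
  have : PreservesColimitsOfSize.{0, 0} (stalk x) := (stalkSkyAdj x).leftAdjoint_preservesColimits
  let o : (stalk x).obj (Coh.structureModule X) := e 1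
  have ho : Submodule.span R {o} = ⊤ := eq_top_iff.2 fun m _ => Submodule.mem_span_singleton.2 ⟨e.symm m,
    ((e.map_smul (e.symm m) 1).symm.trans (congrArg e (mul_one _))).trans (e.apply_symm_apply m)⟩
  let hc := isColimitOfPreserves (stalk x) (colimit.isColimit (Discrete.functor fun _ : Fin n => Coh.structureModule X))
  let φ : (stalk x).obj (FlatMod.freeMod X n) ⟶ ModuleCat.of R (Fin n → R) :=
    hc.desc { pt := ModuleCat.of R (Fin n → R)
              ι := Discrete.natTrans fun i => ModuleCat.ofHom (X := (stalk x).obj (Coh.structureModule X))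
                ((LinearMap.single R (fun _ : Fin n => R) i.as).comp e.symm.toLinearMap) }
  have : IsIso φ := ModFibre.isIso_of_basis φ
    (fun i => (stalk x).map (Sigma.ι (fun _ : Fin n => Coh.structureModule X) i) o) (Pi.basisFun R (Fin n))
    (fun i => by
      refine (ConcreteCategory.congr_hom (hc.fac _ ⟨i⟩) o).trans ?_
      change LinearMap.single R (fun _ : Fin n => R) i (e.symm (e 1)) = _
      rw [e.symm_apply_apply, Pi.basisFun_apply]
      rfl)
    fun a a' h => free_stalk_span x n o ho a a' h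
  let E := ((stalk x).mapIso i ≪≫ asIso φ).toLinearEquiv
  exact ⟨Module.Free.of_equiv E.symm, Module.Finite.equiv E.symm⟩

/-- The fibre functor at a point of an open subscheme. -/
noncomputable def fibResIso {U : Scheme.{u}} (j : U ⟶ X) [IsOpenImmersion j] (g : T ⟶ U) (g' : T ⟶ X) (h : g ≫ j = g')
    (t : T) : Scheme.Modules.restrictFunctor j ⋙ fib g t ≅ fib g' t :=
  Functor.isoWhiskerRight (Functor.isoWhiskerRight (Scheme.Modules.restrictFunctorIsoPullback j) _ ≪≫
    Scheme.Modules.pullbackComp g j ≪≫ Scheme.Modules.pullbackCongr h) (stalk t)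

/-- The fibre of a complex is concentrated in degree `i`, of rank `r`. -/
def FibConc (g : T ⟶ X) (t : T) (P : CochainComplex X.Modules ℤ) (i : ℤ) (r : ℕ) : Prop :=
  (∀ k, k ≠ i → IsZero ((fibCx g t P).homology k)) ∧
    Module.finrank (T.presheaf.stalk t) ((fibCx g t P).homology i) = r

theorem fibConc_of_iso {g : T ⟶ X} {t : T} {P : CochainComplex X.Modules ℤ} {Y : Scheme.{u}} {g' : T ⟶ Y}
    {P' : CochainComplex Y.Modules ℤ} {i : ℤ} {r : ℕ}
    (e : ∀ k, (fibCx g t P).homology k ≅ (fibCx g' t P').homology k) (h : FibConc g t P i r) : FibConc g' t P' i r :=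
  ⟨fun k hk => (h.1 k hk).of_iso (e k).symm, (ModFibre.finrank_eq_of_iso (e i)).symm.trans h.2⟩

noncomputable def fibCxResIso {U : Scheme.{u}} (j : U ⟶ X) [IsOpenImmersion j] (g : T ⟶ U) (g' : T ⟶ X)
    (h : g ≫ j = g') (t : T) (P : CochainComplex X.Modules ℤ) : fibCx g t ((resCx j).obj P) ≅ fibCx g' t P :=
  HomologicalComplex.Hom.isoOfComponents (fun k => (fibResIso j g g' h t).app (P.X k))
    (fun k k' _ => ((fibResIso j g g' h t).hom.naturality (P.d k k')).symm)

theorem fibConc_resCx {U : Scheme.{u}} (j : U ⟶ X) [IsOpenImmersion j] (g : T ⟶ U) {g' : T ⟶ X}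
    (h : g ≫ j = g') {t : T} {P : CochainComplex X.Modules ℤ} {i : ℤ} {r : ℕ} (hP : FibConc g' t P i r) :
    FibConc g t ((resCx j).obj P) i r :=
  fibConc_of_iso (fun k => (HomologicalComplex.homologyFunctor _ _ k).mapIso (fibCxResIso j g g' h t P).symm) hP

theorem fibConc_quasiIso {g : T ⟶ X} {t : T} {P P' : CochainComplex X.Modules ℤ} (φ : P ⟶ P') [QuasiIso φ]
    (hP : DCoh.IsStrictlyPerfect P) (hP' : DCoh.IsStrictlyPerfect P') {i : ℤ} {r : ℕ} :
    (FibConc g t P i r → FibConc g t P' i r) ∧ (FibConc g t P' i r → FibConc g t P i r) := by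
  have := quasiIso_pullback g φ (isKFlat_of_strictlyPerfect hP) (isKFlat_of_strictlyPerfect hP')
  let F := (stalk t).mapHomologicalComplex (ComplexShape.up ℤ)
  have hq : QuasiIso (F.map ((pullCxF g).map φ)) := inferInstance
  have := fun k => (quasiIsoAt_iff_isIso_homologyMap (F.map ((pullCxF g).map φ)) k).1 inferInstance
  exact ⟨fibConc_of_iso fun k => asIso (homologyMap (F.map ((pullCxF g).map φ)) k),
    fibConc_of_iso fun k => (asIso (homologyMap (F.map ((pullCxF g).map φ)) k)).symm⟩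

/-- Lifting a point with one-point source to an open neighbourhood. -/
theorem exists_lift_point [Subsingleton T] (g : T ⟶ X) (t : T) {U : Scheme.{u}} (j : U ⟶ X) [IsOpenImmersion j]
    (h : g t ∈ Set.range j) : ∃ g' : T ⟶ U, g' ≫ j = g := by
  refine ⟨IsOpenImmersion.lift j g ?_, IsOpenImmersion.lift_fac _ _ _⟩
  rintro _ ⟨s, rfl⟩
  rw [Subsingleton.elim s t]
  exact h

theorem isLocalHom_stalkMap (g : T ⟶ X) (t : T) : IsLocalHom (g.stalkMap t).hom := inferInstance

theorem stalk_zero_of_fib_zero (g : T ⟶ X) (t : T) (hT : IsField (T.presheaf.stalk t)) (M : X.Modules)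
    [Module.Finite (X.presheaf.stalk (g t)) ((stalk (g t)).obj M)] (h : IsZero ((fib g t).obj M)) :
    IsZero ((stalk (g t)).obj M) := by
  have := isLocalHom_stalkMap g t
  have := ModFibre.subsingleton_of_extendScalars' _ hT _ (h.of_iso ((pullStalkIso g t).app M).symm)
  exact ModuleCat.isZero_of_subsingleton _

/-- An epimorphism on the fibre is an epimorphism nearby. -/
theorem exists_epi_of_fib_epi (g : T ⟶ X) (t : T) (hT : IsField (T.presheaf.stalk t)) {A B : X.Modules} {n : ℕ}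
    (b : B ≅ FlatMod.freeMod X n) (d : A ⟶ B) (h : Epi ((fib g t).map d)) :
    ∃ (U : Scheme.{u}) (j : U ⟶ X) (_ : IsOpenImmersion j), g t ∈ Set.range j ∧
      Epi ((Scheme.Modules.restrictFunctor j).map d) := by
  have := isLeftAdjoint_fib g t
  have hc : (fib g t).map (cokernel.π d) = 0 := by
    rw [← cancel_epi ((fib g t).map d), ← Functor.map_comp, cokernel.condition, Functor.map_zero, comp_zero]
  have := (finite_stalk b (g t)).2
  have : Epi (cokernel.π d) := coequalizer.π_epi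
  have : Module.Finite (X.presheaf.stalk (g t)) ((stalk (g t)).obj (cokernel d)) :=
    Module.Finite.of_surjective ((stalk (g t)).map (cokernel.π d)).hom
      ((ModuleCat.epi_iff_surjective _).1 inferInstance)
  have : Epi ((fib g t).map (cokernel.π d)) := inferInstance
  have hz := stalk_zero_of_fib_zero g t hT _ (IsZero.of_epi_eq_zero _ hc)
  obtain ⟨U, j, hj, hx, h0⟩ := exists_restrict_hom_eq_zero
    (DCoh.isFinLocFree_of_iso b.symm (isFinLocFree_freeMod X n)) (cokernel.π d) (g t) (hz.eq_of_tgt _ _)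
  exact ⟨U, j, hj, hx, ((ShortComplex.exact_of_g_is_cokernel (ShortComplex.mk d (cokernel.π d) (cokernel.condition d))
    (cokernelIsCokernel d)).map (Scheme.Modules.restrictFunctor j)).epi_f h0⟩

theorem exists_split_stalk_of_fib_mono (g : T ⟶ X) (t : T) (hT : IsField (T.presheaf.stalk t))
    {A B : X.Modules} {m n : ℕ} (a : A ≅ FlatMod.freeMod X m) (b : B ≅ FlatMod.freeMod X n) (d : A ⟶ B)
    (h : Mono ((fib g t).map d)) :
    ∃ l : (stalk (g t)).obj B →ₗ[X.presheaf.stalk (g t)] (stalk (g t)).obj A,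
      l.comp ((stalk (g t)).map d).hom = LinearMap.id := by
  have := (finite_stalk a (g t)).2
  obtain ⟨hfree, hfin⟩ := finite_stalk b (g t)
  have := isLocalHom_stalkMap g t
  exact ModFibre.split_of_extendScalars_injective _ hT ((stalk (g t)).map d)
    ((ModuleCat.mono_iff_injective _).1 (((MorphismProperty.monomorphisms _).arrow_mk_iso_iff
      (Arrow.isoMk ((pullStalkIso g t).app A) ((pullStalkIso g t).app B)
        ((pullStalkIso g t).hom.naturality d).symm)).1 h))

theorem mono_stalk_restrict {U : Scheme.{u}} (j : U ⟶ X) [IsOpenImmersion j] (y : U) {M N : X.Modules} (d : M ⟶ N)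
    (h : Mono ((stalk (j y)).map d)) : Mono ((stalk y).map ((Scheme.Modules.restrictFunctor j).map d)) := by
  have hflatj : (j.stalkMap y).hom.Flat :=
    RingHom.Flat.of_bijective (ConcreteCategory.bijective_of_isIso (j.stalkMap y))
  have hm' : Mono ((ModuleCat.extendScalars (j.stalkMap y).hom).map ((stalk (j y)).map d)) := by
    rw [ModuleCat.mono_iff_injective]
    letI := (j.stalkMap y).hom.toAlgebra
    have : Module.Flat (X.presheaf.stalk (j y)) (U.presheaf.stalk y) := hflatj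
    exact Module.Flat.lTensor_preserves_injective_linearMap _ ((ModuleCat.mono_iff_injective _).1 h)
  exact ((MorphismProperty.monomorphisms _).arrow_mk_iso_iff
    (Arrow.isoMk ((restrictStalkExtIso j y).app M) ((restrictStalkExtIso j y).app N)
      ((restrictStalkExtIso j y).hom.naturality d).symm)).2 hm'

theorem flat_stalk_cokernel {A B : X.Modules} (d : A ⟶ B) (x : X)
    (hfree : Module.Free (X.presheaf.stalk x) ((stalk x).obj B))
    (l : (stalk x).obj B →ₗ[X.presheaf.stalk x] (stalk x).obj A)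
    (hl : l.comp ((stalk x).map d).hom = LinearMap.id) :
    Module.Flat (X.presheaf.stalk x) ((stalk x).obj (cokernel d)) := by
  let S := ShortComplex.mk d (cokernel.π d) (cokernel.condition d)
  have hS : (S.map (stalk x)).Exact :=
    (ShortComplex.exact_of_g_is_cokernel S (cokernelIsCokernel d)).map (stalk x)
  have : Epi (cokernel.π d) := coequalizer.π_epi
  have : Module.Free (X.presheaf.stalk x) (S.map (stalk x)).X₂ := hfree
  exact ModFibre.flat_of_exact_of_split hS
    ((ModuleCat.epi_iff_surjective ((stalk x).map (cokernel.π d))).1 inferInstance) l hl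

/-- A map to a finite locally free module with finite locally free cokernel, injective at a point, is injective nearby. -/
theorem exists_mono_of_stalk_mono {A B : X.Modules} (d : A ⟶ B) (hA : FlatMod.IsFinLocFree A)
    (hB : FlatMod.IsFinLocFree B) (hQ : FlatMod.IsFinLocFree (cokernel d)) (x : X)
    (h : Mono ((stalk x).map d)) :
    ∃ (W : Scheme.{u}) (k : W ⟶ X) (_ : IsOpenImmersion k), x ∈ Set.range k ∧
      Mono ((Scheme.Modules.restrictFunctor k).map d) := by
  let e := kernel.lift (cokernel.π d) d (cokernel.condition d)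
  have : Epi e := (ShortComplex.exact_iff_epi_kernel_lift _).1
    (ShortComplex.exact_of_g_is_cokernel (ShortComplex.mk d (cokernel.π d) (cokernel.condition d)) (cokernelIsCokernel d))
  have : Epi (cokernel.π d) := coequalizer.π_epi
  have hK := isFinLocFree_kernel (cokernel.π d) hB hQ
  have hL := isFinLocFree_kernel e hA hK
  have hz : kernel.ι e ≫ d = 0 :=
    (congrArg (kernel.ι e ≫ ·) (kernel.lift_ι (cokernel.π d) d (cokernel.condition d)).symm).trans
      ((Category.assoc _ _ _).symm.trans ((congrArg (· ≫ kernel.ι (cokernel.π d)) (kernel.condition e)).trans zero_comp))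
  have hι : (stalk x).map (kernel.ι e) = 0 := by
    rw [← cancel_mono ((stalk x).map d), zero_comp, ← Functor.map_comp, hz, Functor.map_zero]
  obtain ⟨W, k, hk, hyW, hW⟩ := exists_restrict_hom_eq_zero hL (kernel.ι e) x hι
  let R := Scheme.Modules.restrictFunctor k
  refine ⟨W, k, hk, hyW, ?_⟩
  have hme : Mono (R.map e) :=
    ((ShortComplex.exact_of_f_is_kernel (ShortComplex.mk (kernel.ι e) e (kernel.condition e))
      (kernelIsKernel e)).map R).mono_g hW
  rw [← kernel.lift_ι (cokernel.π d) d (cokernel.condition d), Functor.map_comp]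
  exact mono_comp _ _

/-- An injection on the fibre is a split injection with finite locally free cokernel nearby. -/
theorem exists_mono_of_fib_mono [Subsingleton T] (g : T ⟶ X) (t : T) (hT : IsField (T.presheaf.stalk t))
    {A B : X.Modules} {m n : ℕ} (a : A ≅ FlatMod.freeMod X m) (b : B ≅ FlatMod.freeMod X n) (d : A ⟶ B)
    (h : Mono ((fib g t).map d)) :
    ∃ (U : Scheme.{u}) (j : U ⟶ X) (_ : IsOpenImmersion j), g t ∈ Set.range j ∧
      Mono ((Scheme.Modules.restrictFunctor j).map d) ∧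
      FlatMod.IsFinLocFree (cokernel ((Scheme.Modules.restrictFunctor j).map d)) := by
  obtain ⟨l, hl⟩ := exists_split_stalk_of_fib_mono g t hT a b d h
  have hflat := flat_stalk_cokernel d (g t) (finite_stalk b (g t)).1 l hl
  let π : FlatMod.freeMod X n ⟶ cokernel d := b.inv ≫ cokernel.π d
  have hw : (d ≫ b.hom) ≫ π = 0 := by simp [π]
  let S := ShortComplex.mk d (cokernel.π d) (cokernel.condition d)
  have hS : S.Exact := ShortComplex.exact_of_g_is_cokernel S (cokernelIsCokernel d)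
  have hS' : (ShortComplex.mk (d ≫ b.hom) π hw).Exact := (ShortComplex.exact_iff_of_iso
    (ShortComplex.isoMk (S₁ := S) (S₂ := ShortComplex.mk (d ≫ b.hom) π hw) (Iso.refl _) b (Iso.refl _)
      (Category.id_comp _) ((b.hom_inv_id_assoc _).trans (Category.comp_id _).symm))).1 hS
  have : Epi π := @epi_comp _ _ _ _ _ b.inv inferInstance (cokernel.π d) coequalizer.π_epi
  have hA : FlatMod.IsFinLocFree A := DCoh.isFinLocFree_of_iso a.symm (isFinLocFree_freeMod X m)
  have hB : FlatMod.IsFinLocFree B := DCoh.isFinLocFree_of_iso b.symm (isFinLocFree_freeMod X n)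
  obtain ⟨U, j, hj, r, ⟨y, hy⟩, ⟨q⟩⟩ := exists_restrict_free_of_flat_at (d ≫ b.hom) π hw hS' hA (g t) hflat
  let R := Scheme.Modules.restrictFunctor j
  let cq := PreservesCokernel.iso R d
  have hQ : FlatMod.IsFinLocFree (cokernel (R.map d)) :=
    DCoh.isFinLocFree_of_iso (q.symm ≪≫ cq) (isFinLocFree_freeMod U r)
  have hm : Mono ((stalk (g t)).map d) := (ModuleCat.mono_iff_injective _).2
    (Function.LeftInverse.injective (g := l) fun z => LinearMap.congr_fun hl z)
  rw [← hy] at hm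
  obtain ⟨W, k, hk, ⟨w, hw'⟩, hmono⟩ := exists_mono_of_stalk_mono (R.map d) (isFinLocFree_restrict j hA)
    (isFinLocFree_restrict j hB) hQ y (mono_stalk_restrict j y d hm)
  let c := Scheme.Modules.restrictFunctorComp k j
  refine ⟨W, k ≫ j, inferInstance, ⟨w, by rw [Scheme.Hom.comp_apply, hw', hy]⟩, ?_, ?_⟩
  · exact ((MorphismProperty.monomorphisms _).arrow_mk_iso_iff
      (Arrow.isoMk (c.app A) (c.app B) (c.hom.naturality d).symm)).2 hmono
  · exact DCoh.isFinLocFree_of_iso
      ((Scheme.Modules.restrictFunctor k).mapIso cq.symm ≪≫ (c.app _).symm ≪≫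
        PreservesCokernel.iso (Scheme.Modules.restrictFunctor (k ≫ j)) d)
      (isFinLocFree_restrict k hQ)

/-- A complex which is one finite locally free module in one degree. -/
def OneDeg (i : ℤ) (r : ℕ) (K : DCoh.D X) : Prop :=
  ∃ M : X.Modules, FlatMod.IsFinLocFreeOfRank r M ∧ Nonempty (K ≅ (DCoh.inD X M)⟦-i⟧)

theorem exists_free_nhd {P : CochainComplex X.Modules ℤ} (hP : DCoh.IsStrictlyPerfect P) (x : X) (p q : ℤ) :
    ∃ (U : Scheme.{u}) (j : U ⟶ X) (_ : IsOpenImmersion j) (m n : ℕ), x ∈ Set.range j ∧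
      Nonempty (((resCx j).obj P).X p ≅ FlatMod.freeMod U m) ∧ Nonempty (((resCx j).obj P).X q ≅ FlatMod.freeMod U n) := by
  obtain ⟨A, m, hA, ⟨a⟩⟩ := hP.2 p x
  obtain ⟨B, n, hB, ⟨b⟩⟩ := hP.2 q x
  obtain ⟨a'⟩ := DCoh.exists_free_restrict_le (inf_le_left : A ⊓ B ≤ A) a
  obtain ⟨b'⟩ := DCoh.exists_free_restrict_le (inf_le_right : A ⊓ B ≤ B) b
  exact ⟨(A ⊓ B : X.Opens), (A ⊓ B).ι, inferInstance, m, n, ⟨⟨x, hA, hB⟩, rfl⟩, ⟨a'⟩, ⟨b'⟩⟩

theorem exists_oneDeg_base [Subsingleton T] (g : T ⟶ X) (t : T) (hT : IsField (T.presheaf.stalk t))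
    {P : CochainComplex X.Modules ℤ} (hP : DCoh.IsStrictlyPerfect P) (i : ℤ) {r : ℕ}
    (hs : DCoh.VanishesOutside P i i) (hc : FibConc g t P i r) :
    ∃ (U : Scheme.{u}) (j : U ⟶ X) (_ : IsOpenImmersion j), g t ∈ Set.range j ∧
      OneDeg i r (DerivedCategory.Q.obj ((resCx j).obj P)) := by
  obtain ⟨U, j, hj, m, -, hx, ⟨a⟩, -⟩ := exists_free_nhd hP (g t) i i
  obtain ⟨g₁, hg₁⟩ := exists_lift_point g t j hx
  let P' := (resCx j).obj P
  have hs' : DCoh.VanishesOutside P' i i := fun k hk => (Scheme.Modules.restrictFunctor j).map_isZero (hs k hk)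
  have : P'.IsStrictlyGE i := (P'.isStrictlyGE_iff i).2 fun k hk => hs' k (Or.inl hk)
  have : P'.IsStrictlyLE i := (P'.isStrictlyLE_iff i).2 fun k hk => hs' k (Or.inr hk)
  obtain ⟨M, ⟨e⟩⟩ := P'.exists_iso_single i
  let eM : M ≅ FlatMod.freeMod U m :=
    (singleObjXSelf (ComplexShape.up ℤ) i M).symm ≪≫ ((eval _ _ i).mapIso e).symm ≪≫ a
  obtain ⟨hz, hr⟩ := fibConc_resCx j g₁ hg₁ hc
  have : ∀ k, Module.Finite (T.presheaf.stalk t) ((fibCx g₁ t P').X k) := fun k => by
    by_cases hk : k = i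
    · subst hk; exact finite_fib_free g₁ t a
    · have : Subsingleton ((fibCx g₁ t P').X k) :=
        ModuleCat.subsingleton_of_isZero ((fib g₁ t).map_isZero (hs' k (by omega)))
      exact Module.Finite.of_surjective (0 : (Fin 0 → T.presheaf.stalk t) →ₗ[T.presheaf.stalk t] _)
        fun y => ⟨0, Subsingleton.elim _ _⟩
  have h1 := ModFibre.finrank_homology_cx hT (fibCx g₁ t P') i
  have h2 : Module.finrank (T.presheaf.stalk t) ((fibCx g₁ t P').X i) = m :=
    (ModFibre.finrank_eq_of_iso ((fib g₁ t).mapIso a)).trans (fibDim_free g₁ t m hT)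
  have h3 : ModFibre.rank ((fibCx g₁ t P').d (i - 1) i) = 0 := by
    let := hT.toField
    rw [ModFibre.rank, (((fib g₁ t).map_isZero (hs' (i - 1) (by omega)))).eq_of_src ((fibCx g₁ t P').d (i - 1) i) 0]
    exact finrank_eq_zero_of_range _
  have h4 : ModFibre.rank ((fibCx g₁ t P').d i (i + 1)) = 0 := by
    let := hT.toField
    rw [ModFibre.rank, (((fib g₁ t).map_isZero (hs' (i + 1) (by omega)))).eq_of_tgt ((fibCx g₁ t P').d i (i + 1)) 0]
    exact finrank_eq_zero_of_range _
  have h5 := h1.trans h2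
  have hr' : Module.finrank (T.presheaf.stalk t) ((fibCx g₁ t P').homology i) = r := hr
  rw [h3, h4, hr'] at h5
  have hm : m = r := by omega
  subst hm
  refine ⟨U, j, hj, hx, M, fun y => ⟨⊤, trivial,
    ⟨(Scheme.Modules.restrictFunctor (⊤ : U.Opens).ι).mapIso eM ≪≫ DCoh.restrictFreeModIso _ _⟩⟩, ⟨?_⟩⟩
  exact DerivedCategory.Q.mapIso e ≪≫ ((DerivedCategory.singleFunctorIsoCompQ _ i).app M).symm ≪≫
    (((DerivedCategory.singleFunctors U.Modules).shiftIso (-i) i 0 (by omega)).app M).symm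
where
  finrank_eq_zero_of_range {K : Type u} [Field K] (M : Type u) [AddCommGroup M] [Module K M] {N : Type u} [AddCommGroup N] [Module K N] : Module.finrank K (LinearMap.range (0 : M →ₗ[K] N)) = 0 := by
    rw [LinearMap.range_zero, finrank_bot]

theorem exists_oneDeg_top [Subsingleton T] (g : T ⟶ X) (t : T) (hT : IsField (T.presheaf.stalk t))
    {P : CochainComplex X.Modules ℤ} (hP : DCoh.IsStrictlyPerfect P) {i a b : ℤ} {r : ℕ} (hb : i < b)
    (hs : DCoh.VanishesOutside P a b) (hc : FibConc g t P i r) :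
    ∃ (U : Scheme.{u}) (j : U ⟶ X) (_ : IsOpenImmersion j) (g' : T ⟶ U), g' ≫ j = g ∧
      ∃ P' : CochainComplex U.Modules ℤ, DCoh.IsStrictlyPerfect P' ∧ DCoh.VanishesOutside P' a (b - 1) ∧
        FibConc g' t P' i r ∧ Nonempty (DerivedCategory.Q.obj P' ≅ DerivedCategory.Q.obj ((resCx j).obj P)) := by
  obtain ⟨U, j, hj, m, n, hx, ⟨eA⟩, ⟨eB⟩⟩ := exists_free_nhd hP (g t) (b - 1) b
  obtain ⟨g₁, hg₁⟩ := exists_lift_point g t j hx
  let P₁ := (resCx j).obj P
  have hs₁ : DCoh.VanishesOutside P₁ a b := fun k hk => (Scheme.Modules.restrictFunctor j).map_isZero (hs k hk)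
  have hc₁ := fibConc_resCx j g₁ hg₁ hc
  have hepi : Epi ((fib g₁ t).map (P₁.d (b - 1) b)) := by
    have hex := ((fibCx g₁ t P₁).exactAt_iff' (b - 1) b (b + 1) (by simp) (by simp)).1
      ((exactAt_iff_isZero_homology _ _).2 (hc₁.1 b (by omega)))
    exact hex.epi_f (((fib g₁ t).map_isZero (hs₁ (b + 1) (by omega))).eq_of_tgt _ _)
  obtain ⟨W, k, hk, hxW, hepiW⟩ := exists_epi_of_fib_epi g₁ t hT eB (P₁.d (b - 1) b) hepi
  obtain ⟨g₂, hg₂⟩ := exists_lift_point g₁ t k hxW
  let P₂ := (resCx k).obj P₁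
  have hs₂ : DCoh.VanishesOutside P₂ a b := fun l hl => (Scheme.Modules.restrictFunctor k).map_isZero (hs₁ l hl)
  have hP₂ : DCoh.IsStrictlyPerfect P₂ := strictlyPerfect_resCx k (strictlyPerfect_resCx j hP)
  have hd : Epi (P₂.d (b - 1) b) := hepiW
  have hLE : P₂.IsLE (b - 1) := (P₂.isLE_iff (b - 1)).2 fun l hl => by
    by_cases hlb : l = b
    · subst hlb
      rw [P₂.exactAt_iff' (l - 1) l (l + 1) (by simp) (by simp)]
      exact (ShortComplex.exact_iff_epi _ ((hs₂ (l + 1) (by omega)).eq_of_tgt _ _)).2 hd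
    · exact ExactAt.of_isZero (hs₂ l (by omega))
  let P' := P₂.truncLE (b - 1)
  have hvan : DCoh.VanishesOutside P' a (b - 1) := fun l hl => by
    by_cases hl' : b - 1 < l
    · exact CochainComplex.isZero_of_isStrictlyLE P' (b - 1) l hl'
    · rcases eq_or_lt_of_le (le_of_not_gt hl') with rfl | hl''
      · exact (IsZero.of_mono (P₂.iCycles (b - 1)) (hs₂ (b - 1) (by omega))).of_iso (P₂.truncLEXIsoCycles (b - 1))
      · exact (hs₂ l (by omega)).of_iso (P₂.truncLEXIso (b - 1) l hl'')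
  have hP' : DCoh.IsStrictlyPerfect P' := ⟨⟨a, b - 1, hvan⟩, fun l => by
    rcases lt_trichotomy l (b - 1) with hl | rfl | hl
    · exact DCoh.isFinLocFree_of_iso (P₂.truncLEXIso (b - 1) l hl).symm (hP₂.2 l)
    · exact DCoh.isFinLocFree_of_iso
        (IsLimit.conePointUniqueUpToIso (kernelIsKernel (P₂.d (b - 1) b)) (P₂.cyclesIsKernel (b - 1) b (by simp)) ≪≫
          (P₂.truncLEXIsoCycles (b - 1)).symm)
        (isFinLocFree_kernel (P₂.d (b - 1) b) (hP₂.2 _) (hP₂.2 _))
    · exact DCoh.isFinLocFree_of_isZero (CochainComplex.isZero_of_isStrictlyLE P' (b - 1) l hl)⟩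
  have : QuasiIso (P₂.ιTruncLE (b - 1)) := inferInstance
  refine ⟨W, k ≫ j, inferInstance, g₂, by rw [← Category.assoc, hg₂, hg₁], P', hP', hvan,
    (fibConc_quasiIso (P₂.ιTruncLE (b - 1)) hP' hP₂).2 (fibConc_resCx k g₂ hg₂ hc₁), ⟨?_⟩⟩
  exact asIso (DerivedCategory.Q.map (P₂.ιTruncLE (b - 1))) ≪≫
    DerivedCategory.Q.mapIso ((resCxCompIso k j).app P).symm

theorem exists_oneDeg_bot [Subsingleton T] (g : T ⟶ X) (t : T) (hT : IsField (T.presheaf.stalk t))
    {P : CochainComplex X.Modules ℤ} (hP : DCoh.IsStrictlyPerfect P) {i a b : ℤ} {r : ℕ} (ha : a < i) (hb : i ≤ b)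
    (hs : DCoh.VanishesOutside P a b) (hc : FibConc g t P i r) :
    ∃ (U : Scheme.{u}) (j : U ⟶ X) (_ : IsOpenImmersion j) (g' : T ⟶ U), g' ≫ j = g ∧
      ∃ P' : CochainComplex U.Modules ℤ, DCoh.IsStrictlyPerfect P' ∧ DCoh.VanishesOutside P' (a + 1) b ∧
        FibConc g' t P' i r ∧ Nonempty (DerivedCategory.Q.obj P' ≅ DerivedCategory.Q.obj ((resCx j).obj P)) := by
  obtain ⟨U, j, hj, m, n, hx, ⟨eA⟩, ⟨eB⟩⟩ := exists_free_nhd hP (g t) a (a + 1)
  obtain ⟨g₁, hg₁⟩ := exists_lift_point g t j hx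
  let P₁ := (resCx j).obj P
  have hs₁ : DCoh.VanishesOutside P₁ a b := fun k hk => (Scheme.Modules.restrictFunctor j).map_isZero (hs k hk)
  have hc₁ := fibConc_resCx j g₁ hg₁ hc
  have hmono : Mono ((fib g₁ t).map (P₁.d a (a + 1))) := by
    have hex := ((fibCx g₁ t P₁).exactAt_iff' (a - 1) a (a + 1) (by simp) (by simp)).1
      ((exactAt_iff_isZero_homology _ _).2 (hc₁.1 a (by omega)))
    exact hex.mono_g (((fib g₁ t).map_isZero (hs₁ (a - 1) (by omega))).eq_of_src _ _)
  obtain ⟨W, k, hk, hxW, hmonoW, hcok⟩ := exists_mono_of_fib_mono g₁ t hT eA eB (P₁.d a (a + 1)) hmono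
  obtain ⟨g₂, hg₂⟩ := exists_lift_point g₁ t k hxW
  let P₂ := (resCx k).obj P₁
  have hs₂ : DCoh.VanishesOutside P₂ a b := fun l hl => (Scheme.Modules.restrictFunctor k).map_isZero (hs₁ l hl)
  have hP₂ : DCoh.IsStrictlyPerfect P₂ := strictlyPerfect_resCx k (strictlyPerfect_resCx j hP)
  have hd : Mono (P₂.d a (a + 1)) := hmonoW
  have hGE : P₂.IsGE (a + 1) := (P₂.isGE_iff (a + 1)).2 fun l hl => by
    by_cases hla : l = a
    · subst hla
      rw [P₂.exactAt_iff' (l - 1) l (l + 1) (by simp) (by simp)]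
      exact (ShortComplex.exact_iff_mono _ ((hs₂ (l - 1) (by omega)).eq_of_src _ _)).2 hd
    · exact ExactAt.of_isZero (hs₂ l (by omega))
  let P' := P₂.truncGE (a + 1)
  have hvan : DCoh.VanishesOutside P' (a + 1) b := fun l hl => by
    by_cases hl' : l < a + 1
    · exact CochainComplex.isZero_of_isStrictlyGE P' (a + 1) l hl'
    · exact (hs₂ l (by omega)).of_iso (P₂.truncGEXIso (a + 1) l (by omega))
  have hP' : DCoh.IsStrictlyPerfect P' := ⟨⟨a + 1, b, hvan⟩, fun l => by
    rcases lt_trichotomy l (a + 1) with hl | rfl | hl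
    · exact DCoh.isFinLocFree_of_isZero (CochainComplex.isZero_of_isStrictlyGE P' (a + 1) l hl)
    · exact DCoh.isFinLocFree_of_iso
        (IsColimit.coconePointUniqueUpToIso (cokernelIsCokernel (P₂.d a (a + 1)))
          (P₂.opcyclesIsCokernel a (a + 1) (by simp)) ≪≫ (P₂.truncGEXIsoOpcycles (a + 1)).symm) hcok
    · exact DCoh.isFinLocFree_of_iso (P₂.truncGEXIso (a + 1) l hl).symm (hP₂.2 l)⟩
  have : QuasiIso (P₂.πTruncGE (a + 1)) := inferInstance
  refine ⟨W, k ≫ j, inferInstance, g₂, by rw [← Category.assoc, hg₂, hg₁], P', hP', hvan,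
    (fibConc_quasiIso (P₂.πTruncGE (a + 1)) hP₂ hP').1 (fibConc_resCx k g₂ hg₂ hc₁), ⟨?_⟩⟩
  exact (asIso (DerivedCategory.Q.map (P₂.πTruncGE (a + 1)))).symm ≪≫
    DerivedCategory.Q.mapIso ((resCxCompIso k j).app P).symm

theorem isFinLocFreeOfRank_restrict {U : Scheme.{u}} (j : U ⟶ X) [IsOpenImmersion j] {M : X.Modules} {r : ℕ}
    (h : FlatMod.IsFinLocFreeOfRank r M) : FlatMod.IsFinLocFreeOfRank r ((Scheme.Modules.restrictFunctor j).obj M) :=
  fun y => by
    obtain ⟨V, hy, ⟨e⟩⟩ := h (j y)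
    exact ⟨j ⁻¹ᵁ V, hy, ⟨(Scheme.Modules.restrictFunctorIsoPullback (j ⁻¹ᵁ V).ι).app _ ≪≫
      (Scheme.Modules.pullback _).mapIso ((Scheme.Modules.restrictFunctorIsoPullback j).app M) ≪≫
      ((Scheme.Modules.restrictFunctorIsoPullback (j ⁻¹ᵁ V).ι).app _).symm ≪≫
      (pullSquareIso j V).app M ≪≫ (Scheme.Modules.pullback (j ∣_ V)).mapIso e ≪≫ pullFreeModIso _ r⟩⟩

theorem OneDeg.of_iso {i : ℤ} {r : ℕ} {K L : DCoh.D X} (h : OneDeg i r K) (e : K ≅ L) : OneDeg i r L := by
  obtain ⟨M, hM, ⟨q⟩⟩ := h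
  exact ⟨M, hM, ⟨e.symm ≪≫ q⟩⟩

theorem OneDeg.restrict {i : ℤ} {r : ℕ} {K : DCoh.D X} (h : OneDeg i r K) {U : Scheme.{u}} (j : U ⟶ X)
    [IsOpenImmersion j] : OneDeg i r ((resD j).obj K) := by
  obtain ⟨M, hM, ⟨q⟩⟩ := h
  exact ⟨_, isFinLocFreeOfRank_restrict j hM, ⟨(resD j).mapIso q ≪≫ ((resD j).commShiftIso (-i)).app _ ≪≫
    (shiftFunctor _ (-i)).mapIso ((resD j).mapIso ((DerivedCategory.singleFunctorIsoCompQ _ 0).app M) ≪≫
      (resDFac j).app _ ≪≫ DerivedCategory.Q.mapIso
        ((HomologicalComplex.singleMapHomologicalComplex (Scheme.Modules.restrictFunctor j) (ComplexShape.up ℤ) 0).app M) ≪≫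
      ((DerivedCategory.singleFunctorIsoCompQ _ 0).app _).symm)⟩⟩

/-- A strictly perfect complex whose fibre is concentrated in one degree is one vector bundle nearby. -/
theorem exists_oneDeg : ∀ (N : ℕ) {X : Scheme.{u}} [Subsingleton T] (g : T ⟶ X) (t : T)
    (_ : IsField (T.presheaf.stalk t)) {P : CochainComplex X.Modules ℤ} (_ : DCoh.IsStrictlyPerfect P)
    {i a b : ℤ} {r : ℕ} (_ : a ≤ i) (_ : i ≤ b) (_ : b - a ≤ N) (_ : DCoh.VanishesOutside P a b)
    (_ : FibConc g t P i r), ∃ (U : Scheme.{u}) (j : U ⟶ X) (_ : IsOpenImmersion j), g t ∈ Set.range j ∧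
      OneDeg i r (DerivedCategory.Q.obj ((resCx j).obj P)) := by
  intro N
  induction N with
  | zero =>
    intro X _ g t hT P hP i a b r ha hb hN hs hc
    exact exists_oneDeg_base g t hT hP i (fun k hk => hs k (by omega)) hc
  | succ N ih =>
    intro X _ g t hT P hP i a b r ha hb hN hs hc
    by_cases hb' : i < b
    · obtain ⟨U, j, hj, g', hg', P', hP', hs', hc', ⟨q⟩⟩ := exists_oneDeg_top g t hT hP hb' hs hc
      obtain ⟨W, k, hk, ⟨w, hw⟩, hW⟩ := ih g' t hT hP' ha (by omega) (by push_cast at hN; omega) hs' hc'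
      refine ⟨W, k ≫ j, inferInstance, ⟨w, by rw [Scheme.Hom.comp_apply, hw, ← Scheme.Hom.comp_apply, hg']⟩,
        hW.of_iso (((resDFac k).app P').symm ≪≫ (resD k).mapIso q ≪≫ (resDFac k).app _ ≪≫
          DerivedCategory.Q.mapIso ((resCxCompIso k j).app P).symm)⟩
    · by_cases ha' : a < i
      · obtain ⟨U, j, hj, g', hg', P', hP', hs', hc', ⟨q⟩⟩ := exists_oneDeg_bot g t hT hP ha' hb hs hc
        obtain ⟨W, k, hk, ⟨w, hw⟩, hW⟩ := ih g' t hT hP' (by omega) hb (by push_cast at hN; omega) hs' hc'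
        refine ⟨W, k ≫ j, inferInstance, ⟨w, by rw [Scheme.Hom.comp_apply, hw, ← Scheme.Hom.comp_apply, hg']⟩,
          hW.of_iso (((resDFac k).app P').symm ≪≫ (resD k).mapIso q ≪≫ (resDFac k).app _ ≪≫
            DerivedCategory.Q.mapIso ((resCxCompIso k j).app P).symm)⟩
      · exact exists_oneDeg_base g t hT hP i (fun k hk => hs k (by omega)) hc

end GrothLib.OX
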