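import Groth.Agent.Lib.OX.PerfectCriterion
import Groth.Agent.Lib.OX.SingleDegree
import Groth.Agent.Lib.Euler.Coh
import Groth.Agent.Lib.FlatFP.Kernel
import Groth.Agent.Lib.QCoh.Coherent
import Groth.Prelude.Def_CohB1

/-! # Cohomology sheaves of pseudo-coherent objects -/

set_option autoImplicit false
set_option maxHeartbeats 800000
universe u

open CategoryTheory CategoryTheory.Limits AlgebraicGeometry HomologicalComplex Opposite TopologicalSpace
open AlgebraicGeometry.Scheme.Modules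

attribute [local instance] HasDerivedCategory.standard

namespace GrothLib.OX

variable {X : Scheme.{u}}

/-- Finite type, from local epimorphisms out of finite free modules. -/
theorem isFT_of_local_epi (M : X.Modules)
    (h : ∀ x : X, ∃ (U : X.Opens) (n : ℕ) (p : FlatMod.freeMod U n ⟶ (Scheme.Modules.restrictFunctor U.ι).obj M),
      x ∈ U ∧ Epi p) : CohB1.IsFT M := by
  choose U n p hx hp using h
  let e := fun x => Sigma.reindex (Equiv.ulift.{u} (α := Fin (n x))) (fun _ : Fin (n x) => Coh.structureModule (U x))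
  let q : ∀ x, (SheafOfModules.free (R := (U x : Scheme.{u}).ringCatSheaf) (ULift.{u} (Fin (n x)))) ⟶
      (Scheme.Modules.restrictFunctor (U x).ι).obj M := fun x => (e x).hom ≫ p x
  have hq : ∀ x, Epi (q x) := fun x => @epi_comp _ _ _ _ _ (e x).hom inferInstance (p x) (hp x)
  let G : ∀ x, SheafOfModules.GeneratingSections.{u} ((Scheme.Modules.restrictFunctor (U x).ι).obj M) := fun x =>
    { I := ULift.{u} (Fin (n x))
      s := SheafOfModules.freeHomEquiv _ (q x)
      epi := by
        rw [Equiv.symm_apply_apply]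
        exact hq x }
  have : ∀ x, (G x).IsFiniteType := fun x => ⟨inferInstanceAs (Finite (ULift.{u} (Fin (n x))))⟩
  let σ : SheafOfModules.LocalGeneratorsData.{u} (R := X.ringCatSheaf) M :=
    { I := X
      X := U
      coversTop := (Opens.coversTop_iff _ U).2 (eq_top_iff.2 fun x _ => Opens.mem_iSup.2 ⟨x, hx x⟩)
      generators := fun x => ((G x).map (overEquiv (U x)).inverse
        ((overEquiv (U x)).unitIso.app _ ≪≫ (overEquiv (U x)).inverse.mapIso (QCoh.overUnitIso (U x)))).ofEpi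
        (((overEquiv (U x)).inverse.mapIso ((overFunctorEquiv (U x)).app M).symm) ≪≫
          ((overEquiv (U x)).unitIso.app (SheafOfModules.over M (U x))).symm).hom }
  have hσ : σ.IsFiniteType := by
    constructor
    intro x
    exact ⟨(inferInstance : Finite (ULift.{u} (Fin (n x))))⟩
  constructor
  exact ⟨σ, hσ⟩

theorem isQuasicoherent_homology {P : CochainComplex X.Modules ℤ} (h : ∀ i, (P.X i).IsQuasicoherent) (i : ℤ) :
    (P.homology i).IsQuasicoherent := by
  have := h (i - 1)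
  have := h i
  have := h (i + 1)
  have : (P.cycles i).IsQuasicoherent :=
    @QCoh.isQuasicoherent_of_iso _ _ _ (IsLimit.conePointUniqueUpToIso (kernelIsKernel (P.d i (i + 1)))
      (P.cyclesIsKernel i (i + 1) (by simp))) (QCoh.isQuasicoherent_kernel _)
  exact @QCoh.isQuasicoherent_of_iso _ _ _
    (IsColimit.coconePointUniqueUpToIso (cokernelIsCokernel (P.toCycles (i - 1) i))
      (P.homologyIsCokernel (i - 1) i (by simp))) (QCoh.isQuasicoherent_cokernel _)

/-- Cycles of a strictly perfect complex which is exact above. -/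
theorem isFinLocFree_cycles {P : CochainComplex X.Modules ℤ} (hP : DCoh.IsStrictlyPerfect P) (i : ℤ)
    (h : ∀ k, i < k → P.ExactAt k) : FlatMod.IsFinLocFree (P.cycles i) := by
  obtain ⟨⟨a, b, hab⟩, hfl⟩ := hP
  suffices H : ∀ (d : ℕ) (i : ℤ), b ≤ i + d → (∀ k, i < k → P.ExactAt k) → FlatMod.IsFinLocFree (P.cycles i) from
    H (b - i).toNat i (by omega) h
  intro d
  induction d with
  | zero =>
    intro i hi _
    have : IsIso (P.iCycles i) := P.isIso_iCycles i (i + 1) (by simp) ((hab (i + 1) (by omega)).eq_of_tgt _ _)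
    exact DCoh.isFinLocFree_of_iso (asIso (P.iCycles i)).symm (hfl i)
  | succ d ih =>
    intro i hi hex
    have hc := ih (i + 1) (by push_cast at hi; omega) fun k hk => hex k (by omega)
    have : Epi (P.toCycles i (i + 1)) := by
      have h0 := (exactAt_iff_isZero_homology _ _).1 (hex (i + 1) (by omega))
      refine Abelian.epi_of_cokernel_π_eq_zero _ (IsZero.eq_of_tgt ?_ _ _)
      exact h0.of_iso (IsColimit.coconePointUniqueUpToIso (cokernelIsCokernel (P.toCycles i (i + 1)))
        (P.homologyIsCokernel i (i + 1) (by simp)))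
    let K := kernel (P.toCycles i (i + 1))
    have hK := isFinLocFree_kernel (P.toCycles i (i + 1)) (hfl i) hc
    refine DCoh.isFinLocFree_of_iso ?_ hK
    let e₁ := kernelCompMono (P.toCycles i (i + 1)) (P.iCycles (i + 1))
    exact e₁.symm ≪≫ kernelIsoOfEq (P.toCycles_i i (i + 1)) ≪≫
      IsLimit.conePointUniqueUpToIso (kernelIsKernel (P.d i (i + 1))) (P.cyclesIsKernel i (i + 1) (by simp))

/-- Sections of a cokernel of finite locally free modules on small affines are finitely presented. -/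
theorem exists_affine_fp_cokernel {M N : X.Modules} (d : M ⟶ N) (hM : FlatMod.IsFinLocFree M)
    (hN : FlatMod.IsFinLocFree N) (x : X) :
    ∃ W : X.Opens, IsAffineOpen W ∧ x ∈ W ∧ Module.FinitePresentation Γ(X, W) Γ(cokernel d, W) := by
  have := Euler.isQuasicoherent_of_isFinLocFree hM
  have := Euler.isQuasicoherent_of_isFinLocFree hN
  have : (cokernel d).IsQuasicoherent := QCoh.isQuasicoherent_cokernel d
  obtain ⟨U, n, e, hxU, he⟩ := FinCov.exists_frame_nhd hN x
  obtain ⟨W, hW, hxW, hWU⟩ := exists_isAffineOpen_mem_and_subset (x := x) (U := U) hxU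
  refine ⟨W, hW, hxW, ?_⟩
  let b := he.basis W hWU
  have : Module.Free Γ(X, W) Γ(N, W) := Module.Free.of_basis b
  have : Module.Finite Γ(X, W) Γ(N, W) := Module.Finite.of_basis b
  have : Module.Projective Γ(X, W) Γ(N, W) := Module.Projective.of_free
  have : Module.FinitePresentation Γ(X, W) Γ(N, W) :=
    @Module.finitePresentation_of_projective Γ(X, W) Γ(N, W) _ _ _ inferInstance inferInstance
  have hM' := Euler.isCoh_of_isFinLocFree hM
  have := QCoh.moduleFinite_of_isFiniteType M hM'.2 (hW)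
  let S₁ := ShortComplex.mk (kernel.ι d) (Abelian.factorThruImage d) (by
    rw [← cancel_mono (Abelian.image.ι d), Category.assoc, Abelian.image.fac, kernel.condition, zero_comp])
  have hS₁ : S₁.ShortExact :=
    { exact := ShortComplex.exact_of_f_is_kernel _ (KernelFork.IsLimit.ofι' _ _ fun {A} k hk =>
        ⟨kernel.lift d k (by
          rw [← Abelian.image.fac d, ← Category.assoc, show k ≫ Abelian.factorThruImage d = 0 from hk, zero_comp]),
          kernel.lift_ι _ _ _⟩) }
  let S₂ := ShortComplex.mk (Abelian.image.ι d) (cokernel.π d) (kernel.condition _)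
  have hS₂ : S₂.ShortExact := { exact := ShortComplex.exact_kernel _, epi_g := coequalizer.π_epi }
  have : S₂.X₁.IsQuasicoherent := QCoh.isQuasicoherent_image d
  have : S₁.X₁.IsQuasicoherent := QCoh.isQuasicoherent_kernel d
  have hsurj : Function.Surjective (QCoh.appLinear (cokernel.π d) W) :=
    QCoh.app_surjective_of_isAffineOpen hS₂ (hW)
  have h₁ : Function.Surjective (QCoh.appLinear (Abelian.factorThruImage d) W) :=
    QCoh.app_surjective_of_isAffineOpen hS₁ (hW)
  have : Module.Finite Γ(X, W) Γ(Abelian.image d, W) := Module.Finite.of_surjective _ h₁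
  refine Module.finitePresentation_of_surjective (QCoh.appLinear (cokernel.π d) W) hsurj ?_
  have hker : LinearMap.ker (QCoh.appLinear (cokernel.π d) W) =
      LinearMap.range (QCoh.appLinear (Abelian.image.ι d) W) := by
    ext z
    exact ⟨fun hz => QCoh.app_exact hS₂ W z hz, fun ⟨a, ha⟩ => by rw [← ha]; exact QCoh.app_comp_zero (S := S₂) W a⟩
  rw [hker]
  exact Module.Finite.iff_fg.1 (Module.Finite.range _)

theorem homology_cokernel_of_cycles (P : CochainComplex X.Modules ℤ) (i : ℤ) :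
    Nonempty (cokernel (P.toCycles (i - 1) i) ≅ P.homology i) :=
  ⟨IsColimit.coconePointUniqueUpToIso (cokernelIsCokernel (P.toCycles (i - 1) i))
    (P.homologyIsCokernel (i - 1) i (by simp))⟩

theorem nonempty_hd_resD {U : Scheme.{u}} (j : U ⟶ X) [IsOpenImmersion j] (K : DCoh.D X) (k : ℤ) :
    Nonempty (DCoh.HD ((resD j).obj K) k ≅ (Scheme.Modules.restrictFunctor j).obj (DCoh.HD K k)) :=
  DerTrunc.nonempty_homology_mapDerivedCategory (Scheme.Modules.restrictFunctor j) K k

theorem Approx.exists_open {m : ℤ} {K : DCoh.D X} (h : DCoh.IsPseudoCoherentD m K) (x : X) :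
    ∃ V : X.Opens, x ∈ V ∧ Approx m ((resD V.ι).obj K) := by
  obtain ⟨V, hx, hV⟩ := h x
  let F := DerivedCategory.Q.objPreimage K
  let e : DerivedCategory.Q.obj F ≅ K := DerivedCategory.Q.objObjPreimageIso K
  obtain ⟨E, α, hE, hiso, hepi⟩ := hV F ⟨e⟩
  exact ⟨V, hx, Approx.of_iso ⟨E, α, hE, ⟨hiso, hepi⟩⟩ (((resDFac V.ι).app F).symm ≪≫ (resD V.ι).mapIso e)⟩

theorem isQCoh_HD_of_pseudoCoherent {m : ℤ} {K : DCoh.D X} (h : DCoh.IsPseudoCoherentD m K) {i : ℤ} (hi : m < i) :
    Coh.IsQCoh (DCoh.HD K i) := by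
  choose V hx hV using Approx.exists_open h
  refine QCoh.isQuasicoherent_of_restrict (DCoh.HD K i) V
    (eq_top_iff.2 fun x _ => Opens.mem_iSup.2 ⟨x, hx x⟩) fun x => ?_
  obtain ⟨P, α, hP, hα⟩ := hV x
  have := hα.1 i hi
  exact @QCoh.isQuasicoherent_of_iso _ _ _
    ((hdIso P i).symm ≪≫ asIso ((DerivedCategory.homologyFunctor _ i).map α) ≪≫
      (nonempty_hd_resD (V x).ι K i).some)
    (isQuasicoherent_homology (fun k => Euler.isQuasicoherent_of_isFinLocFree (hP.2 k)) i)

theorem exists_qcoh_epi_HD {m : ℤ} {K : DCoh.D X} (h : DCoh.IsPseudoCoherentD m K) (x : X) :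
    ∃ (V : X.Opens) (Q : (V : Scheme.{u}).Modules)
      (π : Q ⟶ (Scheme.Modules.restrictFunctor V.ι).obj (DCoh.HD K m)), x ∈ V ∧ Coh.IsQCoh Q ∧ Epi π := by
  obtain ⟨V, hx, P, α, hP, hα⟩ := Approx.exists_open h x
  have := hα.2
  exact ⟨V, _, (hdIso P m).inv ≫ (DerivedCategory.homologyFunctor _ m).map α ≫ (nonempty_hd_resD V.ι K m).some.hom,
    hx, isQuasicoherent_homology (fun k => Euler.isQuasicoherent_of_isFinLocFree (hP.2 k)) m,
    @epi_comp _ _ _ _ _ _ inferInstance _ (@epi_comp _ _ _ _ _ _ hα.2 _ inferInstance)⟩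

theorem exactAt_approx {m : ℤ} {V : X.Opens} {K : DCoh.D X} {P : CochainComplex (V : Scheme.{u}).Modules ℤ}
    {α : DerivedCategory.Q.obj P ⟶ (resD V.ι).obj K} (hα : DerCat.Good α m) {k : ℤ} (hk : m < k)
    (h : IsZero (DCoh.HD K k)) : P.ExactAt k := by
  have := hα.1 k hk
  refine (exactAt_iff_isZero_homology _ _).2 ?_
  exact ((Scheme.Modules.restrictFunctor V.ι).map_isZero h).of_iso
    ((hdIso P k).symm ≪≫ asIso ((DerivedCategory.homologyFunctor _ k).map α) ≪≫ (nonempty_hd_resD V.ι K k).some)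

theorem isFT_HD_top {m : ℤ} {K : DCoh.D X} (h : DCoh.IsPseudoCoherentD m K)
    (hz : ∀ i, m < i → IsZero (DCoh.HD K i)) : CohB1.IsFT (DCoh.HD K m) := by
  refine isFT_of_local_epi _ fun x => ?_
  obtain ⟨V, hx, P, α, hP, hα⟩ := Approx.exists_open h x
  have hZ := isFinLocFree_cycles hP m fun k hk => exactAt_approx hα hk (hz k hk)
  obtain ⟨W, n, hW, ⟨t⟩⟩ := hZ ⟨x, hx⟩
  let R := Scheme.Modules.restrictFunctor W.ι
  let q : P.cycles m ⟶ (Scheme.Modules.restrictFunctor V.ι).obj (DCoh.HD K m) :=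
    P.homologyπ m ≫ (hdIso P m).inv ≫ (DerivedCategory.homologyFunctor _ m).map α ≫
      (nonempty_hd_resD V.ι K m).some.hom
  have : Epi q := @epi_comp _ _ _ _ _ _ inferInstance _ (@epi_comp _ _ _ _ _ _ inferInstance _
    (@epi_comp _ _ _ _ _ _ hα.2 _ inferInstance))
  let jj := W.ι ≫ V.ι
  have hjj : jj.isoOpensRange.inv ≫ jj = jj.opensRange.ι := by
    rw [Iso.inv_comp_eq, Scheme.Hom.isoOpensRange_hom_ι]
  let c := Scheme.Modules.restrictFunctorCongr hjj.symm ≪≫
    Scheme.Modules.restrictFunctorComp jj.isoOpensRange.inv jj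
  let R' := Scheme.Modules.restrictFunctor jj.isoOpensRange.inv
  let p₁ : FlatMod.freeMod W n ⟶ (Scheme.Modules.restrictFunctor jj).obj (DCoh.HD K m) :=
    t.inv ≫ R.map q ≫ (Scheme.Modules.restrictFunctorComp W.ι V.ι).inv.app (DCoh.HD K m)
  have : Epi p₁ := @epi_comp _ _ _ _ _ _ inferInstance _ (@epi_comp _ _ _ _ _ _ inferInstance _ inferInstance)
  refine ⟨jj.opensRange, n, (DCoh.restrictFreeModIso _ n).inv ≫ R'.map p₁ ≫ c.inv.app _,
    ⟨⟨⟨x, hx⟩, hW⟩, rfl⟩, ?_⟩
  exact @epi_comp _ _ _ _ _ _ inferInstance _ (@epi_comp _ _ _ _ _ _ inferInstance _ inferInstance)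

/-- Sections of a restriction on an open are those of the module, linearly. -/
theorem finitePresentation_of_restrict {V : X.Opens} (M : X.Modules) (W : (V : Scheme.{u}).Opens)
    (h : Module.FinitePresentation Γ((V : Scheme.{u}), W) Γ((Scheme.Modules.restrictFunctor V.ι).obj M, W)) :
    Module.FinitePresentation Γ(X, V.ι ''ᵁ W) Γ(M, V.ι ''ᵁ W) := by
  letI : Module Γ((V : Scheme.{u}), W) Γ(M, V.ι ''ᵁ W) := inferInstanceAs (Module Γ(X, V.ι ''ᵁ W) Γ(M, V.ι ''ᵁ W))
  let e : Γ((Scheme.Modules.restrictFunctor V.ι).obj M, W) ≃ₗ[Γ((V : Scheme.{u}), W)] Γ(M, V.ι ''ᵁ W) :=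
    { toFun := fun a => a
      invFun := fun a => a
      map_add' := fun _ _ => rfl
      map_smul' := fun r a => by
        show ((V.ι.appIso W).inv r) • (show Γ(M, V.ι ''ᵁ W) from a) = r • (show Γ(M, V.ι ''ᵁ W) from a)
        rw [Scheme.Opens.ι_appIso]
        rfl
      left_inv := fun _ => rfl
      right_inv := fun _ => rfl }
  exact Module.FinitePresentation.of_equiv (R := Γ((V : Scheme.{u}), W)) e

theorem finitePresentation_of_iso {M N : X.Modules} (e : M ≅ N) (W : X.Opens)
    (h : Module.FinitePresentation Γ(X, W) Γ(M, W)) : Module.FinitePresentation Γ(X, W) Γ(N, W) :=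
  Module.FinitePresentation.of_equiv (R := Γ(X, W)) (LinearEquiv.ofLinearMap (QCoh.appLinear e.hom W)
    (QCoh.appLinear e.inv W) (LinearMap.ext fun a => (ConcreteCategory.comp_apply _ _ a).symm.trans
      (by rw [← Scheme.Modules.Hom.comp_app, e.inv_hom_id]))
    (LinearMap.ext fun a => (ConcreteCategory.comp_apply _ _ a).symm.trans
      (by rw [← Scheme.Modules.Hom.comp_app, e.hom_inv_id])))

theorem isFP_HD_top {m : ℤ} {K : DCoh.D X} (h : DCoh.IsPseudoCoherentD m K)
    (hz : ∀ i, m + 1 < i → IsZero (DCoh.HD K i)) : CohB1.IsFP (DCoh.HD K (m + 1)) := by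
  have : (DCoh.HD K (m + 1)).IsQuasicoherent := isQCoh_HD_of_pseudoCoherent h (by omega)
  have key : ∀ x : X, ∃ W : X.Opens, IsAffineOpen W ∧ x ∈ W ∧
      Module.FinitePresentation Γ(X, W) Γ(DCoh.HD K (m + 1), W) := fun x => by
    obtain ⟨V, hx, P, α, hP, hα⟩ := Approx.exists_open h x
    have hZ := isFinLocFree_cycles hP (m + 1) fun k hk => exactAt_approx hα (by omega) (hz k hk)
    obtain ⟨W, hW, hxW, hfp⟩ := exists_affine_fp_cokernel (P.toCycles (m + 1 - 1) (m + 1)) (hP.2 _) hZ ⟨x, hx⟩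
    have := hα.1 (m + 1) (by omega)
    let e : cokernel (P.toCycles (m + 1 - 1) (m + 1)) ≅ (Scheme.Modules.restrictFunctor V.ι).obj (DCoh.HD K (m + 1)) :=
      (homology_cokernel_of_cycles P (m + 1)).some ≪≫ (hdIso P (m + 1)).symm ≪≫
        asIso ((DerivedCategory.homologyFunctor _ (m + 1)).map α) ≪≫ (nonempty_hd_resD V.ι K (m + 1)).some
    exact ⟨V.ι ''ᵁ W, hW.image_of_isOpenImmersion V.ι, ⟨⟨x, hx⟩, hxW, rfl⟩,
      finitePresentation_of_restrict _ W (finitePresentation_of_iso e W hfp)⟩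
  choose W hW hxW hfp using key
  exact FlatFP.isFP_of_sections _ W (eq_top_iff.2 fun x _ => Opens.mem_iSup.2 ⟨x, hxW x⟩) hW hfp

end GrothLib.OX
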