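import Groth.Agent.Lib.OX.ExtZeroD
import Groth.Agent.Lib.OX.AffineLocal
import Groth.Agent.Lib.OX.PCohQCoh
import Groth.Agent.Lib.OX.PerfectCriterion
import Groth.Agent.Lib.DerCat.BoundedDevissage
import Groth.Agent.Lib.OX.GenFinHom
import Groth.Agent.Lib.SiteDer.PushAb

/-! # Perfect objects are built from the generators at affine opens -/

set_option autoImplicit false
set_option maxHeartbeats 800000
universe u

open CategoryTheory CategoryTheory.Limits AlgebraicGeometry TopologicalSpace Pretriangulated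

attribute [local instance] HasDerivedCategory.standard

namespace GrothLib.OX

/-- Perfect objects have quasi-coherent cohomology. -/
theorem isQCohD_of_isPerfect {X : Scheme.{u}} {K : DCoh.D X} (hK : DCoh.IsPerfect K) : DCoh.IsQCohD K :=
  fun i => isQCoh_HD_of_pseudoCoherent (isPseudoCoherentD_of_isPerfect hK (i - 1)) (by omega)

section Free

variable {A : Type u} [CommRing A]

theorem prop_finite_free {P : ModuleCat.{u} A → Prop} (hzero : ∀ Z : ModuleCat.{u} A, IsZero Z → P Z)
    (htotal : ∀ {M₁ M₂ M : ModuleCat.{u} A} (i₁ : M₁ ⟶ M) (p₁ : M ⟶ M₁) (i₂ : M₂ ⟶ M) (p₂ : M ⟶ M₂),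
      p₁ ≫ i₁ + p₂ ≫ i₂ = 𝟙 M → P M₁ → P M₂ → P M) (h1 : P (ModuleCat.of A A)) :
    ∀ n : ℕ, P (ModuleCat.of A (Fin n → A))
  | 0 => hzero _ (ModuleCat.isZero_of_subsingleton _)
  | n + 1 => by
    refine htotal (M₁ := ModuleCat.of A A) (M₂ := ModuleCat.of A (Fin n → A))
      (ModuleCat.ofHom (LinearMap.pi (Fin.cons LinearMap.id fun _ => 0)))
      (ModuleCat.ofHom (LinearMap.proj 0))
      (ModuleCat.ofHom (LinearMap.pi (Fin.cons 0 fun i => LinearMap.proj i)))
      (ModuleCat.ofHom (LinearMap.pi fun i : Fin n => LinearMap.proj i.succ)) ?_ h1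
      (prop_finite_free hzero htotal h1 n)
    refine ModuleCat.hom_ext (LinearMap.ext fun v => funext fun i => ?_)
    cases i using Fin.cases <;> simp

theorem prop_finite_projective {P : ModuleCat.{u} A → Prop} (hzero : ∀ Z : ModuleCat.{u} A, IsZero Z → P Z)
    (htotal : ∀ {M₁ M₂ M : ModuleCat.{u} A} (i₁ : M₁ ⟶ M) (p₁ : M ⟶ M₁) (i₂ : M₂ ⟶ M) (p₂ : M ⟶ M₂),
      p₁ ≫ i₁ + p₂ ≫ i₂ = 𝟙 M → P M₁ → P M₂ → P M) (h1 : P (ModuleCat.of A A))
    (M : ModuleCat.{u} A) [Module.Finite A M] [Module.Projective A M] : P M := by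
  obtain ⟨n, f, hf⟩ := Module.Finite.exists_fin' A M
  obtain ⟨g, hg⟩ := Module.projective_lifting_property f LinearMap.id hf
  obtain ⟨Z, hZ⟩ : ∃ Z : ModuleCat.{u} A, IsZero Z :=
    ⟨ModuleCat.of A (Fin 0 → A), ModuleCat.isZero_of_subsingleton _⟩
  refine htotal (M₁ := ModuleCat.of A (Fin n → A)) (M₂ := Z) (ModuleCat.ofHom f) (ModuleCat.ofHom g) 0 0 ?_
    (prop_finite_free hzero htotal h1 n) (hzero Z hZ)
  rw [comp_zero, add_zero]
  exact ModuleCat.hom_ext hg

end Free

/-- On an affine scheme, perfect objects are built from the structure sheaf. -/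
theorem prop_tildeD_of_isPerfect {A : Type u} [CommRing A] {P : DCoh.D (Spec (CommRingCat.of A)) → Prop}
    (hP : TriCat.Thick P)
    (hgen : ∀ k : ℤ, P ((DerivedCategory.singleFunctor (Spec (CommRingCat.of A)).Modules k).obj
      ((genF (Spec (CommRingCat.of A))).obj ⊤)))
    {M : Dual.D A} (hM : DRing.IsPerfect A M) : P ((DCoh.tildeD (CommRingCat.of A)).obj M) := by
  obtain ⟨E, a, b, hv, hp, ⟨e⟩⟩ := hM
  let T := DCoh.tildeD (CommRingCat.of A)
  have hPT : TriCat.Thick (fun N : Dual.D A => P (T.obj N)) := hP.comap T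
  refine hPT.of_iso e (DerCat.prop_Q_of_bounded hPT (b + 1 - a).toNat E a (fun i hi => hv i ?_) fun i => ?_)
  · omega
  · have := (hp i).1
    have := (hp i).2
    let S := DerivedCategory.singleFunctor (ModuleCat.{u} A) i
    refine prop_finite_projective (P := fun N => P (T.obj (S.obj N))) (fun Z hZ => hPT.zero (S.map_isZero hZ))
      (fun {M₁ M₂ M} i₁ p₁ i₂ p₂ h hA hB => hPT.total (S.map i₁) (S.map p₁) (S.map i₂) (S.map p₂)
        (by rw [← S.map_comp, ← S.map_comp, ← S.map_add, h, S.map_id]) hA hB) ?_ (E.X i)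
    exact hP.of_iso ((DerivedCategory.singleFunctor _ i).mapIso (tildeGenIso (CommRingCat.of A)) ≪≫
      (((tilde.functor (CommRingCat.of A)).mapDerivedCategorySingleFunctor i).app (ModuleCat.of A A)).symm) (hgen i)

variable {X : Scheme.{u}}

/-- `j_!` of the generator at the top is the generator at the image. -/
noncomputable def extZeroGenIso {U : Scheme.{u}} (j : U ⟶ X) [IsOpenImmersion j] :
    (genF X).obj (j ''ᵁ ⊤) ≅ (CxOX.extZero j).obj ((genF U).obj ⊤) :=
  SiteDer.corepIso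
    (F := Scheme.Modules.toPresheaf X ⋙ (evaluation _ _).obj (Opposite.op (j ''ᵁ ⊤)) ⋙
      CategoryTheory.forget AddCommGrpCat.{u})
    { homEquiv := fun {M} => genSec M (j ''ᵁ ⊤)
      homEquiv_comp := fun g φ => genSec_comp (j ''ᵁ ⊤) φ g }
    { homEquiv := fun {M} => ((CxOX.extZeroAdj j).homEquiv _ M).trans (genSec _ ⊤)
      homEquiv_comp := fun g φ => by
        simp only [Equiv.trans_apply, Adjunction.homEquiv_naturality_right]
        exact genSec_comp ⊤ _ ((Scheme.Modules.restrictFunctor j).map g) }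

variable {P : DCoh.D X → Prop} (hP : TriCat.Thick P)
  (hgen : ∀ (V : X.Opens), IsAffineOpen V → ∀ k : ℤ,
    P ((DerivedCategory.singleFunctor X.Modules k).obj ((genF X).obj V)))

/-- Comparison between `j_!(K|_U)` for two open immersions with the same image. -/
noncomputable def extZDCongrIso {U V : Scheme.{u}} (i : U ⟶ X) (j : V ⟶ X) [IsOpenImmersion i] [IsOpenImmersion j]
    (h : Set.range i = Set.range j) (K : DCoh.D X) : (extZD i).obj K ≅ (extZD j).obj K :=
  (extZD i).mapIso (DerivedCategory.Q.objObjPreimageIso K).symm ≪≫ extZDCongr i j h _ ≪≫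
    (extZD j).mapIso (DerivedCategory.Q.objObjPreimageIso K)

include hP hgen in
theorem prop_extZD_affine {K : DCoh.D X} (hK : DCoh.IsPerfect K) {V : X.Opens} (hV : IsAffineOpen V) :
    P ((extZD V.ι).obj K) := by
  let j := hV.fromSpec
  refine hP.of_iso ((extZDCompIso j).app K ≪≫ extZDCongrIso j V.ι (by
    rw [hV.range_fromSpec, Scheme.Opens.range_ι]) K) ?_
  have hPj : TriCat.Thick (fun N : DCoh.D (Spec Γ(X, V)) => P ((CxOX.extZeroD j).obj N)) :=
    hP.comap (CxOX.extZeroD j)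
  obtain ⟨M, ⟨e⟩⟩ := exists_tildeD_rep (isQCohD_of_isPerfect hK) j
  have hM : DRing.IsPerfect Γ(X, V) M :=
    (isPerfect_tildeD_iff (A := Γ(X, V)) M).1 (isPerfect_of_iso (isPerfect_resD hK j) e.symm)
  refine hPj.of_iso e (prop_tildeD_of_isPerfect (A := Γ(X, V)) hPj (fun k => ?_) hM)
  have hW : IsAffineOpen (j ''ᵁ ⊤) := (isAffineOpen_top _).image_of_isOpenImmersion j
  exact hP.of_iso ((DerivedCategory.singleFunctor X.Modules k).mapIso (extZeroGenIso j) ≪≫
    (((CxOX.extZero j).mapDerivedCategorySingleFunctor k).app ((genF (Spec Γ(X, V))).obj ⊤)).symm) (hgen _ hW k)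

include hP hgen in
theorem prop_extZD_iSup_le_affine {K : DCoh.D X} (hK : DCoh.IsPerfect K) {B : X.Opens} (hB : IsAffineOpen B) :
    ∀ (n : ℕ) (U : Fin n → X.Opens), (∀ i, IsAffineOpen (U i) ∧ U i ≤ B) → P ((extZD (⨆ i, U i).ι).obj K)
  | 0, U, _ => by rw [iSup_of_empty]; exact prop_extZD_affine hP hgen hK (isAffineOpen_bot X)
  | n + 1, U, hU => by
    have e : (⨆ i, U i) = (⨆ i : Fin n, U i.succ) ⊔ U 0 := by
      refine le_antisymm (iSup_le fun i => ?_) (sup_le (iSup_le fun i => le_iSup U i.succ) (le_iSup U 0))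
      cases i using Fin.cases with
      | zero => exact le_sup_right
      | succ i => exact le_sup_of_le_left (le_iSup (fun i : Fin n => U i.succ) i)
    rw [e]
    refine prop_extZD_union (⨆ i : Fin n, (U i.succ ⊓ U 0)).ι (⨆ i : Fin n, U i.succ).ι (U 0).ι _ hP K
      (prop_extZD_iSup_le_affine hK hB n _ fun i => ⟨?_, inf_le_left.trans (hU _).2⟩)
      (prop_extZD_iSup_le_affine hK hB n _ fun i => hU _) (prop_extZD_affine hP hgen hK (hU 0).1) ?_ ?_
    · have : IsAffine B := hB
      have e : ∀ W : X.Opens, W ≤ B → B.ι ''ᵁ (B.ι ⁻¹ᵁ W) = W := fun W hW ↦ by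
        rw [Scheme.Hom.image_preimage_eq_opensRange_inf, Scheme.Opens.opensRange_ι, inf_eq_right.2 hW]
      rw [← e (U i.succ ⊓ U 0) (inf_le_left.trans (hU _).2), Scheme.Hom.preimage_inf]
      refine IsAffineOpen.image_of_isOpenImmersion (IsAffineOpen.inf ?_ ?_) _ <;>
        rw [← Scheme.Hom.isAffineOpen_iff_of_isOpenImmersion B.ι, e _ (hU _).2]
      exacts [(hU _).1, (hU _).1]
    · simp only [Scheme.Opens.range_ι, ← iSup_inf_eq]; rfl
    · simp only [Scheme.Opens.range_ι]; rfl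

include hP hgen in
/-- Perfect objects on a quasi-compact quasi-separated scheme are built from the generators at affine opens. -/
theorem prop_of_isPerfect [CompactSpace X] [QuasiSeparatedSpace X] {K : DCoh.D X} (hK : DCoh.IsPerfect K) :
    P K := by
  have key : P ((extZD (⊤ : X.Opens).ι).obj K) := by
    refine compact_open_induction_on (⊤ : X.Opens) isCompact_univ
      (prop_extZD_affine hP hgen hK (isAffineOpen_bot X)) fun T hT U ih => ?_
    have hc : IsCompact ((T ⊓ U.1 : X.Opens) : Set X) :=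
      QuasiSeparatedSpace.inter_isCompact (T : Set X) (U.1 : Set X) T.2 hT U.1.2 U.2.isCompact
    obtain ⟨ι, _, W, hWA, hWT, hTW⟩ := QCoh.exists_finite_affine_cover hc
    let e := (Fintype.equivFin ι).symm
    have h := prop_extZD_iSup_le_affine hP hgen hK U.2 _ (W ∘ e) fun i => ⟨hWA _, (hWT _).trans inf_le_right⟩
    rw [show (⨆ i, (W ∘ e) i) = T ⊓ U.1 from by
      rw [show (⨆ i, (W ∘ e) i) = ⨆ i, W i from e.iSup_comp (g := W)]
      exact le_antisymm (iSup_le hWT) hTW] at h
    exact prop_extZD_union (T ⊓ U.1).ι T.ι U.1.ι _ hP K h ih (prop_extZD_affine hP hgen hK U.2)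
      (by simp only [Scheme.Opens.range_ι]; rfl) (by simp only [Scheme.Opens.range_ι]; rfl)
  let F := DerivedCategory.Q.objPreimage K
  exact hP.of_iso ((extZD (⊤ : X.Opens).ι).mapIso (DerivedCategory.Q.objObjPreimageIso K).symm ≪≫
    (extZ (⊤ : X.Opens).ι).mapDerivedCategoryFactors.app F ≪≫
    DerivedCategory.Q.mapIso (extZDIdIso (⊤ : X.Opens).ι (by simp) F) ≪≫ DerivedCategory.Q.objObjPreimageIso K) key

end GrothLib.OX
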