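import Groth.Agent.Lib.QCoh.ClosedImmersion
import Groth.Agent.Lib.OX.Resolution
import Groth.Agent.Lib.OX.LocalLift
import Groth.Agent.Lib.OX.PerfectEnvelope

/-! # Direct image along a closed immersion: exact and cocontinuous -/

set_option autoImplicit false
set_option maxHeartbeats 1000000
universe u

open CategoryTheory CategoryTheory.Limits AlgebraicGeometry Opposite TopologicalSpace

namespace GrothLib.OX

variable {X Y : Scheme.{u}}

/-- The generator at the top is the structure sheaf. -/
noncomputable def genTopIso (X : Scheme.{u}) : (genF X).obj ⊤ ≅ Coh.structureModule X :=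
  SiteDer.corepIso
    (F := Scheme.Modules.toPresheaf X ⋙ (evaluation _ _).obj (op (⊤ : X.Opens)) ⋙
      CategoryTheory.forget AddCommGrpCat.{u})
    { homEquiv := fun {M} => genSec M ⊤
      homEquiv_comp := fun g φ => genSec_comp ⊤ φ g }
    { homEquiv := fun {M} =>
        { toFun := fun g => g.val.app (op ⊤) (1 : X.ringCatSheaf.obj.obj (op ⊤))
          invFun := fun m => ofTop m
          left_inv := fun g => hom_ext_top _ _ (ofTop_app_top _)
          right_inv := fun m => ofTop_app_top m }
      homEquiv_comp := fun _ _ => rfl }

/-- The two families of generators agree. -/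
noncomputable def genIsoGenF (U : X.Opens) : gen X U ≅ (genF X).obj U :=
  SiteDer.corepIso
    (F := Scheme.Modules.toPresheaf X ⋙ (evaluation _ _).obj (op U) ⋙ CategoryTheory.forget AddCommGrpCat.{u})
    { homEquiv := fun {M} => genHomEquiv U M
      homEquiv_comp := fun g φ => genHomEquiv_comp U φ g }
    { homEquiv := fun {M} => genSec M U
      homEquiv_comp := fun g φ => genSec_comp U φ g }

/-- A generator is `j_!` of the structure sheaf. -/
noncomputable def genExtZeroIso (U : X.Opens) : gen X U ≅ (CxOX.extZero U.ι).obj (Coh.structureModule (U : Scheme.{u})) :=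
  genIsoGenF U ≪≫ eqToIso (congrArg (genF X).obj U.ι_image_top.symm) ≪≫ extZeroGenIso U.ι ≪≫
    (CxOX.extZero U.ι).mapIso (genTopIso _)

theorem pushStalkHom_natural (f : X ⟶ Y) (x : X) {N N' : X.Modules} (a : N ⟶ N') :
    (stalk (f x)).map ((Scheme.Modules.pushforward f).map a) ≫ QCoh.pushStalkHom f x N' =
      QCoh.pushStalkHom f x N ≫ (ModuleCat.restrictScalars (f.stalkMap x).hom).map ((stalk x).map a) := by
  refine ModuleCat.hom_ext (LinearMap.ext fun e => ?_)
  obtain ⟨V, hV, s, rfl⟩ := germ_exists ((Scheme.Modules.pushforward f).obj N).val e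
  change (QCoh.pushStalkHom f x N').hom (((stalk (f x)).map ((Scheme.Modules.pushforward f).map a)).hom _) =
    ((stalk x).map a).hom ((QCoh.pushStalkHom f x N).hom _)
  refine (congrArg (QCoh.pushStalkHom f x N').hom
    (stalkPre_map_germ (DCoh.toP.map ((Scheme.Modules.pushforward f).map a)) V hV s)).trans ?_
  refine (QCoh.pushStalkHom_germ f x N' V hV _).trans (Eq.symm ?_)
  exact (congrArg ((stalk x).map a).hom (QCoh.pushStalkHom_germ f x N V hV s)).trans
    (stalkPre_map_germ (DCoh.toP.map a) (f ⁻¹ᵁ V) hV s)

variable (f : X ⟶ Y) [IsClosedImmersion f]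

/-- The stalks of a direct image at points of the image. -/
noncomputable def pushStalkIso (x : X) :
    Scheme.Modules.pushforward f ⋙ stalk (f x) ≅ stalk x ⋙ ModuleCat.restrictScalars (f.stalkMap x).hom :=
  have : ∀ N, IsIso (QCoh.pushStalkHom f x N) := fun N =>
    (ConcreteCategory.isIso_iff_bijective _).2
      (QCoh.pushStalkHom_bijective f x N f.isClosedEmbedding.isEmbedding.isInducing)
  NatIso.ofComponents (fun N => asIso (QCoh.pushStalkHom f x N)) fun a => pushStalkHom_natural f x a

theorem isZero_stalk_push (N : X.Modules) (y : Y) (hy : y ∉ Set.range f) :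
    IsZero ((stalk y).obj ((Scheme.Modules.pushforward f).obj N)) := by
  have h : Subsingleton (((Scheme.Modules.pushforward f).obj N).presheaf.stalk y) :=
    not_not.1 fun h => hy (QCoh.support_pushforward_subset_range f N h)
  have : Subsingleton ((stalk y).obj ((Scheme.Modules.pushforward f).obj N)) := h
  exact ModuleCat.isZero_of_subsingleton _

theorem exact_pushforward [(Scheme.Modules.pushforward f).PreservesZeroMorphisms] {S : ShortComplex X.Modules}
    (hS : S.Exact) : (S.map (Scheme.Modules.pushforward f)).Exact := by
  refine (exact_iff _).2 fun y => ?_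
  by_cases hy : y ∈ Set.range f
  · obtain ⟨x, rfl⟩ := hy
    exact (ShortComplex.exact_iff_of_iso (S.mapNatIso (pushStalkIso f x))).2
      ((hS.map (stalk x)).map (ModuleCat.restrictScalars (f.stalkMap x).hom))
  · exact ShortComplex.exact_of_isZero_X₂ _ (isZero_stalk_push f S.X₂ y hy)

theorem preservesHomology_pushforward [(Scheme.Modules.pushforward f).Additive] :
    (Scheme.Modules.pushforward f).PreservesHomology :=
  Functor.preservesHomology_of_map_exact _ fun _ hS => exact_pushforward f hS

theorem preservesFiniteColimits_pushforward : PreservesFiniteColimits (Scheme.Modules.pushforward f) := by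
  have : (Scheme.Modules.pushforward f).Additive :=
    (Scheme.Modules.pullbackPushforwardAdjunction f).right_adjoint_additive
  have := preservesHomology_pushforward f
  exact (Scheme.Modules.pushforward f).preservesFiniteColimits_of_preservesHomology

theorem preservesColimitsOfShape_pushforward (J : Type u) [SmallCategory J] :
    PreservesColimitsOfShape J (Scheme.Modules.pushforward f) where
  preservesColimit {K} := preservesColimit_of_stalk _ fun y => by
    by_cases hy : y ∈ Set.range f
    · obtain ⟨x, rfl⟩ := hy
      exact preservesColimit_of_natIso K (pushStalkIso f x).symm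
    · exact ⟨fun {c} _ => ⟨{
        desc := fun s => 0
        fac := fun s j => (isZero_stalk_push f (K.obj j) y hy).eq_of_src _ _
        uniq := fun s m _ => (isZero_stalk_push f c.pt y hy).eq_of_src _ _ }⟩⟩

theorem preservesColimitsOfSize_pushforward : PreservesColimitsOfSize.{u, u} (Scheme.Modules.pushforward f) :=
  ⟨fun {J} _ => preservesColimitsOfShape_pushforward f J⟩

/-- Direct image along a closed immersion has a right adjoint. -/
theorem isLeftAdjoint_pushforward : (Scheme.Modules.pushforward f).IsLeftAdjoint := by
  have := preservesColimitsOfSize_pushforward f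
  exact isLeftAdjoint_of_preservesColimits_of_isSeparating (gen_isSeparating (X := X)) _

end GrothLib.OX
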