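import Groth.Agent.Lib.OX.ProjLocal
import Groth.Agent.Lib.OX.ClosedPush

/-! # The projection formula for closed immersions -/

set_option autoImplicit false
set_option maxHeartbeats 1000000
universe u

open CategoryTheory CategoryTheory.Limits MonoidalCategory AlgebraicGeometry HomologicalComplex
open DerivedCategory (Q Qh)
open GrothLib.ProjFormula (projHom projHom_natural)

attribute [local instance] HasDerivedCategory.standard

namespace GrothLib.OX

section General

variable {C D : Type*} [Category C] [Category D] {F₁ F₂ : C ⥤ D} (τ : F₁ ⟶ F₂)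

theorem isIso_app_of_isColimit {J : Type*} [Category J] {K : J ⥤ C} {c : Cocone K} (hc : IsColimit c)
    [PreservesColimit K F₁] [PreservesColimit K F₂] (h : ∀ j, IsIso (τ.app (K.obj j))) : IsIso (τ.app c.pt) := by
  let h₁ := isColimitOfPreserves F₁ hc
  let h₂ := isColimitOfPreserves F₂ hc
  let w : K ⋙ F₁ ≅ K ⋙ F₂ := NatIso.ofComponents (fun j => @asIso _ _ _ _ _ (h j)) fun g => τ.naturality _
  have e : τ.app c.pt = (IsColimit.coconePointsIsoOfNatIso h₁ h₂ w).hom := h₁.hom_ext fun j => by
    rw [IsColimit.comp_coconePointsIsoOfNatIso_hom]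
    exact τ.naturality (c.ι.app j)
  rw [e]
  infer_instance

end General

variable {X Y : Scheme.{u}} (f : X ⟶ Y) [IsClosedImmersion f]

theorem isIso_projHom_gen (U : Y.Opens) (G : X.Modules) : IsIso (projHom f (gen Y U) G) := by
  refine (isIso_iff _).2 fun y => ?_
  by_cases hy : y ∈ U
  · let R := Scheme.Modules.restrictFunctor U.ι
    let e : R.obj (gen Y U) ≅ FlatMod.freeMod U 1 := R.mapIso (genExtZeroIso U) ≪≫
      ((asIso (CxOX.extZeroAdj U.ι).unit).app _).symm ≪≫
      (coproductUniqueIso fun _ : Fin 1 => Coh.structureModule (U : Scheme.{u})).symm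
    have h := projGood_of_free f U e G
    have := mono_stalk_map_of_restrict U.ι (projHom f (gen Y U) G) ⟨y, hy⟩ inferInstance
    have := epi_stalk_map_of_restrict U.ι (projHom f (gen Y U) G) ⟨y, hy⟩ inferInstance
    exact isIso_of_mono_of_epi ((stalk (U.ι ⟨y, hy⟩)).map (projHom f (gen Y U) G))
  · have hz : IsZero ((stalk y).obj (gen Y U)) :=
      (isZero_stalk_extZero U.ι _ y (by rw [Scheme.Opens.range_ι]; exact hy)).of_iso
        ((stalk y).mapIso (genExtZeroIso U))
    have h1 : IsZero ((stalk y).obj (((DCoh.tensorBi (X := Y)).obj (gen Y U)).obj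
        ((Scheme.Modules.pushforward f).obj G))) :=
      IsZero.of_iso ((tensorRight _).map_isZero hz) (stalkTensorBiIso y _ _)
    have h2 : IsZero ((stalk y).obj ((Scheme.Modules.pushforward f).obj
        ((ProjFormula.pullTensor f (gen Y U)).obj G))) := by
      by_cases hy' : y ∈ Set.range f
      · obtain ⟨x, rfl⟩ := hy'
        refine IsZero.of_iso ((ModuleCat.restrictScalars (f.stalkMap x).hom).map_isZero
          (IsZero.of_iso ((tensorRight _).map_isZero ?_) (stalkTensorBiIso x _ _))) ((pushStalkIso f x).app _)
        exact IsZero.of_iso ((ModuleCat.extendScalars (f.stalkMap x).hom).map_isZero hz) ((pullStalkIso f x).app _)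
      · exact isZero_stalk_push f _ y hy'
    exact ⟨0, h1.eq_of_src _ _, h2.eq_of_src _ _⟩

/-- **The projection map of a closed immersion is an isomorphism.** -/
theorem isIso_projHom_closed (E : Y.Modules) (G : X.Modules) : IsIso (projHom f E G) := by
  have := preservesColimitsOfSize_pushforward f
  have := preservesFiniteColimits_pushforward f
  have : PreservesColimitsOfSize.{u, u} (Scheme.Modules.pullback f) :=
    (Scheme.Modules.pullbackPushforwardAdjunction f).leftAdjoint_preservesColimits
  have : PreservesFiniteColimits (Scheme.Modules.pullback f) := inferInstance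
  let F₁ : Y.Modules ⥤ Y.Modules := (DCoh.tensorBi (X := Y)).flip.obj ((Scheme.Modules.pushforward f).obj G)
  let F₂ : Y.Modules ⥤ Y.Modules :=
    Scheme.Modules.pullback f ⋙ (DCoh.tensorBi (X := X)).flip.obj G ⋙ Scheme.Modules.pushforward f
  have : PreservesColimitsOfSize.{u, u} F₁ := preservesColimitsOfSize_tensorBi_flip_obj _
  have : PreservesColimitsOfSize.{u, u} ((DCoh.tensorBi (X := X)).flip.obj G) :=
    preservesColimitsOfSize_tensorBi_flip_obj G
  have : PreservesFiniteColimits ((DCoh.tensorBi (X := X)).flip.obj G) := inferInstance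
  have : PreservesFiniteColimits F₁ := inferInstance
  have : PreservesFiniteColimits F₂ := inferInstance
  let τ : F₁ ⟶ F₂ := { app := fun E => projHom f E G, naturality := fun E E' a => projHom_natural f a G }
  have hcov : ∀ M : Y.Modules, IsIso (τ.app (coverObj M)) := fun M =>
    isIso_app_of_isColimit τ (colimit.isColimit
      (Discrete.functor fun s : Σ U : Y.Opens, M.val.obj (Opposite.op U) => gen Y s.1))
      fun s => isIso_projHom_gen f s.as.1 G
  let a := coverπ (kernel (coverπ E)) ≫ kernel.ι (coverπ E)
  have hw : a ≫ coverπ E = 0 := by simp [a]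
  have hex : (ShortComplex.mk a (coverπ E) hw).Exact := by
    rw [ShortComplex.exact_iff_epi_kernel_lift]
    have : kernel.lift (coverπ E) a hw = coverπ (kernel (coverπ E)) := by
      rw [← cancel_mono (kernel.ι (coverπ E)), kernel.lift_ι]
    rw [this]
    infer_instance
  have : Epi (ShortComplex.mk a (coverπ E) hw).g := epi_coverπ E
  exact isIso_app_of_isColimit τ (c := (CokernelCofork.ofπ (coverπ E) hw : Cofork a 0)) hex.gIsCokernel fun j =>
    match j with
    | .zero => hcov _
    | .one => hcov _

theorem isIso_projCx_closed (P : CochainComplex Y.Modules ℤ) (A : CochainComplex X.Modules ℤ) :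
    IsIso (projCx f P A) := by
  have : PreservesColimitsOfSize.{u, u} (Scheme.Modules.pushforward f) := preservesColimitsOfSize_pushforward f
  have : PreservesColimitsOfSize.{0, 0} (Scheme.Modules.pushforward f) := preservesSmallestColimits_of_preservesColimits _
  have : ∀ J : Type, PreservesColimitsOfShape (Discrete J) (Scheme.Modules.pushforward f) := fun _ => inferInstance
  have : IsIso (projBicx f P A) := by
    have : ∀ p, IsIso ((projBicx f P A).f p) := fun p => by
      have : ∀ q, IsIso (((projBicx f P A).f p).f q) := fun q => isIso_projHom_closed f (P.X p) (A.X q)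
      exact HomologicalComplex.Hom.isIso_of_components _
    exact HomologicalComplex.Hom.isIso_of_components _
  exact @IsIso.comp_isIso _ _ _ _ _ _ _
    (inferInstanceAs (IsIso ((HomologicalComplex₂.total.mapIso (asIso (projBicx f P A)) (ComplexShape.up ℤ)).hom)))
    (TotalMap.isIso_totalMap _ _)

theorem isIso_pushUnit_closed (B : CochainComplex X.Modules ℤ) : IsIso (pushUnit f B) := by
  have := preservesHomology_pushforward f
  let η := (KInj.resAdj X.Modules).unit.app ((HomotopyCategory.quotient _ _).obj B)
  have hq : HomotopyCategory.quasiIso X.Modules (ComplexShape.up ℤ) η :=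
    (DerivedCategory.isIso_Qh_map_iff η).1 (SiteDer.isIso_Qh_map_unit (A := X.Modules) _)
  obtain ⟨L, hL⟩ := HomotopyCategory.quotient_obj_surjective
    ((KInj.res X.Modules).obj (Qh.obj ((HomotopyCategory.quotient _ _).obj B)))
  refine (DerivedCategory.isIso_Qh_map_iff _).2 ?_
  exact quasiIso_mapHomotopy f η hq
where
  quasiIso_mapHomotopy {X Y : Scheme.{u}} (f : X ⟶ Y) [IsClosedImmersion f]
      {A B : HomotopyCategory X.Modules (ComplexShape.up ℤ)} (η : A ⟶ B)
      (hq : HomotopyCategory.quasiIso X.Modules (ComplexShape.up ℤ) η) :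
      HomotopyCategory.quasiIso Y.Modules (ComplexShape.up ℤ)
        (((Scheme.Modules.pushforward f).mapHomotopyCategory (ComplexShape.up ℤ)).map η) := by
    have := preservesHomology_pushforward f
    obtain ⟨K, rfl⟩ := HomotopyCategory.quotient_obj_surjective A
    obtain ⟨L, rfl⟩ := HomotopyCategory.quotient_obj_surjective B
    obtain ⟨g, rfl⟩ := (HomotopyCategory.quotient X.Modules (ComplexShape.up ℤ)).map_surjective η
    have hg : QuasiIso g :=
      (HomologicalComplex.mem_quasiIso_iff g).1 ((HomotopyCategory.quotient_map_mem_quasiIso_iff g).1 hq)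
    exact (HomotopyCategory.quotient_map_mem_quasiIso_iff
      (((Scheme.Modules.pushforward f).mapHomologicalComplex (ComplexShape.up ℤ)).map g)).2
      ((HomologicalComplex.mem_quasiIso_iff _).2 inferInstance)

theorem isIso_projD_closed (P : CochainComplex Y.Modules ℤ) (A : CochainComplex X.Modules ℤ) :
    IsIso (projD f P A) :=
  @IsIso.comp_isIso _ _ _ _ _ _ _
    (map_isIso_of Qh (map_isIso_of (HomotopyCategory.quotient _ _) (isIso_projCx_closed f P A)))
    (isIso_pushUnit_closed f _)

end GrothLib.OX
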