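import Mathlib.Algebra.Homology.BifunctorAssociator
import Mathlib.Algebra.Homology.BifunctorShift

/-! # The associator of bifunctors on cochain complexes is natural in the first variable -/

set_option autoImplicit false
set_option maxHeartbeats 800000
universe v u

open CategoryTheory CategoryTheory.Limits HomologicalComplex

namespace GrothLib.OX

variable {C : Type u} [Category.{v} C] [Preadditive C] [∀ J : Type, HasColimitsOfShape (Discrete J) C]
  (F : C ⥤ C ⥤ C) [F.Additive] [∀ X : C, (F.obj X).Additive]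
  (e : bifunctorComp₁₂ F F ≅ bifunctorComp₂₃ F F)

theorem mapBifunctorAssociator_natural {K K' : CochainComplex C ℤ} (φ : K ⟶ K') (L M : CochainComplex C ℤ)
    [∀ X : C, PreservesColimitsOfSize.{0, 0} (F.flip.obj X)] [∀ X : C, PreservesColimitsOfSize.{0, 0} (F.obj X)] :
    mapBifunctorMap (mapBifunctorMap φ (𝟙 L) F (ComplexShape.up ℤ)) (𝟙 M) F (ComplexShape.up ℤ) ≫
        (mapBifunctorAssociator e K' L M (ComplexShape.up ℤ) (ComplexShape.up ℤ) (ComplexShape.up ℤ)).hom =
      (mapBifunctorAssociator e K L M (ComplexShape.up ℤ) (ComplexShape.up ℤ) (ComplexShape.up ℤ)).hom ≫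
        mapBifunctorMap φ (𝟙 (mapBifunctor L M F (ComplexShape.up ℤ))) F (ComplexShape.up ℤ) := by
  refine HomologicalComplex.hom_ext _ _ fun n => mapBifunctor₁₂.hom_ext fun i j k h => ?_
  have hij : ComplexShape.π (ComplexShape.up ℤ) (ComplexShape.up ℤ) (ComplexShape.up ℤ) (i, j) = i + j := rfl
  have hjk : ComplexShape.π (ComplexShape.up ℤ) (ComplexShape.up ℤ) (ComplexShape.up ℤ) (j, k) = j + k := rfl
  have h1 : ComplexShape.π (ComplexShape.up ℤ) (ComplexShape.up ℤ) (ComplexShape.up ℤ) (i + j, k) = n := h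
  have h2 : ComplexShape.π (ComplexShape.up ℤ) (ComplexShape.up ℤ) (ComplexShape.up ℤ) (i, j + k) = n := by
    have h' : i + j + k = n := h1
    change i + (j + k) = n
    omega
  have hn := NatTrans.congr_app (NatTrans.congr_app (e.hom.naturality (φ.f i)) (L.X j)) (M.X k)
  have hl : mapBifunctor₁₂.ι F F K L M (ComplexShape.up ℤ) (ComplexShape.up ℤ) i j k n h ≫
      (mapBifunctorMap (mapBifunctorMap φ (𝟙 L) F (ComplexShape.up ℤ)) (𝟙 M) F (ComplexShape.up ℤ)).f n =
      (F.map ((F.map (φ.f i)).app (L.X j))).app (M.X k) ≫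
        mapBifunctor₁₂.ι F F K' L M (ComplexShape.up ℤ) (ComplexShape.up ℤ) i j k n h := by
    rw [mapBifunctor₁₂.ι_eq F F K L M _ _ i j k _ n hij h1, mapBifunctor₁₂.ι_eq F F K' L M _ _ i j k _ n hij h1,
      Category.assoc, ι_mapBifunctorMap]
    simp only [id_f, CategoryTheory.Functor.map_id, Category.id_comp, ← Category.assoc, ← NatTrans.comp_app,
      ← Functor.map_comp]
    simp only [ι_mapBifunctorMap, id_f, CategoryTheory.Functor.map_id, Category.id_comp]
  have hr : mapBifunctor₂₃.ι F F K L M (ComplexShape.up ℤ) (ComplexShape.up ℤ) (ComplexShape.up ℤ) i j k n h ≫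
      (mapBifunctorMap φ (𝟙 (mapBifunctor L M F (ComplexShape.up ℤ))) F (ComplexShape.up ℤ)).f n =
      (F.map (φ.f i)).app ((F.obj (L.X j)).obj (M.X k)) ≫
        mapBifunctor₂₃.ι F F K' L M (ComplexShape.up ℤ) (ComplexShape.up ℤ) (ComplexShape.up ℤ) i j k n h := by
    rw [mapBifunctor₂₃.ι_eq F F K L M _ _ _ i j k _ n hjk h2, mapBifunctor₂₃.ι_eq F F K' L M _ _ _ i j k _ n hjk h2,
      Category.assoc, ι_mapBifunctorMap]
    simp only [id_f, CategoryTheory.Functor.map_id, Category.id_comp, NatTrans.naturality_assoc]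
  simp only [mapBifunctorAssociator, comp_f, Hom.isoOfComponents_hom_f]
  rw [reassoc_of% hl, ι_mapBifunctorAssociatorX_hom, ι_mapBifunctorAssociatorX_hom_assoc]
  exact (Category.assoc _ _ _).symm.trans ((congrArg (· ≫ _) hn).trans ((Category.assoc _ _ _).trans
    (congrArg (_ ≫ ·) hr.symm)))

/-- The iterated bifunctor on complexes is the bifunctor at the iterated complex. -/
noncomputable def map₂CompIso
    [∀ X : C, PreservesColimitsOfSize.{0, 0} (F.flip.obj X)] [∀ X : C, PreservesColimitsOfSize.{0, 0} (F.obj X)]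
    (K L : CochainComplex C ℤ) :
    F.map₂CochainComplex.flip.obj K ⋙ F.map₂CochainComplex.flip.obj L ≅
      F.map₂CochainComplex.flip.obj ((F.map₂CochainComplex.obj K).obj L) :=
  NatIso.ofComponents
    (fun A => mapBifunctorAssociator e A K L (ComplexShape.up ℤ) (ComplexShape.up ℤ) (ComplexShape.up ℤ))
    fun φ => mapBifunctorAssociator_natural F e φ K L

end GrothLib.OX
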