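import Groth.Agent.Lib.OX.Lpull
import Groth.Prelude.Def_DTor2

/-! # The derived tensor product with a module, and its values on K-flat complexes -/

set_option autoImplicit false
set_option maxHeartbeats 400000
universe v u

open CategoryTheory CategoryTheory.Limits AlgebraicGeometry HomologicalComplex MonoidalCategory

attribute [local instance] HasDerivedCategory.standard

namespace GrothLib.OX

variable {X Y : Scheme.{u}}

/-- K-flat complexes in the homotopy category. -/
def kFlatP : ObjectProperty (HomotopyCategory X.Modules (ComplexShape.up ℤ)) := fun Q => DCoh.IsKFlat Q.as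

section General

variable {B : Type*} [Category B] [Abelian B] [HasDerivedCategory B] (F : X.Modules ⥤ B) [F.Additive]

/-- A functor killing acyclic K-flat complexes is derived by K-flat complexes. -/
theorem leftResolvable_of_acyclic
    (h : ∀ C : CochainComplex X.Modules ℤ, C.Acyclic → DCoh.IsKFlat C →
      ((F.mapHomologicalComplex (ComplexShape.up ℤ)).obj C).Acyclic) :
    Derive.LeftResolvable (HomotopyCategory.quasiIso X.Modules (ComplexShape.up ℤ)) kFlatP
      (F.mapHomotopyCategory (ComplexShape.up ℤ) ⋙ DerivedCategory.Qh) where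
  exists_res G := by
    obtain ⟨K, q, hK, -, hq, -⟩ := exists_kflat_resolution G.as
    exact ⟨(HomotopyCategory.quotient _ _).obj K, (HomotopyCategory.quotient _ _).map q, hK,
      (HomotopyCategory.quotient_map_mem_quasiIso_iff q).2 hq⟩
  inverts Q Q' s hQ hQ' hs := by
    obtain ⟨φ, rfl⟩ := (HomotopyCategory.quotient X.Modules (ComplexShape.up ℤ)).map_surjective s
    have : QuasiIso φ := (HomotopyCategory.quotient_map_mem_quasiIso_iff φ).1 hs
    have : QuasiIso ((F.mapHomologicalComplex (ComplexShape.up ℤ)).map φ) :=
      (DerCat.quasiIso_iff_acyclic_mappingCone _).2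
        (DerCat.acyclic_of_iso (CochainComplex.mappingCone.mapHomologicalComplexIso φ F)
          (h _ ((DerCat.quasiIso_iff_acyclic_mappingCone φ).1 inferInstance) (isKFlat_mappingCone φ hQ hQ')))
    exact Localization.inverts DerivedCategory.Qh (HomotopyCategory.quasiIso B (ComplexShape.up ℤ)) _
      ((HomotopyCategory.quotient_map_mem_quasiIso_iff _).2 this)

/-- The value of a total left derived functor on a K-flat complex. -/
theorem totalLeftDerived_value
    [(F.mapHomotopyCategory (ComplexShape.up ℤ) ⋙ DerivedCategory.Qh).HasLeftDerivedFunctor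
      (HomotopyCategory.quasiIso X.Modules (ComplexShape.up ℤ))]
    (h : ∀ C : CochainComplex X.Modules ℤ, C.Acyclic → DCoh.IsKFlat C →
      ((F.mapHomologicalComplex (ComplexShape.up ℤ)).obj C).Acyclic)
    (K : CochainComplex X.Modules ℤ) (hK : DCoh.IsKFlat K) :
    Nonempty (((F.mapHomotopyCategory (ComplexShape.up ℤ) ⋙ DerivedCategory.Qh).totalLeftDerived
        DerivedCategory.Qh (HomotopyCategory.quasiIso X.Modules (ComplexShape.up ℤ))).obj
          (DerivedCategory.Q.obj K) ≅
      DerivedCategory.Q.obj ((F.mapHomologicalComplex (ComplexShape.up ℤ)).obj K)) := by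
  let G := F.mapHomotopyCategory (ComplexShape.up ℤ) ⋙ DerivedCategory.Qh
  let LG := G.totalLeftDerived DerivedCategory.Qh (HomotopyCategory.quasiIso X.Modules (ComplexShape.up ℤ))
  let α := G.totalLeftDerivedCounit DerivedCategory.Qh (HomotopyCategory.quasiIso X.Modules (ComplexShape.up ℤ))
  have := (leftResolvable_of_acyclic F h).isIso_app_of_isLeftDerivedFunctor LG α
    (Q := (HomotopyCategory.quotient _ _).obj K) hK
  exact ⟨LG.mapIso ((DerivedCategory.quotientCompQhIso X.Modules).app K).symm ≪≫
    asIso (α.app ((HomotopyCategory.quotient _ _).obj K)) ≪≫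
    (DerivedCategory.quotientCompQhIso B).app ((F.mapHomologicalComplex (ComplexShape.up ℤ)).obj K)⟩

end General

/-- The two ways of tensoring with a module. -/
noncomputable def tensorRightModIso (M : X.Modules) :
    DCoh.tensorRightMod M ≅ (DCoh.tensorBi (X := X)).flip.obj M :=
  NatIso.ofComponents (fun _ => Iso.refl _) (fun f => (Category.comp_id _).trans (Category.id_comp _).symm)

theorem acyclic_tensorRightMod (M : X.Modules) (C : CochainComplex X.Modules ℤ) (hC : C.Acyclic)
    (hK : DCoh.IsKFlat C) : (((DCoh.tensorRightMod M).mapHomologicalComplex (ComplexShape.up ℤ)).obj C).Acyclic :=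
  DerCat.acyclic_of_iso ((NatIso.mapHomologicalComplex (tensorRightModIso M) (ComplexShape.up ℤ)).app C).symm
    (acyclic_tensor_module hC hK M)

theorem hasLTensorMod (M : X.Modules) : DCoh.HasLTensorMod M :=
  (leftResolvable_of_acyclic (DCoh.tensorRightMod M) (acyclic_tensorRightMod M)).hasLeftDerivedFunctor

/-- Tensoring a complex degreewise with a module. -/
noncomputable abbrev tensorModCx (M : X.Modules) : CochainComplex X.Modules ℤ ⥤ CochainComplex X.Modules ℤ :=
  ((DCoh.tensorBi (X := X)).flip.obj M).mapHomologicalComplex (ComplexShape.up ℤ)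

/-- The derived tensor product with a module on a K-flat complex. -/
theorem ltensor_value (M : X.Modules) [DCoh.HasLTensorMod M] (K : CochainComplex X.Modules ℤ)
    (hK : DCoh.IsKFlat K) :
    Nonempty ((DCoh.LTensorMod M).obj (DerivedCategory.Q.obj K) ≅ DerivedCategory.Q.obj ((tensorModCx M).obj K)) :=
  (totalLeftDerived_value (DCoh.tensorRightMod M) (acyclic_tensorRightMod M) K hK).map fun e =>
    e ≪≫ DerivedCategory.Q.mapIso ((NatIso.mapHomologicalComplex (tensorRightModIso M) (ComplexShape.up ℤ)).app K)

/-- The derived pullback on a K-flat complex. -/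
theorem lpull_value (f : X ⟶ Y) [DCoh.HasLpull f] (K : CochainComplex Y.Modules ℤ) (hK : DCoh.IsKFlat K) :
    Nonempty ((DCoh.Lpull f).obj (DerivedCategory.Q.obj K) ≅
      DerivedCategory.Q.obj (((Scheme.Modules.pullback f).mapHomologicalComplex (ComplexShape.up ℤ)).obj K)) :=
  totalLeftDerived_value (Scheme.Modules.pullback f) (fun _ hC hCK => acyclic_pullback f hC hCK) K hK

/-- The cohomology of a complex in the derived category. -/
noncomputable def hdIso (K : CochainComplex X.Modules ℤ) (i : ℤ) :
    DCoh.HD (DerivedCategory.Q.obj K) i ≅ K.homology i :=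
  (DerivedCategory.homologyFunctorFactors X.Modules i).app K

/-- The cohomology of a derived tensor product, computed by a K-flat representative. -/
theorem hd_ltensor (M : X.Modules) [DCoh.HasLTensorMod M] (K : CochainComplex X.Modules ℤ) (hK : DCoh.IsKFlat K)
    {E : DCoh.D X} (e : DerivedCategory.Q.obj K ≅ E) (i : ℤ) :
    Nonempty (DCoh.HD ((DCoh.LTensorMod M).obj E) i ≅ ((tensorModCx M).obj K).homology i) :=
  (ltensor_value M K hK).map fun v =>
    (DerivedCategory.homologyFunctor X.Modules i).mapIso ((DCoh.LTensorMod M).mapIso e.symm ≪≫ v) ≪≫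
      hdIso _ i

end GrothLib.OX
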