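import Groth.Agent.Lib.OX.TensorAssoc
import Groth.Agent.Lib.OX.LTensor
import Groth.Agent.Lib.Derive.LeftCx
import Mathlib.Algebra.Homology.BifunctorHomotopy
import Groth.Agent.Lib.OX.AssocNatural

/-! # The derived tensor product with a complex exists -/

set_option autoImplicit false
set_option maxHeartbeats 400000
universe u

open CategoryTheory CategoryTheory.Limits AlgebraicGeometry HomologicalComplex

attribute [local instance] HasDerivedCategory.standard

namespace GrothLib.OX

variable {X : Scheme.{u}}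

theorem bicxBraiding_natural {L L' : CochainComplex X.Modules ℤ} (φ : L ⟶ L') (K : CochainComplex X.Modules ℤ) :
    (((DCoh.tensorBi (X := X)).mapBifunctorHomologicalComplex (ComplexShape.up ℤ) (ComplexShape.up ℤ)).map φ).app K ≫
        (bicxBraiding L' K).inv =
      (bicxBraiding L K).inv ≫
        (((DCoh.tensorBi (X := X)).flip.mapBifunctorHomologicalComplex (ComplexShape.up ℤ) (ComplexShape.up ℤ)).map φ).app K :=
  HomologicalComplex.hom_ext _ _ fun i => HomologicalComplex.hom_ext _ _ fun j =>
    NatTrans.congr_app ((tensorBraiding (X := X)).inv.naturality (φ.f i)) (K.X j)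

/-- The symmetry of the tensor product of complexes is natural. -/
theorem tensorCxSymm_natural {K K' : CochainComplex X.Modules ℤ} (φ : K ⟶ K') (E : CochainComplex X.Modules ℤ) :
    ((DCoh.tensorCx (X := X)).map φ).app E ≫ (tensorCxSymm E K').hom =
      (tensorCxSymm E K).hom ≫ ((DCoh.tensorCx (X := X)).obj E).map φ := by
  let Fb := (DCoh.tensorBi (X := X)).mapBifunctorHomologicalComplex (ComplexShape.up ℤ) (ComplexShape.up ℤ)
  let Fl := (DCoh.tensorBi (X := X)).flip.mapBifunctorHomologicalComplex (ComplexShape.up ℤ) (ComplexShape.up ℤ)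
  have hb : ((Fb.map φ).app E ≫ (Fb.obj K').map (𝟙 E)) ≫ (bicxBraiding K' E).inv =
      (bicxBraiding K E).inv ≫ ((Fl.map φ).app E ≫ (Fl.obj K').map (𝟙 E)) := by
    rw [CategoryTheory.Functor.map_id, CategoryTheory.Functor.map_id]
    exact (congrArg (· ≫ _) (Category.comp_id _)).trans
      ((bicxBraiding_natural φ E).trans (congrArg (_ ≫ ·) (Category.comp_id _)).symm)
  have hm : ((DCoh.tensorCx (X := X)).map φ).app E =
      HomologicalComplex.mapBifunctorMap φ (𝟙 E) (DCoh.tensorBi (X := X)) (ComplexShape.up ℤ) := rfl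
  have h1 : ((DCoh.tensorCx (X := X)).map φ).app E ≫
      (HomologicalComplex₂.total.mapIso (bicxBraiding K' E) (ComplexShape.up ℤ)).inv =
      (HomologicalComplex₂.total.mapIso (bicxBraiding K E) (ComplexShape.up ℤ)).inv ≫
        HomologicalComplex.mapBifunctorMap φ (𝟙 E) (DCoh.tensorBi (X := X)).flip (ComplexShape.up ℤ) := by
    rw [hm]
    exact (HomologicalComplex₂.total.map_comp _ _ _).symm.trans
      ((congrArg (fun t => HomologicalComplex₂.total.map t (ComplexShape.up ℤ)) hb).trans
        (HomologicalComplex₂.total.map_comp _ _ _))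
  have h2 := HomologicalComplex.mapBifunctorFlipIso_hom_naturality (K₁ := E) (L₁ := E) (𝟙 E) φ
    (DCoh.tensorBi (X := X)) (ComplexShape.up ℤ)
  exact ((Category.assoc _ _ _).symm.trans (congrArg (· ≫ _) h1)).trans
    ((Category.assoc _ _ _).trans ((congrArg (_ ≫ ·) h2).trans (Category.assoc _ _ _).symm))

/-- Tensoring on the right is tensoring on the left. -/
noncomputable def tensorFlipIso (E : CochainComplex X.Modules ℤ) :
    (DCoh.tensorCx (X := X)).flip.obj E ≅ (DCoh.tensorCx (X := X)).obj E :=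
  NatIso.ofComponents (fun K => tensorCxSymm E K) fun φ => tensorCxSymm_natural φ E

/-- Tensoring a quasi-isomorphism with a K-flat complex gives a quasi-isomorphism. -/
theorem quasiIso_tensor_map_of_isKFlat {P Q : CochainComplex X.Modules ℤ} (α : P ⟶ Q) [QuasiIso α]
    (F : CochainComplex X.Modules ℤ) (hF : DCoh.IsKFlat F) :
    QuasiIso (((DCoh.tensorCx (X := X)).obj F).map α) := by
  have hC : (CochainComplex.mappingCone (𝟙 P)).Acyclic :=
    (DerCat.quasiIso_iff_acyclic_mappingCone (𝟙 P)).1 inferInstance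
  have hz : ∀ C : CochainComplex X.Modules ℤ, C.Acyclic → (((DCoh.tensorCx (X := X)).obj F).obj C).Acyclic :=
    fun C hC => DerCat.acyclic_of_iso (tensorCxSymm C F).symm ((isKFlat_iff F).1 hF C hC)
  let j : P ⟶ Q ⊞ CochainComplex.mappingCone (𝟙 P) := biprod.lift α (CochainComplex.mappingCone.inr (𝟙 P))
  let σ : (ShortComplex.mk (biprod.inr : CochainComplex.mappingCone (𝟙 P) ⟶ Q ⊞ _) biprod.fst
      biprod.inr_fst).Splitting :=
    { r := biprod.snd, s := biprod.inl, f_r := biprod.inr_snd, s_g := biprod.inl_fst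
      id := (add_comm _ _).trans biprod.total }
  have hfst : QuasiIso (biprod.fst : Q ⊞ CochainComplex.mappingCone (𝟙 P) ⟶ Q) :=
    DerCat.quasiIso_g_of_acyclic σ.shortExact hC
  have hj : QuasiIso j :=
    have : QuasiIso (j ≫ biprod.fst) := by rw [biprod.lift_fst]; infer_instance
    quasiIso_of_comp_right j biprod.fst
  have hr : ∀ n, j.f n ≫ (biprod.snd : Q ⊞ CochainComplex.mappingCone (𝟙 P) ⟶ _).f n ≫
      (CochainComplex.mappingCone.snd (𝟙 P)).v n n (add_zero n) = 𝟙 (P.X n) := fun n => by
    rw [← Category.assoc, ← HomologicalComplex.comp_f, biprod.lift_snd, CochainComplex.mappingCone.inr_f_snd_v]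
  have : Mono j :=
    HomologicalComplex.mono_of_mono_f j fun n => (SplitMono.mk _ (hr n)).mono
  let S : ShortComplex (CochainComplex X.Modules ℤ) := ShortComplex.mk j (cokernel.π j) (cokernel.condition j)
  have hS : S.ShortExact := { exact := ShortComplex.exact_of_g_is_cokernel _ (cokernelIsCokernel j) }
  have hsp : ∀ n, (S.map (HomologicalComplex.eval X.Modules (ComplexShape.up ℤ) n)).Splitting := fun n =>
    have := (hS.map_of_exact (HomologicalComplex.eval X.Modules (ComplexShape.up ℤ) n)).epi_g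
    ShortComplex.Splitting.ofExactOfRetraction _
      (hS.map_of_exact (HomologicalComplex.eval X.Modules (ComplexShape.up ℤ) n)).exact _ (hr n) this
  have hFS := tensorCx_shortExact_of_splitting hsp
  have : QuasiIso S.f := hj
  have hA₃ := hz _ (DerCat.acyclic_X₃_of_quasiIso hS)
  have hT₁ : QuasiIso (((DCoh.tensorCx (X := X)).obj F).map j) := DerCat.quasiIso_f_of_acyclic (hFS F) hA₃
  have hT₂ : QuasiIso (((DCoh.tensorCx (X := X)).obj F).map
      (biprod.fst : Q ⊞ CochainComplex.mappingCone (𝟙 P) ⟶ Q)) :=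
    DerCat.quasiIso_g_of_acyclic (σ.map ((DCoh.tensorCx (X := X)).obj F)).shortExact
      (hz _ hC)
  rw [show α = j ≫ biprod.fst from (biprod.lift_fst _ _).symm, Functor.map_comp]
  exact quasiIso_comp _ _

theorem quasiIso_map_of_isKFlat {P Q : CochainComplex X.Modules ℤ} (α : P ⟶ Q) [QuasiIso α]
    (E : CochainComplex X.Modules ℤ) (hE : DCoh.IsKFlat E) :
    QuasiIso (((DCoh.tensorCx (X := X)).flip.obj E).map α) :=
  (quasiIso_iff_of_arrow_mk_iso _ _ (Arrow.isoMk ((tensorFlipIso E).app P) ((tensorFlipIso E).app Q)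
    ((tensorFlipIso E).hom.naturality α).symm)).2 (quasiIso_tensor_map_of_isKFlat α E hE)

theorem quasiIso_tensor_map_left {P Q : CochainComplex X.Modules ℤ} (α : P ⟶ Q) [QuasiIso α]
    (hP : DCoh.IsKFlat P) (hQ : DCoh.IsKFlat Q) (E : CochainComplex X.Modules ℤ) :
    QuasiIso (((DCoh.tensorCx (X := X)).flip.obj E).map α) :=
  (quasiIso_iff_of_arrow_mk_iso _ _ (Arrow.isoMk ((tensorFlipIso E).app P) ((tensorFlipIso E).app Q)
    ((tensorFlipIso E).hom.naturality α).symm)).2 (quasiIso_tensor_map α hP hQ E)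

theorem cxResolvable_tensor (E : CochainComplex X.Modules ℤ) :
    Derive.CxResolvable DCoh.IsKFlat (DCoh.tensorCxQ E) where
  homotopy _ _ f g := fun ⟨h⟩ => by
    have e := HomotopyCategory.eq_of_homotopy _ _ (HomologicalComplex.mapBifunctorMapHomotopy₁ h (𝟙 E) (DCoh.tensorBi (X := X)) (ComplexShape.up ℤ))
    have e' := congrArg DerivedCategory.Qh.map e
    exact (NatIso.naturality_1 (DerivedCategory.quotientCompQhIso X.Modules) _).symm.trans
      ((congrArg (fun t => _ ≫ t ≫ _) e').trans (NatIso.naturality_1 (DerivedCategory.quotientCompQhIso X.Modules) _))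
  exists_res K := by
    obtain ⟨P, q, hP, -, hq, -⟩ := exists_kflat_resolution K
    exact ⟨P, q, hP, hq⟩
  inverts K L φ hK hL hφ :=
    have := quasiIso_tensor_map_left φ hK hL E
    inferInstanceAs (IsIso (DerivedCategory.Q.map (((DCoh.tensorCx (X := X)).flip.obj E).map φ)))

theorem hasLTensorCx (E : CochainComplex X.Modules ℤ) : DCoh.HasLTensorCx E :=
  (cxResolvable_tensor E).hasLeftDerivedFunctor

/-- The derived tensor product with a complex, on a K-flat complex. -/
theorem ltensorCx_value (E : CochainComplex X.Modules ℤ) [DCoh.HasLTensorCx E] (K : CochainComplex X.Modules ℤ)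
    (hK : DCoh.IsKFlat K) :
    Nonempty ((DCoh.LTensorCx E).obj (DerivedCategory.Q.obj K) ≅
      DerivedCategory.Q.obj (((DCoh.tensorCx (X := X)).obj K).obj E)) :=
  (cxResolvable_tensor E).totalLeftDerived_value hK

/-- The derived tensor product with a K-flat complex, on any complex. -/
theorem ltensorCx_value_of_isKFlat (E : CochainComplex X.Modules ℤ) [DCoh.HasLTensorCx E] (hE : DCoh.IsKFlat E)
    (K : CochainComplex X.Modules ℤ) :
    Nonempty ((DCoh.LTensorCx E).obj (DerivedCategory.Q.obj K) ≅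
      DerivedCategory.Q.obj (((DCoh.tensorCx (X := X)).obj K).obj E)) := by
  obtain ⟨P, q, hP, -, hq, -⟩ := exists_kflat_resolution K
  obtain ⟨v⟩ := ltensorCx_value E P hP
  have hS := tensorCx_shortExact_of_splitting (coneSplitting q)
  have hc : (CochainComplex.mappingCone q).Acyclic := (DerCat.quasiIso_iff_acyclic_mappingCone q).1 hq
  have : QuasiIso (((DCoh.tensorCx (X := X)).flip.obj E).map q) := quasiIso_map_of_isKFlat q E hE
  exact ⟨(DCoh.LTensorCx E).mapIso (asIso (DerivedCategory.Q.map q)).symm ≪≫ v ≪≫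
    asIso (DerivedCategory.Q.map (((DCoh.tensorCx (X := X)).flip.obj E).map q))⟩

/-- The counit of the derived tensor product with a K-flat complex is invertible everywhere. -/
theorem isIso_counit_of_isKFlat (E : CochainComplex X.Modules ℤ) [DCoh.HasLTensorCx E] (hE : DCoh.IsKFlat E)
    (K : CochainComplex X.Modules ℤ) :
    IsIso (((DCoh.tensorCxQ E).totalLeftDerivedCounit DerivedCategory.Q
      (HomologicalComplex.quasiIso X.Modules (ComplexShape.up ℤ))).app K) := by
  let α := (DCoh.tensorCxQ E).totalLeftDerivedCounit DerivedCategory.Q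
    (HomologicalComplex.quasiIso X.Modules (ComplexShape.up ℤ))
  obtain ⟨P, q, hP, -, hq, -⟩ := exists_kflat_resolution K
  have : QuasiIso (((DCoh.tensorCx (X := X)).flip.obj E).map q) := quasiIso_map_of_isKFlat q E hE
  have : IsIso (α.app P) := (cxResolvable_tensor E).isIso_app_of_isLeftDerivedFunctor
    ((DCoh.tensorCxQ E).totalLeftDerived DerivedCategory.Q (HomologicalComplex.quasiIso X.Modules (ComplexShape.up ℤ))) α hP
  have h1 : IsIso ((DCoh.tensorCxQ E).map q) :=
    inferInstanceAs (IsIso (DerivedCategory.Q.map (((DCoh.tensorCx (X := X)).flip.obj E).map q)))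
  exact ((MorphismProperty.isomorphisms (DCoh.D X)).arrow_mk_iso_iff
    (Arrow.isoMk ((DCoh.LTensorCx E).mapIso (asIso (DerivedCategory.Q.map q))) (asIso ((DCoh.tensorCxQ E).map q))
      (α.naturality q))).1 (inferInstanceAs (IsIso (α.app P)))

/-- Tensoring twice is tensoring with the tensor product. -/
noncomputable def tensorCxCompIso (K L : CochainComplex X.Modules ℤ) :
    (DCoh.tensorCx (X := X)).flip.obj K ⋙ (DCoh.tensorCx (X := X)).flip.obj L ≅
      (DCoh.tensorCx (X := X)).flip.obj (((DCoh.tensorCx (X := X)).obj K).obj L) :=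
  map₂CompIso (DCoh.tensorBi (X := X)) tensorAssocNatIso K L

/-- The comparison exhibiting the composite as derived from tensoring with the tensor product. -/
noncomputable def ltensorCompCounit (K L : CochainComplex X.Modules ℤ) [DCoh.HasLTensorCx K] [DCoh.HasLTensorCx L] :
    DerivedCategory.Q ⋙ DCoh.LTensorCx K ⋙ DCoh.LTensorCx L ⟶
      DCoh.tensorCxQ (((DCoh.tensorCx (X := X)).obj K).obj L) :=
  Functor.whiskerRight ((DCoh.tensorCxQ K).totalLeftDerivedCounit DerivedCategory.Q
      (HomologicalComplex.quasiIso X.Modules (ComplexShape.up ℤ))) (DCoh.LTensorCx L) ≫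
    Functor.whiskerLeft ((DCoh.tensorCx (X := X)).flip.obj K) ((DCoh.tensorCxQ L).totalLeftDerivedCounit
      DerivedCategory.Q (HomologicalComplex.quasiIso X.Modules (ComplexShape.up ℤ))) ≫
    Functor.whiskerRight (tensorCxCompIso K L).hom DerivedCategory.Q

theorem isIso_ltensorCompCounit_app (K L : CochainComplex X.Modules ℤ) [DCoh.HasLTensorCx K] [DCoh.HasLTensorCx L]
    (hL : DCoh.IsKFlat L) (A : CochainComplex X.Modules ℤ) (hA : DCoh.IsKFlat A) :
    IsIso ((ltensorCompCounit K L).app A) := by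
  have h1 := (cxResolvable_tensor K).isIso_app_of_isLeftDerivedFunctor
    ((DCoh.tensorCxQ K).totalLeftDerived DerivedCategory.Q (HomologicalComplex.quasiIso X.Modules (ComplexShape.up ℤ)))
    ((DCoh.tensorCxQ K).totalLeftDerivedCounit DerivedCategory.Q
      (HomologicalComplex.quasiIso X.Modules (ComplexShape.up ℤ))) hA
  have h2 := isIso_counit_of_isKFlat L hL (((DCoh.tensorCx (X := X)).flip.obj K).obj A)
  simp only [ltensorCompCounit, NatTrans.comp_app, Functor.whiskerRight_app, Functor.whiskerLeft_app]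
  infer_instance

/-- Derived tensor products compose. -/
noncomputable def ltensorCompIso (K L : CochainComplex X.Modules ℤ) [DCoh.HasLTensorCx K] [DCoh.HasLTensorCx L]
    (hL : DCoh.IsKFlat L) [DCoh.HasLTensorCx (((DCoh.tensorCx (X := X)).obj K).obj L)] :
    DCoh.LTensorCx K ⋙ DCoh.LTensorCx L ≅ DCoh.LTensorCx (((DCoh.tensorCx (X := X)).obj K).obj L) :=
  have := (cxResolvable_tensor (((DCoh.tensorCx (X := X)).obj K).obj L)).isLeftDerivedFunctor
    (DCoh.LTensorCx K ⋙ DCoh.LTensorCx L) (ltensorCompCounit K L) fun A hA => isIso_ltensorCompCounit_app K L hL A hA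
  Functor.leftDerivedNatIso (DCoh.LTensorCx K ⋙ DCoh.LTensorCx L)
    (DCoh.LTensorCx (((DCoh.tensorCx (X := X)).obj K).obj L)) (ltensorCompCounit K L)
    ((DCoh.tensorCxQ (((DCoh.tensorCx (X := X)).obj K).obj L)).totalLeftDerivedCounit DerivedCategory.Q
      (HomologicalComplex.quasiIso X.Modules (ComplexShape.up ℤ)))
    (HomologicalComplex.quasiIso X.Modules (ComplexShape.up ℤ)) (Iso.refl _)

/-- Every object of the derived category comes from a K-flat complex. -/
theorem exists_kflat_rep (K : DCoh.D X) :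
    ∃ P : CochainComplex X.Modules ℤ, DCoh.IsKFlat P ∧ Nonempty (DerivedCategory.Q.obj P ≅ K) := by
  obtain ⟨P, q, hP, -, hq, -⟩ := exists_kflat_resolution (DerivedCategory.Q.objPreimage K)
  exact ⟨P, hP, ⟨asIso (DerivedCategory.Q.map q) ≪≫ DerivedCategory.Q.objObjPreimageIso K⟩⟩

end GrothLib.OX
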