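import Groth.Agent.Lib.OX.Resolution
import Groth.Agent.Lib.OX.LTensorCx
import Groth.Agent.Lib.QCoh.Abelian
import Groth.Agent.Lib.QCoh.Extension
import Groth.Agent.Lib.DerCat.ColimitHomology
import Groth.Prelude.Def_Coh

/-! # Functors of K-flat complexes preserving quasi-coherence of the cohomology -/

set_option autoImplicit false
set_option maxHeartbeats 400000
universe u

open CategoryTheory CategoryTheory.Limits AlgebraicGeometry HomologicalComplex

namespace GrothLib.OX

variable {X Z : Scheme.{u}}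

theorem isQCoh_of_iso {M N : X.Modules} (e : M ≅ N) (h : Coh.IsQCoh M) : Coh.IsQCoh N :=
  @QCoh.isQuasicoherent_of_iso _ _ _ e h

theorem isQCoh_of_isZero {M : X.Modules} (h : IsZero M) : Coh.IsQCoh M :=
  isQCoh_of_iso (IsZero.iso ((IsZero.iff_id_eq_zero _).2 (colimit.hom_ext fun j => j.as.elim)) h)
    (QCoh.isQuasicoherent_colimit (Discrete.functor fun e : PEmpty.{u + 1} => (e.elim : X.Modules)) fun j => j.as.elim)

theorem isQCoh_colimit_nat (F : ℕ ⥤ X.Modules) (hF : ∀ j, Coh.IsQCoh (F.obj j)) : Coh.IsQCoh (colimit F) :=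
  isQCoh_of_iso (Functor.Final.colimitIso (AsSmall.equiv (C := ℕ)).inverse F)
    (QCoh.isQuasicoherent_colimit ((AsSmall.equiv.{0, 0, u} (C := ℕ)).inverse ⋙ F) fun _ => hF _)

/-- The middle of a five term exact sequence of quasi-coherent modules. -/
theorem isQCoh_of_five {A B C D E : X.Modules} (f : A ⟶ B) (g : B ⟶ C) (h : C ⟶ D) (k : D ⟶ E)
    (w₁ : f ≫ g = 0) (w₂ : g ≫ h = 0) (w₃ : h ≫ k = 0) (e₁ : (ShortComplex.mk f g w₁).Exact)
    (e₂ : (ShortComplex.mk g h w₂).Exact) (e₃ : (ShortComplex.mk h k w₃).Exact)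
    (hA : Coh.IsQCoh A) (hB : Coh.IsQCoh B) (hD : Coh.IsQCoh D) (hE : Coh.IsQCoh E) : Coh.IsQCoh C := by
  have := hA
  have := hB
  have := hD
  have := hE
  have hm : Mono (cokernel.desc f g w₁) := (ShortComplex.mk f g w₁).exact_iff_mono_cokernel_desc.1 e₁
  have he : Epi (kernel.lift k h w₃) := (ShortComplex.mk h k w₃).exact_iff_epi_kernel_lift.1 e₃
  have hwd : cokernel.desc f g w₁ ≫ h = 0 := by
    rw [← cancel_epi (cokernel.π f), cokernel.π_desc_assoc, w₂, comp_zero]
  have hwl : cokernel.desc f g w₁ ≫ kernel.lift k h w₃ = 0 := by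
    rw [← cancel_mono (kernel.ι k), Category.assoc, kernel.lift_ι, hwd, zero_comp]
  let S₂ := ShortComplex.mk g h w₂
  let S'' := ShortComplex.mk (cokernel.desc f g w₁) h hwd
  let S' := ShortComplex.mk (cokernel.desc f g w₁) (kernel.lift k h w₃) hwl
  let φ : S₂ ⟶ S'' := { τ₁ := cokernel.π f, τ₂ := 𝟙 _, τ₃ := 𝟙 _ }
  let ψ : S' ⟶ S'' := { τ₁ := 𝟙 _, τ₂ := 𝟙 _, τ₃ := kernel.ι k }
  have : Epi φ.τ₁ := coequalizer.π_epi
  have : IsIso φ.τ₂ := inferInstanceAs (IsIso (𝟙 C))
  have : Mono φ.τ₃ := inferInstanceAs (Mono (𝟙 D))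
  have : Epi ψ.τ₁ := inferInstanceAs (Epi (𝟙 (cokernel f)))
  have : IsIso ψ.τ₂ := inferInstanceAs (IsIso (𝟙 C))
  have : Mono ψ.τ₃ := inferInstanceAs (Mono (kernel.ι k))
  have h'' : S''.Exact := (ShortComplex.exact_iff_of_epi_of_isIso_of_mono φ).1 e₂
  have hS : S'.ShortExact :=
    { exact := (ShortComplex.exact_iff_of_epi_of_isIso_of_mono ψ).2 h''
      mono_f := hm
      epi_g := he }
  have : S'.X₁.IsQuasicoherent := QCoh.isQuasicoherent_cokernel f
  have : S'.X₃.IsQuasicoherent := QCoh.isQuasicoherent_kernel k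
  exact QCoh.isQuasicoherent_X₂ hS

variable (Φ : CochainComplex X.Modules ℤ ⥤ CochainComplex Z.Modules ℤ)

/-- The functor turns quasi-isomorphisms of K-flat complexes into quasi-isomorphisms. -/
def PreservesKQis : Prop :=
  ∀ ⦃K L : CochainComplex X.Modules ℤ⦄ (φ : K ⟶ L), DCoh.IsKFlat K → DCoh.IsKFlat L → QuasiIso φ → QuasiIso (Φ.map φ)

/-- The functor preserves quasi-coherence of the cohomology of a K-flat complex bounded above. -/
def QCohBelow : Prop :=
  ∀ (b : ℤ) (P : CochainComplex X.Modules ℤ), DCoh.IsKFlat P → (∀ j, b < j → IsZero (P.homology j)) →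
    (∀ j, Coh.IsQCoh (P.homology j)) → ∀ i, Coh.IsQCoh ((Φ.obj P).homology i)

section Seq

variable (G : CochainComplex X.Modules ℤ)

/-- The inclusion between consecutive truncations. -/
noncomputable def truncStep (n : ℕ) : G.truncLE (n : ℤ) ⟶ G.truncLE ((n + 1 : ℕ) : ℤ) :=
  have : (G.truncLE (n : ℤ)).IsStrictlyLE ((n + 1 : ℕ) : ℤ) :=
    CochainComplex.isStrictlyLE_of_le _ (n : ℤ) _ (by omega)
  inv ((G.truncLE (n : ℤ)).ιTruncLE _) ≫ CochainComplex.truncLEMap (G.ιTruncLE (n : ℤ)) _

theorem truncStep_ι (n : ℕ) : truncStep G n ≫ G.ιTruncLE _ = G.ιTruncLE (n : ℤ) := by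
  rw [truncStep, Category.assoc, CochainComplex.ιTruncLE_naturality, IsIso.inv_hom_id_assoc]

/-- The sequence of truncations. -/
noncomputable def truncFun : ℕ ⥤ CochainComplex X.Modules ℤ :=
  Functor.ofSequence (X := fun n : ℕ => G.truncLE (n : ℤ)) (truncStep G)

/-- The inclusions of the truncations. -/
noncomputable def truncι : truncFun G ⟶ (Functor.const ℕ).obj G :=
  NatTrans.ofSequence (fun n => G.ιTruncLE (n : ℤ)) fun n => by
    erw [Functor.ofSequence_map_homOfLE_succ]
    exact (truncStep_ι G n).trans (Category.comp_id _).symm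

theorem mono_ιTruncLE_f (n p : ℤ) : Mono ((G.ιTruncLE n).f p) :=
  inferInstanceAs (Mono ((HomologicalComplex.ιTruncLE G (ComplexShape.embeddingUpIntLE n)).f p))

theorem isIso_ιTruncLE_f (n p : ℤ) (hp : p < n) : IsIso ((G.ιTruncLE n).f p) := by
  let e := ComplexShape.embeddingUpIntLE n
  have hi : e.f (n - p).toNat = p := by
    change n - ((n - p).toNat : ℤ) = p
    omega
  have hb : ¬ e.BoundaryLE (n - p).toNat := by
    rw [ComplexShape.boundaryLE_embeddingUpIntLE_iff]
    omega
  have : IsIso ((G.op.πTruncGE e.op).f p) := by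
    refine (e.op.isIso_liftExtend_f_iff (G.op.restrictionToTruncGE' e.op)
      (G.op.restrictionToTruncGE'_hasLift e.op) (i := (n - p).toNat) hi).2 ?_
    exact G.op.isIso_restrictionToTruncGE' e.op _ (by simpa using hb)
  exact inferInstanceAs (IsIso ((G.op.πTruncGE e.op).f p).unop)

theorem isIso_truncDesc : IsIso (colimit.desc (truncFun G) ⟨G, truncι G⟩) := by
  have : ∀ p, IsIso ((colimit.desc (truncFun G) ⟨G, truncι G⟩).f p) := fun p => by
    let E := HomologicalComplex.eval X.Modules (ComplexShape.up ℤ) p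
    have : Mono ((colimit.desc (truncFun G) ⟨G, truncι G⟩).f p) := by
      have hm : ∀ n : ℕ, Mono ((Functor.whiskerRight (truncι G) E).app n) := fun n => mono_ιTruncLE_f G n p
      have hN : Mono (Functor.whiskerRight (truncι G) E) := NatTrans.mono_of_mono_app _
      exact colim.map_mono' (Functor.whiskerRight (truncι G) E)
        (isColimitOfPreserves E (colimit.isColimit (truncFun G)))
        (isColimitOfPreserves E (isColimitConstCocone ℕ G)) _ fun n => by
          change (colimit.ι (truncFun G) n).f p ≫ (colimit.desc (truncFun G) ⟨G, truncι G⟩).f p = _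
          rw [← HomologicalComplex.comp_f, colimit.ι_desc]
          exact (Category.comp_id _).symm
    have : Epi ((colimit.desc (truncFun G) ⟨G, truncι G⟩).f p) := by
      have hlt : p < ((p.toNat + 1 : ℕ) : ℤ) := by omega
      have : Epi ((colimit.ι (truncFun G) (p.toNat + 1)).f p ≫
          (colimit.desc (truncFun G) ⟨G, truncι G⟩).f p) := by
        rw [← HomologicalComplex.comp_f, colimit.ι_desc]
        have : IsIso ((G.ιTruncLE ((p.toNat + 1 : ℕ) : ℤ)).f p) :=
          isIso_ιTruncLE_f G _ p hlt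
        exact inferInstanceAs (Epi ((G.ιTruncLE ((p.toNat + 1 : ℕ) : ℤ)).f p))
      exact epi_of_epi ((colimit.ι (truncFun G) (p.toNat + 1)).f p) _
    exact isIso_of_mono_of_epi _
  exact HomologicalComplex.Hom.isIso_of_components _

/-- A K-flat complex with a degreewise epimorphic quasi-isomorphism to a truncation. -/
structure Stage (n : ℕ) where
  /-- the complex -/
  K : CochainComplex X.Modules ℤ
  /-- the map -/
  q : K ⟶ G.truncLE (n : ℤ)
  kflat : DCoh.IsKFlat K
  qis : QuasiIso q
  epi_f : ∀ p, Epi (q.f p)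

/-- The stages. -/
noncomputable def stage : ∀ n : ℕ, Stage G n
  | 0 => ⟨resObj (startRes _), resMap (startRes _), isKFlat_resObj _, quasiIso_resMap _, epi_resMap_f _⟩
  | n + 1 => ⟨resObj (startResOver ((stage n).q ≫ truncStep G n) (stage n).kflat),
      resMap _, isKFlat_resObj _, quasiIso_resMap _, epi_resMap_f _⟩

/-- The transition maps. -/
noncomputable def stageStep (n : ℕ) : (stage G n).K ⟶ (stage G (n + 1)).K :=
  (biprod.inl : (stage G n).K ⟶ (stage G n).K ⊞ (startRes _).K) ≫
    colimit.ι (resFun (startResOver ((stage G n).q ≫ truncStep G n) (stage G n).kflat)) 0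

theorem stageStep_q (n : ℕ) : stageStep G n ≫ (stage G (n + 1)).q = (stage G n).q ≫ truncStep G n := by
  change ((biprod.inl : (stage G n).K ⟶ (stage G n).K ⊞ (startRes _).K) ≫
    colimit.ι (resFun (startResOver ((stage G n).q ≫ truncStep G n) (stage G n).kflat)) 0) ≫ resMap _ = _
  rw [Category.assoc, resMap]
  erw [colimit.ι_desc]
  exact biprod.inl_desc _ _

/-- The sequence of stages. -/
noncomputable def stageFun : ℕ ⥤ CochainComplex X.Modules ℤ :=
  Functor.ofSequence (X := fun n => (stage G n).K) (stageStep G)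

/-- The comparison with the truncations. -/
noncomputable def stageQ : stageFun G ⟶ truncFun G :=
  NatTrans.ofSequence (fun n => (stage G n).q) fun n => by
    erw [Functor.ofSequence_map_homOfLE_succ, Functor.ofSequence_map_homOfLE_succ]
    exact stageStep_q G n

theorem quasiIso_colimMap_stageQ : QuasiIso (colimMap (stageQ G)) := by
  have he : ∀ n, Epi ((stageQ G).app n) := fun n =>
    have := (stage G n).epi_f
    HomologicalComplex.epi_of_epi_f (stage G n).q this
  let S := ShortComplex.mk (kernel.ι (stageQ G)) (stageQ G) (kernel.condition _)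
  have hS : S.ShortExact :=
    { exact := ShortComplex.exact_of_f_is_kernel _ (kernelIsKernel _)
      mono_f := inferInstanceAs (Mono (kernel.ι (stageQ G)))
      epi_g := NatTrans.epi_of_epi_app (stageQ G) }
  have h1 : (colimit S.X₁).Acyclic := DerCat.acyclic_colimit _ fun n i => by
    have hn := (hS.map_of_exact ((evaluation _ _).obj n))
    have := (stage G n).qis
    refine (exactAt_iff_isZero_homology _ i).2 ((hn.homology_exact₁ (i - 1) i (show i - 1 + 1 = i by omega)).isZero_of_both_zeros ?_ ?_)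
    · have : Epi (homologyMap (stage G n).q (i - 1)) := inferInstance
      exact (cancel_epi (homologyMap (stage G n).q (i - 1))).1 ((hn.comp_δ (i - 1) i (show i - 1 + 1 = i by omega)).trans comp_zero.symm)
    · skip
      have : Mono (homologyMap (stage G n).q i) := inferInstance
      exact (cancel_mono (homologyMap (stage G n).q i)).1 ((((S.map ((evaluation _ _).obj n))).map
        (homologyFunctor X.Modules (ComplexShape.up ℤ) i)).zero.trans zero_comp.symm)
  have hT : (S.map colim).ShortExact := hS.map_of_exact colim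
  have h0 := (DerCat.acyclic_iff _).1 h1
  refine (quasiIso_iff _).2 fun i => (quasiIsoAt_iff_isIso_homologyMap _ i).2 ?_
  have : Mono (homologyMap (colimMap (stageQ G)) i) := (hT.homology_exact₂ i).mono_g ((h0 i).eq_of_src _ _)
  have : Epi (homologyMap (colimMap (stageQ G)) i) :=
    (hT.homology_exact₃ i (i + 1) rfl).epi_f ((h0 (i + 1)).eq_of_tgt _ _)
  exact isIso_of_mono_of_epi _

/-- Every complex is quasi-isomorphic to the colimit of K-flat resolutions of its truncations. -/
theorem exists_stage_rep : ∃ g : colimit (stageFun G) ⟶ G, QuasiIso g := by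
  have := quasiIso_colimMap_stageQ G
  have := isIso_truncDesc G
  exact ⟨colimMap (stageQ G) ≫ colimit.desc (truncFun G) ⟨G, truncι G⟩, quasiIso_comp _ _⟩

end Seq

/-- From complexes bounded above to all K-flat complexes. -/
theorem isQCoh_homology_of_qcohBelow [PreservesColimitsOfShape ℕ Φ] (hq : PreservesKQis Φ) (hb : QCohBelow Φ)
    {G : CochainComplex X.Modules ℤ} (hG : DCoh.IsKFlat G) (hqc : ∀ j, Coh.IsQCoh (G.homology j)) (i : ℤ) :
    Coh.IsQCoh ((Φ.obj G).homology i) := by
  obtain ⟨g, hg⟩ := exists_stage_rep G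
  have := hq g (isKFlat_colimit _ fun n => (stage G n).kflat) hG hg
  obtain ⟨F, hF, ⟨e⟩⟩ := DerCat.exists_colimit_homology (stageFun G ⋙ Φ) i
  have hi' : IsIso (homologyMap (Φ.map g) i) := (quasiIsoAt_iff_isIso_homologyMap _ i).1 inferInstance
  refine isQCoh_of_iso (e ≪≫ (homologyFunctor Z.Modules (ComplexShape.up ℤ) i).mapIso
    (preservesColimitIso Φ (stageFun G)).symm ≪≫
      @asIso _ _ _ _ (homologyMap (Φ.map g) i) hi') (isQCoh_colimit_nat F fun n => isQCoh_of_iso (hF n).some.symm ?_)
  have := (stage G n).qis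
  refine hb n _ (stage G n).kflat (fun j hj => ?_) (fun j => ?_) i
  · exact ((exactAt_iff_isZero_homology _ _).1 (CochainComplex.exactAt_of_isLE (G.truncLE (n : ℤ)) n j hj)).of_iso
      (asIso (homologyMap (stage G n).q j))
  · rcases le_or_gt j (n : ℤ) with hj | hj
    · have := CochainComplex.quasiIsoAt_ιTruncLE G n j hj
      exact isQCoh_of_iso (asIso (homologyMap (stage G n).q j) ≪≫ isoOfQuasiIsoAt (G.ιTruncLE (n : ℤ)) j).symm (hqc j)
    · exact isQCoh_of_isZero (((exactAt_iff_isZero_homology _ _).1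
        (CochainComplex.exactAt_of_isLE (G.truncLE (n : ℤ)) n j hj)).of_iso (asIso (homologyMap (stage G n).q j)))

end GrothLib.OX
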