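import Groth.Agent.Lib.SiteDer.ModGen
import Groth.Agent.Lib.SiteDer.RlimTower
import Groth.Agent.Lib.Cohom.Affine
import Groth.Agent.Lib.OX.QCohFun
import Groth.Agent.Lib.HoCat.Product
import Groth.Prelude.Def_DCoh2
import Groth.Prelude.Def_ModSite

/-! # Sections over affine opens of objects with quasi-coherent cohomology

For `K` with quasi-coherent cohomology and `U` affine, maps from the generator at `U` in degree `j`
to `K` are the sections of `H^j(K)` over `U`. -/

set_option autoImplicit false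
set_option maxHeartbeats 400000
universe u

open CategoryTheory CategoryTheory.Limits AlgebraicGeometry Opposite Pretriangulated DerivedCategory
open GrothLib.SiteDer (theta IsLocGen)

attribute [local instance] HasDerivedCategory.standard

namespace GrothLib.OX

/-- The generators of `X.Modules`. -/
noncomputable def genF (X : Scheme.{u}) : X.Opens ⥤ X.Modules :=
  SiteDer.freeModF X.ringCatSheaf

variable {X : Scheme.{u}}

theorem isLocGen_genF : IsLocGen (Opens.grothendieckTopology X.carrier) (genF X) :=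
  SiteDer.isLocGen_freeMod X.ringCatSheaf

/-- Maps out of the generators are sections. -/
noncomputable def genSec (M : X.Modules) (U : X.Opens) : ((genF X).obj U ⟶ M) ≃ Γ(M, U) :=
  SiteDer.secMod M U

theorem hom_gen_qcoh_eq_zero {U : X.Opens} (hU : IsAffineOpen U) {M : X.Modules} (hM : Coh.IsQCoh M)
    {k q : ℤ} (hqk : q < k) (ψ : (singleFunctor X.Modules k).obj ((genF X).obj U) ⟶
      (singleFunctor X.Modules q).obj M) : ψ = 0 := by
  obtain ⟨n, hn⟩ : ∃ n : ℕ, k - q = ((n + 1 : ℕ) : ℤ) := ⟨(k - q - 1).toNat, by omega⟩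
  have := hM
  exact SiteDer.eq_zero_of_subsingleton_HU (O := X.sheaf) M U k q (n + 1) hn
    (Cohom.subsingleton_H'_of_isAffineOpen hU M n) ψ

/-- No maps into objects whose cohomology lives below. -/
theorem hom_gen_eq_zero {U : X.Opens} (hU : IsAffineOpen U) (k a : ℤ) (W : DCoh.D X) [W.IsGE a]
    (hq : ∀ q, q < k → Coh.IsQCoh (DCoh.HD W q)) (hz : IsZero (DCoh.HD W k))
    (φ : (singleFunctor X.Modules k).obj ((genF X).obj U) ⟶ W) : φ = 0 :=
  SiteDer.eq_zero_of_isGE' _ k a W (fun q _ hqk ψ => by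
    rcases lt_or_eq_of_le hqk with h | rfl
    · exact hom_gen_qcoh_eq_zero hU (hq q h) h ψ
    · exact ((singleFunctor X.Modules q).map_isZero hz).eq_of_tgt _ _) φ

/-- The bijectivity statement. -/
def ThetaBij (U : X.Opens) (j : ℤ) (E : DCoh.D X) : Prop :=
  Function.Bijective (fun φ : (singleFunctor X.Modules j).obj ((genF X).obj U) ⟶ E => theta φ)

theorem thetaBij_of_comp {U : X.Opens} {j : ℤ} {E E' : DCoh.D X} (a : E ⟶ E')
    (hH : IsIso ((homologyFunctor X.Modules j).map a))
    (hb : Function.Bijective (fun φ : (singleFunctor X.Modules j).obj ((genF X).obj U) ⟶ E => φ ≫ a))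
    (h : ThetaBij U j E') : ThetaBij U j E := by
  have hp : Function.Bijective (fun g : (genF X).obj U ⟶ (homologyFunctor X.Modules j).obj E =>
      g ≫ (homologyFunctor X.Modules j).map a) := by
    refine ⟨fun g g' e => (cancel_mono ((homologyFunctor X.Modules j).map a)).1 e,
      fun g => ⟨g ≫ inv ((homologyFunctor X.Modules j).map a), by simp⟩⟩
  refine (Function.Bijective.of_comp_iff' hp _).1 ?_
  have e : ((fun g : (genF X).obj U ⟶ (homologyFunctor X.Modules j).obj E =>
        g ≫ (homologyFunctor X.Modules j).map a) ∘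
      fun φ : (singleFunctor X.Modules j).obj ((genF X).obj U) ⟶ E => theta φ) =
      (fun φ : (singleFunctor X.Modules j).obj ((genF X).obj U) ⟶ E' => theta φ) ∘ fun φ => φ ≫ a :=
    funext fun φ => (SiteDer.theta_comp φ a).symm
  rw [e]
  exact h.comp hb

/-- Shifted maps from the generator. -/
theorem hom_gen_shift_eq_zero {U : X.Opens} (hU : IsAffineOpen U) (j a : ℤ) (W : DCoh.D X) [W.IsGE a]
    (hq : ∀ q, q < j - 1 → Coh.IsQCoh (DCoh.HD W q)) (hz : IsZero (DCoh.HD W (j - 1)))
    (φ : ((singleFunctor X.Modules j).obj ((genF X).obj U))⟦(1 : ℤ)⟧ ⟶ W) : φ = 0 :=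
  (cancel_epi (SiteDer.singleShiftOne ((genF X).obj U) j).inv).1
    ((hom_gen_eq_zero hU (j - 1) a W hq hz _).trans comp_zero.symm)

theorem thetaBij_of_isGE_self (U : X.Opens) (j : ℤ) (E : DCoh.D X) [E.IsGE j] : ThetaBij U j E := by
  let A := (TStructure.t.truncLT (j + 1)).obj E
  let B := (TStructure.t.truncGE (j + 1)).obj E
  let ι : A ⟶ E := (TStructure.t.truncLTι (j + 1)).app E
  have hB : B.IsGE (j + 1) := inferInstanceAs (TStructure.t.IsGE ((TStructure.t.truncGE (j + 1)).obj E) (j + 1))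
  have hAle : A.IsLE j := inferInstanceAs (TStructure.t.IsLE ((TStructure.t.truncLT (j + 1)).obj E) j)
  have hAge : A.IsGE j := inferInstanceAs (TStructure.t.IsGE ((TStructure.t.truncLT (j + 1)).obj E) j)
  have hHι : IsIso ((homologyFunctor X.Modules j).map ι) := DerTrunc.isIso_homology_truncLTι E (j + 1) j (by omega)
  let S := (singleFunctor X.Modules j).obj ((genF X).obj U)
  have hb : Function.Bijective (fun φ : S ⟶ A => φ ≫ ι) := by
    refine SiteDer.bijective_comp_of_cone (TStructure.t.triangleLTGE_distinguished (j + 1) E) S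
      (fun φ => (TStructure.t (C := X.Modules)).zero_of_isLE_of_isGE φ j (j + 1) (by omega)
        inferInstance hB)
      (fun φ => ?_)
    refine (cancel_epi (SiteDer.singleShiftOne ((genF X).obj U) j).inv).1 (Eq.trans ?_ comp_zero.symm)
    exact (TStructure.t (C := X.Modules)).zero_of_isLE_of_isGE _ (j - 1) (j + 1) (by omega) inferInstance hB
  obtain ⟨e⟩ := DerTrunc.nonempty_iso_single A j
  have hA : ThetaBij U j A := by
    refine thetaBij_of_comp e.hom inferInstance
      ⟨fun φ φ' h => (cancel_mono e.hom).1 h, fun φ => ⟨φ ≫ e.inv, by simp⟩⟩ ?_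
    let i := (singleFunctorCompHomologyFunctorIso X.Modules j)
    refine ⟨fun φ φ' h => ?_, fun g => ⟨(singleFunctor X.Modules j).map (g ≫ i.hom.app _), ?_⟩⟩
    · obtain ⟨g, rfl⟩ := (singleFunctor X.Modules j).map_surjective φ
      obtain ⟨g', rfl⟩ := (singleFunctor X.Modules j).map_surjective φ'
      have hn : ∀ g : (genF X).obj U ⟶ DCoh.HD A j, theta ((singleFunctor X.Modules j).map g) =
          g ≫ i.inv.app (DCoh.HD A j) := fun g => (i.inv.naturality g).symm
      exact congrArg _ ((cancel_mono (i.inv.app (DCoh.HD A j))).1 (((hn g).symm.trans h).trans (hn g')))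
    · refine (i.inv.naturality (g ≫ i.hom.app _)).symm.trans ?_
      exact (Category.assoc _ _ _).trans ((congrArg (g ≫ ·) (i.hom_inv_id_app _)).trans (Category.comp_id _))
  refine ⟨fun φ φ' h => ?_, fun g => ?_⟩
  · obtain ⟨ψ, rfl⟩ := hb.2 φ
    obtain ⟨ψ', rfl⟩ := hb.2 φ'
    refine congrArg (· ≫ ι) (hA.1 ?_)
    simpa [SiteDer.theta_comp, cancel_mono] using h
  · obtain ⟨ψ, hψ⟩ := hA.2 (g ≫ inv ((homologyFunctor X.Modules j).map ι))
    exact ⟨ψ ≫ ι, by simp only [SiteDer.theta_comp]; simp only at hψ; rw [hψ]; simp⟩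

theorem isQCoh_HD_truncGE {E : DCoh.D X} (hE : DCoh.IsQCohD E) (n q : ℤ) :
    Coh.IsQCoh (DCoh.HD ((TStructure.t.truncGE n).obj E) q) := by
  rcases lt_or_ge q n with h | h
  · have : ((TStructure.t.truncGE n).obj E).IsGE n :=
      inferInstanceAs (TStructure.t.IsGE ((TStructure.t.truncGE n).obj E) n)
    exact isQCoh_of_isZero (DerivedCategory.isZero_of_isGE _ n q h)
  · have := DerTrunc.isIso_homology_truncGEπ E n q h
    exact isQCoh_of_iso (asIso ((homologyFunctor X.Modules q).map ((TStructure.t.truncGEπ n).app E))) (hE q)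

/-- The bounded below case. -/
theorem thetaBij_of_isGE {U : X.Opens} (hU : IsAffineOpen U) (j a : ℤ) (E : DCoh.D X) [E.IsGE a]
    (hE : DCoh.IsQCohD E) : ThetaBij U j E := by
  by_cases hja : j ≤ a
  · have : E.IsGE j := (TStructure.t (C := X.Modules)).isGE_of_ge E j a hja
    exact thetaBij_of_isGE_self U j E
  let A := (TStructure.t.truncLT j).obj E
  let B := (TStructure.t.truncGE j).obj E
  have hBj : B.IsGE j := inferInstanceAs (TStructure.t.IsGE ((TStructure.t.truncGE j).obj E) j)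
  have hAle : A.IsLE (j - 1) := inferInstanceAs (TStructure.t.IsLE ((TStructure.t.truncLT j).obj E) (j - 1))
  have hAge : A.IsGE a := inferInstanceAs (TStructure.t.IsGE ((TStructure.t.truncLT j).obj E) a)
  have hA1 : (A⟦(1 : ℤ)⟧).IsGE (a - 1) :=
    (TStructure.t (C := X.Modules)).isGE_shift A a 1 (a - 1) (by omega)
  have hz : ∀ q, j ≤ q → IsZero (DCoh.HD A q) := fun q hq =>
    DerivedCategory.isZero_of_isLE A (j - 1) q (by omega)
  have hqA : ∀ q, Coh.IsQCoh (DCoh.HD A q) := fun q => by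
    rcases lt_or_ge q j with h | h
    · have := DerTrunc.isIso_homology_truncLTι E j q h
      exact isQCoh_of_iso (asIso ((homologyFunctor X.Modules q).map ((TStructure.t.truncLTι j).app E))).symm (hE q)
    · exact isQCoh_of_isZero (hz q h)
  let s : ∀ q, DCoh.HD (A⟦(1 : ℤ)⟧) q ≅ DCoh.HD A (q + 1) := fun q =>
    ((homologyFunctor X.Modules 0).shiftIso 1 q (q + 1) (by omega)).app A
  refine thetaBij_of_comp ((TStructure.t.truncGEπ j).app E) (DerTrunc.isIso_homology_truncGEπ E j j le_rfl)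
    ?_ (thetaBij_of_isGE_self U j B)
  refine SiteDer.bijective_comp_of_cone (rot_of_distTriang _ (TStructure.t.triangleLTGE_distinguished j E))
    _ (fun φ => ?_) (fun φ => ?_)
  · exact hom_gen_eq_zero hU j (a - 1) (A⟦(1 : ℤ)⟧) (fun q _ => isQCoh_of_iso (s q).symm (hqA _))
      ((hz (j + 1) (by omega)).of_iso (s j)) φ
  · exact hom_gen_shift_eq_zero hU j (a - 1) (A⟦(1 : ℤ)⟧) (fun q _ => isQCoh_of_iso (s q).symm (hqA _))
      ((hz (j - 1 + 1) (by omega)).of_iso (s (j - 1))) φ

theorem goodAt_trunc {U : X.Opens} (hU : IsAffineOpen U) {E : DCoh.D X} (hE : DCoh.IsQCohD E) (j : ℤ) :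
    SiteDer.GoodAt (K := fun n : ℕ => (TStructure.t.truncGE (-(n : ℤ))).obj E)
      (fun n => (TStructure.t.natTransTruncGEOfLE (-((n + 1 : ℕ) : ℤ)) (-(n : ℤ)) (by omega)).app E)
      (genF X) j (-j).toNat U := by
  refine SiteDer.goodAt_of_homology j _ U fun n hn => ?_
  obtain ⟨Z, g, c, hZT, hZ, hz, ⟨e⟩⟩ := SiteDer.exists_cone_truncMap E n
  refine ⟨Z, g, c, _, hZT, hZ, fun k q hk hqk ψ => ?_⟩
  by_cases hq : q = -(n : ℤ) - 2
  · subst hq
    exact hom_gen_qcoh_eq_zero hU (isQCoh_of_iso e.symm (hE _)) (by omega) ψ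
  · exact ((singleFunctor X.Modules q).map_isZero (hz q hq)).eq_of_tgt _ _

/-- An object with quasi-coherent cohomology is the derived limit of its truncations. -/
theorem isRlimVia_trunc_qcoh {E : DCoh.D X} (hE : DCoh.IsQCohD E)
    [HasProduct fun n : ℕ => (TStructure.t.truncGE (-(n : ℤ))).obj E] :
    CohCx.IsRlimVia (fun n : ℕ => (TStructure.t.truncGE (-(n : ℤ))).obj E)
      (fun n => (TStructure.t.natTransTruncGEOfLE (-((n + 1 : ℕ) : ℤ)) (-(n : ℤ)) (by omega)).app E)
      E (fun n => (TStructure.t.truncGEπ (-(n : ℤ))).app E) := by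
  have hcov : ∀ W : X.Opens, Sieve.ofArrows (fun i : {V : X.Opens // IsAffineOpen V ∧ V ≤ W} => i.1)
      (fun i => homOfLE i.2.2) ∈ Opens.grothendieckTopology X.carrier W := fun W x hx => by
    obtain ⟨V, hV, hxV, hVW⟩ := exists_isAffineOpen_mem_and_subset (x := x) (U := W) hx
    exact ⟨V, homOfLE hVW, Sieve.ofArrows_mk (fun i : {V : X.Opens // IsAffineOpen V ∧ V ≤ W} => i.1)
      (fun i => homOfLE i.2.2) ⟨V, hV, hVW⟩, hxV⟩
  refine SiteDer.isRlimVia_trunc isLocGen_genF E {V : X.Opens | IsAffineOpen V}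
    (fun W => ⟨_, _, _, hcov W, fun i => i.2.1⟩) fun V _ j => ⟨(-j).toNat, fun T hT => ?_⟩
  refine ⟨{W : X.Opens // IsAffineOpen W ∧ ∃ h : W ≤ V, T (homOfLE h)}, fun i => i.1,
    fun i => homOfLE i.2.2.1, fun i => i.2.2.2, ?_, fun i => goodAt_trunc i.2.1 hE j⟩
  intro x hx
  obtain ⟨W, f, hf, hxW⟩ := hT x hx
  obtain ⟨W', hW', hxW', hW'W⟩ := exists_isAffineOpen_mem_and_subset (x := x) (U := W) hxW
  have hT' : T (homOfLE (hW'W.trans f.le)) := T.downward_closed hf (homOfLE hW'W)
  exact ⟨W', homOfLE (hW'W.trans f.le), Sieve.ofArrows_mk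
    (fun i : {W : X.Opens // IsAffineOpen W ∧ ∃ h : W ≤ V, T (homOfLE h)} => i.1)
    (fun i => homOfLE i.2.2.1) ⟨W', hW', hW'W.trans f.le, hT'⟩, hxW'⟩

/-- Maps from the generator at an affine open are sections of the cohomology sheaf. -/
theorem theta_bijective {U : X.Opens} (hU : IsAffineOpen U) {E : DCoh.D X} (hE : DCoh.IsQCohD E) (j : ℤ) :
    ThetaBij U j E := by
  have := HoCat.derivedCategory_hasLimitsOfShape (A := X.Modules) ℕ
  have : HasProduct fun n : ℕ => (TStructure.t.truncGE (-(n : ℤ))).obj E := inferInstance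
  let n := (-j).toNat
  have : ((TStructure.t.truncGE (-(n : ℤ))).obj E).IsGE (-(n : ℤ)) := SiteDer.isGE_truncTower E n
  exact thetaBij_of_comp ((TStructure.t.truncGEπ (-(n : ℤ))).app E)
    (DerTrunc.isIso_homology_truncGEπ E _ j (by omega))
    ((goodAt_trunc hU hE j).bijective (isRlimVia_trunc_qcoh hE) n le_rfl)
    (thetaBij_of_isGE hU j (-(n : ℤ)) _ (fun q => isQCoh_HD_truncGE hE _ q))

end GrothLib.OX
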