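import Groth.Agent.Lib.SiteDer.PushBound
import Groth.Agent.Lib.Cohom.Vanishing
import Groth.Agent.Lib.Cohom.RpushModules
import Groth.Agent.Lib.OX.AffineSections
import Groth.Agent.Lib.OX.QCohFun
import Groth.Agent.Lib.QCoh.Abelian
import Groth.Prelude.Def_WeakSerre

/-! # The derived direct image on `D_qc` along quasi-compact quasi-separated morphisms -/

set_option autoImplicit false
set_option maxHeartbeats 400000
universe u

open CategoryTheory CategoryTheory.Limits AlgebraicGeometry Opposite TopologicalSpace Pretriangulated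
open ZeroObject
open GrothLib.SiteDer (theta)

attribute [local instance] HasDerivedCategory.standard

namespace GrothLib.OX

variable {X S : Scheme.{u}}

/-- Quasi-coherent modules, as a property. -/
abbrev qcohP (X : Scheme.{u}) : ObjectProperty X.Modules := fun M => Coh.IsQCoh M

instance isWeakSerre_qcohP (X : Scheme.{u}) : WSerre.IsWeakSerre (qcohP X) where
  exists_zero := ⟨0, isZero_zero _, isQCoh_of_isZero (isZero_zero _)⟩
  kernels_le := fun K hK => by
    obtain ⟨f, k, hk, hf⟩ := hK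
    have := hf.1
    have := hf.2
    exact isQCoh_of_iso (IsLimit.conePointUniqueUpToIso (kernelIsKernel f) hk) (QCoh.isQuasicoherent_kernel f)
  cokernels_le := fun K hK => by
    obtain ⟨f, k, hk, hf⟩ := hK
    have := hf.1
    have := hf.2
    exact isQCoh_of_iso (IsColimit.coconePointUniqueUpToIso (cokernelIsCokernel f) hk) (QCoh.isQuasicoherent_cokernel f)
  prop_X₂_of_shortExact := fun {T} hT h₁ h₃ => by
    have : T.X₁.IsQuasicoherent := h₁
    have : T.X₃.IsQuasicoherent := h₃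
    exact QCoh.isQuasicoherent_X₂ hT

/-- Uniform vanishing on the traces of basic opens on a quasi-compact open of an affine. -/
theorem exists_vanishFrom_inf_basicOpen_of_le_affine {B V₀ : X.Opens} (hB : IsAffineOpen B) (hBV : B ≤ V₀)
    {W : X.Opens} (hWB : W ≤ B) (hW : IsCompact (W : Set X)) :
    ∃ d, ∀ (N : X.Modules) [N.IsQuasicoherent] (s : Γ(X, V₀)),
      Cohom.VanishFrom (Coh.toAb N) (W ⊓ X.basicOpen s) d := by
  obtain ⟨ι, _, U, hUA, hUW, hWU⟩ := QCoh.exists_finite_affine_cover hW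
  refine ⟨Fintype.card ι, fun N _ s => ?_⟩
  have hinf : ∀ U₁ U₂ : X.Opens, IsAffineOpen U₁ ∧ U₁ ≤ B → IsAffineOpen U₂ ∧ U₂ ≤ B →
      IsAffineOpen (U₁ ⊓ U₂) ∧ U₁ ⊓ U₂ ≤ B := fun U₁ U₂ h₁ h₂ => by
    refine ⟨?_, inf_le_left.trans h₁.2⟩
    have : IsAffine B := hB
    have e : ∀ W : X.Opens, W ≤ B → B.ι ''ᵁ (B.ι ⁻¹ᵁ W) = W := fun W hW ↦ by
      rw [Scheme.Hom.image_preimage_eq_opensRange_inf, Scheme.Opens.opensRange_ι, inf_eq_right.2 hW]
    rw [← e (U₁ ⊓ U₂) (inf_le_left.trans h₁.2), Scheme.Hom.preimage_inf]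
    refine IsAffineOpen.image_of_isOpenImmersion (IsAffineOpen.inf ?_ ?_) _ <;>
      rw [← Scheme.Hom.isAffineOpen_iff_of_isOpenImmersion B.ι, e _ (by first | exact h₁.2 | exact h₂.2)]
    exacts [h₁.1, h₂.1]
  have hbas : ∀ T : X.Opens, IsAffineOpen T → T ≤ B → IsAffineOpen (T ⊓ X.basicOpen s) ∧ T ⊓ X.basicOpen s ≤ B :=
    fun T hT hTB => ⟨by
      rw [← Scheme.basicOpen_res X s (homOfLE (hTB.trans hBV)).op]
      exact hT.basicOpen _, inf_le_left.trans hTB⟩
  let e := (Fintype.equivFin ι).symm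
  have h := Cohom.vanishFrom_iSup N (fun T ↦ IsAffineOpen T ∧ T ≤ B) (fun _ h ↦ h.1) hinf _
    (fun i => U (e i) ⊓ X.basicOpen s) fun i ↦ hbas _ (hUA _) ((hUW _).trans hWB)
  rwa [show (⨆ i, U (e i) ⊓ X.basicOpen s) = W ⊓ X.basicOpen s from by
    rw [← iSup_inf_eq, e.iSup_comp (g := U), le_antisymm (iSup_le hUW) hWU]] at h

/-- Uniform vanishing on the traces of basic opens on a quasi-compact open. -/
theorem exists_vanishFrom_inf_basicOpen {V₀ : X.Opens} (hqs : IsQuasiSeparated (V₀ : Set X))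
    (W : X.Opens) (hW : IsCompact (W : Set X)) : W ≤ V₀ →
    ∃ d, ∀ (N : X.Modules) [N.IsQuasicoherent] (s : Γ(X, V₀)),
      Cohom.VanishFrom (Coh.toAb N) (W ⊓ X.basicOpen s) d := by
  refine compact_open_induction_on W hW
    (fun _ => ⟨0, fun N _ s => by rw [bot_inf_eq]; exact Cohom.vanishFrom_bot _ _⟩)
    fun T hT U ih hle => ?_
  have hT' : T ≤ V₀ := le_sup_left.trans hle
  have hU' : U.1 ≤ V₀ := le_sup_right.trans hle
  obtain ⟨d, hd⟩ := ih hT'
  obtain ⟨e, he⟩ := exists_vanishFrom_inf_basicOpen_of_le_affine U.2 hU' (inf_le_right : T ⊓ U.1 ≤ U.1)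
    (hqs _ _ hT' T.isOpen hT hU' U.1.isOpen U.2.isCompact)
  refine ⟨max d e + 1, fun N _ s => ?_⟩
  rw [inf_sup_right]
  refine ((hd N s).mono (by omega)).sup ((Cohom.vanishFrom_affine N ?_).mono (by omega)) ?_ (le_max_right d e)
  · rw [← Scheme.basicOpen_res X s (homOfLE hU').op]
    exact U.2.basicOpen _
  · rw [← inf_inf_distrib_right]
    exact he N s

/-- Uniform bound for the cohomology over the preimages of the basic opens of an affine. -/
theorem exists_vanishFrom_preimage (f : X ⟶ S) [QuasiCompact f] [QuasiSeparated f] {V : S.Opens}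
    (hV : IsAffineOpen V) : ∃ d, ∀ (N : X.Modules) [N.IsQuasicoherent] (g : Γ(S, V)),
      Cohom.VanishFrom (Coh.toAb N) (f ⁻¹ᵁ S.basicOpen g) d := by
  obtain ⟨d, hd⟩ := exists_vanishFrom_inf_basicOpen (f.isQuasiSeparated_preimage hV.isQuasiSeparated)
    (f ⁻¹ᵁ V) (QuasiCompact.isCompact_preimage (f := f) (V : Set S) V.isOpen hV.isCompact) le_rfl
  refine ⟨d, fun N _ g => ?_⟩
  have h := hd N (f.app V g)
  rwa [← Scheme.preimage_basicOpen, ← Scheme.Hom.preimage_inf, inf_eq_right.2 (S.basicOpen_le g)] at h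

/-- The morphism of sites of a morphism of schemes. -/
noncomputable abbrev rmor (f : X ⟶ S) : ModSite.RMor X.sheaf S.sheaf := ModSite.RMor.ofScheme f

/-- The derived direct image through K-injective resolutions. -/
noncomputable def rpushIsoRres (f : X ⟶ S) [DCoh.HasRpush f] : DCoh.Rpush f ≅ SiteDer.Rres (rmor f) :=
  KInj.totalRightDerivedIso (DCoh.pushKh f)

/-- Higher cohomology of quasi-coherent modules over `T` vanishes from degree `d` on. -/
def VanQ (T : X.Opens) (d : ℕ) : Prop :=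
  ∀ (N : X.Modules) [N.IsQuasicoherent], Cohom.VanishFrom (Coh.toAb N) T d

theorem hom_gen_single_eq_zero {T : X.Opens} {d : ℕ} (hT : VanQ T d) {M : X.Modules} (hM : Coh.IsQCoh M)
    {k q : ℤ} (hkq : q + d ≤ k) (ψ : (DerivedCategory.singleFunctor X.Modules k).obj ((genF X).obj T) ⟶
      (DerivedCategory.singleFunctor X.Modules q).obj M) : ψ = 0 := by
  obtain ⟨n, hn⟩ : ∃ n : ℕ, k - q = (n : ℤ) := ⟨(k - q).toNat, by omega⟩
  have := hM
  exact SiteDer.eq_zero_of_subsingleton_HU (O := X.sheaf) M T k q n hn (hT M n (by omega)) ψ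

theorem goodAt_trunc_vanQ {T : X.Opens} {d : ℕ} (hT : VanQ T d) {E : DCoh.D X} (hE : DCoh.IsQCohD E) (j : ℤ) :
    SiteDer.GoodAt (K := fun n : ℕ => (DerivedCategory.TStructure.t.truncGE (-(n : ℤ))).obj E)
      (fun n => (DerivedCategory.TStructure.t.natTransTruncGEOfLE (-((n + 1 : ℕ) : ℤ)) (-(n : ℤ)) (by omega)).app E)
      (genF X) j ((d : ℤ) - j).toNat T := by
  refine SiteDer.goodAt_of_homology j _ T fun n hn => ?_
  obtain ⟨Z, g, c, hZT, hZ, hz, ⟨e⟩⟩ := SiteDer.exists_cone_truncMap E n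
  refine ⟨Z, g, c, _, hZT, hZ, fun k q hk hqk ψ => ?_⟩
  by_cases hq : q = -(n : ℤ) - 2
  · subst hq
    exact hom_gen_single_eq_zero hT (isQCoh_of_iso e.symm (hE _)) (by rcases hk with rfl | rfl <;> omega) ψ
  · exact ((DerivedCategory.singleFunctor X.Modules q).map_isZero (hz q hq)).eq_of_tgt _ _

/-- Above the cohomological bound, maps from a generator into a bounded above object of `D_qc` vanish. -/
theorem hom_gen_eq_zero_of_isLE {T : X.Opens} {d : ℕ} (hT : VanQ T d) (W : DCoh.D X) (hW : DCoh.IsQCohD W)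
    (b : ℤ) [W.IsLE b] (j : ℤ) (hj : b + d ≤ j)
    (φ : (DerivedCategory.singleFunctor X.Modules j).obj ((genF X).obj T) ⟶ W) : φ = 0 := by
  have := HoCat.derivedCategory_hasLimitsOfShape (A := X.Modules) ℕ
  let n := ((d : ℤ) - j).toNat
  refine ((goodAt_trunc_vanQ hT hW j).bijective (isRlimVia_trunc_qcoh hW) n le_rfl).1 ?_
  have : ((DerivedCategory.TStructure.t.truncGE (-(n : ℤ))).obj W).IsGE (-(n : ℤ)) := SiteDer.isGE_truncTower W n
  refine (SiteDer.eq_zero_of_isGE' _ j (-(n : ℤ)) _ (fun q _ _ ψ => ?_) _).trans zero_comp.symm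
  rcases le_or_gt q b with hqb | hqb
  · exact hom_gen_single_eq_zero hT (isQCoh_HD_truncGE hW _ q) (by omega) ψ
  · refine ((DerivedCategory.singleFunctor X.Modules q).map_isZero ?_).eq_of_tgt _ _
    rcases lt_or_ge q (-(n : ℤ)) with h | h
    · exact DerivedCategory.isZero_of_isGE _ (-(n : ℤ)) q h
    · have := DerTrunc.isIso_homology_truncGEπ W (-(n : ℤ)) q h
      exact (DerivedCategory.isZero_of_isLE W b q hqb).of_iso
        (asIso ((DerivedCategory.homologyFunctor X.Modules q).map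
          ((DerivedCategory.TStructure.t.truncGEπ (-(n : ℤ))).app W))).symm

/-- Above the bound, maps from a generator only see a truncation. -/
theorem bijective_comp_truncGEπ_vanQ {T : X.Opens} {d : ℕ} (hT : VanQ T d) {E : DCoh.D X} (hE : DCoh.IsQCohD E)
    (a j : ℤ) (hj : a + d ≤ j) :
    Function.Bijective (fun φ : (DerivedCategory.singleFunctor X.Modules j).obj ((genF X).obj T) ⟶ E =>
      φ ≫ (DerivedCategory.TStructure.t.truncGEπ a).app E) := by
  let A := (DerivedCategory.TStructure.t.truncLT a).obj E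
  have hA : A.IsLE (a - 1) :=
    inferInstanceAs (DerivedCategory.TStructure.t.IsLE ((DerivedCategory.TStructure.t.truncLT a).obj E) (a - 1))
  have hA1 : (A⟦(1 : ℤ)⟧).IsLE (a - 2) :=
    (DerivedCategory.TStructure.t (C := X.Modules)).isLE_shift A (a - 1) 1 (a - 2) (by omega)
  have hqA : DCoh.IsQCohD A := fun q => by
    rcases lt_or_ge q a with h | h
    · have := DerTrunc.isIso_homology_truncLTι E a q h
      exact isQCoh_of_iso (asIso ((DerivedCategory.homologyFunctor X.Modules q).map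
        ((DerivedCategory.TStructure.t.truncLTι a).app E))).symm (hE q)
    · exact isQCoh_of_isZero (DerivedCategory.isZero_of_isLE A (a - 1) q (by omega))
  have hqA1 : DCoh.IsQCohD (A⟦(1 : ℤ)⟧) := fun q => isQCoh_of_iso
    (((DerivedCategory.homologyFunctor X.Modules 0).shiftIso 1 q (q + 1) (by omega)).app A).symm (hqA _)
  refine SiteDer.bijective_comp_of_cone
    (rot_of_distTriang _ (DerivedCategory.TStructure.t.triangleLTGE_distinguished a E)) _
    (fun φ => hom_gen_eq_zero_of_isLE hT (A⟦(1 : ℤ)⟧) hqA1 (a - 2) j (by omega) φ) (fun φ => ?_)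
  exact (cancel_epi (SiteDer.singleShiftOne ((genF X).obj T) j).inv).1
    ((hom_gen_eq_zero_of_isLE hT (A⟦(1 : ℤ)⟧) hqA1 (a - 2) (j - 1) (by omega) _).trans comp_zero.symm)

/-- `Rf_*` only sees a truncation on maps out of generators over an affine. -/
theorem bijective_comp_Rres_truncGEπ (f : X ⟶ S) {Y : S.Opens} {d : ℕ} (hY : VanQ (f ⁻¹ᵁ Y) d)
    {E : DCoh.D X} (hE : DCoh.IsQCohD E) (a j : ℤ) (hj : a + d ≤ j) :
    Function.Bijective (fun φ : (DerivedCategory.singleFunctor S.Modules j).obj ((genF S).obj Y) ⟶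
        (SiteDer.Rres (rmor f)).obj E =>
      φ ≫ (SiteDer.Rres (rmor f)).map ((DerivedCategory.TStructure.t.truncGEπ a).app E)) := by
  let e := SiteDer.pushHomEquiv (rmor f) Y j
  refine (Function.Bijective.of_comp_iff' (e _).bijective _).1 ?_
  have h := (bijective_comp_truncGEπ_vanQ hY hE a j hj).comp (e E).bijective
  refine Eq.mpr (congrArg Function.Bijective (funext fun φ => ?_)) h
  exact SiteDer.pushHomEquiv_comp (rmor f) Y j _ φ

/-- Generators of an open subscheme and restriction. -/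
noncomputable def genRes (V : S.Opens) (M : S.Modules) (W : (V : Scheme.{u}).Opens) :
    ((genF (V : Scheme.{u})).obj W ⟶ (Scheme.Modules.restrictFunctor V.ι).obj M) ≃
      ((genF S).obj (V.ι ''ᵁ W) ⟶ M) :=
  (show ((genF (V : Scheme.{u})).obj W ⟶ (Scheme.Modules.restrictFunctor V.ι).obj M) ≃ Γ(M, V.ι ''ᵁ W) from
    genSec ((Scheme.Modules.restrictFunctor V.ι).obj M) W).trans (genSec M (V.ι ''ᵁ W)).symm

theorem genSec_genRes (V : S.Opens) (M : S.Modules) (W : (V : Scheme.{u}).Opens)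
    (g : (genF (V : Scheme.{u})).obj W ⟶ (Scheme.Modules.restrictFunctor V.ι).obj M) :
    genSec M (V.ι ''ᵁ W) (genRes V M W g) = genSec ((Scheme.Modules.restrictFunctor V.ι).obj M) W g :=
  (genSec M (V.ι ''ᵁ W)).apply_symm_apply _

theorem genRes_comp (V : S.Opens) {M N : S.Modules} (W : (V : Scheme.{u}).Opens) (a : M ⟶ N)
    (g : (genF (V : Scheme.{u})).obj W ⟶ (Scheme.Modules.restrictFunctor V.ι).obj M) :
    genRes V N W (g ≫ (Scheme.Modules.restrictFunctor V.ι).map a) = genRes V M W g ≫ a := by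
  apply (genSec N (V.ι ''ᵁ W)).injective
  refine (genSec_genRes V N W _).trans ((SiteDer.secMod_comp W g _).trans ?_)
  exact (congrArg _ (genSec_genRes V M W g)).symm.trans (SiteDer.secMod_comp _ _ a).symm

theorem genRes_map (V : S.Opens) (M : S.Modules) {W W' : (V : Scheme.{u}).Opens} (f : W' ⟶ W)
    (g : (genF (V : Scheme.{u})).obj W ⟶ (Scheme.Modules.restrictFunctor V.ι).obj M) :
    genRes V M W' ((genF (V : Scheme.{u})).map f ≫ g) =
      (genF S).map (V.ι.opensFunctor.map f) ≫ genRes V M W g := by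
  apply (genSec M (V.ι ''ᵁ W')).injective
  refine (genSec_genRes V M W' _).trans ((SiteDer.secMod_map _ f g).trans ?_)
  exact Eq.trans
    (congrArg (fun t => M.presheaf.map (V.ι.opensFunctor.map f).op t) (genSec_genRes V M W g)).symm
    (SiteDer.secMod_map M (V.ι.opensFunctor.map f) (genRes V M W g)).symm

/-- Isomorphy on an open, tested on maps out of generators below it. -/
theorem isIso_restrict_of_gen {M N : S.Modules} (H : M ⟶ N) (V : S.Opens)
    (hinj : ∀ W : S.Opens, W ≤ V → ∀ g : (genF S).obj W ⟶ M, g ≫ H = 0 → g = 0)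
    (hsurj : ∀ W : S.Opens, W ≤ V → ∀ g : (genF S).obj W ⟶ N,
      SiteDer.Locally (Opens.grothendieckTopology S.carrier) W
        (fun _ f => ∃ g' : _ ⟶ M, g' ≫ H = (genF S).map f ≫ g)) :
    IsIso ((Scheme.Modules.restrictFunctor V.ι).map H) := by
  have hle : ∀ W : (V : Scheme.{u}).Opens, V.ι ''ᵁ W ≤ V := fun W =>
    (V.ι.image_le_opensRange W).trans V.opensRange_ι.le
  have h0 : ∀ (M : S.Modules) (W : (V : Scheme.{u}).Opens), genRes V M W 0 = 0 := fun M W => by
    apply (genSec M (V.ι ''ᵁ W)).injective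
    exact (genSec_genRes V M W 0).trans ((SiteDer.secMod_zero _ _).trans (SiteDer.secMod_zero _ _).symm)
  have : Mono ((Scheme.Modules.restrictFunctor V.ι).map H) :=
    (isLocGen_genF (X := (V : Scheme.{u}))).mono _ fun W g hg => (genRes V M W).injective
      ((hinj _ (hle W) _ ((genRes_comp V W H g).symm.trans ((congrArg _ hg).trans (h0 N W)))).trans (h0 M W).symm)
  have : Epi ((Scheme.Modules.restrictFunctor V.ι).map H) :=
    (isLocGen_genF (X := (V : Scheme.{u}))).epi _ fun W g => by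
      obtain ⟨T, hT, hTP⟩ := hsurj _ (hle W) (genRes V N W g)
      refine ⟨T.functorPullback V.ι.opensFunctor, fun x hx => ?_, fun W' f hf => ?_⟩
      · obtain ⟨W₁, f₁, hf₁, hxW₁⟩ := hT (V.ι x) ⟨x, hx, rfl⟩
        refine ⟨V.ι ⁻¹ᵁ W₁, homOfLE ((V.ι.preimage_mono f₁.le).trans (V.ι.preimage_image_eq W).le), ?_, hxW₁⟩
        exact T.downward_closed hf₁ (homOfLE ((V.ι.image_preimage_eq_opensRange_inf W₁).trans_le inf_le_right) :
          V.ι ''ᵁ (V.ι ⁻¹ᵁ W₁) ⟶ W₁)
      · obtain ⟨g', hg'⟩ := hTP _ hf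
        refine ⟨(genRes V M W').symm g', (genRes V N W').injective ?_⟩
        exact (genRes_comp V W' H _).trans ((congrArg (· ≫ H) ((genRes V M W').apply_symm_apply g')).trans
          (hg'.trans (genRes_map V N f g).symm))
  exact isIso_of_mono_of_epi _

/-- A map bijective on maps out of generators near a point is an isomorphism near it on cohomology. -/
theorem isIso_restrict_homology {E E' : DCoh.D S} (a : E ⟶ E') {V : S.Opens} (hV : IsAffineOpen V) (j : ℤ)
    (h : ∀ s : Γ(S, V), Function.Bijective (fun φ : (DerivedCategory.singleFunctor S.Modules j).obj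
      ((genF S).obj (S.basicOpen s)) ⟶ E => φ ≫ a)) :
    IsIso ((Scheme.Modules.restrictFunctor V.ι).map ((DerivedCategory.homologyFunctor S.Modules j).map a)) := by
  let J := Opens.grothendieckTopology S.carrier
  let H := (DerivedCategory.homologyFunctor S.Modules j).map a
  have hG := isLocGen_genF (X := S)
  have hbas : ∀ W : S.Opens, W ≤ V → ∀ {P : ∀ ⦃W' : S.Opens⦄, (W' ⟶ W) → Prop},
      (∀ ⦃W' W''⦄ (f : W' ⟶ W) (g : W'' ⟶ W'), P f → P (g ≫ f)) →
      (∀ (s : Γ(S, V)) (hs : S.basicOpen s ≤ W), P (homOfLE hs)) → SiteDer.Locally J W P := by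
    intro W hW P hP hb
    refine SiteDer.Locally.trans_family hP (ι := {s : Γ(S, V) // S.basicOpen s ≤ W})
      (fun s => homOfLE s.2) (fun x hx => ?_)
      fun s => SiteDer.Locally.of_forall fun T g => hP _ g (hb s.1 s.2)
    obtain ⟨s, hsW, hxs⟩ := hV.exists_basicOpen_le ⟨x, hx⟩ (hW hx)
    exact ⟨S.basicOpen s, homOfLE hsW, Sieve.ofArrows_mk (fun s : {s : Γ(S, V) // S.basicOpen s ≤ W} => S.basicOpen s.1)
      (fun s => homOfLE s.2) ⟨s, hsW⟩, hxs⟩
  have hinj : ∀ W : S.Opens, W ≤ V → ∀ g : (genF S).obj W ⟶ DCoh.HD E j, g ≫ H = 0 → g = 0 := by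
    intro W hW g hg
    refine SiteDer.Locally.of_theta hG g fun W₁ f₁ φ hφ => ?_
    have h0 : theta (φ ≫ a) = 0 := by rw [SiteDer.theta_comp, hφ, Category.assoc, hg, comp_zero]
    obtain ⟨T, hT, hTP⟩ := hG.eq_zero_of_theta _ h0
    refine SiteDer.Locally.trans (fun W' W'' f g h => ?_) hT fun W₂ f₂ hf₂ => ?_
    · rw [Functor.map_comp, Functor.map_comp, Category.assoc, h, comp_zero]
    refine hbas W₂ ((f₂ ≫ f₁).le.trans hW) (fun W' W'' f g h => ?_) fun s hs => ?_
    · rw [Category.assoc, Functor.map_comp, Functor.map_comp, Category.assoc, h, comp_zero]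
    · apply (h s).1
      simp only [Functor.map_comp, Category.assoc, zero_comp]
      rw [hTP f₂ hf₂, comp_zero]
  have hsurj : ∀ W : S.Opens, W ≤ V → ∀ g : (genF S).obj W ⟶ DCoh.HD E' j,
      SiteDer.Locally J W (fun _ f => ∃ g' : _ ⟶ DCoh.HD E j, g' ≫ H = (genF S).map f ≫ g) := by
    intro W hW g
    obtain ⟨T, hT, hTP⟩ := hG.exists_theta g
    have hst : ∀ ⦃W' W'' : S.Opens⦄ (f : W' ⟶ W) (k : W'' ⟶ W'),
        (∃ g' : _ ⟶ DCoh.HD E j, g' ≫ H = (genF S).map f ≫ g) →
        ∃ g' : _ ⟶ DCoh.HD E j, g' ≫ H = (genF S).map (k ≫ f) ≫ g := fun W' W'' f k ⟨g', hg'⟩ =>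
      ⟨(genF S).map k ≫ g', by rw [Category.assoc, hg', Functor.map_comp, Category.assoc]⟩
    refine SiteDer.Locally.trans hst hT fun W₂ f₂ hf₂ => ?_
    obtain ⟨ψ, hψ⟩ := hTP f₂ hf₂
    refine hbas W₂ (f₂.le.trans hW) (fun W' W'' f k hk => by simpa only [Category.assoc] using hst _ k hk) fun s hs => ?_
    obtain ⟨φ, hφ⟩ := (h s).2 ((DerivedCategory.singleFunctor S.Modules j).map ((genF S).map (homOfLE hs)) ≫ ψ)
    refine ⟨theta φ, ?_⟩
    simp only at hφ
    rw [← SiteDer.theta_comp, hφ, SiteDer.theta_map_comp, hψ, ← Category.assoc, ← Functor.map_comp]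
  exact isIso_restrict_of_gen H V hinj hsurj

/-- Quasi-coherence, on the site of opens. -/
abbrev qcohS (X : Scheme.{u}) : ObjectProperty (ModSite.Mod X.sheaf) := fun M => Coh.IsQCoh (X := X) M

instance isWeakSerre_qcohS (X : Scheme.{u}) : WSerre.IsWeakSerre (qcohS X) := isWeakSerre_qcohP X

theorem isQCohD_Rres_of_isGE (f : X ⟶ S) [QuasiCompact f] [QuasiSeparated f] (K : DCoh.D X) (a : ℤ)
    (hGE : K.IsGE a) (hK : DCoh.IsQCohD K) : DCoh.IsQCohD ((SiteDer.Rres (rmor f)).obj K) :=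
  @SiteDer.cohIn_Rres_of_plus _ _ _ _ _ _ _ _ (rmor f) (qcohS X) _ _ (qcohS S) _
    (fun M hM p => @Cohom.isQuasicoherent_Rpush X S f _ _ _ M hM p) K a hGE hK

/-- `Rf_*` preserves quasi-coherence of the cohomology. -/
theorem isQCohD_Rres (f : X ⟶ S) [QuasiCompact f] [QuasiSeparated f] (K : DCoh.D X) (hK : DCoh.IsQCohD K) :
    DCoh.IsQCohD ((SiteDer.Rres (rmor f)).obj K) := fun j => by
  refine QCoh.isQuasicoherent_of_restrict _ (fun V : S.affineOpens => V.1) (iSup_affineOpens_eq_top S) fun V => ?_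
  obtain ⟨d, hd⟩ := exists_vanishFrom_preimage f V.2
  let a : ℤ := j - d
  have := isIso_restrict_homology
    ((SiteDer.Rres (rmor f)).map ((DerivedCategory.TStructure.t.truncGEπ a).app K)) V.2 j
    fun s => bijective_comp_Rres_truncGEπ f (fun N _ => hd N s) hK a j (by omega)
  have hGE : ((DerivedCategory.TStructure.t.truncGE a).obj K).IsGE a :=
    inferInstanceAs (DerivedCategory.TStructure.t.IsGE ((DerivedCategory.TStructure.t.truncGE a).obj K) a)
  have hq : (DCoh.HD ((SiteDer.Rres (rmor f)).obj ((DerivedCategory.TStructure.t.truncGE a).obj K)) j).IsQuasicoherent :=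
    isQCohD_Rres_of_isGE f _ a hGE (fun q => isQCoh_HD_truncGE hK a q) j
  exact isQCoh_of_iso (asIso ((Scheme.Modules.restrictFunctor V.1.ι).map
    ((DerivedCategory.homologyFunctor S.Modules j).map
      ((SiteDer.Rres (rmor f)).map ((DerivedCategory.TStructure.t.truncGEπ a).app K))))).symm
    (inferInstance : ((DCoh.HD ((SiteDer.Rres (rmor f)).obj
      ((DerivedCategory.TStructure.t.truncGE a).obj K)) j).restrict V.1.ι).IsQuasicoherent)

/-- The uniform vanishing bound over a quasi-compact base. -/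
theorem exists_bound_Rres (f : X ⟶ S) [QuasiCompact f] [QuasiSeparated f] [CompactSpace S] :
    ∃ N : ℤ, ∀ (E : DCoh.D X), DCoh.IsQCohD E → E.IsLE 0 → ∀ m : ℤ, N ≤ m →
      IsZero (DCoh.HD ((SiteDer.Rres (rmor f)).obj E) m) := by
  choose d hd using fun V : S.affineOpens => exists_vanishFrom_preimage f V.2
  obtain ⟨s, hs⟩ := isCompact_univ.elim_finite_subcover (fun U : S.affineOpens => (U.1 : Set S))
    (fun U => U.1.2) (fun x _ => by
      obtain ⟨U, hU, hx, -⟩ := exists_isAffineOpen_mem_and_subset (x := x) (U := ⊤) trivial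
      exact Set.mem_iUnion.2 ⟨⟨U, hU⟩, hx⟩)
  refine ⟨(s.sup d : ℕ), fun E hE hE0 m hm => ?_⟩
  have := hE0
  refine (isLocGen_genF (X := S)).isZero_homology fun W φ => ?_
  refine SiteDer.Locally.trans_family (fun W' W'' f g h => ?_)
    (ι := {p : Σ V : {V // V ∈ s}, Γ(S, V.1.1) // S.basicOpen p.2 ≤ W}) (fun p => homOfLE p.2) ?_
    fun p => SiteDer.Locally.of_forall fun T g => ?_
  · rw [Functor.map_comp, Functor.map_comp, Category.assoc, h, comp_zero]
  · intro x hx
    obtain ⟨V, hVs, hxV⟩ := Set.mem_iUnion₂.1 (hs (Set.mem_univ x))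
    obtain ⟨g, hgW, hxg⟩ := V.2.exists_basicOpen_le ⟨x, hx⟩ hxV
    exact ⟨S.basicOpen g, homOfLE hgW, Sieve.ofArrows_mk
      (fun p : {p : Σ V : {V // V ∈ s}, Γ(S, V.1.1) // S.basicOpen p.2 ≤ W} => S.basicOpen p.1.2)
      (fun p => homOfLE p.2) ⟨⟨⟨V, hVs⟩, g⟩, hgW⟩, hxg⟩
  · have h0 : (DerivedCategory.singleFunctor S.Modules m).map ((genF S).map (homOfLE p.2)) ≫ φ = 0 := by
      apply (SiteDer.pushHomEquiv (rmor f) (S.basicOpen p.1.2) m E).injective
      refine (hom_gen_eq_zero_of_isLE (d := d p.1.1.1) (fun N _ => hd p.1.1.1 N p.1.2) E hE 0 m ?_ _).trans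
        (SiteDer.pushHomEquiv_zero (rmor f) (S.basicOpen p.1.2) m E).symm
      have := Finset.le_sup (f := d) p.1.1.2
      omega
    rw [Functor.map_comp, Functor.map_comp, Category.assoc, h0, comp_zero]

end GrothLib.OX
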