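import Groth.Agent.Lib.OX.GenFinHom
import Groth.Agent.Lib.OX.RpushQCoh

/-! # `Rf_*` commutes with direct sums on `D_qc` -/

set_option autoImplicit false
set_option maxHeartbeats 400000
universe u

open CategoryTheory CategoryTheory.Limits AlgebraicGeometry Opposite TopologicalSpace Pretriangulated
open GrothLib.TriCat (FinHom homSum_of homSum_π)

attribute [local instance] HasDerivedCategory.standard
attribute [local instance] Classical.decEq

namespace GrothLib.OX

variable {X S : Scheme.{u}}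

/-- Isomorphy is local, in terms of restrictions to the members of an open cover. -/
theorem isIso_of_restrict_cover {M N : S.Modules} (H : M ⟶ N) {I : Type*} (V : I → S.Opens)
    (hV : ∀ x : S, ∃ i, x ∈ V i) (h : ∀ i, IsIso ((Scheme.Modules.restrictFunctor (V i).ι).map H)) :
    IsIso H := by
  have hbij : ∀ (i : I) (W : S.Opens), W ≤ V i →
      Function.Bijective (fun g : (genF S).obj W ⟶ M => g ≫ H) := by
    intro i W hW
    obtain ⟨W', rfl⟩ : ∃ W' : ((V i : S.Opens) : Scheme.{u}).Opens, (V i).ι ''ᵁ W' = W :=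
      ⟨(V i).ι ⁻¹ᵁ W, by
        rw [Scheme.Hom.image_preimage_eq_opensRange_inf, Scheme.Opens.opensRange_ι, inf_eq_right.2 hW]⟩
    have := h i
    let r := (Scheme.Modules.restrictFunctor (V i).ι).map H
    refine (Function.Bijective.of_comp_iff _ (genRes (V i) M W').bijective).1 ?_
    have e : (fun g : (genF S).obj ((V i).ι ''ᵁ W') ⟶ M => g ≫ H) ∘ genRes (V i) M W' =
        genRes (V i) N W' ∘ fun g => g ≫ r := funext fun g => (genRes_comp (V i) W' H g).symm
    exact Eq.mpr (congrArg Function.Bijective e)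
      ((genRes (V i) N W').bijective.comp ((asIso r).homToEquiv.bijective))
  have hloc : ∀ (W : S.Opens) (P : ∀ ⦃W' : S.Opens⦄, (W' ⟶ W) → Prop),
      (∀ ⦃W' W''⦄ (f : W' ⟶ W) (g : W'' ⟶ W'), P f → P (g ≫ f)) →
      (∀ i, P (homOfLE (inf_le_left : W ⊓ V i ≤ W))) →
      SiteDer.Locally (Opens.grothendieckTopology S.carrier) W P := by
    intro W P hP hb
    refine SiteDer.Locally.trans_family hP (fun i => homOfLE (inf_le_left : W ⊓ V i ≤ W)) (fun x hx => ?_)
      fun i => SiteDer.Locally.of_forall fun T g => hP _ g (hb i)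
    obtain ⟨i, hi⟩ := hV x
    exact ⟨W ⊓ V i, homOfLE inf_le_left, Sieve.ofArrows_mk (fun i => W ⊓ V i) (fun i => homOfLE inf_le_left) i,
      hx, hi⟩
  have : Mono H := (isLocGen_genF (X := S)).mono H fun W g hg => by
    refine (isLocGen_genF (X := S)).sep g (hloc W _ (fun W' W'' f k hk => by
      rw [Functor.map_comp, Category.assoc, hk, comp_zero]) fun i => ?_)
    apply (hbij i _ inf_le_right).1
    simp only [Category.assoc, hg, comp_zero, zero_comp]
  have : Epi H := (isLocGen_genF (X := S)).epi H fun W g =>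
    hloc W _ (fun W' W'' f k ⟨g', hg'⟩ => ⟨(genF S).map k ≫ g', by
      rw [Category.assoc, hg', Functor.map_comp, Category.assoc]⟩) fun i => (hbij i _ inf_le_right).2 _
  exact isIso_of_mono_of_epi H

/-- A natural family of bijections between additive Hom functors is additive. -/
theorem add_of_natural {C D : Type*} [Category C] [Category D] [Preadditive C] [Preadditive D]
    [HasBinaryBiproducts C] (R : C ⥤ D) [R.Additive] {P : D} {Q : C} (e : ∀ E, (P ⟶ R.obj E) ≃ (Q ⟶ E))
    (he : ∀ {E E' : C} (g : E ⟶ E') (φ : P ⟶ R.obj E), e E' (φ ≫ R.map g) = e E φ ≫ g)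
    (E : C) (x y : P ⟶ R.obj E) : e E (x + y) = e E x + e E y := by
  let w : P ⟶ R.obj (E ⊞ E) := x ≫ R.map biprod.inl + y ≫ R.map biprod.inr
  have hw : ∀ g : E ⊞ E ⟶ E, w ≫ R.map g = x ≫ R.map (biprod.inl ≫ g) + y ≫ R.map (biprod.inr ≫ g) := fun g => by
    simp only [w, Preadditive.add_comp, Category.assoc, R.map_comp]
  have h1 : w ≫ R.map (biprod.fst + biprod.snd) = x + y := by
    rw [hw]; simp
  have h2 : w ≫ R.map biprod.fst = x := by rw [hw]; simp
  have h3 : w ≫ R.map biprod.snd = y := by rw [hw]; simp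
  conv_lhs => rw [← h1, he, Preadditive.comp_add]
  rw [← he, ← he, h2, h3]

/-- `Rf_*` through K-injective resolutions, on `D(O_X)`. -/
noncomputable abbrev RR (f : X ⟶ S) : DCoh.D X ⥤ DCoh.D S := SiteDer.Rres (rmor f)

theorem additive_Rres {C : Type u} [SmallCategory C] {J : GrothendieckTopology C}
    {O_C : Sheaf J CommRingCat.{u}} {D : Type u} [SmallCategory D] {K : GrothendieckTopology D}
    {O_D : Sheaf K CommRingCat.{u}} [HasWeakSheafify J AddCommGrpCat.{u}]
    [HasWeakSheafify K AddCommGrpCat.{u}] (g : ModSite.RMor O_C O_D) : (SiteDer.Rres g).Additive := by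
  have h1 : (KInj.res (ModSite.Mod O_C)).Additive := (KInj.resAdj (ModSite.Mod O_C)).right_adjoint_additive
  have h2 : (g.push.mapHomotopyCategory (ComplexShape.up ℤ)).Additive := inferInstance
  have h3 : (DerivedCategory.Qh (C := ModSite.Mod O_D)).Additive := inferInstance
  exact ⟨fun {A B x y} => by
    change DerivedCategory.Qh.map ((g.push.mapHomotopyCategory (ComplexShape.up ℤ)).map ((KInj.res _).map (x + y))) = _
    rw [h1.map_add, h2.map_add, h3.map_add]
    rfl⟩

instance additive_RR (f : X ⟶ S) : (RR f).Additive := additive_Rres (rmor f)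

variable (f : X ⟶ S) [QuasiCompact f] [QuasiSeparated f] {ι : Type u} (K : ι → DCoh.D X) [HasCoproduct K]
  [HasCoproduct fun i => (RR f).obj (K i)]

/-- The direct sum of the `Rf_* K_i` maps isomorphically to `Rf_* (∐ K_i)`. -/
theorem isIso_Rres_coprod (hK : ∀ i, DCoh.IsQCohD (K i)) :
    IsIso (Sigma.desc fun i => (RR f).map (Sigma.ι K i)) := by
  let R := RR f
  let RK := fun i => R.obj (K i)
  let a : (∐ RK) ⟶ R.obj (∐ K) := Sigma.desc fun i => R.map (Sigma.ι K i)
  have hRK : ∀ i, DCoh.IsQCohD (RK i) := fun i => isQCohD_Rres f (K i) (hK i)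
  refine (DerivedCategory.isIso_iff (C := S.Modules) a).2 fun j => ?_
  refine isIso_of_restrict_cover _ (fun V : S.affineOpens => V.1) (fun x => ?_) fun V =>
    isIso_restrict_homology a V.2 j fun s => ?_
  · obtain ⟨U, hU, hx, -⟩ := exists_isAffineOpen_mem_and_subset (x := x) (U := ⊤) trivial
    exact ⟨⟨U, hU⟩, hx⟩
  let W := S.basicOpen s
  let gW := (DerivedCategory.singleFunctor S.Modules j).obj ((genF S).obj W)
  let gT := (DerivedCategory.singleFunctor X.Modules j).obj ((genF X).obj (f ⁻¹ᵁ W))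
  let e : ∀ E : DCoh.D X, (gW ⟶ R.obj E) ≃ (gT ⟶ E) := fun E => SiteDer.pushHomEquiv (rmor f) W j E
  have hπ : ∀ k, a ≫ R.map (Sigma.π K k) = Sigma.π RK k := fun k => Sigma.hom_ext _ _ fun i => by
    rw [Sigma.ι_desc_assoc, ← R.map_comp]
    by_cases hi : i = k
    · subst hi; rw [Sigma.ι_π_eq_id, Sigma.ι_π_eq_id, R.map_id]
    · rw [Sigma.ι_π_of_ne _ hi, Sigma.ι_π_of_ne _ hi, R.map_zero]
  refine ⟨fun φ φ' h => ?_, fun ψ => ?_⟩
  · obtain ⟨c, rfl⟩ := genFin_of_isAffineOpen RK (V.2.basicOpen s) hRK j φ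
    obtain ⟨c', rfl⟩ := genFin_of_isAffineOpen RK (V.2.basicOpen s) hRK j φ'
    refine congrArg _ (DFinsupp.ext fun k => ?_)
    rw [← homSum_π RK gW c k, ← homSum_π RK gW c' k, ← hπ k, ← Category.assoc, ← Category.assoc]
    exact congrArg (· ≫ R.map (Sigma.π K k)) h
  · obtain ⟨c, hc⟩ := genFin_of_qcqs K hK (f.isQuasiSeparated_preimage (V.2.basicOpen s).isQuasiSeparated)
      (f ⁻¹ᵁ W) (QuasiCompact.isCompact_preimage (f := f) (W : Set S) W.isOpen (V.2.basicOpen s).isCompact)
      le_rfl j (e _ ψ)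
    have he : ∀ (E : DCoh.D X) (x y : gW ⟶ R.obj E), e E (x + y) = e E x + e E y :=
      fun E x y => add_of_natural R e (fun g φ => SiteDer.pushHomEquiv_comp (rmor f) W j g φ) E x y
    have key : ∀ c, ∃ φ, e _ (φ ≫ a) = PerfAux.homSumToHomCoprod gT K c := by
      intro c
      induction c using DirectSum.induction_on with
      | zero =>
        exact ⟨0, ((congrArg (e _) zero_comp).trans (SiteDer.pushHomEquiv_zero (rmor f) W j _)).trans
          (map_zero (PerfAux.homSumToHomCoprod gT K)).symm⟩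
      | of k x =>
        refine ⟨(e _).symm x ≫ Sigma.ι RK k, ?_⟩
        rw [Category.assoc, Sigma.ι_desc, homSum_of]
        exact (SiteDer.pushHomEquiv_comp (rmor f) W j _ _).trans
          (congrArg (· ≫ Sigma.ι K k) ((e _).apply_symm_apply x))
      | add x y hx hy =>
        obtain ⟨φ, hφ⟩ := hx
        obtain ⟨φ', hφ'⟩ := hy
        exact ⟨φ + φ', by rw [Preadditive.add_comp, he, hφ, hφ', map_add]⟩
    obtain ⟨φ, hφ⟩ := key c
    exact ⟨φ, (e _).injective (hφ.trans hc)⟩

/-- Preservation of a direct sum transports along natural isomorphisms. -/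
theorem isIso_sigmaDesc_of_iso {C D : Type*} [Category C] [Category D] {ι : Type*} {F G : C ⥤ D} (e : F ≅ G)
    (K : ι → C) [HasCoproduct K] [HasCoproduct fun i => F.obj (K i)] [HasCoproduct fun i => G.obj (K i)]
    (h : IsIso (Sigma.desc fun i => G.map (Sigma.ι K i))) :
    IsIso (Sigma.desc fun i => F.map (Sigma.ι K i)) := by
  let a : (∐ fun i => F.obj (K i)) ≅ ∐ fun i => G.obj (K i) :=
    { hom := Sigma.desc fun i => e.hom.app (K i) ≫ Sigma.ι (fun i => G.obj (K i)) i
      inv := Sigma.desc fun i => e.inv.app (K i) ≫ Sigma.ι (fun i => F.obj (K i)) i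
      hom_inv_id := Sigma.hom_ext _ _ fun i => by simp
      inv_hom_id := Sigma.hom_ext _ _ fun i => by simp }
  have : (Sigma.desc fun i => F.map (Sigma.ι K i)) =
      a.hom ≫ (Sigma.desc fun i => G.map (Sigma.ι K i)) ≫ e.inv.app (∐ K) := Sigma.hom_ext _ _ fun i => by
    simp [a]
  rw [this]
  exact @IsIso.comp_isIso _ _ _ _ _ a.hom _ (Iso.isIso_hom a) (@IsIso.comp_isIso _ _ _ _ _ _ _ h ((Iso.app e (∐ K)).isIso_inv))

/-- `Rf_*` commutes with direct sums on `D_qc`, for any choice of `Rf_*`. -/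
theorem isIso_Rpush_coprod [DCoh.HasRpush f] [HasCoproduct fun i => (DCoh.Rpush f).obj (K i)]
    (hK : ∀ i, DCoh.IsQCohD (K i)) : IsIso (Sigma.desc fun i => (DCoh.Rpush f).map (Sigma.ι K i)) :=
  isIso_sigmaDesc_of_iso (rpushIsoRres f) K (isIso_Rres_coprod f K hK)

end GrothLib.OX
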