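import Groth.Agent.Lib.OX.PerfectEnvelope
import Groth.Agent.Lib.OX.AffineSections
import Groth.Prelude.Def_CohB1
import Groth.Agent.Lib.OX.RpushCoprod

/-! # Objects vanishing on an open -/

set_option autoImplicit false
universe u

open CategoryTheory CategoryTheory.Limits AlgebraicGeometry Opposite TopologicalSpace

attribute [local instance] HasDerivedCategory.standard

namespace GrothLib.OX

variable {X : Scheme.{u}}

theorem isZero_of_subsingleton_stalks (M : X.Modules) (h : ∀ x, Subsingleton (M.presheaf.stalk x)) : IsZero M := by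
  rw [IsZero.iff_id_eq_zero]
  apply (Scheme.Modules.toPresheaf X).map_injective
  ext U t
  have hs : TopCat.Presheaf.IsSheaf (C := Ab.{u}) (X := X.carrier) M.presheaf := M.isSheaf
  exact TopCat.Presheaf.section_ext ⟨M.presheaf, hs⟩ U _ _ fun x hx => (h x).elim _ _

theorem isZero_restrict_of_support {V : Scheme.{u}} (j : V ⟶ X) [IsOpenImmersion j] {M : X.Modules}
    (h : ∀ y, j y ∉ CohB1.support M) : IsZero ((Scheme.Modules.restrictFunctor j).obj M) := by
  refine isZero_of_subsingleton_stalks _ fun y => ?_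
  have hy : Subsingleton (M.presheaf.stalk (j y)) := not_not.1 (h y)
  exact @Equiv.subsingleton _ _ ((Scheme.Modules.restrictStalkNatIso j y).app M).addCommGroupIsoToAddEquiv.toEquiv hy

theorem support_subset_of_isZero_restrict {V : Scheme.{u}} (j : V ⟶ X) [IsOpenImmersion j] {M : X.Modules}
    (h : IsZero ((Scheme.Modules.restrictFunctor j).obj M)) : CohB1.support M ⊆ (Set.range j)ᶜ := by
  rintro x hx ⟨y, rfl⟩
  refine hx ?_
  have h0 := ((Scheme.Modules.toPresheaf V) ⋙ TopCat.Presheaf.stalkFunctor Ab.{u} y).obj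
    ((Scheme.Modules.restrictFunctor j).obj M)
  have hz : IsZero ((TopCat.Presheaf.stalkFunctor Ab.{u} y).obj
      ((Scheme.Modules.toPresheaf V).obj ((Scheme.Modules.restrictFunctor j).obj M))) :=
    Functor.map_isZero _ ((Scheme.Modules.toPresheaf V).map_isZero h)
  have := AddCommGrpCat.subsingleton_of_isZero hz
  exact @Equiv.subsingleton _ _ ((Scheme.Modules.restrictStalkNatIso j y).app M).addCommGroupIsoToAddEquiv.symm.toEquiv this

/-- `K` vanishes on `V` exactly when its cohomology is supported away from `V`. -/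
theorem isZero_resD_iff_support {V : Scheme.{u}} (j : V ⟶ X) [IsOpenImmersion j] (K : DCoh.D X) :
    IsZero ((resD j).obj K) ↔ ∀ i, CohB1.support (DCoh.HD K i) ⊆ (Set.range j)ᶜ := by
  constructor
  · intro h i
    exact support_subset_of_isZero_restrict j
      (((DerivedCategory.homologyFunctor V.Modules i).map_isZero h).of_iso (HDResIso j K i).symm)
  · intro h
    obtain ⟨Z, hZ⟩ : ∃ Z : DCoh.D V, IsZero Z := HasZeroObject.zero
    have : IsIso (0 : Z ⟶ (resD j).obj K) := (DerivedCategory.isIso_iff _ _).2 fun i =>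
      ⟨0, ((DerivedCategory.homologyFunctor _ i).map_isZero hZ).eq_of_src _ _,
        ((isZero_restrict_of_support j fun y hy => h i hy ⟨y, rfl⟩).of_iso (HDResIso j K i)).eq_of_src _ _⟩
    exact hZ.of_iso (asIso (0 : Z ⟶ (resD j).obj K)).symm

/-- Nothing maps from the generator at an open on which the target vanishes. -/
theorem hom_gen_eq_zero_of_isZero_resD {V : X.Opens} {K : DCoh.D X} (h : IsZero ((resD V.ι).obj K)) (k : ℤ)
    (φ : (DerivedCategory.singleFunctor X.Modules k).obj ((genF X).obj V) ⟶ K) : φ = 0 := by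
  let e : (CxOX.extZeroD V.ι).obj ((DerivedCategory.singleFunctor (V : Scheme.{u}).Modules k).obj
      ((genF (V : Scheme.{u})).obj ⊤)) ≅ (DerivedCategory.singleFunctor X.Modules k).obj ((genF X).obj V) :=
    ((CxOX.extZero V.ι).mapDerivedCategorySingleFunctor k).app _ ≪≫
      (DerivedCategory.singleFunctor X.Modules k).mapIso ((extZeroGenIso V.ι).symm ≪≫
        eqToIso (by rw [Scheme.Hom.image_top_eq_opensRange, Scheme.Opens.opensRange_ι]))
  rw [← cancel_epi e.hom, comp_zero]
  exact ((extZeroDAdj V.ι).homEquiv _ _).injective (h.eq_of_tgt _ _)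

/-- Derived direct images vanish over opens above which the object vanishes. -/
theorem hom_gen_RR_eq_zero {Y : Scheme.{u}} (f : Y ⟶ X) {V : X.Opens} {F : DCoh.D Y}
    (h : IsZero ((resD (f ⁻¹ᵁ V).ι).obj F)) (k : ℤ)
    (φ : (DerivedCategory.singleFunctor X.Modules k).obj ((genF X).obj V) ⟶ (RR f).obj F) : φ = 0 :=
  (SiteDer.pushHomEquiv (rmor f) V k F).injective
    ((hom_gen_eq_zero_of_isZero_resD h k _).trans (hom_gen_eq_zero_of_isZero_resD h k _).symm)

/-- Derived direct images keep supports. -/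
theorem isZero_HD_sections_RR {Y : Scheme.{u}} (f : Y ⟶ X) [QuasiCompact f] [QuasiSeparated f] {V : X.Opens}
    (hV : IsAffineOpen V) {F : DCoh.D Y} (hF : DCoh.IsQCohD F) (h : IsZero ((resD (f ⁻¹ᵁ V).ι).obj F)) (k : ℤ)
    (t : Γ(DCoh.HD ((RR f).obj F) k, V)) : t = 0 := by
  obtain ⟨φ, hφ⟩ := (theta_bijective hV (isQCohD_Rres f F hF) k).2
    ((genSec (DCoh.HD ((RR f).obj F) k) V).symm t)
  obtain rfl := hom_gen_RR_eq_zero f h k φ
  apply (genSec (DCoh.HD ((RR f).obj F) k) V).symm.injective
  refine hφ.symm.trans (SiteDer.theta_zero.trans ?_)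
  apply (genSec (DCoh.HD ((RR f).obj F) k) V).injective
  rw [Equiv.apply_symm_apply]
  exact SiteDer.secMod_zero _ _

end GrothLib.OX
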