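import Groth.Agent.Lib.OX.AffineExtend
import Groth.Agent.Lib.OX.Support
import Groth.Agent.Lib.TriCat.ConeIdem

/-! # Extension of perfect objects from quasi-compact opens of affine schemes -/

set_option autoImplicit false
set_option maxHeartbeats 800000
universe u

open CategoryTheory CategoryTheory.Limits AlgebraicGeometry Opposite TopologicalSpace Pretriangulated

attribute [local instance] HasDerivedCategory.standard

namespace GrothLib.OX

variable {X : Scheme.{u}}

/-- Restrictions compose. -/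
noncomputable def resDCompIso {U W : Scheme.{u}} (j' : W ⟶ U) (j : U ⟶ X) [IsOpenImmersion j] [IsOpenImmersion j'] :
    resD j ⋙ resD j' ≅ resD (j' ≫ j) :=
  DerCat.mapDerivedCompIso (Scheme.Modules.restrictFunctor j) (Scheme.Modules.restrictFunctor j')
    (Scheme.Modules.restrictFunctor (j' ≫ j)) (Scheme.Modules.restrictFunctorComp j' j).symm

variable {A : CommRingCat.{u}} (i : X ⟶ Spec A) [IsIso i]

/-- Perfect objects of an affine scheme. -/
theorem isPerfect_resD_tildeD {M : Dual.D (A : Type u)} (hM : DRing.IsPerfect A M) :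
    DCoh.IsPerfect ((resD i).obj ((DCoh.tildeD A).obj M)) :=
  isPerfect_resD ((isPerfect_tildeD_iff (A := A) M).2 hM) i

theorem exists_module_iso {E : DCoh.D X} (hE : DCoh.IsQCohD E) :
    ∃ M, Nonempty ((resD i).obj ((DCoh.tildeD A).obj M) ≅ E) := by
  obtain ⟨M, ⟨e⟩⟩ := (tildeD_full_faithful_essImage (R := A)).2.2 _ (isQCohD_Rres i E hE)
  exact ⟨M, ⟨(resD i).mapIso e ≪≫ (resDRRIso i).app E⟩⟩

theorem exists_perfect_module_iso {E : DCoh.D X} (hE : DCoh.IsPerfect E) :
    ∃ M, DRing.IsPerfect A M ∧ Nonempty ((resD i).obj ((DCoh.tildeD A).obj M) ≅ E) := by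
  obtain ⟨M, ⟨e⟩⟩ := exists_module_iso i (isQCohD_of_isPerfect hE)
  refine ⟨M, (isPerfect_tildeD_iff (A := A) M).1 (isPerfect_of_local fun x => ?_), ⟨e⟩⟩
  exact ⟨X, i, inferInstance, ⟨(inv i) x, by rw [← Scheme.Hom.comp_apply, IsIso.inv_hom_id]; rfl⟩,
    isPerfect_of_iso hE e.symm⟩

variable (U : X.Opens)

/-- The composite to `U`. -/
noncomputable def AGIso : DCoh.tildeD A ⋙ resD i ⋙ resD U.ι ≅ AG (U.ι ≫ i) :=
  Functor.isoWhiskerLeft _ (resDCompIso U.ι i)

variable {U} (hU : IsCompact (U : Set X))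
include hU

omit [IsIso i] in
theorem isCompact_range_comp [IsOpenImmersion i] : IsCompact (Set.range (U.ι ≫ i)) := by
  rw [show Set.range (U.ι ≫ i) = i '' (U : Set X) by
    rw [← Scheme.Opens.range_ι U, ← Set.range_comp]; rfl]
  exact hU.image i.continuous

include i in
/-- Maps over `U` from perfect objects lift after modifying the source away from `U`. -/
theorem exists_lift_restrict {E E' : DCoh.D X} (hE : DCoh.IsPerfect E) (hE' : DCoh.IsQCohD E')
    (α : (resD U.ι).obj E ⟶ (resD U.ι).obj E') : ∃ (E₁ : DCoh.D X) (β : E₁ ⟶ E) (γ : E₁ ⟶ E'),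
      DCoh.IsPerfect E₁ ∧ IsIso ((resD U.ι).map β) ∧ (resD U.ι).map β ≫ α = (resD U.ι).map γ := by
  let j := U.ι ≫ i
  obtain ⟨M, hM, ⟨e⟩⟩ := exists_perfect_module_iso i hE
  obtain ⟨N, ⟨e'⟩⟩ := exists_module_iso i hE'
  let c := AGIso i U
  let α' : (AG j).obj M ⟶ (AG j).obj N :=
    c.inv.app M ≫ (resD U.ι).map e.hom ≫ α ≫ (resD U.ι).map e'.inv ≫ c.hom.app N
  obtain ⟨M₁, β, γ, hM₁, hβ, hβγ, -⟩ := exists_lift_AG j (isCompact_range_comp i hU) hM α'
  let S := DCoh.tildeD A ⋙ resD i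
  have hnat : ∀ {P Q : Dual.D (A : Type u)} (f : P ⟶ Q),
      (resD U.ι).map (S.map f) = c.hom.app P ≫ (AG j).map f ≫ c.inv.app Q := fun f => by
    rw [← Category.assoc]
    exact ((Iso.comp_inv_eq (c.app _)).2 (c.hom.naturality f).symm).symm
  refine ⟨S.obj M₁, S.map β ≫ e.hom, S.map γ ≫ e'.hom, isPerfect_resD_tildeD i hM₁, ?_, ?_⟩
  · rw [Functor.map_comp, hnat]
    infer_instance
  · rw [Functor.map_comp, Functor.map_comp, hnat, hnat]
    simp only [Category.assoc]
    have h2 : c.inv.app M ≫ (resD U.ι).map e.hom ≫ α =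
        α' ≫ c.inv.app N ≫ (resD U.ι).map e'.hom := by
      simp only [α', Category.assoc]
      rw [Iso.hom_inv_id_app_assoc]
      refine congrArg (fun z => c.inv.app M ≫ (resD U.ι).map e.hom ≫ z) ?_
      rw [← Functor.map_comp, e'.inv_hom_id, CategoryTheory.Functor.map_id, Category.comp_id]
    refine congrArg (c.hom.app M₁ ≫ ·) ?_
    exact (congrArg ((AG j).map β ≫ ·) h2).trans
      ((Category.assoc _ _ _).symm.trans (congrArg (· ≫ c.inv.app N ≫ (resD U.ι).map e'.hom) hβγ))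

/-- Perfect objects of `U` are retracts of restrictions, with prescribed vanishing. -/
theorem exists_retract_restrict {F : DCoh.D (U : Scheme.{u})} (hF : DCoh.IsPerfect F) (W : X.Opens)
    (hW : IsCompact (W : Set X)) (hFW : IsZero ((resD (U.ι ⁻¹ᵁ W).ι).obj F)) :
    ∃ (fs : List A) (R : Dual.D (A : Type u)),
      (W.ι ≫ i).opensRange = (⨆ k : {f // f ∈ fs}, PrimeSpectrum.basicOpen k.1) ∧ DRing.IsPerfect A R ∧
      (∀ f ∈ fs, DR.Nil f R) ∧ Nonempty (Retract F ((AG (U.ι ≫ i)).obj R)) := by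
  let j := U.ι ≫ i
  have hj := isCompact_range_comp i hU
  have := quasiCompact_of_isCompact_range j hj
  have := (tildeD_full_faithful_essImage (R := A)).1
  have := (tildeD_full_faithful_essImage (R := A)).2.1
  obtain ⟨R, hR, ⟨r⟩⟩ := exists_retract_AG j hj hF
  obtain ⟨fs, hfs⟩ := exists_basicOpen_cover (W.ι ≫ i) (isCompact_range_comp i hW)
  have hqF := isQCohD_of_isPerfect hF
  obtain ⟨N, ⟨eN⟩⟩ := (tildeD_full_faithful_essImage (R := A)).2.2 _ (isQCohD_Rres j F hqF)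
  have htor : ∀ f ∈ fs, DR.IsTorsion f N := fun f hf q x => by
    let B : (Spec A).Opens := PrimeSpectrum.basicOpen f
    have hB : IsAffineOpen B := by
      change IsAffineOpen (X := Spec A) (PrimeSpectrum.basicOpen f)
      rw [← basicOpen_eq_of_affine]; exact (isAffineOpen_top _).basicOpen _
    have hle : j ⁻¹ᵁ B ≤ U.ι ⁻¹ᵁ W := fun y hy => by
      have h1 : B ≤ (W.ι ≫ i).opensRange := hfs ▸ le_iSup (fun k : {f // f ∈ fs} => PrimeSpectrum.basicOpen k.1) ⟨f, hf⟩
      obtain ⟨z, hz⟩ := h1 hy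
      have : W.ι z = U.ι y := i.isOpenEmbedding.injective hz
      change U.ι y ∈ W
      rw [← this]
      exact z.2
    have hzero : IsZero ((resD (j ⁻¹ᵁ B).ι).obj F) :=
      (isZero_resD_iff_support _ F).2 fun q' x hx hr => (isZero_resD_iff_support _ F).1 hFW q' hx (by
        rw [Scheme.Opens.range_ι] at hr ⊢; exact hle hr)
    have hsec := isZero_HD_sections_RR j hB hqF hzero q
    let e := (DerivedCategory.homologyFunctor _ q).mapIso eN.symm ≪≫ HDTildeIso N q
    have hx : (tilde.toOpen _ B).hom x = 0 := by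
      have := hsec ((Scheme.Modules.Hom.app e.inv B) ((tilde.toOpen _ B).hom x))
      have h2 := congrArg (fun t => (Scheme.Modules.Hom.app e.hom B) t) this
      have h3 : Scheme.Modules.Hom.app e.inv B ≫ Scheme.Modules.Hom.app e.hom B = 𝟙 _ := by
        rw [← Scheme.Modules.Hom.comp_app]; exact (congrArg (fun g => Scheme.Modules.Hom.app g B) e.inv_hom_id).trans rfl
      exact ((ConcreteCategory.congr_hom h3 _).symm.trans h2).trans (map_zero _)
    obtain ⟨⟨-, k, rfl⟩, hk⟩ := (IsLocalizedModule.eq_zero_iff (Submonoid.powers f) (tilde.toOpen _ B).hom).1 hx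
    exact ⟨k, hk⟩
  let adj := resDAdj j
  let T := DCoh.tildeD A
  let φ : R ⟶ N := T.preimage (adj.homEquiv (T.obj R) F r.r ≫ eN.inv)
  obtain ⟨R', q, ψ, hR', hnil, hφ, -⟩ := DR.exists_factor_nil fs htor hR φ
  refine ⟨fs, R', hfs, hR', hnil,
    ⟨{ i := r.i ≫ (AG j).map q,
       r := (AG j).map ψ ≫ (resD j).map eN.hom ≫ adj.counit.app F,
       retract := ?_ }⟩⟩
  have h : (AG j).map φ ≫ (resD j).map eN.hom ≫ adj.counit.app F = r.r := by
    rw [← Category.assoc]
    refine (congrArg (· ≫ adj.counit.app F) (((resD j).map_comp _ _).symm.trans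
      (congrArg (resD j).map ?_))).trans ((adj.homEquiv_counit (T.obj R) _ (adj.homEquiv (T.obj R) F r.r)).symm.trans
        ((adj.homEquiv (T.obj R) F).symm_apply_apply r.r))
    exact (congrArg (· ≫ eN.hom) (T.map_preimage _)).trans
      ((Category.assoc _ _ _).trans ((congrArg (_ ≫ ·) eN.inv_hom_id).trans (Category.comp_id _)))
  rw [Category.assoc, ← Category.assoc ((AG j).map q), ← Functor.map_comp, ← hφ, h]
  exact r.retract

include i in
/-- `F ⊕ F[1]` extends, with prescribed vanishing. -/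
theorem exists_extend_sum_shift {F : DCoh.D (U : Scheme.{u})} (hF : DCoh.IsPerfect F) (W : X.Opens)
    (hW : IsCompact (W : Set X)) (hFW : IsZero ((resD (U.ι ⁻¹ᵁ W).ι).obj F))
    [HasBinaryBiproduct F (F⟦(1 : ℤ)⟧)] :
    ∃ K : DCoh.D X, DCoh.IsPerfect K ∧ IsZero ((resD W.ι).obj K) ∧
      Nonempty ((resD U.ι).obj K ≅ F ⊞ F⟦(1 : ℤ)⟧) := by
  obtain ⟨fs, R, hfs, hR, hnil, ⟨r⟩⟩ := exists_retract_restrict i hU hF W hW hFW
  let j := U.ι ≫ i
  obtain ⟨R₁, β, γ, hR₁, hβ, hβγ, hkeep⟩ := exists_lift_AG j (isCompact_range_comp i hU) hR (𝟙 _ - r.r ≫ r.i)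
  obtain ⟨C, p, d, hT⟩ := distinguished_cocone_triangle γ
  obtain ⟨R₂, δ, ε, hT'⟩ := distinguished_cocone_triangle (𝟙 ((AG j).obj R) - r.r ≫ r.i)
  obtain ⟨e₁⟩ := TriCat.nonempty_cone_compl r hT'
  have e₂ : (AG j).obj C ≅ R₂ := Triangle.π₃.mapIso (isoTriangleOfIso₁₂ _ _ ((AG j).map_distinguished _ hT) hT'
    (@asIso _ _ _ _ ((AG j).map β) hβ) (Iso.refl _) ((Category.comp_id _).trans hβγ.symm))
  refine ⟨(resD i).obj ((DCoh.tildeD A).obj C), isPerfect_resD_tildeD i ((DR.isPerfect_triangle _ hT).1 hR₁ hR),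
    ?_, ⟨(AGIso i U).app C ≪≫ e₂ ≪≫ e₁⟩⟩
  exact (isZero_AG_of_isTorsion (W.ι ≫ i) hfs fun f hf =>
    (DR.nil_cone_of_nil hT (hkeep f (hnil f hf)) (hnil f hf)).isTorsion).of_iso ((AGIso i W).app C)

end GrothLib.OX
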