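import Groth.Agent.Lib.TriCat.FinHom
import Groth.Agent.Lib.OX.AffineSections
import Groth.Agent.Lib.OX.Exact
import Groth.Agent.Lib.HoCat.DerivedCoproduct
import Groth.Agent.Lib.DerCat.HomologyCoproduct
import Groth.Agent.Lib.QCoh.Abelian

/-! # Sections of direct sums over quasi-compact opens, cohomology of direct sums in `D(O_X)` -/

set_option autoImplicit false
set_option maxHeartbeats 400000
universe u

open CategoryTheory CategoryTheory.Limits AlgebraicGeometry Opposite TopologicalSpace Pretriangulated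
open GrothLib.TriCat (FinHom homSum_of homSum_π)

attribute [local instance] HasDerivedCategory.standard
attribute [local instance] Classical.decEq

namespace GrothLib.OX

variable {X : Scheme.{u}}

theorem genSec_add (M : X.Modules) (U : X.Opens) (a b : (genF X).obj U ⟶ M) :
    genSec M U (a + b) = genSec M U a + genSec M U b := by
  have h : (SiteDer.tensShAdj X.ringCatSheaf).homEquiv (SheafCoh.freeY _ U) M (a + b) =
      (SiteDer.tensShAdj X.ringCatSheaf).homEquiv (SheafCoh.freeY _ U) M a +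
        (SiteDer.tensShAdj X.ringCatSheaf).homEquiv (SheafCoh.freeY _ U) M b := by
    simp only [Adjunction.homEquiv_unit]
    erw [Functor.map_add, Preadditive.comp_add]
  exact (congrArg (SheafCoh.homFreeY _ U) h).trans (map_add _ _ _)

/-- Sections are an additive group isomorphic to maps out of the generator. -/
noncomputable def genSecAdd (M : X.Modules) (U : X.Opens) : ((genF X).obj U ⟶ M) ≃+ Γ(M, U) :=
  AddEquiv.mk' (genSec M U) (genSec_add M U)

section Germ

variable {x : X}

/-- The germ at a point of a map out of a generator. -/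
noncomputable def genGerm (M : X.Modules) (V : X.Opens) (hx : x ∈ V) :
    ((genF X).obj V ⟶ M) →+ (stalk x).obj M :=
  (germ (DCoh.toP.obj M) V hx).comp (genSecAdd M V).toAddMonoidHom

theorem genGerm_comp {M N : X.Modules} (V : X.Opens) (hx : x ∈ V) (a : (genF X).obj V ⟶ M) (f : M ⟶ N) :
    genGerm N V hx (a ≫ f) = ((stalk x).map f).hom (genGerm M V hx a) :=
  (congrArg (germ (DCoh.toP.obj N) V hx) (SiteDer.secMod_comp V a f)).trans
    (stalkPre_map_germ (DCoh.toP.map f) V hx _).symm

theorem genGerm_map (M : X.Modules) {V W : X.Opens} (i : W ⟶ V) (hx : x ∈ W) (a : (genF X).obj V ⟶ M) :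
    genGerm M W hx ((genF X).map i ≫ a) = genGerm M V (i.le hx) a :=
  (congrArg (germ (DCoh.toP.obj M) W hx) (SiteDer.secMod_map M i a)).trans (germ_map (DCoh.toP.obj M) i hx _)

theorem exists_genGerm (M : X.Modules) (e : (stalk x).obj M) :
    ∃ (V : X.Opens) (hx : x ∈ V) (a : (genF X).obj V ⟶ M), genGerm M V hx a = e := by
  obtain ⟨V, hx, m, rfl⟩ := germ_exists (DCoh.toP.obj M) e
  exact ⟨V, hx, (genSec M V).symm m, congrArg (germ (DCoh.toP.obj M) V hx) ((genSec M V).apply_symm_apply m)⟩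

theorem exists_eq_of_genGerm (M : X.Modules) {V W : X.Opens} (hV : x ∈ V) (hW : x ∈ W)
    (a : (genF X).obj V ⟶ M) (b : (genF X).obj W ⟶ M) (h : genGerm M V hV a = genGerm M W hW b) :
    ∃ (T : X.Opens) (_ : x ∈ T) (i : T ⟶ V) (j : T ⟶ W), (genF X).map i ≫ a = (genF X).map j ≫ b := by
  obtain ⟨T, hT, i, j, e⟩ := TopCat.Presheaf.germ_eq (prs (DCoh.toP.obj M)) x hV hW _ _ h
  refine ⟨T, hT, i, j, (genSec M T).injective ?_⟩
  exact (SiteDer.secMod_map M i a).trans (e.trans (SiteDer.secMod_map M j b).symm)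

end Germ

section Sum

variable {ι : Type u} (M : ι → X.Modules)

/-- Locally, maps from a generator into a direct sum are finite sums. -/
theorem exists_nhd_homSum {V : X.Opens} (g : (genF X).obj V ⟶ ∐ M) {x : X} (hx : x ∈ V) :
    ∃ (W : X.Opens) (_ : x ∈ W) (i : W ⟶ V) (a : DirectSum ι fun k => (genF X).obj W ⟶ M k),
      PerfAux.homSumToHomCoprod _ M a = (genF X).map i ≫ g := by
  let E : AddSubgroup ((stalk x).obj (∐ M)) :=
    { carrier := {e | ∃ (W : X.Opens) (hW : x ∈ W) (a : (genF X).obj W ⟶ ∐ M),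
        a ∈ (PerfAux.homSumToHomCoprod _ M).range ∧ genGerm _ W hW a = e}
      zero_mem' := ⟨V, hx, 0, zero_mem _, map_zero _⟩
      add_mem' := by
        rintro _ _ ⟨W, hW, _, ⟨a, rfl⟩, rfl⟩ ⟨W', hW', _, ⟨b, rfl⟩, rfl⟩
        refine ⟨W ⊓ W', ⟨hW, hW'⟩, _, add_mem (TriCat.comp_mem_range M ((genF X).map (homOfLE inf_le_left)) a)
          (TriCat.comp_mem_range M ((genF X).map (homOfLE inf_le_right)) b), ?_⟩
        rw [map_add, genGerm_map, genGerm_map]
      neg_mem' := by
        rintro _ ⟨W, hW, a, ha, rfl⟩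
        exact ⟨W, hW, -a, neg_mem ha, map_neg _ _⟩ }
  let S : Submodule (X.presheaf.stalk x) ((stalk x).obj (∐ M)) :=
    ⨆ k, LinearMap.range ((stalk x).map (Sigma.ι M k)).hom
  have hS : S = ⊤ := by
    let q : (stalk x).obj (∐ M) ⟶ ModuleCat.of (X.presheaf.stalk x) (((stalk x).obj (∐ M)) ⧸ S) :=
      ModuleCat.ofHom S.mkQ
    have : PreservesColimitsOfSize.{u, u} (stalk x) := (stalkSkyAdj x).leftAdjoint_preservesColimits
    have hq : q = 0 := (isColimitOfPreserves (stalk x) (coproductIsCoproduct M)).hom_ext fun k => by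
      refine ModuleCat.hom_ext (LinearMap.ext fun m => ?_)
      exact ((Submodule.Quotient.mk_eq_zero S).2
        (Submodule.mem_iSup_of_mem k.as ⟨m, rfl⟩)).trans rfl
    exact (Submodule.ker_mkQ S).symm.trans (LinearMap.ker_eq_top.2 (congrArg ModuleCat.Hom.hom hq))
  have hall : ∀ e ∈ S, e ∈ E := fun e he => by
    refine Submodule.iSup_induction (motive := (· ∈ E)) _ he ?_ E.zero_mem fun _ _ => E.add_mem
    rintro k _ ⟨m, rfl⟩
    obtain ⟨W, hW, a, rfl⟩ := exists_genGerm (M k) m
    exact ⟨W, hW, _, TriCat.ι_mem_range M _ k a, genGerm_comp W hW a _⟩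
  obtain ⟨W, hW, _, ⟨a, rfl⟩, hb⟩ := hall (genGerm _ V hx g) (hS ▸ Submodule.mem_top)
  obtain ⟨T, hT, i, j, e⟩ := exists_eq_of_genGerm _ hW hx _ _ hb
  obtain ⟨b, hb⟩ := TriCat.comp_mem_range M ((genF X).map i) a
  exact ⟨T, hT, j, b, hb.trans e⟩

/-- Over a quasi-compact open, maps from the generator into a direct sum are finite sums. -/
theorem finHom_genF {T : X.Opens} (hT : IsCompact (T : Set X)) : FinHom M ((genF X).obj T) := by
  intro g
  choose W hW i a ha using fun x : T => exists_nhd_homSum M g x.2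
  obtain ⟨s, hs⟩ := hT.elim_finite_subcover (fun x : T => (W x : Set X)) (fun x => (W x).2)
    fun x hx => Set.mem_iUnion.2 ⟨⟨x, hx⟩, hW _⟩
  let t : Finset ι := s.biUnion fun x => (a x).support
  let g' : (genF X).obj T ⟶ ∐ M := ∑ k ∈ t, (g ≫ Sigma.π M k) ≫ Sigma.ι M k
  have hg' : g' ∈ (PerfAux.homSumToHomCoprod _ M).range := sum_mem fun k _ => TriCat.ι_mem_range M _ k _
  suffices g = g' by rw [this]; exact hg'
  refine sub_eq_zero.1 ((isLocGen_genF (X := X)).sep (g - g') ⟨Sieve.ofArrows (fun x : s => W x.1)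
    (fun x => i x.1), fun y hy => ?_, fun V f hf => ?_⟩)
  · obtain ⟨x, hx, hyx⟩ := Set.mem_iUnion₂.1 (hs hy)
    exact ⟨W x, i x, Sieve.ofArrows_mk (fun x : s => W x.1) (fun x => i x.1) ⟨x, hx⟩, hyx⟩
  · obtain ⟨_, k, _, ⟨x⟩, rfl⟩ := hf
    have h1 : (genF X).map (i x.1) ≫ g' = (genF X).map (i x.1) ≫ g := by
      refine Eq.trans ?_ (ha x.1)
      have hc : ∀ k, ((genF X).map (i x.1) ≫ g) ≫ Sigma.π M k = a x.1 k := fun k => by
        rw [← ha x.1, homSum_π]
      rw [Preadditive.comp_sum]
      simp only [← Category.assoc, hc]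
      conv_rhs => rw [← DirectSum.sum_support_of (a x.1), map_sum]
      simp only [homSum_of]
      refine (Finset.sum_subset (Finset.subset_biUnion_of_mem (fun x => (a x).support) x.2) ?_).symm
      intro k _ hk
      rw [DFinsupp.notMem_support_iff.1 hk, zero_comp]
    rw [Functor.map_comp, Category.assoc, Preadditive.comp_sub, h1, sub_self, comp_zero]

end Sum

section Derived

variable {ι : Type u} (K : ι → DCoh.D X) [HasCoproduct K] (j : ℤ)

/-- The cohomology of a direct sum is generated by that of the summands. -/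
theorem homology_coprod_hom_ext {W : X.Modules} (g : DCoh.HD (∐ K) j ⟶ W)
    (h : ∀ k, (DerivedCategory.homologyFunctor X.Modules j).map (Sigma.ι K k) ≫ g = 0) : g = 0 := by
  let L : ι → CochainComplex X.Modules ℤ := fun k => DerivedCategory.Q.objPreimage (K k)
  let e : ∀ k, DerivedCategory.Q.obj (L k) ≅ K k := fun k => DerivedCategory.Q.objObjPreimageIso (K k)
  let hc := isColimitCofanMkObjOfIsColimit DerivedCategory.Q L (Sigma.ι L) (coproductIsCoproduct L)
  let f : DerivedCategory.Q.obj (∐ L) ⟶ ∐ K := Cofan.IsColimit.desc hc fun k => (e k).hom ≫ Sigma.ι K k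
  have hf : ∀ k, DerivedCategory.Q.map (Sigma.ι L k) ≫ f = (e k).hom ≫ Sigma.ι K k :=
    fun k => Cofan.IsColimit.fac hc _ k
  have : IsIso f := ⟨Sigma.desc (fun k => (e k).inv ≫ DerivedCategory.Q.map (Sigma.ι L k)),
    Cofan.IsColimit.hom_ext hc _ _ (fun k => by
      show DerivedCategory.Q.map (Sigma.ι L k) ≫ _ = DerivedCategory.Q.map (Sigma.ι L k) ≫ _
      rw [reassoc_of% hf k, Sigma.ι_desc, Iso.hom_inv_id_assoc, Category.comp_id]),
    Sigma.hom_ext _ _ fun k => by
      rw [Sigma.ι_desc_assoc, Category.assoc, hf k, Iso.inv_hom_id_assoc, Category.comp_id]⟩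
  let H := DerivedCategory.homologyFunctor X.Modules j
  let η := DerivedCategory.homologyFunctorFactors X.Modules j
  have h0 : η.inv.app (∐ L) ≫ H.map f ≫ g = 0 := by
    refine DerCat.homology_sigma_hom_ext L j _ fun k => ?_
    have := η.inv.naturality (Sigma.ι L k)
    erw [reassoc_of% this]
    simp only [Functor.comp_map, H]
    rw [← Functor.map_comp_assoc, hf k, Functor.map_comp, Category.assoc, h k, comp_zero, comp_zero]
    rfl
  exact (cancel_epi (H.map f)).1 (((cancel_epi (η.inv.app (∐ L))).1 (h0.trans comp_zero.symm)).trans comp_zero.symm)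

/-- `∐ H^j(K_i) ⟶ H^j(∐ K_i)`. -/
noncomputable abbrev HDsigma : (∐ fun k => DCoh.HD (K k) j) ⟶ DCoh.HD (∐ K) j :=
  Sigma.desc fun k => (DerivedCategory.homologyFunctor X.Modules j).map (Sigma.ι K k)

instance isIso_HDsigma : IsIso (HDsigma K j) := by
  have : Epi (HDsigma K j) := Preadditive.epi_of_cancel_zero _ fun g hg =>
    homology_coprod_hom_ext K j g fun k => by
      have h := congrArg (fun t => Sigma.ι (fun k => DCoh.HD (K k) j) k ≫ t) hg
      simpa [HDsigma] using h
  have : Mono (HDsigma K j) := (isLocGen_genF (X := X)).mono _ fun V g hg => by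
    choose W hW i a ha using fun x : V => exists_nhd_homSum (fun k => DCoh.HD (K k) j) g x.2
    refine (isLocGen_genF (X := X)).sep g ⟨Sieve.ofArrows W i, fun y hy =>
      ⟨W ⟨y, hy⟩, i _, Sieve.ofArrows_mk W i _, hW _⟩, fun T f hf => ?_⟩
    obtain ⟨_, t, _, ⟨x⟩, rfl⟩ := hf
    have ha0 : a x = 0 := DFinsupp.ext fun k => by
      have h1 : HDsigma K j ≫ (DerivedCategory.homologyFunctor X.Modules j).map (Sigma.π K k) =
          Sigma.π (fun k => DCoh.HD (K k) j) k := Sigma.hom_ext _ _ fun l => by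
        rw [Sigma.ι_desc_assoc, ← Functor.map_comp]
        by_cases hl : l = k
        · subst hl; rw [Sigma.ι_π_eq_id, Sigma.ι_π_eq_id, CategoryTheory.Functor.map_id]
        · rw [Sigma.ι_π_of_ne _ hl, Sigma.ι_π_of_ne _ hl, Functor.map_zero]
      rw [← homSum_π (fun k => DCoh.HD (K k) j) _ (a x) k, ha x, ← h1, Category.assoc,
        ← Category.assoc g, hg, zero_comp, comp_zero]
      rfl
    rw [Functor.map_comp, Category.assoc, ← ha x, ha0, map_zero, comp_zero]
  exact isIso_of_mono_of_epi _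

/-- `D_qc` is closed under direct sums. -/
theorem isQCohD_coprod (hK : ∀ k, DCoh.IsQCohD (K k)) : DCoh.IsQCohD (∐ K) := fun j =>
  isQCoh_of_iso (asIso (HDsigma K j))
    (QCoh.isQuasicoherent_colimit (Discrete.functor fun k => DCoh.HD (K k) j) fun k => hK k.as j)

end Derived

end GrothLib.OX
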