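import Groth.Agent.Lib.OX.CompactPerfect
import Groth.Agent.Lib.OX.AffineApps
import Groth.Agent.Lib.OX.SumSections
import Mathlib.AlgebraicGeometry.Restrict

/-!
# `Rf_*` and restriction; composites with global sections and with direct images from opens
-/

set_option autoImplicit false
set_option maxHeartbeats 1000000
universe u

open CategoryTheory CategoryTheory.Limits AlgebraicGeometry Opposite TopologicalSpace Pretriangulated
open HomologicalComplex

attribute [local instance] HasDerivedCategory.standard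

namespace GrothLib.OX

universe v₁ v₂ v₃ u₁ u₂ u₃ w₁ w₂ w₃

section Compose

variable {A : Type u₁} [Category.{v₁} A] [Abelian A] [IsGrothendieckAbelian.{v₁} A] [HasDerivedCategory.{w₁} A]
  {B : Type u₂} [Category.{v₂} B] [Abelian B] [IsGrothendieckAbelian.{v₂} B] [HasDerivedCategory.{w₂} B]
  {C : Type u₃} [Category.{v₃} C] [Abelian C] [HasDerivedCategory.{w₃} C]
  {F : A ⥤ B} {G : B ⥤ C} {H : A ⥤ C} [F.Additive] [G.Additive] [H.Additive] (e : F ⋙ G ≅ H)

/-- `R(G F) = RG RF` when the units of the resolutions are inverted. -/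
noncomputable def derCompIso
    (h : ∀ E : DerivedCategory A, IsIso ((G.mapHomotopyCategory (ComplexShape.up ℤ) ⋙ DerivedCategory.Qh).map
      ((KInj.resAdj B).unit.app ((F.mapHomotopyCategory (ComplexShape.up ℤ)).obj ((KInj.res A).obj E))))) :
    (KInj.res A ⋙ F.mapHomotopyCategory (ComplexShape.up ℤ) ⋙ DerivedCategory.Qh) ⋙
        (KInj.res B ⋙ G.mapHomotopyCategory (ComplexShape.up ℤ) ⋙ DerivedCategory.Qh) ≅
      KInj.res A ⋙ H.mapHomotopyCategory (ComplexShape.up ℤ) ⋙ DerivedCategory.Qh :=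
  ((NatIso.ofComponents (fun E => @asIso _ _ _ _ ((G.mapHomotopyCategory (ComplexShape.up ℤ) ⋙ DerivedCategory.Qh).map
      ((KInj.resAdj B).unit.app ((F.mapHomotopyCategory (ComplexShape.up ℤ)).obj ((KInj.res A).obj E)))) (h E))
    (fun {E E'} g => by
      change (G.mapHomotopyCategory (ComplexShape.up ℤ) ⋙ DerivedCategory.Qh).map _ ≫
          (G.mapHomotopyCategory (ComplexShape.up ℤ) ⋙ DerivedCategory.Qh).map _ =
        (G.mapHomotopyCategory (ComplexShape.up ℤ) ⋙ DerivedCategory.Qh).map _ ≫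
          (G.mapHomotopyCategory (ComplexShape.up ℤ) ⋙ DerivedCategory.Qh).map _
      rw [← Functor.map_comp, ← Functor.map_comp]
      exact congrArg _ ((KInj.resAdj B).unit.naturality _))) :
      KInj.res A ⋙ F.mapHomotopyCategory (ComplexShape.up ℤ) ⋙
          G.mapHomotopyCategory (ComplexShape.up ℤ) ⋙ DerivedCategory.Qh ≅
        (KInj.res A ⋙ F.mapHomotopyCategory (ComplexShape.up ℤ) ⋙ DerivedCategory.Qh) ⋙
          (KInj.res B ⋙ G.mapHomotopyCategory (ComplexShape.up ℤ) ⋙ DerivedCategory.Qh)).symm ≪≫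
    Functor.isoWhiskerLeft (KInj.res A)
      (Functor.isoWhiskerRight (Functor.mapHomotopyCategoryCompIso e (ComplexShape.up ℤ)) DerivedCategory.Qh)

/-- The case of a first functor with exact left adjoint. -/
theorem isIso_map_unit_of_adj {L : B ⥤ A} (adj : L ⊣ F) [L.Additive] [PreservesFiniteLimits L]
    [PreservesFiniteColimits L] (E : DerivedCategory A) :
    IsIso ((G.mapHomotopyCategory (ComplexShape.up ℤ) ⋙ DerivedCategory.Qh).map
      ((KInj.resAdj B).unit.app ((F.mapHomotopyCategory (ComplexShape.up ℤ)).obj ((KInj.res A).obj E)))) := by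
  have := KInj.isIso_unit_of_rightOrthogonal (KInj.rightOrthogonal_map adj (KInj.rightOrthogonal_res E))
  infer_instance

end Compose

variable {X Y : Scheme.{u}}

/-- Direct image commutes with restriction. -/
noncomputable def pushRestrictIso (f : X ⟶ Y) (V : Y.Opens) :
    Scheme.Modules.pushforward f ⋙ Scheme.Modules.restrictFunctor V.ι ≅
      Scheme.Modules.restrictFunctor (f ⁻¹ᵁ V).ι ⋙ Scheme.Modules.pushforward (f ∣_ V) :=
  SheafOfModules.pushforwardComp _ _ ≪≫
  SheafOfModules.pushforwardNatIso _ (NatIso.ofComponents fun W ↦ eqToIso (image_morphismRestrict_preimage f V W)) ≪≫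
    SheafOfModules.pushforwardCongr (by
      ext W : 3
      change ((forget₂ CommRingCat RingCat).map (V.ι.appIso W.unop).inv ≫
          (forget₂ CommRingCat RingCat).map (f.app (V.ι ''ᵁ W.unop))) ≫
          (forget₂ CommRingCat RingCat).map (X.presheaf.map (eqToHom (image_morphismRestrict_preimage f V W.unop)).op) =
        (forget₂ CommRingCat RingCat).map ((f ∣_ V).app W.unop) ≫
          (forget₂ CommRingCat RingCat).map ((f ⁻¹ᵁ V).ι.appIso ((f ∣_ V) ⁻¹ᵁ W.unop)).inv
      rw [← Functor.map_comp, ← Functor.map_comp, ← Functor.map_comp, morphismRestrict_app, Scheme.Opens.ι_appIso,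
        Scheme.Opens.ι_appIso]
      erw [Category.id_comp, Category.comp_id]
      rfl) ≪≫
    (SheafOfModules.pushforwardComp _ _).symm

/-- Restriction of resolutions. -/
noncomputable def resRestrictIso {U : Scheme.{u}} (j : U ⟶ X) [IsOpenImmersion j] :
    KInj.res X.Modules ⋙ (Scheme.Modules.restrictFunctor j).mapHomotopyCategory (ComplexShape.up ℤ) ≅
      resD j ⋙ KInj.res U.Modules :=
  ((NatIso.ofComponents (fun E => @asIso _ _ _ _ ((KInj.resAdj U.Modules).unit.app
      (((Scheme.Modules.restrictFunctor j).mapHomotopyCategory (ComplexShape.up ℤ)).obj ((KInj.res X.Modules).obj E)))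
      (KInj.isIso_unit_of_rightOrthogonal
        (KInj.rightOrthogonal_map (CxOX.extZeroAdj j) (KInj.rightOrthogonal_res E))))
    (fun {E E'} g => (KInj.resAdj U.Modules).unit.naturality
      (((Scheme.Modules.restrictFunctor j).mapHomotopyCategory (ComplexShape.up ℤ)).map
        ((KInj.res X.Modules).map g)))) :
      KInj.res X.Modules ⋙ (Scheme.Modules.restrictFunctor j).mapHomotopyCategory (ComplexShape.up ℤ) ≅
        (KInj.res X.Modules ⋙ (Scheme.Modules.restrictFunctor j).mapHomotopyCategory (ComplexShape.up ℤ) ⋙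
          DerivedCategory.Qh) ⋙ KInj.res U.Modules) ≪≫
    Functor.isoWhiskerRight (Functor.isoWhiskerLeft (KInj.res X.Modules)
        (Scheme.Modules.restrictFunctor j).mapDerivedCategoryFactorsh.symm ≪≫
      (Functor.associator _ _ _).symm ≪≫
      Functor.isoWhiskerRight (asIso (KInj.resAdj X.Modules).counit) _ ≪≫ Functor.leftUnitor _)
      (KInj.res U.Modules)

/-- **Base change for opens.** -/
noncomputable def resDRRBaseChange (f : X ⟶ Y) (V : Y.Opens) :
    RR f ⋙ resD V.ι ≅ resD (f ⁻¹ᵁ V).ι ⋙ RR (f ∣_ V) :=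
  Functor.isoWhiskerLeft (KInj.res X.Modules)
    (Functor.isoWhiskerLeft ((Scheme.Modules.pushforward f).mapHomotopyCategory (ComplexShape.up ℤ))
        (Scheme.Modules.restrictFunctor V.ι).mapDerivedCategoryFactorsh ≪≫
      Functor.isoWhiskerRight (Functor.mapHomotopyCategoryCompIso (pushRestrictIso f V) (ComplexShape.up ℤ) ≪≫
        (Functor.mapHomotopyCategoryCompIso (Iso.refl _) (ComplexShape.up ℤ)).symm) DerivedCategory.Qh) ≪≫
    Functor.isoWhiskerRight (resRestrictIso (f ⁻¹ᵁ V).ι)
      ((Scheme.Modules.pushforward (f ∣_ V)).mapHomotopyCategory (ComplexShape.up ℤ) ⋙ DerivedCategory.Qh)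

/-- `Rf_* Rj_* = R(f j)_*` for open immersions `j`. -/
noncomputable def RRCompOpenIso {U : Scheme.{u}} (j : U ⟶ X) [IsOpenImmersion j] (f : X ⟶ Y) :
    RR j ⋙ RR f ≅ RR (j ≫ f) := by
  haveI : (Scheme.Modules.pushforward j).Additive :=
    (Scheme.Modules.restrictAdjunction j).right_adjoint_additive
  haveI : (Scheme.Modules.restrictFunctor j).Additive :=
    (Scheme.Modules.restrictAdjunction j).left_adjoint_additive
  exact derCompIso (A := U.Modules) (B := X.Modules) (C := Y.Modules) (F := Scheme.Modules.pushforward j)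
    (G := Scheme.Modules.pushforward f) (H := Scheme.Modules.pushforward (j ≫ f))
    (Scheme.Modules.pushforwardComp j f)
    (fun E => isIso_map_unit_of_adj (A := U.Modules) (B := X.Modules) (C := Y.Modules)
      (F := Scheme.Modules.pushforward j) (G := Scheme.Modules.pushforward f)
      (Scheme.Modules.restrictAdjunction j) E)

/-- Complexes receiving only null-homotopic maps from `O_X` have acyclic global sections. -/
theorem exactAt_gamma_of_homotopic (K : CochainComplex X.Modules ℤ) (n : ℤ)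
    (h : ∀ φ : (HomologicalComplex.single X.Modules (ComplexShape.up ℤ) n).obj ((genF X).obj ⊤) ⟶ K,
      Nonempty (Homotopy φ 0)) :
    (((DCoh.gammaAb X).mapHomologicalComplex (ComplexShape.up ℤ)).obj K).ExactAt n := by
  rw [HomologicalComplex.exactAt_iff' _ (n - 1) n (n + 1) (by simp) (by simp), ShortComplex.ab_exact_iff]
  intro x hx
  let g : (genF X).obj ⊤ ⟶ K.X n := (genSec (K.X n) ⊤).symm x
  have hg : g ≫ K.d n (n + 1) = 0 := by
    apply (genSec (K.X (n + 1)) ⊤).injective
    rw [genSec_comp, show genSec (K.X n) ⊤ g = x from Equiv.apply_symm_apply _ _]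
    exact (hx : (K.d n (n + 1)).app ⊤ x = 0).trans (genSecAdd (K.X (n + 1)) ⊤).map_zero.symm
  let φ := HomologicalComplex.mkHomFromSingle (c := ComplexShape.up ℤ) (j := n) g (fun k hk => by
    have hk' : n + 1 = k := hk
    subst hk'
    exact hg)
  have φ0 : φ.f n = (HomologicalComplex.singleObjXSelf (ComplexShape.up ℤ) n _).hom ≫ g :=
    HomologicalComplex.mkHomFromSingle_f _ _
  obtain ⟨H⟩ := h φ
  have h2 := H.comm n
  rw [prevD_eq _ (show (ComplexShape.up ℤ).Rel (n - 1) n by simp),
    dNext_eq _ (show (ComplexShape.up ℤ).Rel n (n + 1) by simp), HomologicalComplex.zero_f, add_zero,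
    HomologicalComplex.single_obj_d, zero_comp, zero_add] at h2
  refine ⟨genSec (K.X (n - 1)) ⊤ ((HomologicalComplex.singleObjXSelf (ComplexShape.up ℤ) n _).inv ≫ H.hom n (n - 1)),
    ?_⟩
  change (K.d (n - 1) n).app ⊤ _ = x
  refine (genSec_comp ⊤ _ (K.d (n - 1) n)).symm.trans ?_
  rw [Category.assoc, ← h2, φ0, Iso.inv_hom_id_assoc]
  exact Equiv.apply_symm_apply _ _

/-- The generator of global sections, placed in degree `k`. -/
noncomputable abbrev gK (X : Scheme.{u}) (k : ℤ) : HomotopyCategory X.Modules (ComplexShape.up ℤ) :=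
  ((HomotopyCategory.singleFunctors X.Modules).functor k).obj ((genF X).obj ⊤)

/-- Global sections see only maps from `O_X`. -/
theorem isIso_gammaKh_map {K L : HomotopyCategory X.Modules (ComplexShape.up ℤ)} (η : K ⟶ L)
    (h : ∀ k, Function.Bijective (fun φ : gK X k ⟶ K => φ ≫ η)) :
    IsIso ((DCoh.gammaKh X).map η) := by
  obtain ⟨C, p, d, hT⟩ := distinguished_cocone_triangle η
  have hC : ∀ (k : ℤ) (φ : gK X k ⟶ C), φ = 0 := fun k φ => by
    have h1 : φ ≫ d = 0 := by
      let e : (gK X (k + 1))⟦(1 : ℤ)⟧ ≅ gK X k :=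
        ((HomotopyCategory.singleFunctors X.Modules).shiftIso 1 k (k + 1) (by omega)).app _
      obtain ⟨a, ha⟩ := (shiftFunctor (HomotopyCategory X.Modules (ComplexShape.up ℤ)) (1 : ℤ)).map_surjective
        (e.hom ≫ φ ≫ d)
      have h0 : a = 0 := (h (k + 1)).1 ((shiftFunctor _ (1 : ℤ)).map_injective (by
        change (a ≫ η)⟦(1 : ℤ)⟧' = (0 ≫ η)⟦(1 : ℤ)⟧'
        rw [zero_comp, Functor.map_zero, Functor.map_comp, ha, Category.assoc, Category.assoc,
          show d ≫ η⟦(1 : ℤ)⟧' = 0 from comp_distTriang_mor_zero₃₁ _ hT, comp_zero, comp_zero]))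
      rw [h0, Functor.map_zero] at ha
      exact (cancel_epi e.hom).1 (ha.symm.trans comp_zero.symm)
    obtain ⟨ψ, rfl⟩ : ∃ ψ, φ = ψ ≫ p := Triangle.coyoneda_exact₃ _ hT φ h1
    obtain ⟨χ, hχ⟩ := (h k).2 ψ
    rw [← hχ, Category.assoc, show η ≫ p = 0 from comp_distTriang_mor_zero₁₂ _ hT, comp_zero]
  refine (Triangle.isZero₃_iff_isIso₁ _ ((DCoh.gammaKh X).map_distinguished _ hT)).1 ?_
  obtain ⟨C⟩ := C
  change IsZero (DerivedCategory.Qh.obj
    ((HomotopyCategory.quotient _ _).obj (((DCoh.gammaAb X).mapHomologicalComplex (ComplexShape.up ℤ)).obj C)))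
  refine IsZero.of_iso ?_ ((DerivedCategory.quotientCompQhIso _).app _)
  refine DerTrunc.isZero_of_forall _ fun n => IsZero.of_iso
    ((HomologicalComplex.exactAt_iff_isZero_homology _ _).1 (exactAt_gamma_of_homotopic C n fun φ => ?_))
    ((DerivedCategory.homologyFunctorFactors _ n).app _)
  exact ⟨HomotopyCategory.homotopyOfEq φ 0 ((hC n ((HomotopyCategory.quotient _ _).map φ)).trans
    ((HomotopyCategory.quotient X.Modules (ComplexShape.up ℤ)).map_zero _ _).symm)⟩

/-- Global sections of a direct image. -/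
noncomputable def gammaPushIso (f : X ⟶ Y) : Scheme.Modules.pushforward f ⋙ DCoh.gammaAb Y ≅ DCoh.gammaAb X :=
  Iso.refl _

/-- `RΓ(Y, Rf_*) = RΓ(X, -)`. -/
noncomputable def RΓRRIso (f : X ⟶ Y) :
    RR f ⋙ (KInj.res Y.Modules ⋙ DCoh.gammaKh Y) ≅ KInj.res X.Modules ⋙ DCoh.gammaKh X :=
  derCompIso (A := X.Modules) (B := Y.Modules) (F := Scheme.Modules.pushforward f) (G := DCoh.gammaAb Y)
    (H := DCoh.gammaAb X) (gammaPushIso f) fun E => isIso_gammaKh_map _ fun k =>
      have := SiteDer.isIso_Qh_map_unit (A := Y.Modules)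
        (((Scheme.Modules.pushforward f).mapHomotopyCategory (ComplexShape.up ℤ)).obj ((KInj.res X.Modules).obj E))
      SiteDer.bijective_comp_of_Qh _ (SiteDer.bijective_Qh_pushK (rmor f) (KInj.rightOrthogonal_res E) ⊤ k)
        (SiteDer.bijective_Qh_res _ _)

/-- Restrictions of direct images of K-injective complexes are acyclic for global sections. -/
theorem isIso_rgamma_unit_restrict_push (f : X ⟶ Y) (B : CochainComplex X.Modules ℤ) [B.IsKInjective]
    (U : Y.Opens) [DCoh.HasRΓ (U : Scheme.{u})] :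
    IsIso (((DCoh.gammaKh (U : Scheme.{u})).totalRightDerivedUnit DerivedCategory.Qh
      (HomotopyCategory.quasiIso (U : Scheme.{u}).Modules (ComplexShape.up ℤ))).app
      ((HomotopyCategory.quotient (U : Scheme.{u}).Modules (ComplexShape.up ℤ)).obj
        ((DCoh.restrictCx U).obj (((Scheme.Modules.pushforward f).mapHomologicalComplex (ComplexShape.up ℤ)).obj B)))) := by
  let B' := ((Scheme.Modules.restrictFunctor (f ⁻¹ᵁ U).ι).mapHomotopyCategory (ComplexShape.up ℤ)).obj
    ((HomotopyCategory.quotient _ _).obj B)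
  have hB' : (HomotopyCategory.subcategoryAcyclic _).rightOrthogonal B' :=
    KInj.rightOrthogonal_map (CxOX.extZeroAdj _) (CochainComplex.IsKInjective.rightOrthogonal B)
  let K := (HomotopyCategory.quotient (U : Scheme.{u}).Modules (ComplexShape.up ℤ)).obj
    ((DCoh.restrictCx U).obj (((Scheme.Modules.pushforward f).mapHomologicalComplex (ComplexShape.up ℤ)).obj B))
  let e : K ≅ ((Scheme.Modules.pushforward (f ∣_ U)).mapHomotopyCategory (ComplexShape.up ℤ)).obj B' :=
    (HomotopyCategory.quotient _ _).mapIso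
      (HomologicalComplex.Hom.isoOfComponents (fun n => (pushRestrictIso f U).app (B.X n))
        fun i j _ => ((pushRestrictIso f U).hom.naturality (B.d i j)).symm)
  let η := (KInj.resAdj (U : Scheme.{u}).Modules).unit.app K
  have hη : IsIso ((DCoh.gammaKh (U : Scheme.{u})).map η) := isIso_gammaKh_map η fun k => by
    have h1 := SiteDer.bijective_Qh_pushK (rmor (f ∣_ U)) hB' ⊤ k
    have h2 : Function.Bijective (DerivedCategory.Qh.map :
        (gK (U : Scheme.{u}) k ⟶ K) → (DerivedCategory.Qh.obj (gK _ k) ⟶ DerivedCategory.Qh.obj K)) := by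
      refine (Function.Bijective.of_comp_iff' (DerivedCategory.Qh.mapIso e).homToEquiv.bijective _).1 ?_
      have : (DerivedCategory.Qh.mapIso e).homToEquiv ∘ (DerivedCategory.Qh.map :
          (gK (U : Scheme.{u}) k ⟶ K) → _) = DerivedCategory.Qh.map ∘ e.homToEquiv :=
        funext fun φ => (DerivedCategory.Qh.map_comp φ e.hom).symm
      rw [this]
      exact h1.comp e.homToEquiv.bijective
    have := SiteDer.isIso_Qh_map_unit (A := (U : Scheme.{u}).Modules) K
    exact SiteDer.bijective_comp_of_Qh _ h2 (SiteDer.bijective_Qh_res _ _)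
  exact IsIso.of_isIso_fac_right (hh := hη)
    (KInj.totalRightDerivedUnit_iso_hom (DCoh.gammaKh (U : Scheme.{u})) K)

end GrothLib.OX
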