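import Groth.Agent.Lib.OX.QCohPull
import Groth.Agent.Lib.OX.PullbackTensor
import Groth.Agent.Lib.OX.LTensorCx
import Groth.Agent.Lib.OX.TorAmp

/-! # Derived tensor products and quasi-coherence of the cohomology -/

set_option autoImplicit false
set_option maxHeartbeats 400000
universe u

open CategoryTheory CategoryTheory.Limits AlgebraicGeometry HomologicalComplex

attribute [local instance] HasDerivedCategory.standard

namespace GrothLib.OX

variable {X : Scheme.{u}}

/-- The tensor product of an associated sheaf with a quasi-coherent module is quasi-coherent. -/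
theorem isQCoh_tilde_tensor {R : CommRingCat.{u}} (M : ModuleCat.{u} R) {E : (Spec R).Modules} (hE : Coh.IsQCoh E) :
    Coh.IsQCoh (((DCoh.tensorBi (X := Spec R)).obj ((tilde.functor R).obj M)).obj E) := by
  let F : SheafOfModules.{u} (Spec R).ringCatSheaf ⥤ (Spec R).Modules := (DCoh.tensorBi (X := Spec R)).flip.obj E
  have h : PreservesColimitsOfSize.{u, u} F := preservesColimitsOfSize_tensorBi_flip_obj E
  have : PreservesColimitsOfSize.{0, 0} F := preservesColimitsOfSize_shrink _
  have hfree : ∀ I : Type u, Coh.IsQCoh (F.obj (SheafOfModules.free I)) := fun I => by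
    refine isQCoh_of_iso (PreservesCoproduct.iso F (fun _ : I => SheafOfModules.unit (Spec R).ringCatSheaf)).symm ?_
    exact QCoh.isQuasicoherent_colimit _ fun _ => isQCoh_of_iso (tensorUnitLeftIso E).symm hE
  let P : SheafOfModules.Presentation.{u} ((tilde.functor R).obj M : SheafOfModules.{u} (Spec R).ringCatSheaf) :=
    presentationTilde M Set.univ (by simp) _ (Submodule.span_eq _)
  let d := (SheafOfModules.freeHomEquiv _).symm P.relations.s ≫ kernel.ι P.generators.π
  have := hfree P.relations.I
  have := hfree P.generators.I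
  exact @QCoh.isQuasicoherent_of_iso _ _ _
    ((cokernelIsCokernel (F.map d)).coconePointUniqueUpToIso (CokernelCofork.mapIsColimit _ P.isColimit F))
    (QCoh.isQuasicoherent_cokernel (F.map d))

theorem isQCoh_homology_tensorMod_affine {R : CommRingCat.{u}} {E : (Spec R).Modules} (hE : Coh.IsQCoh E)
    {N : CochainComplex (Spec R).Modules ℤ} (hN : DCoh.IsKFlat N)
    (hz : ∀ j, j ≠ 0 → IsZero (N.homology j)) (hq : Coh.IsQCoh (N.homology 0)) (i : ℤ) :
    Coh.IsQCoh (((tensorModCx E).obj N).homology i) := by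
  obtain ⟨C, hC, ⟨e⟩⟩ := exists_tilde_rep hz hq
  have : DCoh.HasLTensorMod E := hasLTensorMod E
  obtain ⟨a⟩ := ltensor_value E _ hC
  obtain ⟨b⟩ := ltensor_value E N hN
  exact isQCoh_of_iso ((hdIso _ i).symm ≪≫ (DerivedCategory.homologyFunctor _ i).mapIso
      (a.symm ≪≫ (DCoh.LTensorMod E).mapIso e ≪≫ b) ≪≫ hdIso _ i)
    (isQuasicoherent_homology (fun k => isQCoh_tilde_tensor (C.X k) hE) i)

theorem isQCoh_homology_tensorMod_zero {E : X.Modules} (hE : Coh.IsQCoh E) {N : CochainComplex X.Modules ℤ}
    (hN : DCoh.IsKFlat N) (hz : ∀ j, j ≠ 0 → IsZero (N.homology j)) (hq : Coh.IsQCoh (N.homology 0)) (i : ℤ) :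
    Coh.IsQCoh (((tensorModCx E).obj N).homology i) := by
  have := hE
  have := hq
  refine QCoh.isQuasicoherent_of_forall_fromSpec _ fun U hU => ?_
  let j := hU.fromSpec
  let P := Scheme.Modules.restrictFunctorIsoPullback j
  let η : (DCoh.tensorBi (X := X)).flip.obj E ⋙ Scheme.Modules.pullback j ≅
      Scheme.Modules.pullback j ⋙ (DCoh.tensorBi (X := Spec Γ(X, U))).flip.obj ((Scheme.Modules.pullback j).obj E) :=
    NatIso.ofComponents (fun M => pullTensorIso j M E) (fun a => pullTensorIso_natural₁ j a E)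
  let w : (pullCxF j).obj ((tensorModCx E).obj N) ≅
      (tensorModCx ((Scheme.Modules.pullback j).obj E)).obj ((pullCxF j).obj N) :=
    HomologicalComplex.Hom.isoOfComponents (fun k => η.app (N.X k)) (fun k l _ => (η.hom.naturality (N.d k l)).symm)
  let r : ∀ (C : CochainComplex X.Modules ℤ) (k : ℤ),
      ((pullCxF j).obj C).homology k ≅ (Scheme.Modules.restrictFunctor j).obj (C.homology k) := fun C k =>
    (homologyFunctor _ _ k).mapIso ((NatIso.mapHomologicalComplex P (ComplexShape.up ℤ)).app C).symm ≪≫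
      (C.sc k).mapHomologyIso (Scheme.Modules.restrictFunctor j)
  exact isQCoh_of_iso ((homologyFunctor _ _ i).mapIso w.symm ≪≫ r _ i)
    (isQCoh_homology_tensorMod_affine (isQCoh_of_iso (P.app E) (inferInstanceAs (E.restrict j).IsQuasicoherent))
      (isKFlat_pullback j hN) (fun k hk => ((Scheme.Modules.restrictFunctor j).map_isZero (hz k hk)).of_iso (r N k))
      (isQCoh_of_iso (r N 0).symm (inferInstanceAs ((N.homology 0).restrict j).IsQuasicoherent)) i)

theorem singleQCoh_tensorMod {E : X.Modules} (hE : Coh.IsQCoh E) : SingleQCoh (tensorModCx E) := by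
  intro n N hN hz hq i
  let s := fun k => ((homologyFunctor X.Modules (ComplexShape.up ℤ) 0).shiftIso n k (n + k) rfl).app N
  have h := isQCoh_homology_tensorMod_zero hE (isKFlat_shift hN n)
    (fun k hk => (hz (n + k) (by omega)).of_iso (s k))
    (isQCoh_of_iso (s 0).symm (show Coh.IsQCoh (N.homology (n + 0)) by rw [add_zero]; exact hq)) (i - n)
  exact isQCoh_of_iso ((homologyFunctor X.Modules (ComplexShape.up ℤ) (i - n)).mapIso
      (((tensorModCx E).commShiftIso n).app N) ≪≫
    (((homologyFunctor X.Modules (ComplexShape.up ℤ) 0).shiftIso n (i - n) i (by omega)).app _)) h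

/-- Tor sheaves against a quasi-coherent module. -/
theorem isQCoh_homology_tensorMod {E : X.Modules} (hE : Coh.IsQCoh E) {G : CochainComplex X.Modules ℤ}
    (hG : DCoh.IsKFlat G) (hq : ∀ j, Coh.IsQCoh (G.homology j)) (i : ℤ) :
    Coh.IsQCoh (((tensorModCx E).obj G).homology i) := by
  have : PreservesColimitsOfSize.{0, 0} ((DCoh.tensorBi (X := X)).flip.obj E) :=
    @preservesColimitsOfSize_shrink _ _ _ _ _ (preservesColimitsOfSize_tensorBi_flip_obj E)
  have : PreservesColimitsOfShape ℕ (tensorModCx E) := HomologicalComplex.preservesColimitsOfShape_of_eval _ fun k =>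
    inferInstanceAs (PreservesColimitsOfShape ℕ (HomologicalComplex.eval _ _ k ⋙ (DCoh.tensorBi (X := X)).flip.obj E))
  refine isQCoh_homology_of_qcohBelow (tensorModCx E) (fun K L φ hK hL hφ => quasiIso_tensorModCx φ hK hL E) ?_ hG hq i
  exact qcohBelow_of_single (tensorModCx E) (fun S σ _ _ _ =>
    HomologicalComplex.shortExact_of_degreewise_shortExact _ fun k =>
      ((σ k).some.map ((DCoh.tensorBi (X := X)).flip.obj E)).shortExact)
    (c := 0) (fun b P hP hb i hi => isZero_homology_tensorModCx hP hb E i (by omega)) (singleQCoh_tensorMod hE)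

/-- Tensoring with a module placed in degree `q`. -/
theorem nonempty_tensor_single (P : CochainComplex X.Modules ℤ) (M : X.Modules) (q i : ℤ) :
    Nonempty ((((DCoh.tensorCx (X := X)).obj P).obj ((single X.Modules (ComplexShape.up ℤ) q).obj M)).homology i ≅
      ((tensorModCx M).obj P).homology (i - q)) :=
  ⟨(homologyFunctor X.Modules (ComplexShape.up ℤ) i).mapIso
      (((DCoh.tensorCx (X := X)).obj P).mapIso
        (((CochainComplex.singleFunctors X.Modules).shiftIso (-q) q 0 (by omega)).app M).symm ≪≫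
        (((DCoh.tensorCx (X := X)).obj P).commShiftIso (-q)).app _) ≪≫
    (((homologyFunctor X.Modules (ComplexShape.up ℤ) 0).shiftIso (-q) i (i - q) (by omega)).app _) ≪≫
    (homologyFunctor X.Modules (ComplexShape.up ℤ) (i - q)).mapIso (singleIso P M).symm⟩

open GrothLib.Trunc in
theorem rightBound_tensorCx {P : CochainComplex X.Modules ℤ} (hP : DCoh.IsKFlat P) {bP : ℤ}
    (hb : ∀ j, bP < j → IsZero (P.homology j)) : RightBound ((DCoh.tensorCx (X := X)).obj P) bP := by
  intro b L hL hLb i hi
  let L' := L.truncLE b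
  have hq : QuasiIso (L.ιTruncLE b) := (L.quasiIso_ιTruncLE_iff b).2
    ((CochainComplex.isLE_iff L b).2 fun j hj => (exactAt_iff_isZero_homology _ _).2 (hLb j hj))
  have := quasiIso_tensor_map_of_isKFlat (L.ιTruncLE b) P hP
  refine IsZero.of_iso ?_ (isoOfQuasiIsoAt (((DCoh.tensorCx (X := X)).obj P).map (L.ιTruncLE b)) i).symm
  let Φ := (DCoh.tensorCx (X := X)).obj P
  have hge : ∀ k : ℕ, IsZero ((Φ.obj (geObj L' (b + 1 - k))).homology i) := by
    intro k
    induction k with
    | zero =>
      have h0 : IsZero (geObj L' (b + 1)) := (IsZero.iff_id_eq_zero _).2 (HomologicalComplex.hom_ext _ _ fun n => by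
        by_cases h : b + 1 ≤ n
        · have := isIso_geι_f L' (b + 1) h
          exact ((CochainComplex.isZero_of_isStrictlyLE L' b n (by omega)).of_iso
            (asIso ((geι L' (b + 1)).f n))).eq_of_src _ _
        · exact (isZero_geObj_X L' _ h).eq_of_src _ _)
      simpa using (homologyFunctor X.Modules (ComplexShape.up ℤ) i).map_isZero (Φ.map_isZero h0)
    | succ k ih =>
      let a := b + 1 - ((k + 1 : ℕ) : ℤ)
      let S := ShortComplex.mk _ _ (geMap_geTop L' a (show a ≤ a + 1 by omega))
      have hS : S.ShortExact := geShortExact L' a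
      have hT : (S.map Φ).ShortExact := by
        refine tensorCx_map_shortExact P S fun M q => ?_
        have h := hS.map_of_exact (HomologicalComplex.eval X.Modules (ComplexShape.up ℤ) q)
        by_cases hqa : q = a
        · have hz : IsZero (S.map (HomologicalComplex.eval X.Modules (ComplexShape.up ℤ) q)).X₁ :=
            isZero_geObj_X L' (a + 1) (by omega)
          have : IsIso (S.map (HomologicalComplex.eval X.Modules (ComplexShape.up ℤ) q)).g := h.isIso_g_iff.2 hz
          exact ShortComplex.Splitting.shortExact ((ShortComplex.Splitting.ofIsZeroOfIsIso _ hz this).map _)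
        · have hz : IsZero (S.map (HomologicalComplex.eval X.Modules (ComplexShape.up ℤ) q)).X₃ :=
            HomologicalComplex.isZero_single_obj_X (ComplexShape.up ℤ) a _ q hqa
          have : IsIso (S.map (HomologicalComplex.eval X.Modules (ComplexShape.up ℤ) q)).f := h.isIso_f_iff.2 hz
          exact ShortComplex.Splitting.shortExact ((ShortComplex.Splitting.ofIsIsoOfIsZero _ this hz).map _)
      have e : a + 1 = b + 1 - (k : ℤ) := by simp only [a]; push_cast; omega
      refine (hT.homology_exact₂ i).isZero_of_both_zeros (IsZero.eq_of_src ?_ _ _) (IsZero.eq_of_tgt ?_ _ _)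
      · change IsZero ((Φ.obj (geObj L' (a + 1))).homology i)
        rw [e]; exact ih
      · exact (isZero_homology_tensorModCx hP hb _ (i - a) (by omega)).of_iso (nonempty_tensor_single P _ a i).some
  obtain ⟨F, hF, ⟨eF⟩⟩ := DerCat.exists_colimit_homology (geFun L' (b + 1) ⋙ Φ) i
  have h0 : IsZero (colimit F) := (IsZero.iff_id_eq_zero _).2
    (colimit.hom_ext fun k => ((hge k).of_iso (hF k).some).eq_of_src _ _)
  exact h0.of_iso ((homologyFunctor X.Modules (ComplexShape.up ℤ) i).mapIso
    (Φ.mapIso ((colimit.isColimit _).coconePointUniqueUpToIso (isColimitGeCocone L' (b + 1))).symm ≪≫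
      preservesColimitIso Φ (geFun L' (b + 1))) ≪≫ eF.symm)

theorem isQCoh_homology_tensorCx_below {P : CochainComplex X.Modules ℤ} (hP : DCoh.IsKFlat P) {bP : ℤ}
    (hb : ∀ j, bP < j → IsZero (P.homology j)) (hPq : ∀ j, Coh.IsQCoh (P.homology j))
    {L : CochainComplex X.Modules ℤ} (hL : DCoh.IsKFlat L) (hLq : ∀ j, Coh.IsQCoh (L.homology j)) (i : ℤ) :
    Coh.IsQCoh ((((DCoh.tensorCx (X := X)).obj P).obj L).homology i) := by
  refine isQCoh_homology_of_qcohBelow ((DCoh.tensorCx (X := X)).obj P)
    (fun K M φ _ _ hφ => quasiIso_tensor_map_of_isKFlat φ P hP) ?_ hL hLq i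
  refine qcohBelow_of_single _ (fun S σ _ _ _ => tensorCx_shortExact_of_splitting (fun k => (σ k).some) P)
    (rightBound_tensorCx hP hb) ?_
  intro n N _ hz hq k
  have hLE : N.IsLE n := (CochainComplex.isLE_iff N n).2 fun j hj =>
    (exactAt_iff_isZero_homology _ _).2 (hz j (by omega))
  have hGE : N.IsGE n := (CochainComplex.isGE_iff N n).2 fun j hj =>
    (exactAt_iff_isZero_homology _ _).2 (hz j (by omega))
  have : QuasiIso (N.ιTruncLE n) := (N.quasiIso_ιTruncLE_iff n).2 hLE
  have : (N.truncLE n).IsGE n := (HomologicalComplex.isSupported_iff_of_quasiIso (N.ιTruncLE n) _).2 hGE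
  have : QuasiIso ((N.truncLE n).πTruncGE n) := ((N.truncLE n).quasiIso_πTruncGE_iff n).2 inferInstance
  obtain ⟨M, ⟨eM⟩⟩ := ((N.truncLE n).truncGE n).exists_iso_single n
  let w : ((N.truncLE n).truncGE n).homology n ≅ N.homology n :=
    (isoOfQuasiIsoAt ((N.truncLE n).πTruncGE n) n).symm ≪≫ isoOfQuasiIsoAt (N.ιTruncLE n) n
  have hM : Coh.IsQCoh M := isQCoh_of_iso
    (w.symm ≪≫ (homologyFunctor _ (ComplexShape.up ℤ) n).mapIso eM ≪≫
      HomologicalComplex.singleObjHomologySelfIso (ComplexShape.up ℤ) n M) hq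
  have := quasiIso_tensor_map_of_isKFlat (N.ιTruncLE n) P hP
  have := quasiIso_tensor_map_of_isKFlat ((N.truncLE n).πTruncGE n) P hP
  exact isQCoh_of_iso ((nonempty_tensor_single P M n k).some.symm ≪≫
    (homologyFunctor _ _ k).mapIso (((DCoh.tensorCx (X := X)).obj P).mapIso eM).symm ≪≫
    (isoOfQuasiIsoAt (((DCoh.tensorCx (X := X)).obj P).map ((N.truncLE n).πTruncGE n)) k).symm ≪≫
    isoOfQuasiIsoAt (((DCoh.tensorCx (X := X)).obj P).map (N.ιTruncLE n)) k)
    (isQCoh_homology_tensorMod hM hP hPq (k - n))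

/-- Derived tensor products preserve quasi-coherence of the cohomology. -/
theorem isQCoh_homology_tensorCx {G L : CochainComplex X.Modules ℤ} (hG : DCoh.IsKFlat G) (hL : DCoh.IsKFlat L)
    (hGq : ∀ j, Coh.IsQCoh (G.homology j)) (hLq : ∀ j, Coh.IsQCoh (L.homology j)) (i : ℤ) :
    Coh.IsQCoh ((((DCoh.tensorCx (X := X)).obj G).obj L).homology i) := by
  have : PreservesColimitsOfSize.{0, 0} ((DCoh.tensorCx (X := X)).obj L) :=
    @preservesColimitsOfSize_shrink _ _ _ _ _ (preservesColimitsOfSize_tensorCx_obj L)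
  have : PreservesColimitsOfShape ℕ ((DCoh.tensorCx (X := X)).flip.obj L) :=
    preservesColimitsOfShape_of_natIso (tensorFlipIso L).symm
  exact isQCoh_homology_of_qcohBelow ((DCoh.tensorCx (X := X)).flip.obj L)
    (fun K M φ _ _ hφ => quasiIso_map_of_isKFlat φ L hL)
    (fun b P hP hb hPq k => isQCoh_homology_tensorCx_below hP hb hPq hL hLq k) hG hGq i

end GrothLib.OX
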