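import Groth.Agent.Lib.OX.DualPerfectGlobal
import Groth.Agent.Lib.OX.OneDegLocus
import Groth.Agent.Lib.Euler.Coh

/-! # The dual of a perfect complex -/

set_option autoImplicit false
set_option maxHeartbeats 1000000
universe u

open CategoryTheory CategoryTheory.Limits CategoryTheory.Pretriangulated AlgebraicGeometry HomologicalComplex

attribute [local instance] HasDerivedCategory.standard

namespace GrothLib.OX

variable {X : Scheme.{u}}

/-- The unit complex. -/
noncomputable abbrev unitCx (X : Scheme.{u}) : CochainComplex X.Modules ℤ :=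
  (single X.Modules (ComplexShape.up ℤ) 0).obj (Coh.structureModule X)

/-- `O` in degree zero in the derived category. -/
noncomputable def unitCxQIso (X : Scheme.{u}) :
    DerivedCategory.Q.obj (unitCx X) ≅ (DerivedCategory.singleFunctor X.Modules 0).obj (Coh.structureModule X) :=
  ((DerivedCategory.singleFunctorIsoCompQ X.Modules 0).app _).symm

theorem isFinLocFree_structureModule (X : Scheme.{u}) : FlatMod.IsFinLocFree (Coh.structureModule X) := fun _ =>
  ⟨⊤, 1, trivial, ⟨(Scheme.Modules.restrictFunctorIsoPullback (⊤ : X.Opens).ι).app _ ≪≫ pullUnitIso _ ≪≫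
    (coproductUniqueIso fun _ : Fin 1 => Coh.structureModule ((⊤ : X.Opens) : Scheme.{u})).symm⟩⟩

theorem isPerfect_unit (X : Scheme.{u}) :
    DCoh.IsPerfect ((DerivedCategory.singleFunctor X.Modules 0).obj (Coh.structureModule X)) := by
  refine (isPerfect_iff_rep (unitCxQIso X)).2 fun x => ⟨⊤, _, trivial,
    strictlyPerfect_single 0 (M := Coh.structureModule ((⊤ : X.Opens) : Scheme.{u})) (isFinLocFree_structureModule _), ?_⟩
  exact ⟨DerivedCategory.Q.mapIso
    ((singleMapHomologicalComplex (Scheme.Modules.restrictFunctor (⊤ : X.Opens).ι) (ComplexShape.up ℤ) 0).app _ ≪≫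
      (single _ _ 0).mapIso (((Scheme.Modules.restrictFunctorIsoPullback (⊤ : X.Opens).ι).app _) ≪≫ pullUnitIso _))⟩

theorem nonempty_tensor_dual_iso (K D : CochainComplex X.Modules ℤ) (hK : DCoh.IsKFlat K)
    (hKp : DCoh.IsPerfect (DerivedCategory.Q.obj K)) [DCoh.HasLTensorCx K] [DCoh.HasRSheafHom K]
    [DCoh.HasLTensorCx D]
    (i : DerivedCategory.Q.obj D ≅
      (DCoh.RSheafHom K).obj ((DerivedCategory.singleFunctor X.Modules 0).obj (Coh.structureModule X)))
    (M : DCoh.D X) : Nonempty ((DCoh.LTensorCx D).obj M ≅ (DCoh.RSheafHom K).obj M) := by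
  obtain ⟨A, q, hA, hA', hq, -⟩ := exists_kflat_resolution (DerivedCategory.Q.objPreimage M)
  let e : DerivedCategory.Q.obj A ≅ M := asIso (DerivedCategory.Q.map q) ≪≫ DerivedCategory.Q.objObjPreimageIso M
  obtain ⟨J, i₀, hi₀, hJ, -⟩ := KInj.exists_kInjective_resolution (A := X.Modules) (unitCx X)
  obtain ⟨B, β, hβ, hB, -⟩ :=
    KInj.exists_kInjective_resolution (A := X.Modules) (((DCoh.tensorCx (X := X)).obj A).obj J)
  obtain ⟨vJ⟩ := nonempty_RSheafHom_value K hK J
  obtain ⟨vB⟩ := nonempty_RSheafHom_value K hK B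
  let H := (homCx K).obj J
  have := hasLTensorCx H
  let iH : DerivedCategory.Q.obj D ≅ DerivedCategory.Q.obj H :=
    i ≪≫ (DCoh.RSheafHom K).mapIso ((unitCxQIso X).symm ≪≫ asIso (DerivedCategory.Q.map i₀)) ≪≫ vJ
  obtain ⟨c⟩ := nonempty_ltensorCx_congr_of_iso iH
  obtain ⟨w⟩ := ltensorCx_value H A hA
  have : QuasiIso (((DCoh.tensorCx (X := X)).obj A).map i₀) := quasiIso_tensor_map_of_isKFlat i₀ A hA
  let eB : DerivedCategory.Q.obj B ≅ M :=
    (asIso (DerivedCategory.Q.map β)).symm ≪≫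
      (asIso (DerivedCategory.Q.map (((DCoh.tensorCx (X := X)).obj A).map i₀))).symm ≪≫
      DerivedCategory.Q.mapIso (singleUnitNatIso.app A) ≪≫ e
  exact ⟨(DCoh.LTensorCx D).mapIso e.symm ≪≫ c.app _ ≪≫ w ≪≫
    @asIso _ _ _ _ (DerivedCategory.Q.map (psi A J β K)) (isIso_Q_psi β hA hA' K hK hKp) ≪≫ vB.symm ≪≫
    (DCoh.RSheafHom K).mapIso eB⟩

end GrothLib.OX
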