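import Groth.Prelude.Def_DDual2
import Groth.Prelude.Def_FlatMod2
import Mathlib.Topology.Sheaves.SheafCondition.UniqueGluing
import Mathlib.CategoryTheory.Adjunction.FullyFaithful
import Mathlib.CategoryTheory.Adjunction.Restrict

/-! # Stalks of O_X-modules as modules over the local ring, and skyscraper modules -/

set_option autoImplicit false
universe u

open CategoryTheory CategoryTheory.Limits AlgebraicGeometry Opposite TopologicalSpace

namespace GrothLib.OX

variable {X : Scheme.{u}} (x : X)

/-- The underlying presheaf of abelian groups, typed as a presheaf on the space. -/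
noncomputable abbrev prs (P : CohB1.PMod X) : TopCat.Presheaf Ab.{u} X.carrier := P.presheaf

noncomputable instance stalkModule (P : CohB1.PMod X) :
    Module (X.presheaf.stalk x) (TopCat.Presheaf.stalk (C := Ab.{u}) (prs P) x) :=
  inferInstanceAs (Module (X.presheaf.stalk x) ↑(TopCat.Presheaf.stalk (PresheafOfModules.presheaf
    (R := X.presheaf ⋙ forget₂ CommRingCat RingCat)
    (show PresheafOfModules (X.presheaf ⋙ forget₂ CommRingCat RingCat) from P)) x))

/-- The stalk of a presheaf of modules as a module over the stalk of the structure sheaf. -/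
noncomputable abbrev stalkObj (P : CohB1.PMod X) : ModuleCat.{u} (X.presheaf.stalk x) :=
  ModuleCat.of (X.presheaf.stalk x) (TopCat.Presheaf.stalk (C := Ab.{u}) (prs P) x)

variable {x}

/-- The germ of a section of a presheaf of modules. -/
noncomputable def germ (P : CohB1.PMod X) (U : X.Opens) (hx : x ∈ U) :
    P.obj (op U) →+ stalkObj x P :=
  (TopCat.Presheaf.germ (prs P) U x hx).hom

lemma germ_smul' (P : CohB1.PMod X) (U : X.Opens) (hx : x ∈ U) (r : X.presheaf.obj (op U))
    (m : P.obj (op U)) :
    germ P U hx ((r : X.presheaf.obj (op U)) • m) = X.presheaf.germ U x hx r • germ P U hx m :=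
  PresheafOfModules.germ_smul (R := X.presheaf) P x U hx r m

lemma germ_map (P : CohB1.PMod X) {U V : X.Opens} (i : U ⟶ V) (hx : x ∈ U) (m : P.obj (op V)) :
    germ P U hx (P.map i.op m) = germ P V (i.le hx) m :=
  TopCat.Presheaf.germ_res_apply (prs P) i x hx m

lemma germ_exists (P : CohB1.PMod X) (e : stalkObj x P) :
    ∃ (U : X.Opens) (hx : x ∈ U) (m : P.obj (op U)), germ P U hx m = e :=
  TopCat.Presheaf.exists_germ_eq (prs P) e

lemma germ_exists₂ (P Q : CohB1.PMod X) (e : stalkObj x P) (e' : stalkObj x Q) :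
    ∃ (U : X.Opens) (hx : x ∈ U) (m : P.obj (op U)) (m' : Q.obj (op U)),
      germ P U hx m = e ∧ germ Q U hx m' = e' := by
  obtain ⟨U, hU, m, rfl⟩ := germ_exists P e
  obtain ⟨V, hV, m', rfl⟩ := germ_exists Q e'
  exact ⟨U ⊓ V, ⟨hU, hV⟩, P.map (homOfLE inf_le_left).op m, Q.map (homOfLE inf_le_right).op m',
    germ_map P _ _ m, germ_map Q _ _ m'⟩

lemma germ_exists_smul (P : CohB1.PMod X) (r : X.presheaf.stalk x) (e : stalkObj x P) :
    ∃ (U : X.Opens) (hx : x ∈ U) (s : X.presheaf.obj (op U)) (m : P.obj (op U)),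
      X.presheaf.germ U x hx s = r ∧ germ P U hx m = e := by
  obtain ⟨U, hU, s, rfl⟩ := X.presheaf.exists_germ_eq r
  obtain ⟨V, hV, m, rfl⟩ := germ_exists P e
  exact ⟨U ⊓ V, ⟨hU, hV⟩, X.presheaf.map (homOfLE inf_le_left).op s, P.map (homOfLE inf_le_right).op m,
    TopCat.Presheaf.germ_res_apply X.presheaf _ _ _ _, germ_map P _ _ m⟩

variable (x)

/-- The map on stalks induced by a morphism of presheaves of modules, as an additive map. -/
noncomputable def stalkMapHom {P Q : CohB1.PMod X} (f : P ⟶ Q) : stalkObj x P →+ stalkObj x Q :=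
  ((TopCat.Presheaf.stalkFunctor Ab.{u} (X := X.carrier) x).map (show prs P ⟶ prs Q from (PresheafOfModules.toPresheaf _).map f)).hom

variable {x} in
lemma stalkMapHom_germ {P Q : CohB1.PMod X} (f : P ⟶ Q) (U : X.Opens) (hx : x ∈ U) (m : P.obj (op U)) :
    stalkMapHom x f (germ P U hx m) = germ Q U hx (f.app (op U) m) :=
  TopCat.Presheaf.stalkFunctor_map_germ_apply (F := prs P) (G := prs Q) U x hx _ m

lemma stalkMapHom_smul {P Q : CohB1.PMod X} (f : P ⟶ Q) (r : X.presheaf.stalk x) (e : stalkObj x P) :
    stalkMapHom x f (r • e) = r • stalkMapHom x f e := by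
  obtain ⟨U, hx, s, m, rfl, rfl⟩ := germ_exists_smul P r e
  rw [← germ_smul', stalkMapHom_germ, stalkMapHom_germ]
  exact (congrArg (germ Q U hx) ((f.app (op U)).hom.map_smul s m)).trans (germ_smul' Q U hx s _)

/-- The stalk functor on presheaves of modules, valued in modules over the local ring. -/
noncomputable def stalkPre : CohB1.PMod X ⥤ ModuleCat.{u} (X.presheaf.stalk x) where
  obj P := stalkObj x P
  map f := ModuleCat.ofHom
    { toFun := stalkMapHom x f
      map_add' := map_add _
      map_smul' := stalkMapHom_smul x f }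
  map_id P := by
    ext e
    obtain ⟨U, hx, m, rfl⟩ := germ_exists P e
    exact stalkMapHom_germ (𝟙 P) U hx m
  map_comp f g := by
    ext e
    obtain ⟨U, hx, m, rfl⟩ := germ_exists _ e
    exact (stalkMapHom_germ _ U hx m).trans ((congrArg _ (stalkMapHom_germ f U hx m)).trans
      (stalkMapHom_germ g U hx _)).symm

variable {x} in
@[simp]
lemma stalkPre_map_germ {P Q : CohB1.PMod X} (f : P ⟶ Q) (U : X.Opens) (hx : x ∈ U)
    (m : P.obj (op U)) : ((stalkPre x).map f).hom (germ P U hx m) = germ Q U hx (f.app (op U) m) :=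
  stalkMapHom_germ f U hx m

section Sky

variable (N : ModuleCat.{u} (X.presheaf.stalk x))

/-- Sections of the skyscraper module. -/
abbrev SkySec (U : (X.Opens)ᵒᵖ) : Type u := PLift (x ∈ U.unop) → N

noncomputable instance skyModule (U : (X.Opens)ᵒᵖ) :
    Module ((X.sheaf.obj ⋙ forget₂ CommRingCat RingCat).obj U) (SkySec x N U) :=
  @Pi.module (PLift (x ∈ U.unop)) (fun _ => N) ((X.sheaf.obj ⋙ forget₂ CommRingCat RingCat).obj U) _ _
    (fun h => Module.compHom N (X.presheaf.germ U.unop x h.down).hom)

/-- The presheaf of abelian groups underlying the skyscraper module. -/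
noncomputable def skyAb : (X.Opens)ᵒᵖ ⥤ Ab.{u} where
  obj U := AddCommGrpCat.of (SkySec x N U)
  map {U V} i := AddCommGrpCat.ofHom
    { toFun := fun f h => f ⟨i.unop.le h.down⟩
      map_zero' := rfl
      map_add' := fun _ _ => rfl }

noncomputable instance (U : (X.Opens)ᵒᵖ) :
    Module ((X.sheaf.obj ⋙ forget₂ CommRingCat RingCat).obj U) ((skyAb x N).obj U) :=
  skyModule x N U

/-- The skyscraper presheaf of modules. -/
noncomputable def skyPreObj : CohB1.PMod X :=
  PresheafOfModules.ofPresheaf (skyAb x N) fun U V i r m => funext fun h => by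
    change X.presheaf.germ U.unop x _ r • m _ = X.presheaf.germ V.unop x h.down (X.presheaf.map i r) • m _
    rw [TopCat.Presheaf.germ_res_apply' X.presheaf i x h.down r]

lemma skyPreObj_isSheaf :
    TopCat.Presheaf.IsSheaf (prs (skyPreObj x N)) := by
  refine (TopCat.Presheaf.isSheaf_iff_isSheafUniqueGluing _).2 fun ι U sf hsf => ?_
  have hex : ∀ h : PLift (x ∈ iSup U), ∃ i, x ∈ U i := fun h => Opens.mem_iSup.1 h.down
  refine ⟨fun h => sf (hex h).choose ⟨(hex h).choose_spec⟩, fun i => funext fun h => ?_, fun s hs => funext fun h => ?_⟩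
  · have hh : PLift (x ∈ iSup U) := ⟨Opens.mem_iSup.2 ⟨i, h.down⟩⟩
    exact congrFun (hsf (hex hh).choose i) ⟨⟨(hex hh).choose_spec, h.down⟩⟩
  · exact congrFun (hs (hex h).choose) ⟨(hex h).choose_spec⟩

end Sky

/-- The skyscraper functor into presheaves of modules. -/
noncomputable def skyPre : ModuleCat.{u} (X.presheaf.stalk x) ⥤ CohB1.PMod X where
  obj N := skyPreObj x N
  map {N N'} g :=
    { app := fun U => ModuleCat.ofHom (X := SkySec x N U) (Y := SkySec x N' U)
        { toFun := fun f h => g.hom (f h)
          map_add' := fun f f' => funext fun h => map_add g.hom _ _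
          map_smul' := fun r f => funext fun h =>
            g.hom.map_smul (X.presheaf.germ U.unop x h.down r) (f h) } }

variable {x} in
/-- Evaluation at `x` of a map to a skyscraper, on a neighbourhood. -/
noncomputable def skyEval {P : CohB1.PMod X} {N : ModuleCat.{u} (X.presheaf.stalk x)}
    (ψ : P ⟶ skyPreObj x N) (U : X.Opens) (hx : x ∈ U) : P.obj (op U) →+ N where
  toFun m := (ψ.app (op U) m : SkySec x N (op U)) ⟨hx⟩
  map_zero' := congrFun (map_zero (ψ.app (op U)).hom) ⟨hx⟩
  map_add' m m' := congrFun (map_add (ψ.app (op U)).hom m m') ⟨hx⟩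

variable {x} in
lemma skyEval_map {P : CohB1.PMod X} {N : ModuleCat.{u} (X.presheaf.stalk x)}
    (ψ : P ⟶ skyPreObj x N) {U V : X.Opens} (i : U ⟶ V) (hx : x ∈ U) (m : P.obj (op V)) :
    skyEval ψ U hx (P.map i.op m) = skyEval ψ V (i.le hx) m :=
  congrFun (PresheafOfModules.naturality_apply ψ i.op m) ⟨hx⟩

variable {x} in
lemma skyEval_smul {P : CohB1.PMod X} {N : ModuleCat.{u} (X.presheaf.stalk x)}
    (ψ : P ⟶ skyPreObj x N) (U : X.Opens) (hx : x ∈ U) (r : X.presheaf.obj (op U)) (m : P.obj (op U)) :
    skyEval ψ U hx ((r : X.presheaf.obj (op U)) • m) = X.presheaf.germ U x hx r • skyEval ψ U hx m :=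
  congrFun ((ψ.app (op U)).hom.map_smul r m) ⟨hx⟩

variable {x} in
/-- The map on the stalk corresponding to a map to a skyscraper, additively. -/
noncomputable def stalkDesc {P : CohB1.PMod X} {N : ModuleCat.{u} (X.presheaf.stalk x)}
    (ψ : P ⟶ skyPreObj x N) : TopCat.Presheaf.stalk (C := Ab.{u}) (prs P) x →+ N :=
  (colimit.desc ((OpenNhds.inclusion x).op ⋙ prs P)
    { pt := AddCommGrpCat.of N
      ι :=
        { app := fun V => AddCommGrpCat.ofHom (skyEval ψ V.unop.1 V.unop.2)
          naturality := fun V W i =>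
            AddCommGrpCat.ext fun m => skyEval_map ψ ((OpenNhds.inclusion x).map i.unop) W.unop.2 m } }).hom

variable {x} in
lemma stalkDesc_germ {P : CohB1.PMod X} {N : ModuleCat.{u} (X.presheaf.stalk x)}
    (ψ : P ⟶ skyPreObj x N) (U : X.Opens) (hx : x ∈ U) (m : P.obj (op U)) :
    stalkDesc ψ (germ P U hx m) = skyEval ψ U hx m :=
  ConcreteCategory.congr_hom (colimit.ι_desc (F := (OpenNhds.inclusion x).op ⋙ prs P) _
    (op (⟨U, hx⟩ : OpenNhds x))) m

variable {x} in
lemma stalkDesc_smul {P : CohB1.PMod X} {N : ModuleCat.{u} (X.presheaf.stalk x)}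
    (ψ : P ⟶ skyPreObj x N) (r : X.presheaf.stalk x) (e : stalkObj x P) :
    stalkDesc ψ (r • e : stalkObj x P) = r • stalkDesc ψ e := by
  obtain ⟨U, hx, s, m, rfl, rfl⟩ := germ_exists_smul P r e
  exact (congrArg (stalkDesc ψ) (germ_smul' P U hx s m).symm).trans
    ((stalkDesc_germ ψ U hx _).trans ((skyEval_smul ψ U hx s m).trans
      (congrArg (X.presheaf.germ U x hx s • ·) (stalkDesc_germ ψ U hx m).symm)))

/-- Stalk is left adjoint to skyscraper, on presheaves of modules. -/
noncomputable def stalkHomEquiv (P : CohB1.PMod X) (N : ModuleCat.{u} (X.presheaf.stalk x)) :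
    (stalkObj x P ⟶ N) ≃ (P ⟶ skyPreObj x N) where
  toFun φ :=
    { app := fun U => ModuleCat.ofHom (X := P.obj U) (Y := SkySec x N U)
        { toFun := fun m h => φ.hom (germ P U.unop h.down m)
          map_add' := fun m m' => funext fun h =>
            (congrArg φ.hom (map_add (germ P U.unop h.down) m m')).trans (map_add φ.hom _ _)
          map_smul' := fun r m => funext fun h =>
            (congrArg φ.hom (germ_smul' P U.unop h.down r m)).trans (φ.hom.map_smul _ _) }
      naturality := fun {U V} i => by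
        ext m
        funext h
        exact congrArg φ.hom (germ_map P i.unop h.down m) }
  invFun ψ := ModuleCat.ofHom
    { toFun := stalkDesc ψ
      map_add' := map_add (stalkDesc ψ)
      map_smul' := stalkDesc_smul ψ }
  left_inv φ := by
    refine ModuleCat.hom_ext (LinearMap.ext fun e => ?_)
    obtain ⟨U, hx, m, rfl⟩ := germ_exists P e
    exact stalkDesc_germ _ U hx m
  right_inv ψ := by
    refine PresheafOfModules.hom_ext fun U => ModuleCat.hom_ext (LinearMap.ext fun m => funext fun h => ?_)
    exact stalkDesc_germ ψ U.unop h.down m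

/-- The adjunction between stalk and skyscraper, for presheaves of modules. -/
noncomputable def stalkSkyPreAdj : stalkPre x ⊣ skyPre x :=
  Adjunction.mkOfHomEquiv
    { homEquiv := stalkHomEquiv x
      homEquiv_naturality_left_symm := fun {P Q N} f g => by
        apply (stalkHomEquiv x P N).injective
        refine (Equiv.apply_symm_apply _ _).trans ?_
        ext U m
        funext h
        have := congrArg (fun (k : Q ⟶ skyPreObj x N) => (k.app U (f.app U m) : SkySec x N U) h)
          ((stalkHomEquiv x Q N).apply_symm_apply g)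
        refine this.symm.trans ?_
        exact congrArg ((stalkHomEquiv x Q N).symm g).hom (stalkMapHom_germ f U.unop h.down m).symm
      homEquiv_naturality_right := fun f g => rfl }

/-- The skyscraper O_X-module. -/
noncomputable def skyObj (N : ModuleCat.{u} (X.presheaf.stalk x)) : X.Modules :=
  SheafOfModules.mk (skyPreObj x N) (skyPreObj_isSheaf x N)

/-- The skyscraper functor into O_X-modules. -/
noncomputable def sky : ModuleCat.{u} (X.presheaf.stalk x) ⥤ X.Modules where
  obj N := skyObj x N
  map g := ⟨(skyPre x).map g⟩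
  map_id N := SheafOfModules.hom_ext ((skyPre x).map_id N)
  map_comp f g := SheafOfModules.hom_ext ((skyPre x).map_comp f g)

/-- The stalk functor on O_X-modules, valued in modules over the local ring. -/
noncomputable def stalk : X.Modules ⥤ ModuleCat.{u} (X.presheaf.stalk x) := DCoh.toP ⋙ stalkPre x

/-- Stalk is left adjoint to skyscraper. -/
noncomputable def stalkSkyAdj : stalk x ⊣ sky x :=
  Adjunction.mkOfHomEquiv
    { homEquiv := fun M N => ((stalkSkyPreAdj x).homEquiv (DCoh.toP.obj M) N).trans
        (Scheme.Modules.fullyFaithfulToPresheafOfModules.homEquiv (X := M) (Y := skyObj x N)).symm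
      homEquiv_naturality_left_symm := fun f g => (stalkSkyPreAdj x).homEquiv_naturality_left_symm _ _
      homEquiv_naturality_right := fun f g => SheafOfModules.hom_ext rfl }

/-- Stalks do not see sheafification. -/
noncomputable def shPStalkIso : DCoh.shP (X := X) ⋙ stalk x ≅ stalkPre x :=
  Adjunction.leftAdjointUniq
    ((PresheafOfModules.sheafificationAdjunction (R := X.ringCatSheaf) (𝟙 X.ringCatSheaf.obj)).comp (stalkSkyAdj x))
    (stalkSkyPreAdj x)

end GrothLib.OX
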