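import Groth.Agent.Lib.OX.TensorSymm
import Mathlib.Algebra.Homology.BifunctorAssociator
import Mathlib.CategoryTheory.Functor.Trifunctor

/-! # Associativity of the tensor product of O_X-modules and of complexes -/

set_option autoImplicit false
set_option maxHeartbeats 400000
universe u

open CategoryTheory CategoryTheory.Limits MonoidalCategory AlgebraicGeometry HomologicalComplex

namespace GrothLib.OX

variable {X : Scheme.{u}}

/-- The unit of sheafification, for presheaves of modules. -/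
noncomputable def shUnit : 𝟭 (CohB1.PMod X) ⟶ DCoh.shP ⋙ DCoh.toP :=
  (PresheafOfModules.sheafificationAdjunction (R := X.ringCatSheaf) (𝟙 X.ringCatSheaf.obj)).unit

theorem isIso_shP_map_shUnit (P : CohB1.PMod X) : IsIso (DCoh.shP.map (shUnit.app P)) := by
  let adj := PresheafOfModules.sheafificationAdjunction (R := X.ringCatSheaf) (𝟙 X.ringCatSheaf.obj)
  refine (isIso_iff _).2 fun x => ?_
  have h : DCoh.shP.map (shUnit.app P) ≫ adj.counit.app (DCoh.shP.obj P) = 𝟙 _ :=
    adj.left_triangle_components P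
  have hc : IsIso (adj.counit.app (DCoh.shP.obj P)) := inferInstance
  have h1 : IsIso (DCoh.shP.map (shUnit.app P) ≫ adj.counit.app (DCoh.shP.obj P)) := by
    rw [h]; infer_instance
  have := @IsIso.of_isIso_comp_right _ _ _ _ _ (DCoh.shP.map (shUnit.app P)) (adj.counit.app (DCoh.shP.obj P)) hc h1
  infer_instance

theorem isIso_stalkPre_map_shUnit (x : X) (P : CohB1.PMod X) : IsIso ((stalkPre x).map (shUnit.app P)) := by
  have := isIso_shP_map_shUnit P
  exact ((MorphismProperty.isomorphisms _).arrow_mk_iso_iff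
    (Arrow.isoMk ((shPStalkIso x).app P) ((shPStalkIso x).app _)
      ((shPStalkIso x).hom.naturality (shUnit.app P)).symm)).1 (inferInstanceAs (IsIso ((stalk x).map _)))

theorem isIso_shP_of_stalkPre {P Q : CohB1.PMod X} (g : P ⟶ Q) (h : ∀ x, IsIso ((stalkPre x).map g)) :
    IsIso (DCoh.shP.map g) :=
  (isIso_iff _).2 fun x => ((MorphismProperty.isomorphisms _).arrow_mk_iso_iff
    (Arrow.isoMk ((shPStalkIso x).app P) ((shPStalkIso x).app Q) ((shPStalkIso x).hom.naturality g).symm)).2 (h x)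

theorem isIso_shP_whiskerRight (P Q : CohB1.PMod X) : IsIso (DCoh.shP.map (shUnit.app P ▷ Q)) :=
  isIso_shP_of_stalkPre _ fun x => by
    have := isIso_stalkPre_map_shUnit x P
    have h := stalkTensorIso_natural x (shUnit.app P) (𝟙 Q)
    rw [CategoryTheory.Functor.map_id, tensorHom_id, tensorHom_id] at h
    rw [show (stalkPre x).map (shUnit.app P ▷ Q) = (stalkTensorIso x P Q).inv ≫
      ((stalkPre x).map (shUnit.app P) ▷ (stalkPre x).obj Q) ≫ (stalkTensorIso x _ Q).hom from
        (Iso.eq_inv_comp _).2 h.symm]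
    have e : IsIso ((stalkPre x).map (shUnit.app P) ▷ (stalkPre x).obj Q) := inferInstance
    exact @IsIso.comp_isIso _ _ _ _ _ _ _ _ (@IsIso.comp_isIso _ _ _ _ _ _ _ e _)

theorem isIso_shP_whiskerLeft (P Q : CohB1.PMod X) : IsIso (DCoh.shP.map (P ◁ shUnit.app Q)) :=
  isIso_shP_of_stalkPre _ fun x => by
    have := isIso_stalkPre_map_shUnit x Q
    have h := stalkTensorIso_natural x (𝟙 P) (shUnit.app Q)
    rw [CategoryTheory.Functor.map_id, id_tensorHom, id_tensorHom] at h
    rw [show (stalkPre x).map (P ◁ shUnit.app Q) = (stalkTensorIso x P Q).inv ≫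
      ((stalkPre x).obj P ◁ (stalkPre x).map (shUnit.app Q)) ≫ (stalkTensorIso x P _).hom from
        (Iso.eq_inv_comp _).2 h.symm]
    have e : IsIso ((stalkPre x).obj P ◁ (stalkPre x).map (shUnit.app Q)) := inferInstance
    exact @IsIso.comp_isIso _ _ _ _ _ _ _ _ (@IsIso.comp_isIso _ _ _ _ _ _ _ e _)

/-- The comparison from the sheafified triple tensor product of presheaves, bracketed to the left. -/
noncomputable def tensor12Iso (M N P : X.Modules) :
    DCoh.shP.obj ((DCoh.toP.obj M ⊗ DCoh.toP.obj N) ⊗ DCoh.toP.obj P) ≅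
      ((DCoh.tensorBi (X := X)).obj (((DCoh.tensorBi (X := X)).obj M).obj N)).obj P :=
  @asIso _ _ _ _ (DCoh.shP.map (shUnit.app (DCoh.toP.obj M ⊗ DCoh.toP.obj N) ▷ DCoh.toP.obj P))
    (isIso_shP_whiskerRight (DCoh.toP.obj M ⊗ DCoh.toP.obj N) (DCoh.toP.obj P))

/-- The comparison from the sheafified triple tensor product of presheaves, bracketed to the right. -/
noncomputable def tensor23Iso (M N P : X.Modules) :
    DCoh.shP.obj (DCoh.toP.obj M ⊗ (DCoh.toP.obj N ⊗ DCoh.toP.obj P)) ≅
      ((DCoh.tensorBi (X := X)).obj M).obj (((DCoh.tensorBi (X := X)).obj N).obj P) :=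
  @asIso _ _ _ _ (DCoh.shP.map (DCoh.toP.obj M ◁ shUnit.app (DCoh.toP.obj N ⊗ DCoh.toP.obj P)))
    (isIso_shP_whiskerLeft (DCoh.toP.obj M) (DCoh.toP.obj N ⊗ DCoh.toP.obj P))

/-- The associator of the tensor product of O_X-modules. -/
noncomputable def tensorAssoc (M N P : X.Modules) :
    ((DCoh.tensorBi (X := X)).obj (((DCoh.tensorBi (X := X)).obj M).obj N)).obj P ≅
      ((DCoh.tensorBi (X := X)).obj M).obj (((DCoh.tensorBi (X := X)).obj N).obj P) :=
  (tensor12Iso M N P).symm ≪≫ DCoh.shP.mapIso (α_ _ _ _) ≪≫ tensor23Iso M N P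

/-- A morphism of tensor products. -/
noncomputable abbrev tMap {M M' N N' : X.Modules} (f : M ⟶ M') (g : N ⟶ N') :
    ((DCoh.tensorBi (X := X)).obj M).obj N ⟶ ((DCoh.tensorBi (X := X)).obj M').obj N' :=
  DCoh.shP.map (DCoh.toP.map f ⊗ₘ DCoh.toP.map g)

theorem tMap_right (M : X.Modules) {N N' : X.Modules} (g : N ⟶ N') :
    ((DCoh.tensorBi (X := X)).obj M).map g = tMap (𝟙 M) g := by
  rw [tMap, CategoryTheory.Functor.map_id, id_tensorHom]
  rfl

theorem tMap_left {M M' : X.Modules} (f : M ⟶ M') (N : X.Modules) :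
    ((DCoh.tensorBi (X := X)).map f).app N = tMap f (𝟙 N) := by
  rw [tMap, CategoryTheory.Functor.map_id, tensorHom_id]
  rfl

theorem tensorAssoc_natural {M M' N N' P P' : X.Modules} (f : M ⟶ M') (g : N ⟶ N') (h : P ⟶ P') :
    tMap (tMap f g) h ≫ (tensorAssoc M' N' P').hom = (tensorAssoc M N P).hom ≫ tMap f (tMap g h) := by
  let a := DCoh.toP.map f
  let b := DCoh.toP.map g
  let c := DCoh.toP.map h
  have h12 : (tensor12Iso M N P).hom ≫ tMap (tMap f g) h =
      DCoh.shP.map ((a ⊗ₘ b) ⊗ₘ c) ≫ (tensor12Iso M' N' P').hom := by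
    change DCoh.shP.map _ ≫ DCoh.shP.map _ = DCoh.shP.map _ ≫ DCoh.shP.map _
    refine (DCoh.shP.map_comp _ _).symm.trans (Eq.trans ?_ (DCoh.shP.map_comp _ _))
    refine congrArg DCoh.shP.map ?_
    rw [← tensorHom_id, ← tensorHom_id]
    refine (tensorHom_comp_tensorHom _ _ _ _).trans (Eq.trans ?_ (tensorHom_comp_tensorHom _ _ _ _).symm)
    refine (congrArg (_ ⊗ₘ ·) (Category.id_comp _)).trans (Eq.trans ?_ (congrArg (_ ⊗ₘ ·) (Category.comp_id _)).symm)
    exact congrArg (· ⊗ₘ c) (shUnit.naturality (a ⊗ₘ b)).symm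
  have h23 : (tensor23Iso M N P).hom ≫ tMap f (tMap g h) =
      DCoh.shP.map (a ⊗ₘ (b ⊗ₘ c)) ≫ (tensor23Iso M' N' P').hom := by
    change DCoh.shP.map _ ≫ DCoh.shP.map _ = DCoh.shP.map _ ≫ DCoh.shP.map _
    refine (DCoh.shP.map_comp _ _).symm.trans (Eq.trans ?_ (DCoh.shP.map_comp _ _))
    refine congrArg DCoh.shP.map ?_
    rw [← id_tensorHom, ← id_tensorHom]
    refine (tensorHom_comp_tensorHom _ _ _ _).trans (Eq.trans ?_ (tensorHom_comp_tensorHom _ _ _ _).symm)
    refine (congrArg (· ⊗ₘ _) (Category.id_comp _)).trans (Eq.trans ?_ (congrArg (· ⊗ₘ _) (Category.comp_id _)).symm)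
    exact congrArg (a ⊗ₘ ·) (shUnit.naturality (b ⊗ₘ c)).symm
  rw [← cancel_epi (tensor12Iso M N P).hom, reassoc_of% h12]
  simp only [tensorAssoc, Iso.trans_hom, Iso.symm_hom, Functor.mapIso_hom, Category.assoc, Iso.hom_inv_id_assoc]
  rw [h23, ← Functor.map_comp_assoc, associator_naturality, Functor.map_comp_assoc]

theorem tMap_id (M N : X.Modules) : tMap (𝟙 M) (𝟙 N) = 𝟙 _ := by
  rw [tMap, CategoryTheory.Functor.map_id, CategoryTheory.Functor.map_id, id_tensorHom_id]
  exact DCoh.shP.map_id _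

theorem tensorAssoc_natural₃ (M N : X.Modules) {P P' : X.Modules} (h : P ⟶ P') :
    ((bifunctorComp₁₂ (DCoh.tensorBi (X := X)) DCoh.tensorBi).obj M |>.obj N).map h ≫ (tensorAssoc M N P').hom =
      (tensorAssoc M N P).hom ≫
        ((bifunctorComp₂₃ (DCoh.tensorBi (X := X)) DCoh.tensorBi).obj M |>.obj N).map h := by
  change ((DCoh.tensorBi (X := X)).obj _).map h ≫ _ =
    _ ≫ ((DCoh.tensorBi (X := X)).obj M).map (((DCoh.tensorBi (X := X)).obj N).map h)
  rw [tMap_right, tMap_right, tMap_right, ← tensorAssoc_natural]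
  exact congrArg (· ≫ _) (congrArg (tMap · h) (tMap_id M N).symm)

theorem tensorAssoc_natural₂ (M : X.Modules) {N N' : X.Modules} (g : N ⟶ N') (P : X.Modules) :
    (((bifunctorComp₁₂ (DCoh.tensorBi (X := X)) DCoh.tensorBi).obj M).map g).app P ≫ (tensorAssoc M N' P).hom =
      (tensorAssoc M N P).hom ≫
        (((bifunctorComp₂₃ (DCoh.tensorBi (X := X)) DCoh.tensorBi).obj M).map g).app P := by
  change ((DCoh.tensorBi (X := X)).map (((DCoh.tensorBi (X := X)).obj M).map g)).app P ≫ _ =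
    _ ≫ ((DCoh.tensorBi (X := X)).obj M).map (((DCoh.tensorBi (X := X)).map g).app P)
  rw [tMap_left, tMap_right, tMap_right, tMap_left]
  exact tensorAssoc_natural _ _ _

theorem tensorAssoc_natural₁ {M M' : X.Modules} (f : M ⟶ M') (N P : X.Modules) :
    (((bifunctorComp₁₂ (DCoh.tensorBi (X := X)) DCoh.tensorBi).map f).app N).app P ≫
        (tensorAssoc M' N P).hom =
      (tensorAssoc M N P).hom ≫
        (((bifunctorComp₂₃ (DCoh.tensorBi (X := X)) DCoh.tensorBi).map f).app N).app P := by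
  change ((DCoh.tensorBi (X := X)).map (((DCoh.tensorBi (X := X)).map f).app N)).app P ≫ _ =
    _ ≫ ((DCoh.tensorBi (X := X)).map f).app (((DCoh.tensorBi (X := X)).obj N).obj P)
  rw [tMap_left, tMap_left, tMap_left]
  exact (tensorAssoc_natural _ _ _).trans (congrArg (_ ≫ ·) (congrArg (tMap f) (tMap_id N P)))

/-- The associator as an isomorphism of trifunctors. -/
noncomputable def tensorAssocNatIso :
    bifunctorComp₁₂ (DCoh.tensorBi (X := X)) DCoh.tensorBi ≅
      bifunctorComp₂₃ (DCoh.tensorBi (X := X)) DCoh.tensorBi :=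
  NatIso.ofComponents
    (fun M => NatIso.ofComponents
      (fun N => NatIso.ofComponents (fun P => tensorAssoc M N P) (fun h => tensorAssoc_natural₃ M N h))
      (fun g => NatTrans.ext (funext fun P => tensorAssoc_natural₂ M g P)))
    (fun f => NatTrans.ext (funext fun N => NatTrans.ext (funext fun P => tensorAssoc_natural₁ f N P)))

instance preservesSmallestColimits_tensorBi_flip_obj (N : X.Modules) :
    PreservesColimitsOfSize.{0, 0} ((DCoh.tensorBi (X := X)).flip.obj N) :=
  preservesSmallestColimits_of_preservesColimits _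

/-- Associativity of the tensor product of complexes. -/
noncomputable def tensorCxAssoc (K L M : CochainComplex X.Modules ℤ) :
    ((DCoh.tensorCx (X := X)).obj (((DCoh.tensorCx (X := X)).obj K).obj L)).obj M ≅
      ((DCoh.tensorCx (X := X)).obj K).obj (((DCoh.tensorCx (X := X)).obj L).obj M) :=
  HomologicalComplex.mapBifunctorAssociator (tensorAssocNatIso (X := X)) K L M
    (ComplexShape.up ℤ) (ComplexShape.up ℤ) (ComplexShape.up ℤ)

/-- A tensor product of K-flat complexes is K-flat. -/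
theorem isKFlat_tensor {K L : CochainComplex X.Modules ℤ} (hK : DCoh.IsKFlat K) (hL : DCoh.IsKFlat L) :
    DCoh.IsKFlat (((DCoh.tensorCx (X := X)).obj K).obj L) :=
  (isKFlat_iff _).2 fun A hA => DerCat.acyclic_of_iso (tensorCxAssoc A K L)
    ((isKFlat_iff L).1 hL _ ((isKFlat_iff K).1 hK A hA))

end GrothLib.OX
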