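import Groth.Agent.Lib.OX.LTensorCx
import Groth.Agent.Lib.OX.LocFreeTensor
import Mathlib.Algebra.Homology.HomotopyCategory.DegreewiseSplit
import Mathlib.Algebra.Homology.HomotopyCategory.KInjective

/-! # K-injective complexes tensored with bounded free complexes -/

set_option autoImplicit false
set_option maxHeartbeats 1000000
universe v u

open CategoryTheory CategoryTheory.Limits CategoryTheory.Pretriangulated MonoidalCategory AlgebraicGeometry
  HomologicalComplex

namespace GrothLib.OX

/-- K-injective with injective terms. -/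
structure InjK {A : Type u} [Category.{v} A] [Abelian A] (L : CochainComplex A ℤ) : Prop where
  terms : ∀ n, Injective (L.X n)
  kInj : L.IsKInjective

namespace InjK

variable {A : Type u} [Category.{v} A] [Abelian A]

theorem of_iso {L L' : CochainComplex A ℤ} (e : L ≅ L') (h : InjK L) : InjK L' :=
  ⟨fun n => Injective.of_iso ((HomologicalComplex.eval _ _ n).mapIso e) (h.terms n),
    have := h.kInj; CochainComplex.isKInjective_of_iso e⟩

theorem shift {L : CochainComplex A ℤ} (h : InjK L) (n : ℤ) : InjK (L⟦n⟧) :=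
  ⟨fun i => Injective.of_iso (L.shiftFunctorObjXIso n i _ rfl).symm (h.terms _),
    have := h.kInj; inferInstance⟩

theorem of_decomposition {L : CochainComplex A ℤ} {ι : Type} [Fintype ι] (M : ι → CochainComplex A ℤ)
    (r : ∀ i, L ⟶ M i) (s : ∀ i, M i ⟶ L) (hrs : ∑ i, r i ≫ s i = 𝟙 L) (h : ∀ i, InjK (M i)) : InjK L := by
  refine ⟨fun n => ⟨fun {Z Y} g f hf => ?_⟩, ?_⟩
  · choose t ht using fun i => (h i).terms n |>.factors (g ≫ (r i).f n) f
    refine ⟨∑ i, t i ≫ (s i).f n, ?_⟩
    have h1 : (∑ i, r i ≫ s i).f n = 𝟙 (L.X n) := by rw [hrs]; rfl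
    rw [← Category.comp_id g, ← h1]
    have h2 : (∑ i, r i ≫ s i).f n = ∑ i, (r i).f n ≫ (s i).f n :=
      (HomologicalComplex.eval A (ComplexShape.up ℤ) n).map_sum _ _
    rw [h2, Preadditive.comp_sum, Preadditive.comp_sum]
    exact Finset.sum_congr rfl fun i _ => by rw [← Category.assoc f, ht i, Category.assoc]
  · refine (CochainComplex.isKInjective_iff_rightOrthogonal L).2 fun K f hK => ?_
    let Φ := HomotopyCategory.quotient A (ComplexShape.up ℤ)
    have h1 : ∑ i, Φ.map (r i) ≫ Φ.map (s i) = 𝟙 (Φ.obj L) := by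
      rw [← Φ.map_id, ← hrs, Φ.map_sum]
      exact Finset.sum_congr rfl fun i _ => (Φ.map_comp _ _).symm
    rw [← Category.comp_id f, ← h1, Preadditive.comp_sum]
    refine Finset.sum_eq_zero fun i _ => ?_
    have := (h i).kInj
    rw [← Category.assoc, CochainComplex.IsKInjective.rightOrthogonal (M i) (f ≫ Φ.map (r i)) hK, zero_comp]

theorem extension {S : ShortComplex (CochainComplex A ℤ)} (hS : S.ShortExact) (h₁ : InjK S.X₁) (h₃ : InjK S.X₃) :
    InjK S.X₂ := by
  have hn := fun n => hS.map_of_exact (HomologicalComplex.eval A (ComplexShape.up ℤ) n)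
  let σ : ∀ n, (S.map (HomologicalComplex.eval A (ComplexShape.up ℤ) n)).Splitting := fun n =>
    @ShortComplex.ShortExact.splittingOfInjective _ _ _ _ (hn n) (h₁.terms n) _
  refine ⟨fun n => ?_, (CochainComplex.isKInjective_iff_rightOrthogonal _).2 ?_⟩
  · have := h₁.terms n
    have := h₃.terms n
    exact Injective.of_iso (σ n).isoBinaryBiproduct.symm (inferInstanceAs (Injective (S.X₁.X n ⊞ S.X₃.X n)))
  · have := h₁.kInj
    have := h₃.kInj
    exact ObjectProperty.ext_of_isTriangulatedClosed₂ _ (CochainComplex.trianglehOfDegreewiseSplit S σ)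
      ((HomotopyCategory.distinguished_iff_iso_trianglehOfDegreewiseSplit _).2 ⟨S, σ, ⟨Iso.refl _⟩⟩)
      (CochainComplex.IsKInjective.rightOrthogonal S.X₁) (CochainComplex.IsKInjective.rightOrthogonal S.X₃)

theorem of_isZero {L : CochainComplex A ℤ} (h : IsZero L) : InjK L :=
  of_decomposition (ι := Empty) (fun e => e.elim) (fun e => e.elim) (fun e => e.elim)
    (by simpa using (h.eq_of_src _ _)) fun e => e.elim

end InjK

variable {X : Scheme.{u}}

/-- The unit law, naturally. -/
noncomputable def tensorUnitNatIso : (DCoh.tensorBi (X := X)).obj (Coh.structureModule X) ≅ 𝟭 X.Modules :=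
  NatIso.ofComponents tensorUnitLeftIso fun {M N} g => by
    let adj := PresheafOfModules.sheafificationAdjunction (R := X.ringCatSheaf) (𝟙 X.ringCatSheaf.obj)
    let l := fun M : X.Modules => (show DCoh.toP.obj (Coh.structureModule X) ⊗ DCoh.toP.obj M ≅ DCoh.toP.obj M from
      λ_ (DCoh.toP.obj M))
    change DCoh.shP.map (DCoh.toP.obj (Coh.structureModule X) ◁ DCoh.toP.map g) ≫
        DCoh.shP.map (l N).hom ≫ adj.counit.app N = (DCoh.shP.map (l M).hom ≫ adj.counit.app M) ≫ g
    have h1 : DCoh.toP.obj (Coh.structureModule X) ◁ DCoh.toP.map g ≫ (l N).hom = (l M).hom ≫ DCoh.toP.map g :=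
      leftUnitor_naturality (DCoh.toP.map g)
    refine (Category.assoc _ _ _).symm.trans ((congrArg (· ≫ _) ((DCoh.shP.map_comp _ _).symm.trans
      ((congrArg DCoh.shP.map h1).trans (DCoh.shP.map_comp _ _)))).trans ?_)
    exact (Category.assoc _ _ _).trans ((congrArg (_ ≫ ·) (adj.counit.naturality g)).trans
      (Category.assoc _ _ _).symm)

/-- Coproducts over `Fin n` decompose. -/
theorem sigma_pi_total {C : Type*} [Category C] [Preadditive C] {n : ℕ} (M : Fin n → C) [HasCoproduct M] :
    ∑ i, Sigma.π M i ≫ Sigma.ι M i = 𝟙 (∐ M) := by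
  refine Sigma.hom_ext _ _ fun j => ?_
  rw [Preadditive.comp_sum, Finset.sum_eq_single j, Sigma.ι_π_eq_id_assoc, Category.comp_id]
  · intro b _ hb
    rw [Sigma.ι_π_of_ne_assoc _ (Ne.symm hb), zero_comp]
  · simp

theorem injK_tensor_free {I : CochainComplex X.Modules ℤ} (hI : InjK I) {M : X.Modules} {n : ℕ}
    (e : M ≅ FlatMod.freeMod X n) :
    InjK ((((DCoh.tensorBi (X := X)).flip.obj M).mapHomologicalComplex (ComplexShape.up ℤ)).obj I) := by
  classical
  let T := (DCoh.tensorBi (X := X)).flip
  let F : Fin n → X.Modules := fun _ => Coh.structureModule X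
  let m := fun {A B : X.Modules} (g : A ⟶ B) =>
    (NatTrans.mapHomologicalComplex (T.map g) (ComplexShape.up ℤ)).app I
  have hu : T.obj (Coh.structureModule X) ≅ 𝟭 X.Modules :=
    (tensorBraiding (X := X)).app _ ≪≫ tensorUnitNatIso
  have hfree : InjK (((T.obj (∐ F)).mapHomologicalComplex (ComplexShape.up ℤ)).obj I) := by
    refine InjK.of_decomposition (fun i => ((T.obj (F i)).mapHomologicalComplex _).obj I)
      (fun i => m (Sigma.π F i)) (fun i => m (Sigma.ι F i)) ?_ fun i => ?_
    · refine HomologicalComplex.hom_ext _ _ fun k => ?_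
      refine ((HomologicalComplex.eval X.Modules (ComplexShape.up ℤ) k).map_sum _ _).trans ?_
      have hT : ((DCoh.tensorBi (X := X)).obj (I.X k)).map (∑ i, Sigma.π F i ≫ Sigma.ι F i) = 𝟙 _ := by
        rw [sigma_pi_total F]; exact CategoryTheory.Functor.map_id _ _
      rw [Functor.map_sum] at hT
      simp only [Functor.map_comp] at hT
      exact hT
    · exact InjK.of_iso (((NatIso.mapHomologicalComplex hu (ComplexShape.up ℤ)).app I).symm)
        (InjK.of_iso ((Functor.mapHomologicalComplexIdIso X.Modules (ComplexShape.up ℤ)).app I).symm hI)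
  exact InjK.of_iso ((NatIso.mapHomologicalComplex (T.mapIso e.symm) (ComplexShape.up ℤ)).app I) hfree

theorem injK_tensor_single {I : CochainComplex X.Modules ℤ} (hI : InjK I) (a : ℤ) {M : X.Modules} {n : ℕ}
    (e : M ≅ FlatMod.freeMod X n) :
    InjK (((DCoh.tensorCx (X := X)).obj I).obj ((single X.Modules (ComplexShape.up ℤ) a).obj M)) := by
  refine InjK.of_iso ?_ ((injK_tensor_free hI e).shift (-a))
  exact (shiftFunctor _ (-a)).mapIso (singleIso I M) ≪≫
    ((((DCoh.tensorCx (X := X)).obj I).commShiftIso (-a)).app _).symm ≪≫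
    ((DCoh.tensorCx (X := X)).obj I).mapIso
      (((CochainComplex.singleFunctors X.Modules).shiftIso (-a) a 0 (by omega)).app M)

theorem flat_of_iso_free {M : X.Modules} {n : ℕ} (e : M ≅ FlatMod.freeMod X n) : FlatMod.IsFlat M :=
  flat_of_iso e.symm (flat_freeMod X n)

/-- **A K-injective complex of injectives tensored with a bounded complex of finite free modules is K-injective.** -/
theorem injK_tensor_of_bounded {I : CochainComplex X.Modules ℤ} (hI : InjK I) :
    ∀ (m : ℕ) (E : CochainComplex X.Modules ℤ) (a : ℤ), (∀ i : ℤ, i < a ∨ a + m ≤ i → IsZero (E.X i)) →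
      (∀ i, IsZero (E.X i) ∨ ∃ n, Nonempty (E.X i ≅ FlatMod.freeMod X n)) →
      InjK (((DCoh.tensorCx (X := X)).obj I).obj E)
  | 0, E, a, hE, _ => InjK.of_isZero (((DCoh.tensorCx (X := X)).obj I).map_isZero (by
      rw [IsZero.iff_id_eq_zero]
      exact HomologicalComplex.hom_ext _ _ fun i => (hE i (by omega)).eq_of_src _ _))
  | m + 1, E, a, hE, hX => by
    let T := (DCoh.tensorCx (X := X)).obj I
    let p : E ⟶ (single X.Modules (ComplexShape.up ℤ) a).obj (E.X a) :=
      mkHomToSingle (𝟙 _) fun i hi => (hE i (Or.inl (by simp at hi; omega))).eq_of_src _ _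
    have hp : p.f a = (singleObjXSelf (ComplexShape.up ℤ) a (E.X a)).inv := by simp [p]
    have : Epi p := by
      refine @epi_of_epi_f _ _ _ _ _ _ _ p fun i => ?_
      by_cases h : i = a
      · subst h; rw [hp]; infer_instance
      · exact ⟨fun g g' _ => (isZero_single_obj_X _ _ _ _ h).eq_of_src g g'⟩
    let S : ShortComplex (CochainComplex X.Modules ℤ) := ShortComplex.mk (kernel.ι p) p (kernel.condition p)
    have hS : S.ShortExact := { exact := ShortComplex.exact_kernel p }
    have h3 : InjK (T.obj S.X₃) ∧ FlatTerms S.X₃ := by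
      rcases hX a with h | ⟨n, ⟨e⟩⟩
      · refine ⟨InjK.of_isZero (T.map_isZero ((single X.Modules _ a).map_isZero h)), flatTerms_single _ ?_ a⟩
        exact flat_of_iso (IsZero.iso (isZero_initial_free X) h) (flat_freeMod X 0)
      · exact ⟨injK_tensor_single hI a e, flatTerms_single _ (flat_of_iso_free e) a⟩
    refine InjK.extension (tensorCx_shortExact_of_flat hS h3.2 I) ?_ h3.1
    let e : ∀ i, (kernel p).X i ≅ kernel (p.f i) := fun i =>
      PreservesKernel.iso (HomologicalComplex.eval X.Modules (ComplexShape.up ℤ) i) p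
    have hz : IsZero ((kernel p).X a) := by
      have : IsIso (p.f a) := by rw [hp]; infer_instance
      exact (isZero_kernel_of_mono (p.f a)).of_iso (e a)
    have hK : ∀ i, i ≠ a → Nonempty ((kernel p).X i ≅ E.X i) := fun i hi => by
      have h0 : p.f i = 0 := (isZero_single_obj_X _ _ _ _ hi).eq_of_tgt _ _
      exact ⟨e i ≪≫ eqToIso (by rw [h0]) ≪≫ kernelZeroIsoSource⟩
    refine injK_tensor_of_bounded hI m (kernel p) (a + 1) (fun i hi => ?_) (fun i => ?_)
    · rcases eq_or_ne i a with rfl | h
      · exact hz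
      · obtain ⟨ei⟩ := hK i h
        exact (hE i (by omega)).of_iso ei
    · rcases eq_or_ne i a with rfl | h
      · exact Or.inl hz
      · obtain ⟨ei⟩ := hK i h
        rcases hX i with h' | ⟨n, ⟨e'⟩⟩
        · exact Or.inl (h'.of_iso ei)
        · exact Or.inr ⟨n, ⟨ei ≪≫ e'⟩⟩
where
  isZero_initial_free (X : Scheme.{u}) : IsZero (FlatMod.freeMod X 0) := by
    rw [IsZero.iff_id_eq_zero]
    exact Sigma.hom_ext _ _ fun i => i.elim0

end GrothLib.OX
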