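import Groth.Agent.Lib.OX.AffineSections
import Groth.Agent.Lib.OX.SumSections
import Groth.Agent.Lib.QCoh.Extension
import Groth.Agent.Lib.OX.RpushQCoh
import Groth.Agent.Lib.SiteDer.LocallyZero
import Groth.Agent.Lib.SiteDer.Push

/-! # Complexes with quasi-coherent terms compute on affine opens -/

set_option autoImplicit false
set_option maxHeartbeats 1000000
universe u

open CategoryTheory CategoryTheory.Limits AlgebraicGeometry Opposite TopologicalSpace HomologicalComplex
open DerivedCategory (Q Qh singleFunctor homologyFunctor homologyFunctorFactors)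

attribute [local instance] HasDerivedCategory.standard

namespace GrothLib.OX

variable {X S : Scheme.{u}}

/-- Generators at affine opens are projective with respect to quasi-coherent modules. -/
theorem exists_lift_gen_of_epi {V : X.Opens} (hV : IsAffineOpen V) {M N : X.Modules} (hM : Coh.IsQCoh M)
    (hN : Coh.IsQCoh N) (p : M ⟶ N) [Epi p] (g : (genF X).obj V ⟶ N) :
    ∃ g' : (genF X).obj V ⟶ M, g' ≫ p = g := by
  have := hM; have := hN
  let T := ShortComplex.mk (kernel.ι p) p (kernel.condition p)
  have hT : T.ShortExact :=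
    { exact := ShortComplex.exact_of_f_is_kernel _ (kernelIsKernel p)
      mono_f := inferInstanceAs (Mono (kernel.ι p))
      epi_g := inferInstanceAs (Epi p) }
  have : T.X₁.IsQuasicoherent := QCoh.isQuasicoherent_kernel p
  obtain ⟨t, ht⟩ := QCoh.app_surjective_of_isAffineOpen hT hV (genSec N V g)
  refine ⟨(genSec M V).symm t, (genSec N V).injective ?_⟩
  refine (SiteDer.secMod_comp V _ p).trans ?_
  exact (congrArg _ ((genSec M V).apply_symm_apply t)).trans ht

variable (F : CochainComplex X.Modules ℤ) (hF : ∀ n, Coh.IsQCoh (F.X n))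
include hF

theorem isQCoh_cycles (k : ℤ) : Coh.IsQCoh (F.cycles k) := by
  have := hF k
  have := hF (k + 1)
  exact isQCoh_of_iso (IsLimit.conePointUniqueUpToIso (kernelIsKernel (F.d k (k + 1)))
    (F.cyclesIsKernel k (k + 1) (by simp))) (QCoh.isQuasicoherent_kernel _)

theorem isQCoh_homology (k : ℤ) : Coh.IsQCoh (F.homology k) := by
  have := hF (k - 1)
  have : (F.cycles k).IsQuasicoherent := isQCoh_cycles F hF k
  exact isQCoh_of_iso (IsColimit.coconePointUniqueUpToIso (cokernelIsCokernel (F.toCycles (k - 1) k))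
    (F.homologyIsCokernel (k - 1) k (by simp))) (QCoh.isQuasicoherent_cokernel _)

theorem isQCohD_Q : DCoh.IsQCohD (DCoh.toD X F) := fun k =>
  isQCoh_of_iso ((homologyFunctorFactors X.Modules k).app F).symm (isQCoh_homology F hF k)

/-- Classes on affine opens are chain maps out of the generator. -/
theorem exists_theta_qcoh {V : X.Opens} (hV : IsAffineOpen V) (k : ℤ)
    (g : (genF X).obj V ⟶ DCoh.HD (DCoh.toD X F) k) :
    ∃ ψ : (HomologicalComplex.single X.Modules (ComplexShape.up ℤ) k).obj ((genF X).obj V) ⟶ F,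
      SiteDer.theta (SiteDer.ofChain ψ) = g := by
  obtain ⟨z, hz⟩ := exists_lift_gen_of_epi hV (isQCoh_cycles F hF k) (isQCoh_homology F hF k) (F.homologyπ k)
    (g ≫ (homologyFunctorFactors X.Modules k).hom.app F)
  refine ⟨HomologicalComplex.mkHomFromSingle (z ≫ F.iCycles k) (fun i _ => by simp), ?_⟩
  rw [SiteDer.theta_ofChain _ z (by simp), ← Category.assoc, hz]
  exact (Category.assoc _ _ _).trans ((congrArg (g ≫ ·)
    ((homologyFunctorFactors X.Modules k).hom_inv_id_app F)).trans (Category.comp_id g))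

/-- A chain map out of a generator at an affine open with zero class is null-homotopic. -/
theorem nonempty_homotopy_of_theta_qcoh {V : X.Opens} (hV : IsAffineOpen V) (k : ℤ)
    (ψ : (HomologicalComplex.single X.Modules (ComplexShape.up ℤ) k).obj ((genF X).obj V) ⟶ F)
    (hψ : SiteDer.theta (SiteDer.ofChain ψ) = 0) : Nonempty (Homotopy ψ 0) := by
  let z : (genF X).obj V ⟶ F.cycles k := F.liftCycles
    ((HomologicalComplex.singleObjXSelf (ComplexShape.up ℤ) k _).inv ≫ ψ.f k) (k + 1)
    (by simp) (by rw [Category.assoc, ψ.comm k (k + 1)]; simp)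
  rw [SiteDer.theta_ofChain ψ z (by simp [z])] at hψ
  have hz : z ≫ F.homologyπ k = 0 := by
    let u : F.homology k ⟶ (homologyFunctor X.Modules k).obj (Q.obj F) :=
      (homologyFunctorFactors X.Modules k).inv.app F
    have : IsIso u := inferInstanceAs (IsIso ((homologyFunctorFactors X.Modules k).app F).inv)
    exact Limits.zero_of_comp_mono u ((Category.assoc _ _ _).trans hψ)
  have hex : (ShortComplex.mk (F.toCycles (k - 1) k) (F.homologyπ k)
      (F.toCycles_comp_homologyπ (k - 1) k)).Exact :=
    ShortComplex.exact_of_g_is_cokernel _ (F.homologyIsCokernel (k - 1) k (by simp))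
  have hepi : Epi (kernel.lift (F.homologyπ k) (F.toCycles (k - 1) k) (F.toCycles_comp_homologyπ (k - 1) k)) :=
    hex.epi_kernelLift
  have := isQCoh_cycles F hF k
  have : (F.homology k).IsQuasicoherent := isQCoh_homology F hF k
  have : (F.cycles k).IsQuasicoherent := isQCoh_cycles F hF k
  obtain ⟨y, hy0⟩ := exists_lift_gen_of_epi hV (hF (k - 1)) (QCoh.isQuasicoherent_kernel (F.homologyπ k))
    (kernel.lift (F.homologyπ k) (F.toCycles (k - 1) k) (F.toCycles_comp_homologyπ (k - 1) k))
    (kernel.lift (F.homologyπ k) z hz)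
  have hy : y ≫ F.toCycles (k - 1) k = z := by
    have := congrArg (· ≫ kernel.ι (F.homologyπ k)) hy0
    simpa using this
  let H : ∀ i l : ℤ, (ComplexShape.up ℤ).Rel l i →
      (((HomologicalComplex.single X.Modules (ComplexShape.up ℤ) k).obj ((genF X).obj V)).X i ⟶ F.X l) :=
    fun i l hil => if hi : i = k then
      (HomologicalComplex.singleObjXIsoOfEq (ComplexShape.up ℤ) k ((genF X).obj V) i hi).hom ≫ y ≫
        (F.XIsoOfEq (show k - 1 = l by simp at hil; omega)).hom else 0
  suffices e : ψ = Homotopy.nullHomotopicMap' H by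
    rw [e]; exact ⟨Homotopy.nullHomotopy' H⟩
  apply HomologicalComplex.from_single_hom_ext
  rw [Homotopy.nullHomotopicMap'_f (show (ComplexShape.up ℤ).Rel (k - 1) k by simp)
    (show (ComplexShape.up ℤ).Rel k (k + 1) by simp)]
  simp only [H, dif_pos]
  have hy' := congrArg (fun t => t ≫ F.iCycles k) hy
  simp [z] at hy'
  simp
  erw [hy']
  simp [HomologicalComplex.singleObjXSelf]

omit hF in
theorem Qh_map_quotient {A B : CochainComplex X.Modules ℤ} (ψ : A ⟶ B) :
    DerivedCategory.Qh.map ((HomotopyCategory.quotient X.Modules (ComplexShape.up ℤ)).map ψ) = Q.map ψ := rfl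

/-- **A complex of quasi-coherent modules computes maps from generators at affine opens.** -/
theorem bijective_Qh_gen_qcoh {V : X.Opens} (hV : IsAffineOpen V) (k : ℤ) :
    Function.Bijective (DerivedCategory.Qh.map :
      (SiteDer.genK X.sheaf V k ⟶ (HomotopyCategory.quotient _ _).obj F) → _) := by
  constructor
  · intro a b hab
    obtain ⟨ψ, rfl⟩ := (HomotopyCategory.quotient X.Modules (ComplexShape.up ℤ)).map_surjective
      (X := (HomologicalComplex.single X.Modules (ComplexShape.up ℤ) k).obj ((genF X).obj V)) (Y := F) a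
    obtain ⟨ψ', rfl⟩ := (HomotopyCategory.quotient X.Modules (ComplexShape.up ℤ)).map_surjective
      (X := (HomologicalComplex.single X.Modules (ComplexShape.up ℤ) k).obj ((genF X).obj V)) (Y := F) b
    have h0 : Q.map (ψ - ψ') = 0 := by
      rw [Functor.map_sub, sub_eq_zero]
      exact hab
    obtain ⟨h⟩ := nonempty_homotopy_of_theta_qcoh F hF hV k (ψ - ψ')
      ((congrArg SiteDer.theta h0).trans SiteDer.theta_zero)
    exact HomotopyCategory.eq_of_homotopy _ _ (Homotopy.equivSubZero.symm h)
  · intro φ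
    obtain ⟨ψ, hψ⟩ := exists_theta_qcoh F hF hV k
      (SiteDer.theta (X := (genF X).obj V) (E := DCoh.toD X F) (j := k) φ)
    exact ⟨(HomotopyCategory.quotient _ _).map ψ, (theta_bijective hV (isQCohD_Q F hF) k).1 hψ⟩

end GrothLib.OX

namespace GrothLib.OX

variable {X S : Scheme.{u}}

/-- A map is inverted in the derived category when it is bijective on maps from generators at affine opens. -/
theorem isIso_Qh_map_of_affine {A B : HomotopyCategory S.Modules (ComplexShape.up ℤ)} (η : A ⟶ B)
    (h : ∀ W : S.Opens, IsAffineOpen W → ∀ k, Function.Bijective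
      (fun φ : ((HomotopyCategory.singleFunctors S.Modules).functor k).obj ((genF S).obj W) ⟶ A => φ ≫ η)) :
    IsIso (DerivedCategory.Qh.map η) := by
  obtain ⟨C, g, c, hT⟩ := Pretriangulated.distinguished_cocone_triangle η
  refine Localization.inverts (DerivedCategory.Qh (C := S.Modules)) (HomotopyCategory.subcategoryAcyclic S.Modules).trW _
    (ObjectProperty.trW.mk _ hT ?_)
  have hzero : ∀ W : S.Opens, IsAffineOpen W → ∀ k,
      ∀ φ : ((HomotopyCategory.singleFunctors S.Modules).functor k).obj ((genF S).obj W) ⟶ C, φ = 0 :=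
    fun W hW k => SiteDer.eq_zero_cone_of_bijective ((genF S).obj W) η hT (h W hW) k
  change HomotopyCategory.subcategoryAcyclic S.Modules C
  obtain ⟨K, rfl⟩ := HomotopyCategory.quotient_obj_surjective C
  rw [HomotopyCategory.quotient_obj_mem_subcategoryAcyclic_iff_exactAt]
  intro k
  rw [HomologicalComplex.exactAt_iff_isZero_homology]
  refine (isLocGen_genF (X := S)).isZero fun U g => (isLocGen_genF (X := S)).sep g ?_
  obtain ⟨R, hR, hRP⟩ := (isLocGen_genF (X := S)).lift (K.homologyπ k) g
  refine SiteDer.Locally.trans (fun V W f b hf => ?_) hR fun V f hf => ?_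
  · rw [Functor.map_comp, Category.assoc, hf, comp_zero]
  obtain ⟨z, hz⟩ := hRP f hf
  refine SiteDer.Locally.trans_family (fun V' V'' f' b hf' => ?_)
    (ι := {W : S.affineOpens // W.1 ≤ V}) (fun W => homOfLE W.2) ?_ fun W => SiteDer.Locally.of_forall fun T b => ?_
  · rw [Category.assoc, Functor.map_comp, Category.assoc, hf', comp_zero]
  · intro x hx
    obtain ⟨W, hW, hxW, hWV⟩ := exists_isAffineOpen_mem_and_subset (x := x) (U := V) hx
    exact ⟨W, homOfLE hWV, Sieve.ofArrows_mk (fun W : {W : S.affineOpens // W.1 ≤ V} => W.1.1)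
      (fun W => homOfLE W.2) ⟨⟨W, hW⟩, hWV⟩, hxW⟩
  · let z' := (genF S).map (homOfLE W.2) ≫ z
    let ψ : (HomologicalComplex.single S.Modules (ComplexShape.up ℤ) k).obj ((genF S).obj W.1.1) ⟶ K :=
      HomologicalComplex.mkHomFromSingle (z' ≫ K.iCycles k) (fun i _ => by simp)
    have h0 : Q.map ψ = 0 := (congrArg DerivedCategory.Qh.map
      (hzero W.1.1 W.1.2 k ((HomotopyCategory.quotient _ _).map ψ))).trans (DerivedCategory.Qh.map_zero _ _)
    have hθ := SiteDer.theta_ofChain ψ z' (by simp [ψ])
    rw [show SiteDer.ofChain ψ = 0 from h0, SiteDer.theta_zero] at hθ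
    let u : K.homology k ⟶ (homologyFunctor S.Modules k).obj (Q.obj K) :=
      (homologyFunctorFactors S.Modules k).inv.app K
    have : IsIso u := inferInstanceAs (IsIso ((homologyFunctorFactors S.Modules k).app K).inv)
    have h1 : z' ≫ K.homologyπ k = 0 := Limits.zero_of_comp_mono u ((Category.assoc _ _ _).trans hθ.symm)
    rw [Functor.map_comp, Functor.map_comp, Category.assoc, Category.assoc, ← hz]
    exact (congrArg ((genF S).map b ≫ ·) ((Category.assoc _ _ _).symm.trans h1)).trans comp_zero

/-- Direct image along an affine morphism needs no resolution on complexes of quasi-coherent modules. -/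
theorem isIso_pushKh_unit_of_affine (f : X ⟶ S) [IsAffineHom f] (F : CochainComplex X.Modules ℤ)
    (hF : ∀ n, Coh.IsQCoh (F.X n)) :
    IsIso ((DCoh.pushKh f).map ((KInj.resAdj X.Modules).unit.app ((HomotopyCategory.quotient _ _).obj F))) := by
  let K : HomotopyCategory (ModSite.Mod X.sheaf) (ComplexShape.up ℤ) := (HomotopyCategory.quotient _ _).obj F
  let η := (KInj.resAdj (ModSite.Mod X.sheaf)).unit.app K
  have := SiteDer.isIso_Qh_map_unit (A := ModSite.Mod X.sheaf) K
  refine isIso_Qh_map_of_affine ((SiteDer.pushK (rmor f)).map η) fun W hW k => ?_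
  have hb : Function.Bijective (fun φ : SiteDer.genK X.sheaf ((rmor f).fn.obj W) k ⟶ K => φ ≫ η) :=
    SiteDer.bijective_comp_of_Qh _ (bijective_Qh_gen_qcoh F hF (hW.preimage f) k) (SiteDer.bijective_Qh_res _ _)
  let e : ∀ Z, (SiteDer.genK S.sheaf W k ⟶ (SiteDer.pushK (rmor f)).obj Z) ≃
      (SiteDer.genK X.sheaf ((rmor f).fn.obj W) k ⟶ Z) := fun Z =>
    ((KInj.mapHomotopyAdj (rmor f).adj).homEquiv _ Z).symm.trans (SiteDer.pullGenIso (rmor f) W k).homFromEquiv
  have he : ∀ φ, e _ (φ ≫ (SiteDer.pushK (rmor f)).map η) = e K φ ≫ η := fun φ => by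
    change (SiteDer.pullGenIso (rmor f) W k).inv ≫ ((KInj.mapHomotopyAdj (rmor f).adj).homEquiv _ _).symm _ =
      ((SiteDer.pullGenIso (rmor f) W k).inv ≫ ((KInj.mapHomotopyAdj (rmor f).adj).homEquiv _ _).symm _) ≫ η
    rw [Adjunction.homEquiv_naturality_right_symm, Category.assoc]
  refine (Function.Bijective.of_comp_iff' (e _).bijective _).1 ?_
  exact Eq.mpr (congrArg Function.Bijective (funext he)) (hb.comp (e K).bijective)

end GrothLib.OX
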