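import Mathlib.Algebra.Homology.HomotopyCategory.HomologicalFunctor
import Mathlib.Algebra.Homology.DerivedCategory.Basic

/-! # The subcomplex in degrees `≥ m` -/

set_option autoImplicit false
universe v u

open CategoryTheory CategoryTheory.Limits

namespace GrothLib.StupidGE

variable {C : Type u} [Category.{v} C] [Abelian C] (K : CochainComplex C ℤ) (m : ℤ)

noncomputable abbrev sel (i : ℤ) : K.X i ⟶ K.X i := if m ≤ i then 0 else 𝟙 _

theorem ι_d_sel (i j : ℤ) : (kernel.ι (sel K m i) ≫ K.d i j) ≫ sel K m j = 0 := by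
  by_cases h : i + 1 = j
  · by_cases hi : m ≤ i
    · simp [sel, show m ≤ j by omega]
    · have : kernel.ι (sel K m i) = 0 := by
        have := kernel.condition (sel K m i)
        simpa [sel, hi] using this
      rw [this, zero_comp, zero_comp]
  · rw [K.shape i j h, comp_zero, zero_comp]

/-- The subcomplex of `K` in degrees `≥ m`. -/
noncomputable def trunc : CochainComplex C ℤ where
  X i := kernel (sel K m i)
  d i j := kernel.lift _ (kernel.ι (sel K m i) ≫ K.d i j) (ι_d_sel K m i j)
  shape i j h := by
    rw [← cancel_mono (kernel.ι (sel K m j)), kernel.lift_ι, K.shape i j h, comp_zero, zero_comp]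
  d_comp_d' i j k _ _ := by
    rw [← cancel_mono (kernel.ι (sel K m k)), Category.assoc, kernel.lift_ι, kernel.lift_ι_assoc, Category.assoc,
      K.d_comp_d, comp_zero, zero_comp]

/-- The inclusion. -/
noncomputable def ι : trunc K m ⟶ K where
  f i := kernel.ι (sel K m i)
  comm' i j _ := (kernel.lift_ι _ _ _).symm

theorem isZero_trunc {i : ℤ} (h : i < m) : IsZero ((trunc K m).X i) := by
  have : IsIso (sel K m i) := by
    rw [sel, if_neg (by omega)]
    infer_instance
  exact (isZero_zero C).of_iso (kernel.ofMono (sel K m i))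

theorem isZero_trunc_of_isZero {i : ℤ} (h : IsZero (K.X i)) : IsZero ((trunc K m).X i) :=
  @IsZero.of_mono _ _ _ _ _ (kernel.ι (sel K m i)) (show Mono (equalizer.ι (sel K m i) 0) from inferInstance) h

theorem isIso_ι_f {i : ℤ} (h : m ≤ i) : IsIso ((ι K m).f i) := by
  have hf : sel K m i = 0 := if_pos h
  exact ⟨kernel.lift _ (𝟙 _) (by rw [hf, comp_zero]),
    (cancel_mono (kernel.ι (sel K m i))).1
      ((Category.assoc _ _ _).trans ((congrArg (_ ≫ ·) (kernel.lift_ι _ _ _)).trans
        ((Category.comp_id _).trans (Category.id_comp _).symm))),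
    kernel.lift_ι _ _ _⟩

theorem isIso_homologyMap_ι {i : ℤ} (h : m < i) : IsIso (HomologicalComplex.homologyMap (ι K m) i) := by
  have h₁ := isIso_ι_f K m (i := i - 1) (by omega)
  have h₂ := isIso_ι_f K m (i := i) h.le
  have h₃ := isIso_ι_f K m (i := i + 1) (by omega)
  have h' : QuasiIsoAt (ι K m) i := by
    rw [quasiIsoAt_iff' _ (i - 1) i (i + 1) (by simp) (by simp)]
    let φ := (HomologicalComplex.shortComplexFunctor' C (ComplexShape.up ℤ) (i - 1) i (i + 1)).map (ι K m)
    have : IsIso φ.τ₁ := h₁
    have : IsIso φ.τ₂ := h₂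
    have : IsIso φ.τ₃ := h₃
    exact ShortComplex.quasiIso_of_epi_of_isIso_of_mono φ
  exact (quasiIsoAt_iff_isIso_homologyMap _ _).1 h'

theorem epi_homologyMap_ι : Epi (HomologicalComplex.homologyMap (ι K m) m) := by
  let φ := (HomologicalComplex.shortComplexFunctor C (ComplexShape.up ℤ) m).map (ι K m)
  have h₃ : IsIso φ.τ₃ := isIso_ι_f K m (i := (ComplexShape.up ℤ).next m) (by simp)
  have : IsIso (ShortComplex.cyclesMap φ) :=
    ShortComplex.isIso_cyclesMap_of_isIso_of_mono' φ (isIso_ι_f K m le_rfl) inferInstance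
  have he : Epi ((trunc K m).homologyπ m ≫ HomologicalComplex.homologyMap (ι K m) m) := by
    rw [HomologicalComplex.homologyπ_naturality]
    have : IsIso (HomologicalComplex.cyclesMap (ι K m) m) := this
    infer_instance
  exact epi_of_epi ((trunc K m).homologyπ m) _

end GrothLib.StupidGE
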