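import Groth.Agent.Lib.OX.RRLocal
import Groth.Agent.Lib.OX.RpushQCoh
import Groth.Agent.Lib.OX.QCohCx
import Groth.Agent.Lib.OX.StupidGE
import Groth.Agent.Lib.OX.RpushCoprod
import Groth.Agent.Lib.GrothSS.Acyclic
import Groth.Agent.Lib.DerCat.Truncation
import Mathlib.Algebra.Homology.DerivedCategory.DerivabilityStructureInjectives

/-! # Complexes of quasi-coherent acyclic modules compute the derived direct image -/

set_option autoImplicit false
set_option maxHeartbeats 1000000
universe u

open CategoryTheory CategoryTheory.Limits AlgebraicGeometry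
open DerivedCategory (Q Qh)

attribute [local instance] HasDerivedCategory.standard

namespace GrothLib.OX

variable {X S : Scheme.{u}}

theorem map_isIso_of {C D : Type*} [Category C] [Category D] (F : C ⥤ D) {A B : C} {g : A ⟶ B} (h : IsIso g) :
    IsIso (F.map g) := inferInstance

/-- An isomorphism on cohomology from degree `b` on is inverted by `τ≥b`. -/
theorem isIso_truncGE_map_of_homology {E E' : DCoh.D X} (g : E ⟶ E') (b : ℤ)
    (h : ∀ q, b ≤ q → IsIso ((DerivedCategory.homologyFunctor X.Modules q).map g)) :
    IsIso ((DerivedCategory.TStructure.t.truncGE b).map g) := by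
  rw [DerivedCategory.isIso_iff]
  intro q
  let H := DerivedCategory.homologyFunctor X.Modules q
  rcases lt_or_ge q b with hq | hq
  · exact ⟨0, (DerTrunc.isZero_homology_truncGE E b q hq).eq_of_src _ _,
      (DerTrunc.isZero_homology_truncGE E' b q hq).eq_of_src _ _⟩
  · have := DerTrunc.isIso_homology_truncGEπ E b q hq
    have := DerTrunc.isIso_homology_truncGEπ E' b q hq
    have := h q hq
    have e : H.map g ≫ H.map ((DerivedCategory.TStructure.t.truncGEπ b).app E') =
        H.map ((DerivedCategory.TStructure.t.truncGEπ b).app E) ≫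
          H.map ((DerivedCategory.TStructure.t.truncGE b).map g) :=
      ((H.map_comp _ _).symm.trans (congrArg H.map ((DerivedCategory.TStructure.t.truncGEπ b).naturality g))).trans
        (H.map_comp _ _)
    exact IsIso.of_isIso_fac_left e.symm

variable (f : X ⟶ S)

/-- The comparison from `f_*` to `Rf_*` on a complex. -/
noncomputable def pushUnit (F : CochainComplex X.Modules ℤ) :
    (DCoh.pushKh f).obj ((HomotopyCategory.quotient _ _).obj F) ⟶
      (SiteDer.Rres (rmor f)).obj (Qh.obj ((HomotopyCategory.quotient _ _).obj F)) :=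
  (DCoh.pushKh f).map ((KInj.resAdj X.Modules).unit.app ((HomotopyCategory.quotient _ _).obj F))

theorem pushUnit_naturality {F G : CochainComplex X.Modules ℤ} (i : F ⟶ G) :
    (DCoh.pushKh f).map ((HomotopyCategory.quotient _ _).map i) ≫ pushUnit f G =
      pushUnit f F ≫ (SiteDer.Rres (rmor f)).map (Qh.map ((HomotopyCategory.quotient _ _).map i)) :=
  ((DCoh.pushKh f).map_comp _ _).symm.trans ((congrArg (DCoh.pushKh f).map
    ((KInj.resAdj X.Modules).unit.naturality ((HomotopyCategory.quotient _ _).map i))).trans
      ((DCoh.pushKh f).map_comp _ _))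

/-- Bounded below complexes of `f_*`-acyclic modules compute `Rf_*`. -/
theorem isIso_pushUnit_of_bddBelow [HasInjectiveResolutions X.Modules] (F : CochainComplex X.Modules ℤ) (a : ℤ)
    [F.IsStrictlyGE a] (hac : ∀ n, GrothSS.IsAcyclicObj (Scheme.Modules.pushforward f) (F.X n)) :
    IsIso (pushUnit f F) := by
  obtain ⟨L, hL, i, hi⟩ := CochainComplex.Plus.exists_quasiIso_injective
    (⟨F, a, inferInstance⟩ : CochainComplex.Plus X.Modules) a
  let J : CochainComplex X.Modules ℤ := ((InjectiveObject.ι X.Modules).mapHomologicalComplex (ComplexShape.up ℤ)).obj L.obj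
  let i' : F ⟶ J := i.hom
  have hqi : QuasiIso i' := hi
  have : J.IsStrictlyGE a :=
    inferInstanceAs (CochainComplex.IsStrictlyGE
      (((InjectiveObject.ι X.Modules).mapHomologicalComplex (ComplexShape.up ℤ)).obj L.obj) a)
  have hJ : ∀ n, Injective (J.X n) := fun n =>
    inferInstanceAs (Injective ((InjectiveObject.ι X.Modules).obj (L.obj.X n)))
  have := CochainComplex.isKInjective_of_injective J a
  have h1 : IsIso (pushUnit f J) :=
    map_isIso_of (DCoh.pushKh f)
      (KInj.isIso_unit_of_rightOrthogonal (CochainComplex.IsKInjective.rightOrthogonal J))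
  have h2 : QuasiIso (((Scheme.Modules.pushforward f).mapHomologicalComplex (ComplexShape.up ℤ)).map i') :=
    GrothSS.quasiIso_map _ i' a hac fun m => by
      have := hJ m
      exact GrothSS.isAcyclicObj_of_injective _ _
  have h3 : IsIso ((DCoh.pushKh f).map ((HomotopyCategory.quotient _ _).map i')) := by
    refine (DerivedCategory.isIso_Qh_map_iff _).2 ((HomotopyCategory.quotient_map_mem_quasiIso_iff
      (((Scheme.Modules.pushforward f).mapHomologicalComplex (ComplexShape.up ℤ)).map i')).2 ?_)
    exact (HomologicalComplex.mem_quasiIso_iff _).2 h2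
  have h4 : IsIso (Qh.map ((HomotopyCategory.quotient _ _).map i')) :=
    (DerivedCategory.isIso_Qh_map_iff _).2 ((HomotopyCategory.quotient_map_mem_quasiIso_iff i').2
      ((HomologicalComplex.mem_quasiIso_iff _).2 hqi))
  have h5 : IsIso ((DCoh.pushKh f).map ((HomotopyCategory.quotient _ _).map i') ≫ pushUnit f J) := inferInstance
  exact @IsIso.of_isIso_fac_right _ _ _ _ _ _ _ _ (map_isIso_of (SiteDer.Rres (rmor f)) h4) h5
    (pushUnit_naturality f i').symm

/-- Above the vanishing bound `Rf_*` does not see the terms in low degrees. -/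
theorem bijective_comp_Rres_of_homology {Y : S.Opens} {d : ℕ} (hY : VanQ (f ⁻¹ᵁ Y) d)
    {E E' : DCoh.D X} (hE : DCoh.IsQCohD E) (hE' : DCoh.IsQCohD E') (g : E ⟶ E') (a j : ℤ) (hj : a + d ≤ j)
    (hg : ∀ q, a ≤ q → IsIso ((DerivedCategory.homologyFunctor X.Modules q).map g)) :
    Function.Bijective (fun φ : (DerivedCategory.singleFunctor S.Modules j).obj ((genF S).obj Y) ⟶
        (SiteDer.Rres (rmor f)).obj E => φ ≫ (SiteDer.Rres (rmor f)).map g) := by
  let R := SiteDer.Rres (rmor f)
  have hg' := isIso_truncGE_map_of_homology g a hg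
  have : IsIso (R.map ((DerivedCategory.TStructure.t.truncGE a).map g)) := map_isIso_of R hg'
  refine (Function.Bijective.of_comp_iff' (bijective_comp_Rres_truncGEπ f hY hE' a j hj) _).1 ?_
  let Rg : R.obj _ ≅ R.obj _ := asIso (R.map ((DerivedCategory.TStructure.t.truncGE a).map g))
  have h := (Iso.homToEquiv Rg (Z := (DerivedCategory.singleFunctor S.Modules j).obj ((genF S).obj Y))).bijective.comp
      (bijective_comp_Rres_truncGEπ f hY hE a j hj)
  refine Eq.mpr (congrArg Function.Bijective (funext fun φ => ?_)) h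
  exact (Category.assoc _ _ _).trans ((congrArg (φ ≫ ·) ((R.map_comp _ _).symm.trans
    ((congrArg R.map ((DerivedCategory.TStructure.t.truncGEπ a).naturality g)).trans (R.map_comp _ _)))).trans
      (Category.assoc _ _ _).symm)

/-- **Complexes of quasi-coherent `f_*`-acyclic modules compute `Rf_*`.** -/
theorem isIso_pushUnit_of_acyclic [HasInjectiveResolutions X.Modules] [QuasiCompact f] [QuasiSeparated f]
    (F : CochainComplex X.Modules ℤ) (hq : ∀ n, Coh.IsQCoh (F.X n))
    (hac : ∀ n, GrothSS.IsAcyclicObj (Scheme.Modules.pushforward f) (F.X n)) :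
    IsIso (pushUnit f F) := by
  rw [DerivedCategory.isIso_iff]
  intro j
  let H := DerivedCategory.homologyFunctor S.Modules j
  suffices ∀ V : S.Opens, IsAffineOpen V →
      IsIso ((Scheme.Modules.restrictFunctor V.ι).map (H.map (pushUnit f F))) from
    isIso_of_restrict_cover _ (fun V : S.affineOpens => V.1) (fun x => TopologicalSpace.Opens.mem_iSup.1
      ((iSup_affineOpens_eq_top S).symm ▸ TopologicalSpace.Opens.mem_top x)) fun V => this V.1 V.2
  intro V hV
  obtain ⟨d, hd⟩ := exists_vanishFrom_preimage f hV
  let a : ℤ := j - d - 1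
  let T := StupidGE.trunc F a
  let ι' : T ⟶ F := StupidGE.ι F a
  have : T.IsStrictlyGE a := by
    rw [CochainComplex.isStrictlyGE_iff]
    exact fun i hi => StupidGE.isZero_trunc F a hi
  have hTq : ∀ n, Coh.IsQCoh (T.X n) := fun n => by
    rcases lt_or_ge n a with h | h
    · exact isQCoh_of_isZero (StupidGE.isZero_trunc F a h)
    · have := StupidGE.isIso_ι_f F a h
      exact isQCoh_of_iso (asIso (ι'.f n)).symm (hq n)
  have hTac : ∀ n, GrothSS.IsAcyclicObj (Scheme.Modules.pushforward f) (T.X n) := fun n => by
    rcases lt_or_ge n a with h | h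
    · exact GrothSS.isAcyclicObj_of_isZero _ (StupidGE.isZero_trunc F a h)
    · have := StupidGE.isIso_ι_f F a h
      exact GrothSS.isAcyclicObj_of_iso _ (asIso (ι'.f n)).symm (hac n)
  have := isIso_pushUnit_of_bddBelow f T a hTac
  have hT1 : IsIso (H.map ((DCoh.pushKh f).map ((HomotopyCategory.quotient _ _).map ι'))) := by
    have : QuasiIsoAt (((Scheme.Modules.pushforward f).mapHomologicalComplex (ComplexShape.up ℤ)).map ι') j := by
      rw [quasiIsoAt_iff' _ (j - 1) j (j + 1) (by simp) (by simp)]
      let φ := (HomologicalComplex.shortComplexFunctor' S.Modules (ComplexShape.up ℤ) (j - 1) j (j + 1)).map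
        (((Scheme.Modules.pushforward f).mapHomologicalComplex (ComplexShape.up ℤ)).map ι')
      have h' : ∀ i, a ≤ i → IsIso ((Scheme.Modules.pushforward f).map (ι'.f i)) := fun i hi =>
        have := StupidGE.isIso_ι_f F a hi; inferInstance
      have : IsIso φ.τ₁ := h' (j - 1) (by omega)
      have : IsIso φ.τ₂ := h' j (by omega)
      have : IsIso φ.τ₃ := h' (j + 1) (by omega)
      exact ShortComplex.quasiIso_of_epi_of_isIso_of_mono φ
    rw [quasiIsoAt_iff_isIso_homologyMap] at this
    exact (NatIso.isIso_map_iff (DerivedCategory.homologyFunctorFactors S.Modules j) _).2 this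
  have hT2 : IsIso ((Scheme.Modules.restrictFunctor V.ι).map (H.map ((SiteDer.Rres (rmor f)).map (Q.map ι')))) :=
    isIso_restrict_homology _ hV j fun s => bijective_comp_Rres_of_homology f (fun N _ => hd N s)
      (isQCohD_Q T hTq) (isQCohD_Q F hq) _ (a + 1) j (by omega) fun q hq => by
        refine (NatIso.isIso_map_iff (DerivedCategory.homologyFunctorFactors X.Modules q) _).2 ?_
        exact StupidGE.isIso_homologyMap_ι F a (by omega)
  have e := congrArg (fun t => (Scheme.Modules.restrictFunctor V.ι).map (H.map t)) (pushUnit_naturality f ι')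
  simp only [Functor.map_comp] at e
  have h₁ : IsIso ((Scheme.Modules.restrictFunctor V.ι).map (H.map ((DCoh.pushKh f).map
    ((HomotopyCategory.quotient _ _).map ι')))) := inferInstance
  have h₀ : IsIso ((Scheme.Modules.restrictFunctor V.ι).map (H.map (pushUnit f T))) := inferInstance
  exact @IsIso.of_isIso_fac_left _ _ _ _ _ _ _ _ h₁ (@IsIso.comp_isIso _ _ _ _ _ _ _ h₀ hT2) e

end GrothLib.OX
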