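import Groth.Agent.Lib.OX.Exact
import Groth.Prelude.Def_CxOX
import Mathlib.CategoryTheory.Adjunction.Triple
import Mathlib.CategoryTheory.Preadditive.AdditiveFunctor

/-! # Extension by zero along open immersions: stalks, exactness, Mayer-Vietoris -/

set_option autoImplicit false
set_option maxHeartbeats 400000
universe u

open CategoryTheory CategoryTheory.Limits AlgebraicGeometry Opposite TopologicalSpace

namespace GrothLib.OX

variable {U X : Scheme.{u}} (j : U ⟶ X) [IsOpenImmersion j]

instance isIso_extZeroAdj_unit : IsIso (CxOX.extZeroAdj j).unit :=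
  (Adjunction.Triple.mk (CxOX.extZeroAdj j) (Scheme.Modules.restrictAdjunction j)).isIso_unit_iff_isIso_counit.2
    inferInstance

/-- What vanishes after restriction vanishes on the stalks over the open. -/
theorem stalk_map_zero_of_restrictZero {M N : X.Modules} (g : M ⟶ N) (y : U)
    (h : (Scheme.Modules.restrictFunctor j).map g = 0) : (stalk (j y)).map g = 0 := by
  refine ModuleCat.hom_ext (LinearMap.ext fun e => ?_)
  obtain ⟨W, hW, m, rfl⟩ := germ_exists (DCoh.toP.obj M) e
  have hle : j ''ᵁ (j ⁻¹ᵁ W) ≤ W := (j.image_preimage_eq_opensRange_inf W).trans_le inf_le_right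
  refine (congrArg _ (germ_map (DCoh.toP.obj M) (homOfLE hle) ⟨y, hW, rfl⟩ m).symm).trans ?_
  refine (stalkPre_map_germ (DCoh.toP.map g) _ _ _).trans ?_
  let m' : Γ(M, j ''ᵁ (j ⁻¹ᵁ W)) := (DCoh.toP.obj M).map (homOfLE hle).op m
  have hz : g.app (j ''ᵁ (j ⁻¹ᵁ W)) m' = 0 := by
    change ((Scheme.Modules.restrictFunctor j).map g).app (j ⁻¹ᵁ W) m' = 0
    rw [h]
    rfl
  exact (congrArg (germ (DCoh.toP.obj N) _ _) hz).trans (map_zero _)

theorem mono_stalk_map_of_restrict {M N : X.Modules} (f : M ⟶ N) (y : U)
    (h : Mono ((Scheme.Modules.restrictFunctor j).map f)) : Mono ((stalk (j y)).map f) := by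
  have hk : (Scheme.Modules.restrictFunctor j).map (kernel.ι f) = 0 := by
    rw [← cancel_mono ((Scheme.Modules.restrictFunctor j).map f), zero_comp, ← Functor.map_comp,
      kernel.condition, Functor.map_zero]
  have hS : (ShortComplex.mk (kernel.ι f) f (kernel.condition f)).Exact := ShortComplex.exact_kernel f
  exact (hS.map (stalk (j y))).mono_g (stalk_map_zero_of_restrictZero j _ y hk)

theorem epi_stalk_map_of_restrict {M N : X.Modules} (f : M ⟶ N) (y : U)
    (h : Epi ((Scheme.Modules.restrictFunctor j).map f)) : Epi ((stalk (j y)).map f) := by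
  have hk : (Scheme.Modules.restrictFunctor j).map (cokernel.π f) = 0 := by
    rw [← cancel_epi ((Scheme.Modules.restrictFunctor j).map f), comp_zero, ← Functor.map_comp,
      cokernel.condition, Functor.map_zero]
  have hS : (ShortComplex.mk f (cokernel.π f) (cokernel.condition f)).Exact := ShortComplex.exact_cokernel f
  exact (hS.map (stalk (j y))).epi_f (stalk_map_zero_of_restrictZero j _ y hk)

/-- Stalks of `j_! N` off the image vanish. -/
theorem isZero_stalk_extZero (N : U.Modules) (x : X) (hx : x ∉ Set.range j) :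
    IsZero ((stalk x).obj ((CxOX.extZero j).obj N)) := by
  let adj := (CxOX.extZeroAdj j).comp (stalkSkyAdj x)
  let A := (stalk x).obj ((CxOX.extZero j).obj N)
  have hz : IsZero ((Scheme.Modules.restrictFunctor j).obj ((sky x).obj A)) := by
    refine (IsZero.iff_id_eq_zero _).2 (Scheme.Modules.hom_ext _ _ fun W => ?_)
    refine AddCommGrpCat.hom_ext (AddMonoidHom.ext fun s => ?_)
    have : IsEmpty (PLift (x ∈ j ''ᵁ W)) := ⟨fun h => hx ((j.image_le_opensRange W) h.down)⟩
    exact @Subsingleton.elim (SkySec x A (op (j ''ᵁ W))) inferInstance _ _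
  exact (IsZero.iff_id_eq_zero A).2 ((adj.homEquiv N A).injective (hz.eq_of_tgt _ _))

instance preservesMonomorphisms_extZero : (CxOX.extZero j).PreservesMonomorphisms where
  preserves {M N} f _ := (mono_iff _).2 fun x => by
    by_cases hx : x ∈ Set.range j
    · obtain ⟨y, rfl⟩ := hx
      refine mono_stalk_map_of_restrict j _ y ?_
      exact ((MorphismProperty.monomorphisms _).arrow_mk_iso_iff
        (Arrow.isoMk ((asIso (CxOX.extZeroAdj j).unit).app M) ((asIso (CxOX.extZeroAdj j).unit).app N)
          ((CxOX.extZeroAdj j).unit.naturality f).symm)).1 ‹Mono f›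
    · exact ⟨fun g g' _ => (isZero_stalk_extZero j M x hx).eq_of_tgt _ _⟩

instance preservesFiniteLimits_extZero : PreservesFiniteLimits (CxOX.extZero j) := by
  have : (CxOX.extZero j).PreservesHomology :=
    Functor.preservesHomology_of_preservesMonos_and_cokernels _
  exact (CxOX.extZero j).preservesFiniteLimits_of_preservesHomology

/-- The counit `j_! (F|_U) ⟶ F`. -/
noncomputable abbrev epsZ (F : X.Modules) :
    (CxOX.extZero j).obj ((Scheme.Modules.restrictFunctor j).obj F) ⟶ F :=
  (CxOX.extZeroAdj j).counit.app F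

theorem isIso_restrict_epsZ (F : X.Modules) : IsIso ((Scheme.Modules.restrictFunctor j).map (epsZ j F)) := by
  have h := (CxOX.extZeroAdj j).right_triangle_components F
  exact IsIso.of_isIso_fac_left h

theorem isIso_stalk_epsZ (F : X.Modules) (y : U) : IsIso ((stalk (j y)).map (epsZ j F)) := by
  have := isIso_restrict_epsZ j F
  have := mono_stalk_map_of_restrict j (epsZ j F) y inferInstance
  have := epi_stalk_map_of_restrict j (epsZ j F) y inferInstance
  exact isIso_of_mono_of_epi _

instance mono_epsZ (F : X.Modules) : Mono (epsZ j F) := (mono_iff _).2 fun x => by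
  by_cases hx : x ∈ Set.range j
  · obtain ⟨y, rfl⟩ := hx
    have := isIso_stalk_epsZ j F y
    infer_instance
  · exact ⟨fun g g' _ => (isZero_stalk_extZero j _ x hx).eq_of_tgt _ _⟩

end GrothLib.OX
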