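import Groth.Agent.Lib.OX.LTensorCx
import Groth.Agent.Lib.OX.TorAmp
import Mathlib.CategoryTheory.Abelian.Projective.Extend
import Mathlib.Algebra.Homology.Embedding.ExtendHomology

/-! # Flat resolutions in non-positive degrees, and right t-exactness of derived tensor products -/

set_option autoImplicit false
set_option maxHeartbeats 800000
universe u

open CategoryTheory CategoryTheory.Limits AlgebraicGeometry HomologicalComplex

attribute [local instance] HasDerivedCategory.standard

namespace GrothLib.OX

variable {X Y : Scheme.{u}}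

/-- The next term of a flat resolution. -/
noncomputable def syz {A B : X.Modules} (f : A ⟶ B) : coverObj (kernel f) ⟶ A := coverπ (kernel f) ≫ kernel.ι f

theorem syz_exact {A B : X.Modules} (f : A ⟶ B) :
    (ShortComplex.mk (syz f) f (by simp [syz])).Exact := by
  rw [ShortComplex.exact_iff_epi_kernel_lift]
  have : kernel.lift f (syz f) (by simp [syz]) = coverπ (kernel f) := by
    rw [← cancel_mono (kernel.ι f), kernel.lift_ι]; rfl
  rw [this]
  infer_instance

variable (M : X.Modules)

/-- A flat resolution of a module. -/
noncomputable def flatResChain : ChainComplex X.Modules ℕ :=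
  ChainComplex.mk' (coverObj M) (coverObj (kernel (coverπ M))) (syz (coverπ M))
    (fun f => ⟨_, syz f, by simp [syz]⟩)

theorem flatResChain_d_1_0 : (flatResChain M).d 1 0 = syz (coverπ M) := by simp [flatResChain]

theorem flatResChain_exactAt_succ (n : ℕ) : (flatResChain M).ExactAt (n + 1) := by
  rw [HomologicalComplex.exactAt_iff' _ (n + 1 + 1) (n + 1) n (by simp) (by simp)]
  simp only [HomologicalComplex.sc', HomologicalComplex.shortComplexFunctor', flatResChain,
    ChainComplex.mk', ChainComplex.mk, ChainComplex.of_d]
  match n with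
  | 0 => apply syz_exact
  | n + 1 => apply syz_exact

theorem flat_flatResChain (n : ℕ) : FlatMod.IsFlat ((flatResChain M).X n) := by
  obtain (_ | _ | _ | n) := n <;> apply flat_coverObj

/-- The augmentation. -/
noncomputable def flatResπ : flatResChain M ⟶ (ChainComplex.single₀ X.Modules).obj M :=
  (ChainComplex.toSingle₀Equiv _ _).symm ⟨coverπ M, by
    rw [flatResChain_d_1_0, syz]
    exact (Category.assoc _ _ _).trans ((congrArg (_ ≫ ·) (kernel.condition _)).trans comp_zero)⟩

theorem quasiIso_flatResπ : QuasiIso (flatResπ M) := ⟨fun n => by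
  cases n
  · rw [ChainComplex.quasiIsoAt₀_iff, ShortComplex.quasiIso_iff_of_zeros']
    · dsimp [flatResπ]
      refine (ShortComplex.exact_and_epi_g_iff_of_iso ?_).2 ⟨syz_exact (coverπ M), by dsimp; infer_instance⟩
      exact ShortComplex.isoMk (Iso.refl _) (Iso.refl _) (Iso.refl _)
        (by simp [flatResChain]; exact (Category.id_comp _).trans (Category.comp_id _).symm)
        (by simp; exact (Category.id_comp _).trans (Category.comp_id _).symm)
    all_goals rfl
  · rw [quasiIsoAt_iff_exactAt']
    · apply flatResChain_exactAt_succ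
    · apply ChainComplex.exactAt_succ_single_obj⟩

/-- The flat resolution, indexed by the integers. -/
noncomputable def flatRes : CochainComplex X.Modules ℤ := (flatResChain M).extend ComplexShape.embeddingDownNat

theorem isZero_flatRes_X (n : ℤ) (h : 0 < n) : IsZero ((flatRes M).X n) :=
  HomologicalComplex.isZero_extend_X _ _ _ (fun i hi => by
    have : -(i : ℤ) = n := hi
    omega)

theorem flatTerms_flatRes : FlatTerms (flatRes M) := fun n => by
  by_cases h : 0 < n
  · exact flat_of_isZero (isZero_flatRes_X M n h)
  · obtain ⟨k, rfl⟩ := Int.exists_eq_neg_ofNat (le_of_not_gt h)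
    exact flat_of_iso (HomologicalComplex.extendXIso (flatResChain M) ComplexShape.embeddingDownNat
      (i' := -(k : ℤ)) (i := k) rfl).symm (flat_flatResChain M k)

theorem isKFlat_flatRes : DCoh.IsKFlat (flatRes M) :=
  isKFlat_of_bounded_above (flatRes M) 0 (fun n hn => isZero_flatRes_X M n hn) (flatTerms_flatRes M)

/-- The resolution map. -/
noncomputable def flatResMap : flatRes M ⟶ (HomologicalComplex.single X.Modules (ComplexShape.up ℤ) 0).obj M :=
  (ComplexShape.embeddingDownNat.extendFunctor X.Modules).map (flatResπ M) ≫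
    (HomologicalComplex.extendSingleIso _ _ _ _ (by simp)).hom

theorem quasiIso_flatResMap : QuasiIso (flatResMap M) := by
  have := quasiIso_flatResπ M
  have h1 : QuasiIso ((ComplexShape.embeddingDownNat.extendFunctor X.Modules).map (flatResπ M)) :=
    (HomologicalComplex.quasiIso_extendMap_iff (flatResπ M) ComplexShape.embeddingDownNat).2 this
  change QuasiIso ((ComplexShape.embeddingDownNat.extendFunctor X.Modules).map (flatResπ M) ≫ _)
  exact quasiIso_comp _ _

theorem isZero_tensorCx_X {K L : CochainComplex X.Modules ℤ} {a b n : ℤ} (hK : ∀ p, a < p → IsZero (K.X p))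
    (hL : ∀ q, b < q → IsZero (L.X q)) (hn : a + b < n) :
    IsZero ((((DCoh.tensorCx (X := X)).obj K).obj L).X n) :=
  (IsZero.iff_id_eq_zero _).2 (HomologicalComplex.mapBifunctor.hom_ext fun p q h => by
    have h' : p + q = n := h
    by_cases hp : a < p
    · exact (((Functor.map_isZero _ (hK p hp)).obj _)).eq_of_src _ _
    · exact (((DCoh.tensorBi (X := X)).obj (K.X p)).map_isZero (hL q (by omega))).eq_of_src _ _)

/-- Tensoring a K-flat complex which is cohomologically bounded above with a module. -/
theorem isZero_homology_tensorModCx {C : CochainComplex X.Modules ℤ} (hC : DCoh.IsKFlat C) {b : ℤ}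
    (hb : ∀ i, b < i → IsZero (C.homology i)) (G : X.Modules) (i : ℤ) (hi : b < i) :
    IsZero (((tensorModCx G).obj C).homology i) := by
  have : C.IsLE b := (CochainComplex.isLE_iff C b).2 fun j hj => (exactAt_iff_isZero_homology _ _).2 (hb j hj)
  let F := flatRes G
  have := quasiIso_flatResMap G
  have h1 : QuasiIso (((DCoh.tensorCx (X := X)).obj C).map (flatResMap G)) :=
    quasiIso_tensor_map_of_isKFlat (flatResMap G) C hC
  have h2 : QuasiIso (((DCoh.tensorCx (X := X)).flip.obj F).map (C.ιTruncLE b)) :=
    quasiIso_map_of_isKFlat (C.ιTruncLE b) F (isKFlat_flatRes G)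
  have hz : IsZero ((((DCoh.tensorCx (X := X)).obj (C.truncLE b)).obj F).homology i) :=
    (exactAt_iff_isZero_homology _ i).1 (ExactAt.of_isZero (isZero_tensorCx_X
      (fun p hp => CochainComplex.isZero_of_isStrictlyLE _ b p hp) (fun q hq => isZero_flatRes_X G q hq) (by omega)))
  have h3 : IsZero ((((DCoh.tensorCx (X := X)).obj C).obj F).homology i) := by
    have := (quasiIsoAt_iff_isIso_homologyMap (((DCoh.tensorCx (X := X)).flip.obj F).map (C.ιTruncLE b)) i).1 inferInstance
    exact hz.of_iso (asIso (homologyMap (((DCoh.tensorCx (X := X)).flip.obj F).map (C.ιTruncLE b)) i)).symm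
  have := (quasiIsoAt_iff_isIso_homologyMap (((DCoh.tensorCx (X := X)).obj C).map (flatResMap G)) i).1 inferInstance
  exact (h3.of_iso (asIso (homologyMap (((DCoh.tensorCx (X := X)).obj C).map (flatResMap G)) i)).symm).of_iso
    ((homologyFunctor X.Modules (ComplexShape.up ℤ) i).mapIso (singleIso C G))

/-- Derived pullback is right t-exact. -/
theorem isZero_homology_pullback (f : X ⟶ Y) {C : CochainComplex Y.Modules ℤ} (hC : DCoh.IsKFlat C) {b : ℤ}
    (hb : ∀ i, b < i → IsZero (C.homology i)) (i : ℤ) (hi : b < i) :
    IsZero ((((Scheme.Modules.pullback f).mapHomologicalComplex (ComplexShape.up ℤ)).obj C).homology i) := by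
  refine (exactAt_iff_isZero_homology _ _).1 ?_
  rw [exactAt_iff]
  refine (exact_iff _).2 fun x => ?_
  exact (ShortComplex.exact_iff_of_iso ((C.sc i).mapNatIso (pullStalkIso f x))).2
    (exact_extendScalars_stalk f x fun F =>
      (exactAt_iff _ i).1 ((exactAt_iff_isZero_homology _ i).2 (isZero_homology_tensorModCx hC hb F i hi)))

end GrothLib.OX
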