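import Groth.Agent.Lib.OX.LocFreeTensor
import Groth.Agent.Lib.OX.FlatRes
import Mathlib.Algebra.Homology.DerivedCategory.Fractions
import Mathlib.Order.Interval.Finset.Basic
import Mathlib.Data.Int.Interval

/-! # Perfect and pseudo-coherent objects under pullback and tensor product -/

set_option autoImplicit false
set_option maxHeartbeats 800000
universe v u

open CategoryTheory CategoryTheory.Limits AlgebraicGeometry HomologicalComplex CategoryTheory.Pretriangulated

attribute [local instance] HasDerivedCategory.standard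

namespace GrothLib.DerCat

variable {C : Type u} [Category.{v} C] [Abelian C] [HasDerivedCategory C]

/-- A map is an isomorphism above `m` and epimorphic at `m` iff its cone has no cohomology from `m` on. -/
theorem cone_vanish_iff (T : Triangle (DerivedCategory C)) (hT : T ∈ distTriang _) (m : ℤ) :
    (∀ i, m ≤ i → IsZero ((DerivedCategory.homologyFunctor C i).obj T.obj₃)) ↔
      (∀ i, m < i → IsIso ((DerivedCategory.homologyFunctor C i).map T.mor₁)) ∧
        Epi ((DerivedCategory.homologyFunctor C m).map T.mor₁) := by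
  constructor
  · intro h
    have he : ∀ i, m ≤ i → Epi ((DerivedCategory.homologyFunctor C i).map T.mor₁) := fun i hi =>
      (DerivedCategory.HomologySequence.epi_homologyMap_mor₁_iff T hT i).2 ((h i hi).eq_of_tgt _ _)
    refine ⟨fun i hi => ?_, he m le_rfl⟩
    have := (DerivedCategory.HomologySequence.mono_homologyMap_mor₁_iff T hT (i - 1) i (by omega)).2
      ((h (i - 1) (by omega)).eq_of_src _ _)
    have := he i hi.le
    exact isIso_of_mono_of_epi _
  · rintro ⟨h, hm⟩ i hi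
    have he : Epi ((DerivedCategory.homologyFunctor C i).map T.mor₁) := by
      rcases lt_or_eq_of_le hi with hi | rfl
      · have := h i hi; infer_instance
      · exact hm
    have := h (i + 1) (by omega)
    exact (DerivedCategory.HomologySequence.exact₃ T hT i (i + 1) rfl).isZero_of_both_zeros
      ((DerivedCategory.HomologySequence.epi_homologyMap_mor₁_iff T hT i).1 he)
      ((DerivedCategory.HomologySequence.mono_homologyMap_mor₁_iff T hT i (i + 1) rfl).1 inferInstance)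

/-- An exact functor on representatives. -/
theorem nonempty_iso_map {A B : Type*} [Category A] [Category B] [Abelian A] [Abelian B] [HasDerivedCategory A]
    [HasDerivedCategory B] (F : A ⥤ B) [F.Additive] [PreservesFiniteLimits F] [PreservesFiniteColimits F]
    {K L : CochainComplex A ℤ} (e : DerivedCategory.Q.obj K ≅ DerivedCategory.Q.obj L) :
    Nonempty (DerivedCategory.Q.obj ((F.mapHomologicalComplex (ComplexShape.up ℤ)).obj K) ≅
      DerivedCategory.Q.obj ((F.mapHomologicalComplex (ComplexShape.up ℤ)).obj L)) :=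
  ⟨(F.mapDerivedCategoryFactors.app K).symm ≪≫ F.mapDerivedCategory.mapIso e ≪≫ F.mapDerivedCategoryFactors.app L⟩

end GrothLib.DerCat

namespace GrothLib.OX

variable {X Y : Scheme.{u}}

/-- Pullback of complexes. -/
noncomputable abbrev pullCxF (f : X ⟶ Y) : CochainComplex Y.Modules ℤ ⥤ CochainComplex X.Modules ℤ :=
  (Scheme.Modules.pullback f).mapHomologicalComplex (ComplexShape.up ℤ)

theorem isKFlat_of_strictlyPerfect {E : CochainComplex X.Modules ℤ} (h : DCoh.IsStrictlyPerfect E) :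
    DCoh.IsKFlat E := by
  obtain ⟨⟨a, b, hab⟩, hE⟩ := h
  exact isKFlat_of_bounded_above E b (fun n hn => hab n (Or.inr hn)) fun n => flat_of_isFinLocFree (hE n)

theorem strictlyPerfect_pullback (f : X ⟶ Y) {E : CochainComplex Y.Modules ℤ} (h : DCoh.IsStrictlyPerfect E) :
    DCoh.IsStrictlyPerfect ((pullCxF f).obj E) := by
  obtain ⟨⟨a, b, hab⟩, hE⟩ := h
  exact ⟨⟨a, b, fun i hi => (Scheme.Modules.pullback f).map_isZero (hab i hi)⟩,
    fun i => isFinLocFree_pullback f (hE i)⟩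

theorem strictlyPerfect_tensor {E E' : CochainComplex X.Modules ℤ} (h : DCoh.IsStrictlyPerfect E)
    (h' : DCoh.IsStrictlyPerfect E') : DCoh.IsStrictlyPerfect (((DCoh.tensorCx (X := X)).obj E).obj E') := by
  obtain ⟨⟨a, b, hab⟩, hE⟩ := h
  obtain ⟨⟨a', b', hab'⟩, hE'⟩ := h'
  refine ⟨⟨a + a', b + b', fun n hn => (IsZero.iff_id_eq_zero _).2 (HomologicalComplex.mapBifunctor.hom_ext
    fun p q hpq => ?_)⟩, fun n => ?_⟩
  · have hpq' : p + q = n := hpq
    by_cases hp : p < a ∨ b < p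
    · exact ((Functor.map_isZero _ (hab p hp)).obj _).eq_of_src _ _
    · exact (((DCoh.tensorBi (X := X)).obj (E.X p)).map_isZero (hab' q (by omega))).eq_of_src _ _
  · refine DCoh.isFinLocFree_of_iso ((degIso E n).app E') ?_
    refine DCoh.isFinLocFree_of_iso (sigmaSupportIso
      (fun p : ℤ => ((DCoh.tensorBi (X := X)).obj (E.X p)).obj (E'.X (n - p))) (Finset.Icc a b) fun p hp => ?_).symm ?_
    · rw [Finset.mem_Icc] at hp
      exact (Functor.map_isZero _ (hab p (by omega))).obj _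
    · exact isFinLocFree_sigma _ fun p => isFinLocFree_tensor (hE _) (hE' _)

/-- Restriction of complexes is pullback of complexes. -/
noncomputable def restrictCxIso (V : X.Opens) (P : CochainComplex X.Modules ℤ) :
    (DCoh.restrictCx V).obj P ≅ (pullCxF V.ι).obj P :=
  (NatIso.mapHomologicalComplex (Scheme.Modules.restrictFunctorIsoPullback V.ι) (ComplexShape.up ℤ)).app P

theorem isKFlat_restrictCx (V : X.Opens) {P : CochainComplex X.Modules ℤ} (h : DCoh.IsKFlat P) :
    DCoh.IsKFlat ((DCoh.restrictCx V).obj P) :=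
  isKFlat_of_iso (restrictCxIso V P).symm (isKFlat_pullback V.ι h)

/-- Pullback of complexes, restricted to the preimage of an open. -/
noncomputable def pullSquareCxIso (f : X ⟶ Y) (U : Y.Opens) (P : CochainComplex Y.Modules ℤ) :
    (DCoh.restrictCx (f ⁻¹ᵁ U)).obj ((pullCxF f).obj P) ≅ (pullCxF (f ∣_ U)).obj ((DCoh.restrictCx U).obj P) :=
  HomologicalComplex.Hom.isoOfComponents (fun i => (pullSquareIso f U).app (P.X i))
    (fun i j _ => ((pullSquareIso f U).hom.naturality (P.d i j)).symm)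

/-- Restriction to a smaller open. -/
noncomputable def restrictCxLeIso {W V : X.Opens} (h : W ≤ V) (P : CochainComplex X.Modules ℤ) :
    (DCoh.restrictCx W).obj P ≅ (pullCxF (X.homOfLE h)).obj ((DCoh.restrictCx V).obj P) :=
  HomologicalComplex.Hom.isoOfComponents
    (fun i => (Scheme.Modules.restrictFunctorCongr (X.homOfLE_ι h).symm ≪≫
      Scheme.Modules.restrictFunctorComp (X.homOfLE h) V.ι ≪≫
      Functor.isoWhiskerLeft _ (Scheme.Modules.restrictFunctorIsoPullback (X.homOfLE h))).app (P.X i))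
    (fun i j _ => ((Scheme.Modules.restrictFunctorCongr (X.homOfLE_ι h).symm ≪≫
      Scheme.Modules.restrictFunctorComp (X.homOfLE h) V.ι ≪≫
      Functor.isoWhiskerLeft _ (Scheme.Modules.restrictFunctorIsoPullback (X.homOfLE h))).hom.naturality (P.d i j)).symm)

theorem nonempty_iso_pullCx (f : X ⟶ Y) {A B : CochainComplex Y.Modules ℤ} (hA : DCoh.IsKFlat A)
    (hB : DCoh.IsKFlat B) (e : DerivedCategory.Q.obj A ≅ DerivedCategory.Q.obj B) :
    Nonempty (DerivedCategory.Q.obj ((pullCxF f).obj A) ≅ DerivedCategory.Q.obj ((pullCxF f).obj B)) := by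
  have := hasLpull f
  obtain ⟨v⟩ := lpull_value f A hA
  obtain ⟨w⟩ := lpull_value f B hB
  exact ⟨v.symm ≪≫ (DCoh.Lpull f).mapIso e ≪≫ w⟩

theorem nonempty_iso_tensorCx {A B A' B' : CochainComplex X.Modules ℤ} (hA : DCoh.IsKFlat A) (hB : DCoh.IsKFlat B)
    (hA' : DCoh.IsKFlat A') (hB' : DCoh.IsKFlat B') (e : DerivedCategory.Q.obj A ≅ DerivedCategory.Q.obj B)
    (e' : DerivedCategory.Q.obj A' ≅ DerivedCategory.Q.obj B') :
    Nonempty (DerivedCategory.Q.obj (((DCoh.tensorCx (X := X)).obj A).obj A') ≅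
      DerivedCategory.Q.obj (((DCoh.tensorCx (X := X)).obj B).obj B')) := by
  have := hasLTensorCx A'
  have := hasLTensorCx B
  obtain ⟨v⟩ := ltensorCx_value A' A hA
  obtain ⟨w⟩ := ltensorCx_value A' B hB
  obtain ⟨v'⟩ := ltensorCx_value B A' hA'
  obtain ⟨w'⟩ := ltensorCx_value B B' hB'
  exact ⟨v.symm ≪≫ (DCoh.LTensorCx A').mapIso e ≪≫ w ≪≫ DerivedCategory.Q.mapIso (tensorCxSymm A' B).symm.symm ≪≫
    v'.symm ≪≫ (DCoh.LTensorCx B).mapIso e' ≪≫ w' ≪≫ DerivedCategory.Q.mapIso (tensorCxSymm B B')⟩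

theorem nonempty_iso_restrictCx (V : X.Opens) {P F : CochainComplex X.Modules ℤ}
    (e : DerivedCategory.Q.obj P ≅ DerivedCategory.Q.obj F) :
    Nonempty (DerivedCategory.Q.obj ((DCoh.restrictCx V).obj P) ≅ DerivedCategory.Q.obj ((DCoh.restrictCx V).obj F)) :=
  DerCat.nonempty_iso_map (Scheme.Modules.restrictFunctor V.ι) e

/-- Perfectness, checked on one representative. -/
theorem isPerfect_iff_rep {K : DCoh.D X} {P : CochainComplex X.Modules ℤ} (e : DerivedCategory.Q.obj P ≅ K) :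
    DCoh.IsPerfect K ↔ ∀ x : X, ∃ (V : X.Opens) (E : CochainComplex (V : Scheme.{u}).Modules ℤ), x ∈ V ∧
      DCoh.IsStrictlyPerfect E ∧
      Nonempty (DerivedCategory.Q.obj ((DCoh.restrictCx V).obj P) ≅ DerivedCategory.Q.obj E) := by
  refine ⟨fun h x => ?_, fun h x => ?_⟩
  · obtain ⟨V, hx, hV⟩ := h x
    obtain ⟨E, hE, i⟩ := hV P ⟨e⟩
    exact ⟨V, E, hx, hE, i⟩
  · obtain ⟨V, E, hx, hE, ⟨i⟩⟩ := h x
    refine ⟨V, hx, fun F ⟨eF⟩ => ⟨E, hE, ?_⟩⟩
    obtain ⟨j⟩ := nonempty_iso_restrictCx V (eF ≪≫ e.symm)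
    exact ⟨j ≪≫ i⟩

theorem isPerfect_lpull (f : X ⟶ Y) [DCoh.HasLpull f] {E : DCoh.D Y} (hE : DCoh.IsPerfect E) :
    DCoh.IsPerfect ((DCoh.Lpull f).obj E) := by
  obtain ⟨P, hP, ⟨e⟩⟩ := exists_kflat_rep E
  obtain ⟨v⟩ := lpull_value f P hP
  refine (isPerfect_iff_rep (v.symm ≪≫ (DCoh.Lpull f).mapIso e)).2 fun x => ?_
  obtain ⟨V, S, hx, hS, ⟨i⟩⟩ := (isPerfect_iff_rep e).1 hE (f x)
  obtain ⟨j⟩ := nonempty_iso_pullCx (f ∣_ V) (isKFlat_restrictCx V hP) (isKFlat_of_strictlyPerfect hS) i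
  exact ⟨f ⁻¹ᵁ V, (pullCxF (f ∣_ V)).obj S, hx, strictlyPerfect_pullback _ hS,
    ⟨DerivedCategory.Q.mapIso (pullSquareCxIso f V P) ≪≫ j⟩⟩

theorem isPerfect_ltensor (L : CochainComplex X.Modules ℤ) (hL : DCoh.IsKFlat L)
    (hLp : DCoh.IsPerfect (DerivedCategory.Q.obj L)) [DCoh.HasLTensorCx L] {K : DCoh.D X} (hK : DCoh.IsPerfect K) :
    DCoh.IsPerfect ((DCoh.LTensorCx L).obj K) := by
  obtain ⟨P, hP, ⟨e⟩⟩ := exists_kflat_rep K
  obtain ⟨v⟩ := ltensorCx_value L P hP
  refine (isPerfect_iff_rep (v.symm ≪≫ (DCoh.LTensorCx L).mapIso e)).2 fun x => ?_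
  obtain ⟨V₁, S₁, hx₁, hS₁, ⟨i₁⟩⟩ := (isPerfect_iff_rep e).1 hK x
  obtain ⟨V₂, S₂, hx₂, hS₂, ⟨i₂⟩⟩ := (isPerfect_iff_rep (Iso.refl _)).1 hLp x
  let W := V₁ ⊓ V₂
  have h₁ : W ≤ V₁ := inf_le_left
  have h₂ : W ≤ V₂ := inf_le_right
  obtain ⟨j₁⟩ := nonempty_iso_pullCx (X.homOfLE h₁) (isKFlat_restrictCx V₁ hP) (isKFlat_of_strictlyPerfect hS₁) i₁
  obtain ⟨j₂⟩ := nonempty_iso_pullCx (X.homOfLE h₂) (isKFlat_restrictCx V₂ hL) (isKFlat_of_strictlyPerfect hS₂) i₂
  have hS₁' := strictlyPerfect_pullback (X.homOfLE h₁) hS₁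
  have hS₂' := strictlyPerfect_pullback (X.homOfLE h₂) hS₂
  obtain ⟨k⟩ := nonempty_iso_tensorCx (isKFlat_pullback W.ι hP) (isKFlat_of_strictlyPerfect hS₁')
    (isKFlat_pullback W.ι hL) (isKFlat_of_strictlyPerfect hS₂')
    (DerivedCategory.Q.mapIso ((restrictCxIso W P).symm ≪≫ restrictCxLeIso h₁ P) ≪≫ j₁)
    (DerivedCategory.Q.mapIso ((restrictCxIso W L).symm ≪≫ restrictCxLeIso h₂ L) ≪≫ j₂)
  exact ⟨W, _, ⟨hx₁, hx₂⟩, strictlyPerfect_tensor hS₁' hS₂',
    ⟨DerivedCategory.Q.mapIso (restrictCxIso W _ ≪≫ pullTensorCxIso W.ι P L) ≪≫ k⟩⟩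

/-- The cohomological vanishing needed for pseudo-coherence pulls back. -/
theorem pseudo_pullCx (f : X ⟶ Y) {A B : CochainComplex Y.Modules ℤ} (hA : DCoh.IsKFlat A) (hB : DCoh.IsKFlat B)
    (α : DerivedCategory.Q.obj A ⟶ DerivedCategory.Q.obj B) (m : ℤ)
    (h : ∀ i, m < i → IsIso ((DerivedCategory.homologyFunctor _ i).map α))
    (hm : Epi ((DerivedCategory.homologyFunctor _ m).map α)) :
    ∃ β : DerivedCategory.Q.obj ((pullCxF f).obj A) ⟶ DerivedCategory.Q.obj ((pullCxF f).obj B),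
      (∀ i, m < i → IsIso ((DerivedCategory.homologyFunctor _ i).map β)) ∧
        Epi ((DerivedCategory.homologyFunctor _ m).map β) := by
  obtain ⟨A', s, hs, g, rfl⟩ := DerivedCategory.right_fac α
  obtain ⟨N, r, hN, -, hr, -⟩ := exists_kflat_resolution A'
  have hQr : IsIso (DerivedCategory.Q.map r) := (DerivedCategory.isIso_Q_map_iff_quasiIso _ r).2 hr
  have hQrs : IsIso (DerivedCategory.Q.map (r ≫ s)) := by rw [Functor.map_comp]; infer_instance
  have hqrs : QuasiIso (r ≫ s) := (DerivedCategory.isIso_Q_map_iff_quasiIso _ _).1 hQrs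
  let φ : N ⟶ B := r ≫ g
  have hφ : DerivedCategory.Q.map φ =
      DerivedCategory.Q.map (r ≫ s) ≫ (inv (DerivedCategory.Q.map s) ≫ DerivedCategory.Q.map g) := by
    simp [φ]
  have hT := DerivedCategory.mappingCone_triangle_distinguished φ
  have hC : ∀ i, m - 1 < i → IsZero ((CochainComplex.mappingCone φ).homology i) := fun i hi => by
    refine ((DerCat.cone_vanish_iff _ hT m).2 ⟨fun j hj => ?_, ?_⟩ i (by omega)).of_iso (hdIso _ i).symm
    · change IsIso ((DerivedCategory.homologyFunctor _ j).map (DerivedCategory.Q.map φ))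
      rw [hφ, Functor.map_comp]
      have := h j hj
      infer_instance
    · change Epi ((DerivedCategory.homologyFunctor _ m).map (DerivedCategory.Q.map φ))
      rw [hφ, Functor.map_comp]
      exact epi_comp _ _
  have hQ := quasiIso_pullback f (r ≫ s) hN hA
  refine ⟨inv (DerivedCategory.Q.map ((pullCxF f).map (r ≫ s))) ≫ DerivedCategory.Q.map ((pullCxF f).map φ), ?_⟩
  have h' := (DerCat.cone_vanish_iff _ (DerivedCategory.mappingCone_triangle_distinguished ((pullCxF f).map φ)) m).1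
    fun i hi => (isZero_homology_pullback f (isKFlat_mappingCone φ hN hB) hC i (by omega)).of_iso (hdIso _ i ≪≫
      (HomologicalComplex.homologyFunctor X.Modules (ComplexShape.up ℤ) i).mapIso
        (CochainComplex.mappingCone.mapHomologicalComplexIso φ (Scheme.Modules.pullback f)).symm)
  refine ⟨fun i hi => ?_, ?_⟩
  · have : IsIso ((DerivedCategory.homologyFunctor _ i).map (DerivedCategory.Q.map ((pullCxF f).map φ))) := h'.1 i hi
    rw [Functor.map_comp]
    infer_instance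
  · have : Epi ((DerivedCategory.homologyFunctor _ m).map (DerivedCategory.Q.map ((pullCxF f).map φ))) := h'.2
    rw [Functor.map_comp]
    exact epi_comp _ _

theorem isPseudoCoherent_lpull (f : X ⟶ Y) [DCoh.HasLpull f] {m : ℤ} {E : DCoh.D Y}
    (hE : DCoh.IsPseudoCoherentD m E) : DCoh.IsPseudoCoherentD m ((DCoh.Lpull f).obj E) := by
  obtain ⟨P, hP, ⟨e⟩⟩ := exists_kflat_rep E
  obtain ⟨v⟩ := lpull_value f P hP
  intro x
  obtain ⟨V, hx, hV⟩ := hE (f x)
  obtain ⟨S, α, hS, hiso, hepi⟩ := hV P ⟨e⟩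
  obtain ⟨β, hβ, hβm⟩ := pseudo_pullCx (f ∣_ V) (isKFlat_of_strictlyPerfect hS) (isKFlat_restrictCx V hP) α m hiso hepi
  refine ⟨f ⁻¹ᵁ V, hx, fun F ⟨eF⟩ => ?_⟩
  obtain ⟨j⟩ := nonempty_iso_restrictCx (f ⁻¹ᵁ V) (eF ≪≫ (DCoh.Lpull f).mapIso e.symm ≪≫ v)
  let k := DerivedCategory.Q.mapIso (pullSquareCxIso f V P).symm ≪≫ j.symm
  refine ⟨(pullCxF (f ∣_ V)).obj S, β ≫ k.hom, strictlyPerfect_pullback _ hS, fun i hi => ?_, ?_⟩
  · rw [Functor.map_comp]
    have := hβ i hi
    infer_instance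
  · rw [Functor.map_comp]
    exact epi_comp _ _

end GrothLib.OX
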