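import Groth.Agent.Lib.OX.LocalLift
import Groth.Agent.Lib.OX.PerfectLemmas

/-! # Maps out of strictly perfect complexes are locally null-homotopic -/

set_option autoImplicit false
set_option maxHeartbeats 800000
universe u

open CategoryTheory CategoryTheory.Limits AlgebraicGeometry HomologicalComplex

attribute [local instance] HasDerivedCategory.standard

namespace GrothLib.OX

variable {X : Scheme.{u}}

/-- Restriction of complexes along an open immersion. -/
noncomputable abbrev resCx {U : Scheme.{u}} (j : U ⟶ X) [IsOpenImmersion j] :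
    CochainComplex X.Modules ℤ ⥤ CochainComplex U.Modules ℤ :=
  (Scheme.Modules.restrictFunctor j).mapHomologicalComplex (ComplexShape.up ℤ)

/-- Restriction along a composite. -/
noncomputable def resCxCompIso {U W : Scheme.{u}} (j' : W ⟶ U) (j : U ⟶ X) [IsOpenImmersion j]
    [IsOpenImmersion j'] : resCx (j' ≫ j) ≅ resCx j ⋙ resCx j' :=
  NatIso.ofComponents
    (fun K => HomologicalComplex.Hom.isoOfComponents
      (fun i => (Scheme.Modules.restrictFunctorComp j' j).app (K.X i))
      (fun i i' _ => ((Scheme.Modules.restrictFunctorComp j' j).hom.naturality (K.d i i')).symm))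
    (fun φ => HomologicalComplex.hom_ext _ _ fun i => (Scheme.Modules.restrictFunctorComp j' j).hom.naturality (φ.f i))

theorem isFinLocFree_restrict {U : Scheme.{u}} (j : U ⟶ X) [IsOpenImmersion j] {M : X.Modules}
    (h : FlatMod.IsFinLocFree M) : FlatMod.IsFinLocFree ((Scheme.Modules.restrictFunctor j).obj M) :=
  DCoh.isFinLocFree_of_iso ((Scheme.Modules.restrictFunctorIsoPullback j).app M).symm (isFinLocFree_pullback j h)

theorem exactAt_resCx {U : Scheme.{u}} (j : U ⟶ X) [IsOpenImmersion j] {K : CochainComplex X.Modules ℤ} {i : ℤ}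
    (h : K.ExactAt i) : ((resCx j).obj K).ExactAt i :=
  (exactAt_iff _ _).2 (((exactAt_iff _ _).1 h).map (Scheme.Modules.restrictFunctor j))

theorem exists_local_step {E F : CochainComplex X.Modules ℤ} (α : E ⟶ F) (k : ℤ)
    (hk : ∀ i, k < i → α.f i = 0) (hF : F.ExactAt k) (hE : FlatMod.IsFinLocFree (E.X k)) (x : X) :
    ∃ (U : Scheme.{u}) (j : U ⟶ X) (_ : IsOpenImmersion j) (β : (resCx j).obj E ⟶ (resCx j).obj F),
      x ∈ Set.range j ∧ Nonempty (Homotopy ((resCx j).map α) β) ∧ ∀ i, k ≤ i → β.f i = 0 := by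
  have hα : α.f k ≫ F.d k (k + 1) = 0 := by
    rw [α.comm k (k + 1), hk (k + 1) (by omega), comp_zero]
  have hex := (F.exactAt_iff' (k - 1) k (k + 1) (by simp) (by simp)).1 hF
  have : Epi (kernel.lift (F.d k (k + 1)) (F.d (k - 1) k) (F.d_comp_d _ _ _)) :=
    (ShortComplex.exact_iff_epi_kernel_lift _).1 hex
  obtain ⟨U, j, hj, h, hx, hh⟩ := exists_local_lift hE (kernel.lift (F.d k (k + 1)) (F.d (k - 1) k) (F.d_comp_d _ _ _))
    (kernel.lift (F.d k (k + 1)) (α.f k) hα) x
  let R := Scheme.Modules.restrictFunctor j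
  have hh' : h ≫ R.map (F.d (k - 1) k) = R.map (α.f k) := by
    have := congrArg (· ≫ R.map (kernel.ι (F.d k (k + 1)))) hh
    rwa [Category.assoc, ← R.map_comp, ← R.map_comp, kernel.lift_ι, kernel.lift_ι] at this
  let hom : ∀ i i', (ComplexShape.up ℤ).Rel i' i → (((resCx j).obj E).X i ⟶ ((resCx j).obj F).X i') :=
    fun i i' hi => if hik : i = k then
      R.map (eqToHom (congrArg E.X hik)) ≫ h ≫ R.map (eqToHom (congrArg F.X (show k - 1 = i' by
        have hi' : i' + 1 = i := hi
        omega))) else 0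
  let N := Homotopy.nullHomotopicMap' hom
  refine ⟨U, j, hj, (resCx j).map α - N, hx, ⟨Homotopy.equivSubZero.symm
    ((Homotopy.ofEq (sub_sub_cancel ((resCx j).map α) N)).trans (Homotopy.nullHomotopy' hom))⟩, fun i hi => ?_⟩
  have h₁ : (ComplexShape.up ℤ).Rel i (i + 1) := rfl
  have h₂ : (ComplexShape.up ℤ).Rel (i - 1) i := show i - 1 + 1 = i by omega
  rw [HomologicalComplex.sub_f_apply, Homotopy.nullHomotopicMap'_f h₂ h₁ hom]
  simp only [hom, dif_neg (show ¬ i + 1 = k by omega), comp_zero, zero_add, sub_eq_zero]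
  by_cases hik : i = k
  · subst hik
    rw [dif_pos rfl, eqToHom_refl, eqToHom_refl, CategoryTheory.Functor.map_id, CategoryTheory.Functor.map_id]
    exact (hh'.symm.trans (congrArg (· ≫ R.map (F.d (i - 1) i))
      ((Category.id_comp _).trans (Category.comp_id _)).symm))
  · rw [dif_neg hik, zero_comp]
    change R.map (α.f i) = 0
    rw [hk i (by omega), R.map_zero]

/-- A map from a strictly perfect complex to a complex without cohomology in its range is locally null-homotopic. -/
theorem exists_local_null (a : ℤ) (n : ℕ) : ∀ {X : Scheme.{u}} {E F : CochainComplex X.Modules ℤ} (α : E ⟶ F),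
    (∀ i, FlatMod.IsFinLocFree (E.X i)) → (∀ i, i < a → IsZero (E.X i)) → (∀ i, a ≤ i → F.ExactAt i) →
    (∀ i, a + n ≤ i → α.f i = 0) → ∀ x : X, ∃ (U : Scheme.{u}) (j : U ⟶ X) (_ : IsOpenImmersion j),
      x ∈ Set.range j ∧ Nonempty (Homotopy ((resCx j).map α) 0) := by
  induction n with
  | zero =>
    intro X E F α _ hEa _ hα x
    have : α = 0 := HomologicalComplex.hom_ext _ _ fun i => by
      by_cases hi : i < a
      · exact (hEa i hi).eq_of_src _ _
      · exact hα i (by omega)
    exact ⟨X, 𝟙 X, inferInstance, ⟨x, rfl⟩, ⟨Homotopy.ofEq (by rw [this, Functor.map_zero])⟩⟩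
  | succ n ih =>
    intro X E F α hE hEa hF hα x
    obtain ⟨U, j, hj, β, ⟨y, rfl⟩, ⟨h₁⟩, hβ⟩ := exists_local_step α (a + n)
      (fun i hi => hα i (by push_cast; omega)) (hF _ (by omega)) (hE _) x
    obtain ⟨W, j', hj', ⟨z, rfl⟩, ⟨h₂⟩⟩ := ih β (fun i => isFinLocFree_restrict j (hE i))
      (fun i hi => (Scheme.Modules.restrictFunctor j).map_isZero (hEa i hi)) (fun i hi => exactAt_resCx j (hF i hi))
      hβ y
    refine ⟨W, j' ≫ j, inferInstance, ⟨z, rfl⟩, ⟨?_⟩⟩
    let c := resCxCompIso j' j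
    exact (Homotopy.ofEq (NatIso.naturality_2 c α).symm).trans
      ((((((Scheme.Modules.restrictFunctor j').mapHomotopy h₁).trans h₂).compRight (c.inv.app F)).compLeft
        (c.hom.app E)).trans (Homotopy.ofEq (by rw [zero_comp, comp_zero])))

/-- The same, on an open neighbourhood. -/
theorem exists_open_null {E F : CochainComplex X.Modules ℤ} (α : E ⟶ F) (hE : DCoh.IsStrictlyPerfect E) (a : ℤ)
    (hEa : ∀ i, i < a → IsZero (E.X i)) (hF : ∀ i, a ≤ i → IsZero (F.homology i)) (x : X) :
    ∃ V : X.Opens, x ∈ V ∧ Nonempty (Homotopy ((DCoh.restrictCx V).map α) 0) := by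
  obtain ⟨⟨a', b, hab⟩, hfl⟩ := hE
  obtain ⟨U, j, hj, hx, ⟨h⟩⟩ := exists_local_null a (b + 1 - a).toNat α hfl hEa
    (fun i hi => (exactAt_iff_isZero_homology _ _).2 (hF i hi))
    (fun i hi => (hab i (Or.inr (by omega))).eq_of_src _ _) x
  let e := j.isoOpensRange
  refine ⟨j.opensRange, hx, ⟨?_⟩⟩
  let c : resCx j.opensRange.ι ≅ resCx j ⋙ resCx e.inv :=
    NatIso.mapHomologicalComplex (Scheme.Modules.restrictFunctorCongr
      (show j.opensRange.ι = e.inv ≫ j by
        rw [Iso.eq_inv_comp]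
        exact j.isoOpensRange_hom_ι)) (ComplexShape.up ℤ) ≪≫ resCxCompIso e.inv j
  exact (Homotopy.ofEq (NatIso.naturality_2 c α).symm).trans
      (((((Scheme.Modules.restrictFunctor e.inv).mapHomotopy h).compRight (c.inv.app F)).compLeft
        (c.hom.app E)).trans (Homotopy.ofEq (by rw [Functor.map_zero, zero_comp, comp_zero])))

open CochainComplex HomComplex in
/-- A null-homotopy into a mapping cone gives a lift up to homotopy. -/
theorem exists_lift_of_null {E F G : CochainComplex X.Modules ℤ} (α : E ⟶ F) (f : G ⟶ F)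
    (h : Homotopy (α ≫ CochainComplex.mappingCone.inr f) 0) :
    ∃ β : E ⟶ G, Nonempty (Homotopy (β ≫ f) α) := by
  obtain ⟨z, hz⟩ := Cochain.equivHomotopy _ _ h
  let u : Cochain E G 0 := z.comp (mappingCone.fst f).1 (by omega)
  let v : Cochain E F (-1) := z.comp (mappingCone.snd f) (add_zero (-1))
  have hz' : z = mappingCone.liftCochain f u v (by omega) :=
    (mappingCone.ext_cochain_to_iff f (-1) 0 (by omega)).2 ⟨by simp [u], by simp [v]⟩
  rw [hz', mappingCone.δ_liftCochain f u v (by omega) 1 (by omega)] at hz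
  simp only [Cochain.ofHom_zero, add_zero] at hz
  have h1 := congrArg (fun c => c.comp (mappingCone.fst f).1 (zero_add 1)) hz
  have h2 := congrArg (fun c => c.comp (mappingCone.snd f) (add_zero 0)) hz
  simp at h1 h2
  let β : E ⟶ G := Cocycle.homOf (Cocycle.mk u 1 (by omega) (by simpa using h1))
  refine ⟨β, ⟨((Cochain.equivHomotopy _ _).symm ⟨v, ?_⟩).symm⟩⟩
  rw [Cochain.ofHom_comp]
  simp only [β, Cocycle.cochain_ofHom_homOf_eq_coe]
  exact h2

theorem exists_open_lift {E F G : CochainComplex X.Modules ℤ} (α : E ⟶ F) (f : G ⟶ F)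
    (hE : DCoh.IsStrictlyPerfect E) (a : ℤ) (hEa : ∀ j, j < a → IsZero (E.X j))
    (hf : ∀ j, a < j → IsIso (HomologicalComplex.homologyMap f j))
    (hfa : Epi (HomologicalComplex.homologyMap f a)) (x : X) :
    ∃ (V : X.Opens) (β : (DCoh.restrictCx V).obj E ⟶ (DCoh.restrictCx V).obj G), x ∈ V ∧
      Nonempty (Homotopy (β ≫ (DCoh.restrictCx V).map f) ((DCoh.restrictCx V).map α)) := by
  let F₀ := fun i => DerivedCategory.homologyFunctorFactors X.Modules i
  have hC : ∀ i, a ≤ i → IsZero ((CochainComplex.mappingCone f).homology i) := fun i hi =>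
    ((DerCat.cone_vanish_iff _ (DerivedCategory.mappingCone_triangle_distinguished f) a).2
      ⟨fun j hj => ((MorphismProperty.isomorphisms _).arrow_mk_iso_iff
        (Arrow.isoMk ((F₀ j).app G) ((F₀ j).app F) ((F₀ j).hom.naturality f).symm)).2 (hf j hj),
      ((MorphismProperty.epimorphisms _).arrow_mk_iso_iff
        (Arrow.isoMk ((F₀ a).app G) ((F₀ a).app F) ((F₀ a).hom.naturality f).symm)).2 hfa⟩ i hi).of_iso
      (hdIso _ i).symm
  obtain ⟨V, hx, ⟨h⟩⟩ := exists_open_null (α ≫ CochainComplex.mappingCone.inr f) hE a hEa hC x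
  let R := Scheme.Modules.restrictFunctor V.ι
  have h' : Homotopy ((DCoh.restrictCx V).map α ≫ CochainComplex.mappingCone.inr ((DCoh.restrictCx V).map f)) 0 :=
    (Homotopy.ofEq (by
      rw [← CochainComplex.mappingCone.map_inr f R, ← Category.assoc, ← Functor.map_comp])).trans
    ((h.compRight (CochainComplex.mappingCone.mapHomologicalComplexIso f R).hom).trans (Homotopy.ofEq zero_comp))
  obtain ⟨β, hβ⟩ := exists_lift_of_null _ _ h'
  exact ⟨V, β, hx, hβ⟩

end GrothLib.OX
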