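import Groth.Agent.Lib.OX.PullbackKFlat
import Groth.Agent.Lib.Derive.Left
import Groth.Prelude.Def_DCoh4

/-! # Existence of the left derived pullback -/

set_option autoImplicit false
set_option maxHeartbeats 400000
universe u

open CategoryTheory CategoryTheory.Limits AlgebraicGeometry HomologicalComplex MonoidalCategory

attribute [local instance] HasDerivedCategory.standard

namespace GrothLib.OX

variable {X Y : Scheme.{u}}

/-- Tensoring a K-flat acyclic complex with a module, degreewise, is acyclic. -/
theorem acyclic_tensor_module {C : CochainComplex X.Modules ℤ} (hC : C.Acyclic) (hK : DCoh.IsKFlat C)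
    (F : X.Modules) :
    ((((DCoh.tensorBi (X := X)).flip.obj F).mapHomologicalComplex (ComplexShape.up ℤ)).obj C).Acyclic :=
  DerCat.acyclic_of_iso (tensorCxSymm _ _ ≪≫ (singleIso C F).symm)
    (acyclic_tensor_of_acyclic_isKFlat hC hK ((HomologicalComplex.single X.Modules (ComplexShape.up ℤ) 0).obj F))

/-- Base change is tensoring, on underlying groups. -/
theorem exact_extendScalars_of_tensorLeft {R S : Type u} [CommRing R] [CommRing S] (φ : R →+* S)
    (T : ShortComplex (ModuleCat.{u} R))
    (h : (T.map (tensorLeft ((ModuleCat.restrictScalars φ).obj (ModuleCat.of S S)))).Exact) :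
    (T.map (ModuleCat.extendScalars φ)).Exact := by
  rw [ShortComplex.ShortExact.moduleCat_exact_iff_function_exact]  at h ⊢
  exact h

/-- The base change of a stalk, as tensoring with a skyscraper. -/
theorem exact_extendScalars_stalk (f : X ⟶ Y) (x : X) {S : ShortComplex Y.Modules}
    (h : ∀ F : Y.Modules, (S.map ((DCoh.tensorBi (X := Y)).flip.obj F)).Exact) :
    ((S.map (stalk (f x))).map (ModuleCat.extendScalars (f.stalkMap x).hom)).Exact := by
  let A : ModuleCat.{u} (Y.presheaf.stalk (f x)) :=
    (ModuleCat.restrictScalars (f.stalkMap x).hom).obj (ModuleCat.of (X.presheaf.stalk x) (X.presheaf.stalk x))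
  have h₁ : ((S.map (stalk (f x))).map (tensorLeft A)).Exact := by
    have h₀ := (h ((sky (f x)).obj A)).map (stalk (f x))
    let e : (DCoh.tensorBi (X := Y)).flip.obj ((sky (f x)).obj A) ⋙ stalk (f x) ≅ stalk (f x) ⋙ tensorLeft A :=
      tensorRightStalkIso (f x) ((sky (f x)).obj A) ≪≫
        Functor.isoWhiskerLeft (stalk (f x))
          ((tensoringRight _).mapIso (asIso ((stalkSkyAdj (f x)).counit.app A)) ≪≫
            (BraidedCategory.tensorLeftIsoTensorRight A).symm)
    exact (ShortComplex.exact_iff_of_iso (S.mapNatIso e)).1 h₀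
  exact exact_extendScalars_of_tensorLeft (f.stalkMap x).hom (S.map (stalk (f x))) h₁

/-- The pullback of an acyclic K-flat complex is acyclic. -/
theorem acyclic_pullback (f : X ⟶ Y) {C : CochainComplex Y.Modules ℤ} (hC : C.Acyclic) (hK : DCoh.IsKFlat C) :
    (((Scheme.Modules.pullback f).mapHomologicalComplex (ComplexShape.up ℤ)).obj C).Acyclic := fun i => by
  refine (exact_iff _).2 fun x => ?_
  exact (ShortComplex.exact_iff_of_iso ((C.sc i).mapNatIso (pullStalkIso f x))).2
    (exact_extendScalars_stalk f x fun F => acyclic_tensor_module hC hK F i)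

/-- The pullback of a quasi-isomorphism of K-flat complexes is a quasi-isomorphism. -/
theorem quasiIso_pullback (f : X ⟶ Y) {K L : CochainComplex Y.Modules ℤ} (φ : K ⟶ L) [QuasiIso φ]
    (hK : DCoh.IsKFlat K) (hL : DCoh.IsKFlat L) :
    QuasiIso (((Scheme.Modules.pullback f).mapHomologicalComplex (ComplexShape.up ℤ)).map φ) :=
  (DerCat.quasiIso_iff_acyclic_mappingCone _).2
    (DerCat.acyclic_of_iso (CochainComplex.mappingCone.mapHomologicalComplexIso φ (Scheme.Modules.pullback f))
      (acyclic_pullback f ((DerCat.quasiIso_iff_acyclic_mappingCone φ).1 inferInstance)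
        (isKFlat_mappingCone φ hK hL)))

instance hasRightCalculusOfFractions_quasiIso :
    (HomotopyCategory.quasiIso Y.Modules (ComplexShape.up ℤ)).HasRightCalculusOfFractions := by
  rw [HomotopyCategory.quasiIso_eq_trW_subcategoryAcyclic]
  infer_instance

/-- K-flat complexes with flat terms, in the homotopy category. -/
def kFlatObj : ObjectProperty (HomotopyCategory Y.Modules (ComplexShape.up ℤ)) :=
  fun Q => DCoh.IsKFlat Q.as ∧ FlatTerms Q.as

theorem pullKh_leftResolvable (f : X ⟶ Y) :
    Derive.LeftResolvable (HomotopyCategory.quasiIso Y.Modules (ComplexShape.up ℤ)) kFlatObj (DCoh.pullKh f) where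
  exists_res G := by
    obtain ⟨K, q, hK, hf, hq, -⟩ := exists_kflat_resolution G.as
    exact ⟨(HomotopyCategory.quotient _ _).obj K, (HomotopyCategory.quotient _ _).map q, ⟨hK, hf⟩,
      (HomotopyCategory.quotient_map_mem_quasiIso_iff q).2 hq⟩
  inverts Q Q' s hQ hQ' hs := by
    obtain ⟨φ, rfl⟩ := (HomotopyCategory.quotient Y.Modules (ComplexShape.up ℤ)).map_surjective s
    have : QuasiIso φ := (HomotopyCategory.quotient_map_mem_quasiIso_iff φ).1 hs
    have := quasiIso_pullback f φ hQ.1 hQ'.1
    exact Localization.inverts DerivedCategory.Qh (HomotopyCategory.quasiIso X.Modules (ComplexShape.up ℤ)) _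
      ((HomotopyCategory.quotient_map_mem_quasiIso_iff _).2 this)

theorem hasLpull (f : X ⟶ Y) : DCoh.HasLpull f :=
  (pullKh_leftResolvable f).hasLeftDerivedFunctor

end GrothLib.OX
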