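import Groth.Agent.Lib.OX.LTensorCx
import Groth.Agent.Lib.OX.ExtZeroOpen
import Groth.Agent.Lib.OX.PerfectLemmas
import Groth.Agent.Lib.OX.Lpull
import Groth.Agent.Lib.OX.LocalHomotopy

/-! # Tensor products and quasi-isomorphisms over an open -/

set_option autoImplicit false
set_option maxHeartbeats 1000000
universe u

open CategoryTheory CategoryTheory.Limits MonoidalCategory AlgebraicGeometry HomologicalComplex

attribute [local instance] HasDerivedCategory.standard

namespace GrothLib.OX

variable {U X : Scheme.{u}} (j : U ⟶ X) [IsOpenImmersion j]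

/-- Restriction is pullback, on complexes. -/
noncomputable def resPullCxIso : resCx j ≅ pullCxF j :=
  NatIso.mapHomologicalComplex (Scheme.Modules.restrictFunctorIsoPullback j) _

/-- Restriction commutes with the tensor product of complexes. -/
noncomputable def resTensorCxIso (K L : CochainComplex X.Modules ℤ) :
    (resCx j).obj (((DCoh.tensorCx (X := X)).obj K).obj L) ≅
      ((DCoh.tensorCx (X := U)).obj ((resCx j).obj K)).obj ((resCx j).obj L) :=
  (resPullCxIso j).app _ ≪≫ pullTensorCxIso j K L ≪≫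
    ((DCoh.tensorCx (X := U)).mapIso ((resPullCxIso j).app K).symm).app _ ≪≫
    ((DCoh.tensorCx (X := U)).obj ((resCx j).obj K)).mapIso ((resPullCxIso j).app L).symm

theorem isKFlat_resCx {K : CochainComplex X.Modules ℤ} (hK : DCoh.IsKFlat K) : DCoh.IsKFlat ((resCx j).obj K) :=
  isKFlat_of_iso ((resPullCxIso j).app K).symm (isKFlat_pullback j hK)

theorem acyclic_resCx {L : CochainComplex X.Modules ℤ} (hL : L.Acyclic) : ((resCx j).obj L).Acyclic :=
  acyclic_map _ (fun _ hS => hS.map (Scheme.Modules.restrictFunctor j)) L hL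

/-- A module vanishing on `U` and with vanishing stalks elsewhere vanishes. -/
theorem isZero_of_restrict_of_stalk {M : X.Modules} (h : IsZero ((Scheme.Modules.restrictFunctor j).obj M))
    (h' : ∀ x : X, x ∉ Set.range j → IsZero ((stalk x).obj M)) : IsZero M := by
  have hs : ∀ x : X, IsZero ((stalk x).obj M) := fun x => by
    by_cases hx : x ∈ Set.range j
    · obtain ⟨y, rfl⟩ := hx
      rw [IsZero.iff_id_eq_zero, ← CategoryTheory.Functor.map_id]
      exact stalk_map_zero_of_restrictZero j (𝟙 M) y (h.eq_of_src _ _)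
    · exact h' x hx
  have : IsIso (0 : M ⟶ M) := (isIso_iff _).2 fun x => ⟨0, (hs x).eq_of_src _ _, (hs x).eq_of_src _ _⟩
  exact (IsZero.iff_id_eq_zero M).2 ((cancel_epi (0 : M ⟶ M)).1 (by simp))

instance preservesSmallCoproducts_stalk (x : X) (J : Type) : PreservesColimitsOfShape (Discrete J) (stalk x) :=
  have : PreservesColimitsOfSize.{u, u} (stalk x) := inferInstance
  have : PreservesColimitsOfSize.{0, 0} (stalk x) := preservesSmallestColimits_of_preservesColimits _
  inferInstance

/-- `j_!` preserves K-flatness. -/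
theorem isKFlat_extZero {K : CochainComplex U.Modules ℤ} (hK : DCoh.IsKFlat K) :
    DCoh.IsKFlat (((CxOX.extZero j).mapHomologicalComplex (ComplexShape.up ℤ)).obj K) := by
  let E := ((CxOX.extZero j).mapHomologicalComplex (ComplexShape.up ℤ)).obj K
  refine (isKFlat_iff _).2 fun L hL i => ?_
  let T := ((DCoh.tensorCx (X := X)).obj L).obj E
  rw [HomologicalComplex.exactAt_iff_isZero_homology]
  refine isZero_of_restrict_of_stalk j ?_ fun x hx => ?_
  · let e : (resCx j).obj E ≅ K :=
      (HomologicalComplex.Hom.isoOfComponents (fun n => (asIso (CxOX.extZeroAdj j).unit).app (K.X n))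
        fun n m _ => ((CxOX.extZeroAdj j).unit.naturality (K.d n m)).symm : K ≅ (resCx j).obj E).symm
    have h1 : ((resCx j).obj T).Acyclic :=
      DerCat.acyclic_of_iso (resTensorCxIso j L E).symm
        ((isKFlat_iff _).1 (isKFlat_of_iso e.symm hK) _ (acyclic_resCx j hL))
    exact ((HomologicalComplex.exactAt_iff_isZero_homology _ _).1 (h1 i)).of_iso
      ((T.sc i).mapHomologyIso (Scheme.Modules.restrictFunctor j)).symm
  · refine IsZero.of_iso ?_ ((T.sc i).mapHomologyIso (stalk x)).symm
    have hz : ∀ n, IsZero ((((stalk x).mapHomologicalComplex (ComplexShape.up ℤ)).obj T).X n) := fun n => by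
      let B := (((DCoh.tensorBi (X := X)).mapBifunctorHomologicalComplex (ComplexShape.up ℤ) (ComplexShape.up ℤ)).obj L).obj E
      refine IsZero.of_iso ?_ ((HomologicalComplex.eval _ _ n).mapIso (TotalMap.totalMapIso (stalk x) B)).symm
      refine (IsZero.iff_id_eq_zero _).2 (HomologicalComplex₂.total.hom_ext _ fun p q h => ?_)
      refine IsZero.eq_of_src ?_ _ _
      refine IsZero.of_iso ?_ (stalkTensorBiIso x (L.X p) (E.X q))
      exact (tensorLeft ((stalk x).obj (L.X p))).map_isZero (isZero_stalk_extZero j (K.X q) x hx)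
    exact (ShortComplex.exact_iff_isZero_homology _).1 (ShortComplex.exact_of_isZero_X₂ _ (hz i))

/-- Tensoring with any complex preserves quasi-isomorphisms over an open between K-flat complexes. -/
theorem quasiIso_resCx_tensor {P Q : CochainComplex X.Modules ℤ} (α : P ⟶ Q) (hP : DCoh.IsKFlat P)
    (hQ : DCoh.IsKFlat Q) (hα : QuasiIso ((resCx j).map α)) (E : CochainComplex X.Modules ℤ) :
    QuasiIso ((resCx j).map (((DCoh.tensorCx (X := X)).obj E).map α)) := by
  let R := resCx j
  let T := (DCoh.tensorCx (X := X)).obj E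
  let M := CochainComplex.mappingCone (𝟙 P)
  have hM : M.Acyclic := (DerCat.quasiIso_iff_acyclic_mappingCone (𝟙 P)).1 inferInstance
  have hMK : DCoh.IsKFlat M := isKFlat_mappingCone _ hP hP
  have hz : ∀ C : CochainComplex X.Modules ℤ, DCoh.IsKFlat C → (R.obj C).Acyclic → (R.obj (T.obj C)).Acyclic :=
    fun C hC hC' => DerCat.acyclic_of_iso (resTensorCxIso j E C).symm
      (acyclic_tensor_of_acyclic_isKFlat hC' (isKFlat_resCx j hC) _)
  let a : P ⟶ Q ⊞ M := biprod.lift α (CochainComplex.mappingCone.inr (𝟙 P))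
  let σ : (ShortComplex.mk (biprod.inr : M ⟶ Q ⊞ _) biprod.fst biprod.inr_fst).Splitting :=
    { r := biprod.snd, s := biprod.inl, f_r := biprod.inr_snd, s_g := biprod.inl_fst
      id := (add_comm _ _).trans biprod.total }
  have hfst : QuasiIso (R.map (biprod.fst : Q ⊞ M ⟶ Q)) :=
    DerCat.quasiIso_g_of_acyclic (σ.map R).shortExact (acyclic_resCx j hM)
  have ha : QuasiIso (R.map a) :=
    have : QuasiIso (R.map a ≫ R.map biprod.fst) := by rw [← Functor.map_comp, biprod.lift_fst]; exact hα
    quasiIso_of_comp_right (R.map a) (R.map biprod.fst)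
  have hr : ∀ n, a.f n ≫ (biprod.snd : Q ⊞ M ⟶ _).f n ≫
      (CochainComplex.mappingCone.snd (𝟙 P)).v n n (add_zero n) = 𝟙 (P.X n) := fun n => by
    rw [← Category.assoc, ← HomologicalComplex.comp_f, biprod.lift_snd, CochainComplex.mappingCone.inr_f_snd_v]
  have : Mono a := HomologicalComplex.mono_of_mono_f a fun n => (SplitMono.mk _ (hr n)).mono
  let S : ShortComplex (CochainComplex X.Modules ℤ) := ShortComplex.mk a (cokernel.π a) (cokernel.condition a)
  have hS : S.ShortExact := { exact := ShortComplex.exact_of_g_is_cokernel _ (cokernelIsCokernel a) }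
  have hsp : ∀ n, (S.map (HomologicalComplex.eval X.Modules (ComplexShape.up ℤ) n)).Splitting := fun n =>
    have := (hS.map_of_exact (HomologicalComplex.eval X.Modules (ComplexShape.up ℤ) n)).epi_g
    ShortComplex.Splitting.ofExactOfRetraction _
      (hS.map_of_exact (HomologicalComplex.eval X.Modules (ComplexShape.up ℤ) n)).exact _ (hr n) this
  have hRS : ∀ (S' : ShortComplex (CochainComplex X.Modules ℤ)), S'.ShortExact → (S'.map R).ShortExact :=
    fun S' h' => HomologicalComplex.shortExact_of_degreewise_shortExact _ fun n =>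
      (h'.map_of_exact (HomologicalComplex.eval X.Modules (ComplexShape.up ℤ) n)).map_of_exact
        (Scheme.Modules.restrictFunctor j)
  have hFS : (S.map T).ShortExact := tensorCx_shortExact_of_splitting hsp E
  have : QuasiIso (S.map R).f := ha
  have hX₃ : (R.obj S.X₃).Acyclic := DerCat.acyclic_X₃_of_quasiIso (hRS S hS)
  have hX₃K : DCoh.IsKFlat S.X₃ := isKFlat_X₃ (tensorCx_shortExact_of_splitting hsp) hP (isKFlat_biprod hQ hMK)
  have hT₁ : QuasiIso (R.map (T.map a)) := DerCat.quasiIso_f_of_acyclic (hRS _ hFS) (hz _ hX₃K hX₃)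
  have hT₂ : QuasiIso (R.map (T.map (biprod.fst : Q ⊞ M ⟶ Q))) :=
    DerCat.quasiIso_g_of_acyclic ((σ.map T).map R).shortExact (hz _ hMK (acyclic_resCx j hM))
  rw [show α = a ≫ biprod.fst from (biprod.lift_fst _ _).symm, Functor.map_comp, Functor.map_comp]
  exact quasiIso_comp _ _

/-- Pullback preserves quasi-isomorphisms over opens between K-flat complexes. -/
theorem quasiIso_resCx_pullback {W Y : Scheme.{u}} (f : Y ⟶ X) (i : W ⟶ Y) [IsOpenImmersion i]
    (f' : W ⟶ U) (w : f' ≫ j = i ≫ f) {P Q : CochainComplex X.Modules ℤ} (α : P ⟶ Q) (hP : DCoh.IsKFlat P)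
    (hQ : DCoh.IsKFlat Q) (hα : QuasiIso ((resCx j).map α)) :
    QuasiIso ((resCx i).map ((pullCxF f).map α)) := by
  let c : resCx j ⋙ pullCxF f' ≅ pullCxF f ⋙ resCx i :=
    NatIso.mapHomologicalComplex (Functor.isoWhiskerRight (Scheme.Modules.restrictFunctorIsoPullback j) _ ≪≫
      Scheme.Modules.pullbackComp f' j ≪≫ Scheme.Modules.pullbackCongr w ≪≫
      (Scheme.Modules.pullbackComp i f).symm ≪≫
      Functor.isoWhiskerLeft _ (Scheme.Modules.restrictFunctorIsoPullback i).symm) _
  exact (quasiIso_iff_of_arrow_mk_iso _ _ (Arrow.isoMk (c.app P) (c.app Q) (c.hom.naturality α).symm)).1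
    (quasiIso_pullback f' ((resCx j).map α) (isKFlat_resCx j hP) (isKFlat_resCx j hQ))

end GrothLib.OX
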