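import Groth.Agent.Lib.OX.PCoh

/-! # Perfect and pseudo-coherent objects in distinguished triangles and direct sums -/

set_option autoImplicit false
set_option maxHeartbeats 800000
universe u

open CategoryTheory CategoryTheory.Limits AlgebraicGeometry CategoryTheory.Pretriangulated

attribute [local instance] HasDerivedCategory.standard

namespace GrothLib.OX

variable {X : Scheme.{u}}

theorem Locally.of_local {P : ∀ (U : Scheme.{u}), DCoh.D U → Prop} (hiso : ∀ {U} {A B : DCoh.D U}, P U A → (A ≅ B) → P U B)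
    {K : DCoh.D X}
    (h : ∀ x : X, ∃ (U : Scheme.{u}) (j : U ⟶ X) (_ : IsOpenImmersion j), x ∈ Set.range j ∧ Locally P ((resD j).obj K)) :
    Locally P K :=
  locally_comp hiso fun x => by
    obtain ⟨U, j, hj, ⟨y, hy⟩, hU⟩ := h x
    exact ⟨U, j, hj, y, hy, hU y⟩

theorem Locally.mono {P Q : ∀ (U : Scheme.{u}), DCoh.D U → Prop} (hPQ : ∀ {U} {A : DCoh.D U}, P U A → Q U A)
    {K : DCoh.D X} (h : Locally P K) : Locally Q K := fun x => by
  obtain ⟨U, j, hj, hx, hU⟩ := h x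
  exact ⟨U, j, hj, hx, hPQ hU⟩

theorem Locally.of_iso {P : ∀ (U : Scheme.{u}), DCoh.D U → Prop} (hiso : ∀ {U} {A B : DCoh.D U}, P U A → (A ≅ B) → P U B)
    {K L : DCoh.D X} (h : Locally P K) (e : K ≅ L) : Locally P L := fun x => by
  obtain ⟨U, j, hj, hx, hU⟩ := h x
  exact ⟨U, j, hj, hx, hiso hU ((resD j).mapIso e)⟩

theorem Locally.shift {P Q : ∀ (U : Scheme.{u}), DCoh.D U → Prop} (hiso : ∀ {U} {A B : DCoh.D U}, Q U A → (A ≅ B) → Q U B)
    (k : ℤ) (hPQ : ∀ {U} {A : DCoh.D U}, P U A → Q U (A⟦k⟧)) {K : DCoh.D X} (h : Locally P K) : Locally Q (K⟦k⟧) := fun x => by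
  obtain ⟨U, j, hj, hx, hU⟩ := h x
  exact ⟨U, j, hj, hx, hiso (hPQ hU) (((resD j).commShiftIso k).app K).symm⟩

theorem isPseudoCoherentD_iff {m : ℤ} {K : DCoh.D X} :
    DCoh.IsPseudoCoherentD m K ↔ Locally (fun _ => Approx m) K := by
  refine ⟨fun h x => ?_, fun h x => ?_⟩
  · obtain ⟨V, hx, hV⟩ := h x
    let F := DerivedCategory.Q.objPreimage K
    let e : DerivedCategory.Q.obj F ≅ K := DerivedCategory.Q.objObjPreimageIso K
    obtain ⟨E, α, hE, hiso, hepi⟩ := hV F ⟨e⟩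
    exact ⟨V.toScheme, V.ι, inferInstance, ⟨⟨x, hx⟩, rfl⟩,
      Approx.of_iso ⟨E, α, hE, ⟨hiso, hepi⟩⟩ (((resDFac V.ι).app F).symm ≪≫ (resD V.ι).mapIso e)⟩
  · obtain ⟨U, j, hj, hx, hU⟩ := h x
    have hιj : j.isoOpensRange.inv ≫ j = j.opensRange.ι := by
      rw [Iso.inv_comp_eq, Scheme.Hom.isoOpensRange_hom_ι]
    refine ⟨j.opensRange, hx, fun F ⟨e⟩ => ?_⟩
    obtain ⟨E, α, hE, hiso, hepi⟩ := (hU.restrict j.isoOpensRange.inv).of_iso
      ((nonempty_resD_comp _ j K).some.symm ≪≫ (nonempty_resD_congr hιj K).some ≪≫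
        (resD j.opensRange.ι).mapIso e.symm ≪≫ (resDFac j.opensRange.ι).app F)
    exact ⟨E, α, hE, hiso, hepi⟩

theorem isPerfect_iff {K : DCoh.D X} : DCoh.IsPerfect K ↔ Locally (fun _ => Strict) K := by
  refine ⟨fun h x => ?_, fun h x => ?_⟩
  · obtain ⟨V, hx, hV⟩ := h x
    let F := DerivedCategory.Q.objPreimage K
    let e : DerivedCategory.Q.obj F ≅ K := DerivedCategory.Q.objObjPreimageIso K
    obtain ⟨E, hE, ⟨q⟩⟩ := hV F ⟨e⟩
    exact ⟨V.toScheme, V.ι, inferInstance, ⟨⟨x, hx⟩, rfl⟩, E, hE,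
      ⟨q.symm ≪≫ ((resDFac V.ι).app F).symm ≪≫ (resD V.ι).mapIso e⟩⟩
  · obtain ⟨U, j, hj, hx, hU⟩ := h x
    have hιj : j.isoOpensRange.inv ≫ j = j.opensRange.ι := by
      rw [Iso.inv_comp_eq, Scheme.Hom.isoOpensRange_hom_ι]
    refine ⟨j.opensRange, hx, fun F ⟨e⟩ => ?_⟩
    obtain ⟨E, hE, ⟨q⟩⟩ := (hU.restrict j.isoOpensRange.inv).of_iso
      ((nonempty_resD_comp _ j K).some.symm ≪≫ (nonempty_resD_congr hιj K).some ≪≫
        (resD j.opensRange.ι).mapIso e.symm ≪≫ (resDFac j.opensRange.ι).app F)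
    exact ⟨E, hE, ⟨q.symm⟩⟩

theorem isPseudoCoherentD_of_iso {m : ℤ} {K L : DCoh.D X} (h : DCoh.IsPseudoCoherentD m K) (e : K ≅ L) :
    DCoh.IsPseudoCoherentD m L :=
  isPseudoCoherentD_iff.2 ((isPseudoCoherentD_iff.1 h).of_iso Approx.of_iso e)

theorem isPseudoCoherentD_mono {m n : ℤ} {K : DCoh.D X} (h : DCoh.IsPseudoCoherentD m K) (hmn : m ≤ n) :
    DCoh.IsPseudoCoherentD n K :=
  isPseudoCoherentD_iff.2 ((isPseudoCoherentD_iff.1 h).mono fun h => h.mono hmn)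

theorem isPseudoCoherentD_shift {m : ℤ} {K : DCoh.D X} (h : DCoh.IsPseudoCoherentD m K) (k n : ℤ) (hn : k + n = m) :
    DCoh.IsPseudoCoherentD n (K⟦k⟧) :=
  isPseudoCoherentD_iff.2 ((isPseudoCoherentD_iff.1 h).shift Approx.of_iso k fun h => h.shift k n hn)

theorem isPseudoCoherentD_cone {m : ℤ} {T : Triangle (DCoh.D X)} (hT : T ∈ distTriang _)
    (h₁ : DCoh.IsPseudoCoherentD (m + 1) T.obj₁) (h₂ : DCoh.IsPseudoCoherentD m T.obj₂) :
    DCoh.IsPseudoCoherentD m T.obj₃ := by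
  refine isPseudoCoherentD_iff.2 (Locally.of_local Approx.of_iso fun x => ?_)
  obtain ⟨U, j, hj, hx, hU⟩ := isPseudoCoherentD_iff.1 h₁ x
  refine ⟨U, j, hj, hx, Locally.of_local Approx.of_iso fun y => ?_⟩
  obtain ⟨W, i, hi, hy, hW⟩ := (isPseudoCoherentD_iff.1 h₂).restrict Approx.of_iso
    (fun {_ _} h {_} j hj => @Approx.restrict _ _ _ h _ j hj) j y
  exact ⟨W, i, hi, hy, fun z => exists_open_approx_cone
    ((resD i).map_distinguished _ ((resD j).map_distinguished T hT)) (hU.restrict i) hW z⟩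

theorem isPerfect_cone {T : Triangle (DCoh.D X)} (hT : T ∈ distTriang _)
    (h₁ : DCoh.IsPerfect T.obj₁) (h₂ : DCoh.IsPerfect T.obj₂) : DCoh.IsPerfect T.obj₃ := by
  refine isPerfect_iff.2 (Locally.of_local Strict.of_iso fun x => ?_)
  obtain ⟨U, j, hj, hx, hU⟩ := isPerfect_iff.1 h₁ x
  refine ⟨U, j, hj, hx, Locally.of_local Strict.of_iso fun y => ?_⟩
  obtain ⟨W, i, hi, hy, hW⟩ := (isPerfect_iff.1 h₂).restrict Strict.of_iso (fun {_ _} h {_} j hj => @Strict.restrict _ _ h _ j hj) j y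
  refine ⟨W, i, hi, hy, fun z => ?_⟩
  obtain ⟨V, hz, hV⟩ := exists_open_strict_cone
    ((resD i).map_distinguished _ ((resD j).map_distinguished T hT)) (hU.restrict i) hW z
  exact ⟨V.toScheme, V.ι, inferInstance, ⟨⟨z, hz⟩, rfl⟩, hV⟩

theorem isPerfect_shift {K : DCoh.D X} (h : DCoh.IsPerfect K) (k : ℤ) : DCoh.IsPerfect (K⟦k⟧) :=
  isPerfect_iff.2 ((isPerfect_iff.1 h).shift Strict.of_iso k fun h => h.shift k)

theorem isPerfect_triangle {T : Triangle (DCoh.D X)} (hT : T ∈ distTriang _) :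
    (DCoh.IsPerfect T.obj₁ → DCoh.IsPerfect T.obj₂ → DCoh.IsPerfect T.obj₃) ∧
    (DCoh.IsPerfect T.obj₁ → DCoh.IsPerfect T.obj₃ → DCoh.IsPerfect T.obj₂) ∧
    (DCoh.IsPerfect T.obj₂ → DCoh.IsPerfect T.obj₃ → DCoh.IsPerfect T.obj₁) :=
  ⟨isPerfect_cone hT,
    fun h₁ h₃ => isPerfect_cone (inv_rot_of_distTriang _ hT) (isPerfect_shift h₃ _) h₁,
    fun h₂ h₃ => isPerfect_cone (inv_rot_of_distTriang _ (inv_rot_of_distTriang _ hT))
      (isPerfect_shift h₂ _) (isPerfect_shift h₃ _)⟩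

theorem isPseudoCoherentD_triangle (m : ℤ) {T : Triangle (DCoh.D X)} (hT : T ∈ distTriang _) :
    (DCoh.IsPseudoCoherentD (m + 1) T.obj₁ → DCoh.IsPseudoCoherentD m T.obj₂ → DCoh.IsPseudoCoherentD m T.obj₃) ∧
    (DCoh.IsPseudoCoherentD m T.obj₁ → DCoh.IsPseudoCoherentD m T.obj₃ → DCoh.IsPseudoCoherentD m T.obj₂) ∧
    (DCoh.IsPseudoCoherentD (m + 1) T.obj₂ → DCoh.IsPseudoCoherentD m T.obj₃ →
      DCoh.IsPseudoCoherentD (m + 1) T.obj₁) :=
  ⟨isPseudoCoherentD_cone hT,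
    fun h₁ h₃ => isPseudoCoherentD_cone (inv_rot_of_distTriang _ hT)
      (isPseudoCoherentD_shift h₃ _ _ (by omega)) h₁,
    fun h₂ h₃ => isPseudoCoherentD_cone (inv_rot_of_distTriang _ (inv_rot_of_distTriang _ hT))
      (isPseudoCoherentD_shift h₂ _ _ (by omega)) (isPseudoCoherentD_shift h₃ _ _ (by omega))⟩

theorem exists_iso_cone_split {D : Type*} [Category D] [Preadditive D] [HasZeroObject D] [HasShift D ℤ]
    [∀ n : ℤ, (shiftFunctor D n).Additive] [Pretriangulated D] [IsTriangulated D] {T₁ T₂ : Triangle D}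
    (h₁ : T₁ ∈ distTriang _) (h₂ : T₂ ∈ distTriang _) (e : T₁.obj₂ ≅ T₂.obj₁) (h₀ : T₂.mor₃ = 0) :
    ∃ (T : Triangle D), T ∈ distTriang _ ∧ T.obj₁ = T₁.obj₁ ∧ T.obj₂ = T₂.obj₂ ∧ Nonempty (T.obj₃ ≅ T₁.obj₃ ⊞ T₂.obj₃) := by
  obtain ⟨C, v, w, hC⟩ := distinguished_cocone_triangle ((T₁.mor₁ ≫ e.hom) ≫ T₂.mor₁)
  have h₁' : Triangle.mk (T₁.mor₁ ≫ e.hom) (e.inv ≫ T₁.mor₂) T₁.mor₃ ∈ distTriang _ :=
    isomorphic_distinguished _ h₁ _ (Triangle.isoMk _ _ (Iso.refl _) e.symm (Iso.refl _)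
      ((Category.assoc _ _ _).trans ((congrArg (T₁.mor₁ ≫ ·) e.hom_inv_id).trans
        ((Category.comp_id _).trans (Category.id_comp _).symm))) (Category.comp_id _)
      ((congrArg (T₁.mor₃ ≫ ·) ((shiftFunctor D (1 : ℤ)).map_id _)).trans
        ((Category.comp_id _).trans (Category.id_comp _).symm)))
  let o := Triangulated.someOctahedron rfl h₁' (show Triangle.mk T₂.mor₁ T₂.mor₂ T₂.mor₃ ∈ distTriang _ from h₂) hC
  obtain ⟨i, -, -⟩ := exists_iso_binaryBiproduct_of_distTriang _ o.mem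
    (show T₂.mor₃ ≫ (e.inv ≫ T₁.mor₂)⟦(1 : ℤ)⟧' = 0 by rw [h₀, zero_comp])
  exact ⟨_, hC, rfl, rfl, ⟨i⟩⟩

theorem isPseudoCoherentD_split_step {m : ℤ} {M : DCoh.D X} {T₁ T₂ : Triangle (DCoh.D X)}
    (h₁ : T₁ ∈ distTriang _) (h₂ : T₂ ∈ distTriang _) (e : T₁.obj₂ ≅ T₂.obj₁) (h₀ : T₂.mor₃ = 0)
    (hs : DCoh.IsPseudoCoherentD (m + 1) T₁.obj₁) (ht : DCoh.IsPseudoCoherentD m T₂.obj₂)
    (i : T₁.obj₃ ⊞ T₂.obj₃ ≅ M) : DCoh.IsPseudoCoherentD m M := by
  obtain ⟨T, hT, e₁, e₂, ⟨j⟩⟩ := exists_iso_cone_split h₁ h₂ e h₀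
  exact isPseudoCoherentD_of_iso ((isPseudoCoherentD_triangle m hT).1 (by rw [e₁]; exact hs) (by rw [e₂]; exact ht))
    (j ≪≫ i)

theorem exists_large_pseudo {m : ℤ} {L K : DCoh.D X} (h : DCoh.IsPseudoCoherentD m (L ⊞ K)) :
    ∀ k : ℕ, ∃ n : ℤ, (k : ℤ) < n ∧ DCoh.IsPseudoCoherentD m (K⟦n⟧ ⊞ K) := by
  intro k
  induction k with
  | zero =>
    refine ⟨1, by norm_num, isPseudoCoherentD_split_step
      (rot_of_distTriang _ (binaryBiproductTriangle_distinguished K L)) (binaryBiproductTriangle_distinguished L K)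
      (Iso.refl L) rfl (isPseudoCoherentD_mono (isPseudoCoherentD_of_iso h (biprod.braiding L K)) (by omega)) h
      (Iso.refl _)⟩
  | succ k ih =>
    obtain ⟨n, hn, hN⟩ := ih
    refine ⟨n + n + 1, by push_cast; omega, isPseudoCoherentD_split_step
      (rot_of_distTriang _ (Triangle.shift_distinguished _
        (binaryBiproductTriangle_distinguished (K⟦n⟧) K) n))
      (binaryBiproductTriangle_distinguished (K⟦n⟧) K) (Iso.refl _) rfl
      (isPseudoCoherentD_mono (isPseudoCoherentD_shift hN n (m - n) (by omega)) (by omega)) hN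
      (biprod.mapIso ((shiftFunctor _ (1 : ℤ)).mapIso ((shiftFunctorAdd _ n n).app K).symm ≪≫
        ((shiftFunctorAdd _ (n + n) 1).app K).symm) (Iso.refl _))⟩

theorem approx_of_isLE {m : ℤ} {K : DCoh.D X} (h : K.IsLE (m - 1)) : Approx m K := by
  obtain ⟨Z₀, hZ₀⟩ : ∃ Z₀ : CochainComplex X.Modules ℤ, IsZero Z₀ := ⟨_, HomologicalComplex.isZero_zero⟩
  refine ⟨Z₀, 0, ⟨⟨0, 0, fun i _ => (HomologicalComplex.eval X.Modules (ComplexShape.up ℤ) i).map_isZero hZ₀⟩, fun i =>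
    DCoh.isFinLocFree_of_isZero ((HomologicalComplex.eval X.Modules (ComplexShape.up ℤ) i).map_isZero hZ₀)⟩, ?_⟩
  have hz : ∀ i, m ≤ i → IsZero ((DerivedCategory.homologyFunctor X.Modules i).obj K) := fun i hi =>
    DerivedCategory.isZero_of_isLE K (m - 1) i (by omega)
  have h0 : IsZero (DerivedCategory.Q.obj Z₀) :=
    DerivedCategory.Q.map_isZero hZ₀
  refine ⟨fun i hi => ⟨0, ((DerivedCategory.homologyFunctor X.Modules i).map_isZero h0).eq_of_src _ _,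
    (hz i (by omega)).eq_of_src _ _⟩, ⟨fun g g' _ => (hz m le_rfl).eq_of_src g g'⟩⟩

theorem exists_isLE_of_approx {m : ℤ} {K : DCoh.D X} (h : Approx m K) : ∃ b : ℤ, K.IsLE b := by
  obtain ⟨E, a, ⟨⟨p, q, hpq⟩, -⟩, ha⟩ := h
  refine ⟨max q m, (DerivedCategory.isLE_iff _ _).2 fun i hi => ?_⟩
  have := ha.1 i (by omega)
  exact (((HomologicalComplex.exactAt_iff_isZero_homology _ _).1 (HomologicalComplex.ExactAt.of_isZero (hpq i (Or.inr (by omega))))).of_iso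
    (hdIso E i)).of_iso (asIso ((DerivedCategory.homologyFunctor X.Modules i).map a)).symm

theorem isPseudoCoherentD_biprod_right {m : ℤ} {L K : DCoh.D X} (h : DCoh.IsPseudoCoherentD m (L ⊞ K)) :
    DCoh.IsPseudoCoherentD m K := by
  refine isPseudoCoherentD_iff.2 (Locally.of_local Approx.of_iso fun x => ?_)
  obtain ⟨U, j, hj, hx, hU⟩ := isPseudoCoherentD_iff.1 h x
  refine ⟨U, j, hj, hx, ?_⟩
  obtain ⟨b, hb⟩ := exists_isLE_of_approx hU
  have hK : ((resD j).obj K).IsLE b := (DerivedCategory.isLE_iff _ _).2 fun i hi => by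
    let F := resD j ⋙ DerivedCategory.homologyFunctor U.Modules i
    exact IsZero.of_mono (F.map (biprod.inr : K ⟶ L ⊞ K)) (DerivedCategory.isZero_of_isLE _ b i hi)
  obtain ⟨n, hn, hN⟩ := exists_large_pseudo h (b - m + 1).toNat
  let T := binaryBiproductTriangle (K⟦n⟧) K
  have hK' : ((resD j).obj K⟦n⟧).IsLE (m + 1 - 1) := by
    have := DerivedCategory.TStructure.t.isLE_shift ((resD j).obj K) b n (b - n)
    exact DerivedCategory.TStructure.t.isLE_of_le _ (b - n) (m + 1 - 1) (by omega)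
  have h₁ : DCoh.IsPseudoCoherentD (m + 1) ((resD j).obj (K⟦n⟧)) :=
    isPseudoCoherentD_of_iso (isPseudoCoherentD_iff.2 fun y => ⟨U, 𝟙 U, inferInstance, ⟨y, rfl⟩,
      Approx.restrict (approx_of_isLE hK') _⟩) (((resD j).commShiftIso n).app K).symm
  exact isPseudoCoherentD_iff.1 ((isPseudoCoherentD_triangle m
    ((resD j).map_distinguished T (binaryBiproductTriangle_distinguished _ _))).1 h₁
    (isPseudoCoherentD_iff.2 ((isPseudoCoherentD_iff.1 hN).restrict Approx.of_iso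
      (fun {_ _} h {_} i hi => @Approx.restrict _ _ _ h _ i hi) j)))

theorem isPseudoCoherentD_biprod {m : ℤ} {K L : DCoh.D X} (h : DCoh.IsPseudoCoherentD m (K ⊞ L)) :
    DCoh.IsPseudoCoherentD m K ∧ DCoh.IsPseudoCoherentD m L :=
  ⟨isPseudoCoherentD_biprod_right (isPseudoCoherentD_of_iso h (biprod.braiding K L)),
    isPseudoCoherentD_biprod_right h⟩

end GrothLib.OX
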