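import Groth.Agent.Lib.OX.ProjCx
import Groth.Agent.Lib.OX.LocalTensor
import Groth.Agent.Lib.OX.TensorInjective
import Groth.Agent.Lib.OX.AcyclicPush
import Groth.Agent.Lib.DCoh.LocFree
import Groth.Agent.Lib.OX.PCohTriangle

/-! # The projection formula, locally on the base -/

set_option autoImplicit false
set_option maxHeartbeats 1000000
universe u

open CategoryTheory CategoryTheory.Limits CategoryTheory.Pretriangulated AlgebraicGeometry HomologicalComplex
open DerivedCategory (Q Qh)
open GrothLib.ProjFormula (projHom projHom_natural projNat)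

attribute [local instance] HasDerivedCategory.standard

namespace GrothLib.OX

variable {X Y : Scheme.{u}} (f : X ⟶ Y) (V : Y.Opens)

/-- Pullback and restriction. -/
noncomputable def pullRestrictIso :
    Scheme.Modules.restrictFunctor V.ι ⋙ Scheme.Modules.pullback (f ∣_ V) ≅
      Scheme.Modules.pullback f ⋙ Scheme.Modules.restrictFunctor (f ⁻¹ᵁ V).ι :=
  Functor.isoWhiskerRight (Scheme.Modules.restrictFunctorIsoPullback V.ι) _ ≪≫
    Scheme.Modules.pullbackComp (f ∣_ V) V.ι ≪≫ Scheme.Modules.pullbackCongr (morphismRestrict_ι f V) ≪≫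
    (Scheme.Modules.pullbackComp (f ⁻¹ᵁ V).ι f).symm ≪≫
    Functor.isoWhiskerLeft _ (Scheme.Modules.restrictFunctorIsoPullback (f ⁻¹ᵁ V).ι).symm

/-- Tensoring a map inverted over an open. -/
theorem isIso_restrict_tensor_left {Z U : Scheme.{u}} (j : U ⟶ Z) [IsOpenImmersion j] {M M' : Z.Modules}
    (a : M ⟶ M') (ha : IsIso ((Scheme.Modules.restrictFunctor j).map a)) (N : Z.Modules) :
    IsIso ((Scheme.Modules.restrictFunctor j).map (((DCoh.tensorBi (X := Z)).map a).app N)) := by
  refine (NatIso.isIso_map_iff (Scheme.Modules.restrictFunctorIsoPullback j) _).2 ?_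
  have : IsIso ((Scheme.Modules.pullback j).map a) :=
    (NatIso.isIso_map_iff (Scheme.Modules.restrictFunctorIsoPullback j) a).1 ha
  exact IsIso.of_isIso_fac_right (pullTensorIso_natural₁ j a N)

theorem isIso_restrict_push {G G' : X.Modules} (g : G ⟶ G')
    (hg : IsIso ((Scheme.Modules.restrictFunctor (f ⁻¹ᵁ V).ι).map g)) :
    IsIso ((Scheme.Modules.restrictFunctor V.ι).map ((Scheme.Modules.pushforward f).map g)) :=
  (NatIso.isIso_map_iff (pushRestrictIso f V) g).2
    (inferInstanceAs (IsIso ((Scheme.Modules.pushforward (f ∣_ V)).map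
      ((Scheme.Modules.restrictFunctor (f ⁻¹ᵁ V).ι).map g))))

/-- The projection map is an isomorphism over `V` for `E`. -/
def ProjGood (E : Y.Modules) : Prop :=
  ∀ G : X.Modules, IsIso ((Scheme.Modules.restrictFunctor V.ι).map (projHom f E G))

theorem projGood_iff_of_isIso {E E' : Y.Modules} (a : E ⟶ E')
    (ha : IsIso ((Scheme.Modules.restrictFunctor V.ι).map a)) : ProjGood f V E ↔ ProjGood f V E' := by
  refine forall_congr' fun G => ?_
  let R := Scheme.Modules.restrictFunctor V.ι
  have h1 : IsIso (R.map (((DCoh.tensorBi (X := Y)).map a).app ((Scheme.Modules.pushforward f).obj G))) :=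
    isIso_restrict_tensor_left V.ι a ha _
  have h2 : IsIso (R.map ((Scheme.Modules.pushforward f).map
      (((DCoh.tensorBi (X := X)).map ((Scheme.Modules.pullback f).map a)).app G))) := by
    refine isIso_restrict_push f V _ (isIso_restrict_tensor_left _ _ ?_ G)
    exact (NatIso.isIso_map_iff (pullRestrictIso f V) a).1
      (inferInstanceAs (IsIso ((Scheme.Modules.pullback (f ∣_ V)).map ((Scheme.Modules.restrictFunctor V.ι).map a))))
  have e : R.map (((DCoh.tensorBi (X := Y)).map a).app ((Scheme.Modules.pushforward f).obj G)) ≫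
      R.map (projHom f E' G) = R.map (projHom f E G) ≫ R.map ((Scheme.Modules.pushforward f).map
        (((DCoh.tensorBi (X := X)).map ((Scheme.Modules.pullback f).map a)).app G)) :=
    (R.map_comp _ _).symm.trans ((congrArg R.map (projHom_natural f a G)).trans (R.map_comp _ _))
  refine ⟨fun h => ?_, fun h => ?_⟩
  · exact @IsIso.of_isIso_fac_left _ _ _ _ _ _ _ _ h1 (@IsIso.comp_isIso _ _ _ _ _ _ _ h h2) e
  · exact @IsIso.of_isIso_fac_right _ _ _ _ _ _ _ _ h2 (@IsIso.comp_isIso _ _ _ _ _ _ _ h1 h) e.symm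

theorem isIso_of_decomposition {C D : Type*} [Category C] [Category D] [Preadditive C] [Preadditive D]
    {F₁ F₂ : C ⥤ D} [F₁.Additive] [F₂.Additive] (τ : F₁ ⟶ F₂) {ι : Type} [Fintype ι] (E : C) (M : ι → C)
    (p : ∀ i, E ⟶ M i) (s : ∀ i, M i ⟶ E) (h : ∑ i, p i ≫ s i = 𝟙 E) (hM : ∀ i, IsIso (τ.app (M i))) :
    IsIso (τ.app E) := by
  refine ⟨∑ i, F₂.map (p i) ≫ inv (τ.app (M i)) ≫ F₁.map (s i), ?_, ?_⟩
  · rw [Preadditive.comp_sum, ← F₁.map_id, ← h, F₁.map_sum]
    refine Finset.sum_congr rfl fun i _ => ?_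
    rw [← Category.assoc, ← τ.naturality, Category.assoc, IsIso.hom_inv_id_assoc, F₁.map_comp]
  · rw [Preadditive.sum_comp, ← F₂.map_id, ← h, F₂.map_sum]
    refine Finset.sum_congr rfl fun i _ => ?_
    rw [Category.assoc, Category.assoc, τ.naturality, IsIso.inv_hom_id_assoc, F₂.map_comp]

theorem projGood_free (n : ℕ) : ProjGood f V (FlatMod.freeMod Y n) := fun G => by
  let R := Scheme.Modules.restrictFunctor V.ι
  let F₁ : Y.Modules ⥤ (V : Scheme.{u}).Modules :=
    (DCoh.tensorBi (X := Y)).flip.obj ((Scheme.Modules.pushforward f).obj G) ⋙ R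
  let F₂ : Y.Modules ⥤ (V : Scheme.{u}).Modules :=
    Scheme.Modules.pullback f ⋙ (DCoh.tensorBi (X := X)).flip.obj G ⋙ Scheme.Modules.pushforward f ⋙ R
  have := additive_pullback' f
  let τ : F₁ ⟶ F₂ :=
    { app := fun E => R.map (projHom f E G)
      naturality := fun E E' a =>
        (R.map_comp _ _).symm.trans ((congrArg R.map (projHom_natural f a G)).trans (R.map_comp _ _)) }
  exact isIso_of_decomposition τ _ (fun _ : Fin n => Coh.structureModule Y) _ _ (sigma_pi_total _) fun _ =>
    map_isIso_of R (GrothLib.ProjFormula.isIso_projHom_structureModule f G)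
where
  additive_pullback' {X Y : Scheme.{u}} (f : X ⟶ Y) : (Scheme.Modules.pullback f).Additive :=
    (Scheme.Modules.pullbackPushforwardAdjunction f).left_adjoint_additive

theorem projGood_of_free {E : Y.Modules} {n : ℕ}
    (e : (Scheme.Modules.restrictFunctor V.ι).obj E ≅ FlatMod.freeMod V n) : ProjGood f V E := by
  let R := Scheme.Modules.restrictFunctor V.ι
  let e' : R.obj E ≅ R.obj (FlatMod.freeMod Y n) := e ≪≫
    ((Scheme.Modules.restrictFunctorIsoPullback V.ι).app _ ≪≫ pullFreeModIso V.ι n).symm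
  let a := (CxOX.extZero V.ι).map e'.hom ≫ epsZ V.ι (FlatMod.freeMod Y n)
  have h1 : IsIso (R.map a) := by
    have := isIso_restrict_epsZ V.ι (FlatMod.freeMod Y n)
    rw [Functor.map_comp]
    exact IsIso.comp_isIso
  exact (projGood_iff_of_isIso f V _ (isIso_restrict_epsZ V.ι E)).1
    ((projGood_iff_of_isIso f V a h1).2 (projGood_free f V n))

/-- Over `V`, the projection map of complexes is invertible for bounded complexes free over `V`. -/
theorem isIso_resCx_projCx (P : CochainComplex Y.Modules ℤ) (s : Finset ℤ) (hs : ∀ p, p ∉ s → IsZero (P.X p))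
    (hf : ∀ p, ∃ n, Nonempty (((resCx V.ι).obj P).X p ≅ FlatMod.freeMod V n)) (A : CochainComplex X.Modules ℤ) :
    IsIso ((resCx V.ι).map (projCx f P A)) := by
  let R := Scheme.Modules.restrictFunctor V.ι
  have h1 : IsIso ((R.mapHomologicalComplex (ComplexShape.up ℤ)).mapHomologicalComplex (ComplexShape.up ℤ)
      |>.map (projBicx f P A)) := by
    have : ∀ p, IsIso ((((R.mapHomologicalComplex (ComplexShape.up ℤ)).mapHomologicalComplex
        (ComplexShape.up ℤ)).map (projBicx f P A)).f p) := fun p => by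
      obtain ⟨n, ⟨e⟩⟩ := hf p
      have : ∀ q, IsIso (((((R.mapHomologicalComplex (ComplexShape.up ℤ)).mapHomologicalComplex
        (ComplexShape.up ℤ)).map (projBicx f P A)).f p).f q) := fun q => projGood_of_free f V e (A.X q)
      exact HomologicalComplex.Hom.isIso_of_components _
    exact HomologicalComplex.Hom.isIso_of_components _
  have : PreservesColimitsOfSize.{u, u} R :=
    (Scheme.Modules.restrictAdjunction V.ι).leftAdjoint_preservesColimits
  have : PreservesColimitsOfSize.{0, 0} R := preservesSmallestColimits_of_preservesColimits _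
  have : ∀ J : Type, PreservesColimitsOfShape (Discrete J) R := fun _ => inferInstance
  have h2 : IsIso ((resCx V.ι).map (HomologicalComplex₂.total.map (projBicx f P A) (ComplexShape.up ℤ))) :=
    @IsIso.of_isIso_fac_left _ _ _ _ _ _ _ _ (TotalMap.isIso_totalMap R _)
      (@IsIso.comp_isIso _ _ _ _ _ _ _
        (inferInstanceAs (IsIso ((HomologicalComplex₂.total.mapIso (@asIso _ _ _ _ _ h1) (ComplexShape.up ℤ)).hom)))
        (TotalMap.isIso_totalMap R _))
      (TotalMap.totalMap_natural R (projBicx f P A)).symm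
  have h3 : IsIso (TotalMap.totalMap (Scheme.Modules.pushforward f) (tensorBicx ((pullCxF f).obj P) A)) :=
    TotalMap.isIso_totalMap_of_rows _ _ s fun p hp q =>
      ((DCoh.tensorBi (X := X)).flip.obj (A.X q)).map_isZero ((Scheme.Modules.pullback f).map_isZero (hs p hp))
  rw [projCx, Functor.map_comp]
  exact @IsIso.comp_isIso _ _ _ _ _ _ _ h2 (map_isIso_of (resCx V.ι) h3)

/-- The resolution is invisible over `V` to what is K-injective over `V`. -/
theorem isIso_resD_pushUnit_of_orth (B : CochainComplex X.Modules ℤ)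
    (hB : ((resCx (f ⁻¹ᵁ V).ι).obj B).IsKInjective) : IsIso ((resD V.ι).map (pushUnit f B)) := by
  let W := f ⁻¹ᵁ V
  let RW := (Scheme.Modules.restrictFunctor W.ι).mapHomotopyCategory (ComplexShape.up ℤ)
  let K : HomotopyCategory X.Modules (ComplexShape.up ℤ) := (HomotopyCategory.quotient _ _).obj B
  let η := (KInj.resAdj X.Modules).unit.app K
  have hK : (HomotopyCategory.subcategoryAcyclic _).rightOrthogonal (RW.obj K) :=
    CochainComplex.IsKInjective.rightOrthogonal ((resCx W.ι).obj B)
  have hI : (HomotopyCategory.subcategoryAcyclic _).rightOrthogonal (RW.obj ((KInj.res X.Modules).obj (Qh.obj K))) :=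
    KInj.rightOrthogonal_map (CxOX.extZeroAdj W.ι) (KInj.rightOrthogonal_res _)
  have h0 : IsIso (RW.map η) := by
    have hQ : IsIso (Qh.map (RW.map η)) := by
      refine (NatIso.isIso_map_iff (Scheme.Modules.restrictFunctor W.ι).mapDerivedCategoryFactorsh η).1 ?_
      exact map_isIso_of (resD W.ι) (SiteDer.isIso_Qh_map_unit (A := X.Modules) K)
    let u := (KInj.resAdj (W : Scheme.{u}).Modules).unit
    have hu1 : IsIso (u.app (RW.obj K)) := KInj.isIso_unit_of_rightOrthogonal hK
    have hu2 : IsIso (u.app _) := KInj.isIso_unit_of_rightOrthogonal hI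
    exact @IsIso.of_isIso_fac_right _ _ _ _ _ _ _ _ hu2
      (@IsIso.comp_isIso _ _ _ _ _ _ _ hu1 (map_isIso_of (KInj.res _) hQ)) (u.naturality (RW.map η))
  let c : DCoh.pushKh f ⋙ resD V.ι ≅ RW ⋙ DCoh.pushKh (f ∣_ V) :=
    Functor.isoWhiskerLeft ((Scheme.Modules.pushforward f).mapHomotopyCategory (ComplexShape.up ℤ))
        (Scheme.Modules.restrictFunctor V.ι).mapDerivedCategoryFactorsh ≪≫
      Functor.isoWhiskerRight (Functor.mapHomotopyCategoryCompIso (pushRestrictIso f V) (ComplexShape.up ℤ) ≪≫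
        (Functor.mapHomotopyCategoryCompIso (Iso.refl _) (ComplexShape.up ℤ)).symm) DerivedCategory.Qh
  exact (NatIso.isIso_map_iff c η).2 (map_isIso_of (DCoh.pushKh (f ∣_ V)) h0)

/-- The derived projection map on representatives. -/
noncomputable def projD (P : CochainComplex Y.Modules ℤ) (A : CochainComplex X.Modules ℤ) :
    Qh.obj ((HomotopyCategory.quotient _ _).obj (((DCoh.tensorCx (X := Y)).obj P).obj ((pushCxF f).obj A))) ⟶
      (SiteDer.Rres (rmor f)).obj (Qh.obj ((HomotopyCategory.quotient _ _).obj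
        (((DCoh.tensorCx (X := X)).obj ((pullCxF f).obj P)).obj A))) :=
  Qh.map ((HomotopyCategory.quotient _ _).map (projCx f P A)) ≫
    pushUnit f (((DCoh.tensorCx (X := X)).obj ((pullCxF f).obj P)).obj A)

theorem projD_natural {P P' : CochainComplex Y.Modules ℤ} (q : P ⟶ P') (A : CochainComplex X.Modules ℤ) :
    Qh.map ((HomotopyCategory.quotient _ _).map (((DCoh.tensorCx (X := Y)).map q).app ((pushCxF f).obj A))) ≫
        projD f P' A =
      projD f P A ≫ (SiteDer.Rres (rmor f)).map (Qh.map ((HomotopyCategory.quotient _ _).map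
        (((DCoh.tensorCx (X := X)).map ((pullCxF f).map q)).app A))) := by
  have h := congrArg (fun t => Qh.map ((HomotopyCategory.quotient Y.Modules (ComplexShape.up ℤ)).map t))
    (projCx_natural f q A)
  simp only [Functor.map_comp] at h
  rw [projD, projD, ← Category.assoc, h, Category.assoc, Category.assoc]
  exact congrArg (_ ≫ ·) (pushUnit_naturality f _)

theorem isIso_resD_tensor_map {Z U : Scheme.{u}} (j : U ⟶ Z) [IsOpenImmersion j] {P P' : CochainComplex Z.Modules ℤ}
    (q : P ⟶ P') (hP : DCoh.IsKFlat P) (hP' : DCoh.IsKFlat P') (hq : QuasiIso ((resCx j).map q))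
    (L : CochainComplex Z.Modules ℤ) :
    IsIso ((resD j).map (Qh.map ((HomotopyCategory.quotient _ _).map (((DCoh.tensorCx (X := Z)).map q).app L)))) := by
  refine (NatIso.isIso_map_iff (resDFac j) (((DCoh.tensorCx (X := Z)).map q).app L)).2 ?_
  have := quasiIso_resCx_tensor j q hP hP' hq L
  have : QuasiIso ((resCx j).map (((DCoh.tensorCx (X := Z)).map q).app L)) :=
    (quasiIso_iff_of_arrow_mk_iso ((resCx j).map (((DCoh.tensorCx (X := Z)).map q).app L))
      ((resCx j).map (((DCoh.tensorCx (X := Z)).obj L).map q))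
      (Arrow.isoMk ((resCx j).mapIso (tensorCxSymm L P)) ((resCx j).mapIso (tensorCxSymm L P'))
        (((resCx j).map_comp _ _).symm.trans ((congrArg (resCx j).map (tensorCxSymm_natural q L).symm).trans
          ((resCx j).map_comp _ _))))).2 this
  exact (inferInstance : IsIso (DerivedCategory.Q.map ((resCx j).map (((DCoh.tensorCx (X := Z)).map q).app L))))

/-- The derived projection map only depends on `P` over `V`. -/
theorem isIso_resD_projD_iff {P P' : CochainComplex Y.Modules ℤ} (q : P ⟶ P') (hP : DCoh.IsKFlat P)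
    (hP' : DCoh.IsKFlat P') (hq : QuasiIso ((resCx V.ι).map q)) (A : CochainComplex X.Modules ℤ) :
    IsIso ((resD V.ι).map (projD f P A)) ↔ IsIso ((resD V.ι).map (projD f P' A)) := by
  have h1 := isIso_resD_tensor_map V.ι q hP hP' hq ((pushCxF f).obj A)
  have hq' : QuasiIso ((resCx (f ⁻¹ᵁ V).ι).map ((pullCxF f).map q)) :=
    quasiIso_resCx_pullback V.ι f (f ⁻¹ᵁ V).ι (f ∣_ V) (morphismRestrict_ι f V) q hP hP' hq
  have h2 : IsIso ((resD V.ι).map ((SiteDer.Rres (rmor f)).map (Qh.map ((HomotopyCategory.quotient _ _).map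
      (((DCoh.tensorCx (X := X)).map ((pullCxF f).map q)).app A))))) := by
    refine (NatIso.isIso_map_iff (resDRRBaseChange f V) _).2 ?_
    exact map_isIso_of (RR (f ∣_ V))
      (isIso_resD_tensor_map _ _ (isKFlat_pullback f hP) (isKFlat_pullback f hP') hq' A)
  have e := congrArg (resD V.ι).map (projD_natural f q A)
  rw [Functor.map_comp, Functor.map_comp] at e
  exact ⟨fun h => @IsIso.of_isIso_fac_left _ _ _ _ _ _ _ _ h1 (@IsIso.comp_isIso _ _ _ _ _ _ _ h h2) e,
    fun h => @IsIso.of_isIso_fac_right _ _ _ _ _ _ _ _ h2 (@IsIso.comp_isIso _ _ _ _ _ _ _ h1 h) e.symm⟩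

end GrothLib.OX
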