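import Groth.Agent.Lib.OX.Tensor
import Mathlib.LinearAlgebra.TensorProduct.Tower

/-! # Stalks of pullbacks, and the tensor product with a pullback on stalks -/

set_option autoImplicit false
set_option maxHeartbeats 400000
universe u

open CategoryTheory CategoryTheory.Limits MonoidalCategory TensorProduct AlgebraicGeometry Opposite

namespace GrothLib.OX

section BaseChange

variable {R S : Type u} [CommRing R] [CommRing S] (φ : R →+* S) (M : ModuleCat.{u} S) (N : ModuleCat.{u} R)

noncomputable def bcEquiv : (M ⊗ (ModuleCat.extendScalars φ).obj N : ModuleCat S) ≃+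
    ((ModuleCat.restrictScalars φ).obj M ⊗ N : ModuleCat R) :=
  letI := φ.toAlgebra
  letI : Module R M := Module.compHom M φ
  haveI : IsScalarTower R S M := ⟨fun r s m => by
    change (φ r * s) • m = φ r • (s • m)
    exact mul_smul _ _ _⟩
  (TensorProduct.AlgebraTensorModule.cancelBaseChange R S S M N).toAddEquiv

/-- as an iso of abelian groups -/
noncomputable def bcIso : (forget₂ (ModuleCat S) Ab).obj (M ⊗ (ModuleCat.extendScalars φ).obj N) ≅
    (forget₂ (ModuleCat R) Ab).obj ((ModuleCat.restrictScalars φ).obj M ⊗ N) :=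
  (bcEquiv φ M N).toAddCommGrpIso

theorem bcIso_hom_natural {M M' : ModuleCat.{u} S} (f : M ⟶ M') {N N' : ModuleCat.{u} R} (g : N ⟶ N') :
    (forget₂ (ModuleCat S) Ab).map (f ⊗ₘ (ModuleCat.extendScalars φ).map g) ≫ (bcIso φ M' N').hom =
      (bcIso φ M N).hom ≫ (forget₂ (ModuleCat R) Ab).map ((ModuleCat.restrictScalars φ).map f ⊗ₘ g) := by
  let := φ.toAlgebra
  refine AddCommGrpCat.ext fun t => ?_
  induction t using TensorProduct.induction_on with
  | zero => exact (map_zero _).trans (map_zero _).symm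
  | tmul m t =>
    induction t using TensorProduct.induction_on with
    | zero =>
      refine (congrArg _ (TensorProduct.tmul_zero _ m)).trans ((map_zero _).trans ?_)
      exact ((congrArg _ (TensorProduct.tmul_zero _ m)).trans (map_zero _)).symm
    | tmul s n =>
      change (show (ModuleCat.restrictScalars φ).obj M' from (show S from s) • f.hom m) ⊗ₜ[R] g.hom n =
        (show (ModuleCat.restrictScalars φ).obj M' from f.hom ((show S from s) • m)) ⊗ₜ[R] g.hom n
      rw [map_smul]
    | add a b ha hb =>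
      refine (congrArg _ (TensorProduct.tmul_add m (show (ModuleCat.extendScalars φ).obj N from a) (show (ModuleCat.extendScalars φ).obj N from b))).trans ((map_add _ _ _).trans ?_)
      exact (congrArg₂ (· + ·) ha hb).trans
        ((congrArg _ (TensorProduct.tmul_add m (show (ModuleCat.extendScalars φ).obj N from a) (show (ModuleCat.extendScalars φ).obj N from b))).trans (map_add _ _ _)).symm
  | add a b ha hb =>
    refine (map_add _ _ _).trans ?_
    exact (congrArg₂ (· + ·) ha hb).trans (map_add _ _ _).symm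

end BaseChange

variable {X Y : Scheme.{u}} (f : X ⟶ Y) (x : X)

theorem skyPush_smul {N : ModuleCat.{u} (X.presheaf.stalk x)} (V : (Y.Opens)ᵒᵖ) (r : Y.presheaf.obj V)
    (h : f x ∈ V.unop) (n : N) :
    X.presheaf.germ (f ⁻¹ᵁ V.unop) x h (f.app V.unop r) • n =
      (f.stalkMap x).hom (Y.presheaf.germ V.unop (f x) h r) • n := by
  rw [Scheme.Hom.germ_stalkMap_apply]

/-- The skyscraper pushes forward to the skyscraper of the restriction of scalars. -/
noncomputable def skyPushIso : sky x ⋙ Scheme.Modules.pushforward f ≅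
    ModuleCat.restrictScalars (f.stalkMap x).hom ⋙ sky (f x) :=
  NatIso.ofComponents (fun N => (SheafOfModules.fullyFaithfulForget _).preimageIso
    (PresheafOfModules.isoMk (fun V =>
      { hom := ConcreteCategory.ofHom
          { toFun := fun m => m
            map_add' := fun _ _ => rfl
            map_smul' := fun r m => funext fun h => skyPush_smul f x V r h.down _ }
        inv := ConcreteCategory.ofHom
          { toFun := fun m => m
            map_add' := fun _ _ => rfl
            map_smul' := fun r m => funext fun h => (skyPush_smul f x V r h.down _).symm } })))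

/-- The stalk of a pullback is the base change of the stalk. -/
noncomputable def pullStalkIso : Scheme.Modules.pullback f ⋙ stalk x ≅
    stalk (f x) ⋙ ModuleCat.extendScalars (f.stalkMap x).hom :=
  Adjunction.leftAdjointUniq
    (((Scheme.Modules.pullbackPushforwardAdjunction f).comp (stalkSkyAdj x)).ofNatIsoRight (skyPushIso f x))
    ((stalkSkyAdj (f x)).comp (ModuleCat.extendRestrictScalarsAdj (f.stalkMap x).hom))

/-- The stalk at a point as an abelian group. -/
noncomputable abbrev stalkAb {Z : Scheme.{u}} (z : Z) : Z.Modules ⥤ Ab.{u} :=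
  stalk z ⋙ forget₂ (ModuleCat.{u} (Z.presheaf.stalk z)) Ab.{u}

/-- The stalk at `x`, as a skyscraper at `f x`. -/
noncomputable abbrev skyRes : X.Modules ⥤ Y.Modules :=
  stalk x ⋙ ModuleCat.restrictScalars (f.stalkMap x).hom ⋙ sky (f x)

/-- The stalk of a tensor product with a pullback, over the local ring of the source. -/
noncomputable def srcIso (M : X.Modules) (N : Y.Modules) :
    (stalk x).obj (((DCoh.tensorBi (X := X)).obj M).obj ((Scheme.Modules.pullback f).obj N)) ≅
      (stalk x).obj M ⊗ (ModuleCat.extendScalars (f.stalkMap x).hom).obj ((stalk (f x)).obj N) :=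
  stalkTensorBiIso x M _ ≪≫ whiskerLeftIso _ ((pullStalkIso f x).app N)

/-- The stalk of a tensor product with a skyscraper, over the local ring of the target. -/
noncomputable def tgtIso (M : X.Modules) (N : Y.Modules) :
    (stalk (f x)).obj (((DCoh.tensorBi (X := Y)).obj ((skyRes f x).obj M)).obj N) ≅
      (ModuleCat.restrictScalars (f.stalkMap x).hom).obj ((stalk x).obj M) ⊗ (stalk (f x)).obj N :=
  stalkTensorBiIso (f x) ((skyRes f x).obj M) N ≪≫ whiskerRightIso (asIso ((stalkSkyAdj (f x)).counit.app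
      ((ModuleCat.restrictScalars (f.stalkMap x).hom).obj ((stalk x).obj M)))) _

theorem srcIso_natural₁ {M M' : X.Modules} (a : M ⟶ M') (N : Y.Modules) :
    (stalk x).map (((DCoh.tensorBi (X := X)).map a).app ((Scheme.Modules.pullback f).obj N)) ≫ (srcIso f x M' N).hom =
      (srcIso f x M N).hom ≫ ((stalk x).map a ⊗ₘ
        (ModuleCat.extendScalars (f.stalkMap x).hom).map (𝟙 ((stalk (f x)).obj N))) := by
  rw [CategoryTheory.Functor.map_id, tensorHom_id]
  refine (((Category.assoc _ _ _).symm.trans
    (congrArg (· ≫ _) (stalkTensorBiIso_natural₁ x a ((Scheme.Modules.pullback f).obj N)))).trans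
    ((Category.assoc _ _ _).trans (congrArg (_ ≫ ·) (whisker_exchange _ _).symm))).trans (Category.assoc _ _ _).symm

theorem srcIso_natural₂ (M : X.Modules) {N N' : Y.Modules} (b : N ⟶ N') :
    (stalk x).map (((DCoh.tensorBi (X := X)).obj M).map ((Scheme.Modules.pullback f).map b)) ≫ (srcIso f x M N').hom =
      (srcIso f x M N).hom ≫ (𝟙 ((stalk x).obj M) ⊗ₘ
        (ModuleCat.extendScalars (f.stalkMap x).hom).map ((stalk (f x)).map b)) := by
  rw [id_tensorHom]
  exact (((Category.assoc _ _ _).symm.trans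
    (congrArg (· ≫ _) (stalkTensorBiIso_natural₂ x M ((Scheme.Modules.pullback f).map b)))).trans
    ((Category.assoc _ _ _).trans (congrArg (_ ≫ ·) (((MonoidalCategory.whiskerLeft_comp _ _ _).symm.trans
      (congrArg (_ ◁ ·) ((pullStalkIso f x).hom.naturality b))).trans
        (MonoidalCategory.whiskerLeft_comp _ _ _))))).trans (Category.assoc _ _ _).symm

theorem tgtIso_natural₁ {M M' : X.Modules} (a : M ⟶ M') (N : Y.Modules) :
    (stalk (f x)).map (((DCoh.tensorBi (X := Y)).map ((skyRes f x).map a)).app N) ≫ (tgtIso f x M' N).hom =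
      (tgtIso f x M N).hom ≫ ((ModuleCat.restrictScalars (f.stalkMap x).hom).map ((stalk x).map a) ⊗ₘ
        𝟙 ((stalk (f x)).obj N)) := by
  rw [tensorHom_id]
  exact (((Category.assoc _ _ _).symm.trans
    (congrArg (· ≫ _) (stalkTensorBiIso_natural₁ (f x) ((skyRes f x).map a) N))).trans
    ((Category.assoc _ _ _).trans (congrArg (_ ≫ ·) (((comp_whiskerRight _ _ _).symm.trans
      (congrArg (· ▷ _) ((stalkSkyAdj (f x)).counit.naturality _))).trans
        (comp_whiskerRight _ _ _))))).trans (Category.assoc _ _ _).symm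

theorem tgtIso_natural₂ (M : X.Modules) {N N' : Y.Modules} (b : N ⟶ N') :
    (stalk (f x)).map (((DCoh.tensorBi (X := Y)).obj ((skyRes f x).obj M)).map b) ≫ (tgtIso f x M N').hom =
      (tgtIso f x M N).hom ≫ (𝟙 ((ModuleCat.restrictScalars (f.stalkMap x).hom).obj ((stalk x).obj M)) ⊗ₘ
        (stalk (f x)).map b) := by
  rw [id_tensorHom]
  exact (((Category.assoc _ _ _).symm.trans
    (congrArg (· ≫ _) (stalkTensorBiIso_natural₂ (f x) ((skyRes f x).obj M) b))).trans
    ((Category.assoc _ _ _).trans (congrArg (_ ≫ ·) (whisker_exchange _ _)))).trans (Category.assoc _ _ _).symm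

/-- The stalk of a tensor product with a pullback. -/
noncomputable def tensorPullStalkIso (M : X.Modules) (N : Y.Modules) :
    (stalkAb x).obj (((DCoh.tensorBi (X := X)).obj M).obj ((Scheme.Modules.pullback f).obj N)) ≅
      (stalkAb (f x)).obj (((DCoh.tensorBi (X := Y)).obj ((skyRes f x).obj M)).obj N) :=
  (forget₂ _ Ab.{u}).mapIso (srcIso f x M N) ≪≫
    bcIso (f.stalkMap x).hom ((stalk x).obj M) ((stalk (f x)).obj N) ≪≫
      (forget₂ _ Ab.{u}).mapIso (tgtIso f x M N).symm

theorem natural_of_squares {C₁ C₂ D : Type*} [Category C₁] [Category C₂] [Category D] (F : C₁ ⥤ D) (G : C₂ ⥤ D)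
    {A A' B B' : C₁} {P P' Q Q' : C₂} {u : A ⟶ A'} {v : B ⟶ B'} {p : P ⟶ P'} {q : Q ⟶ Q'}
    (eA : A ≅ B) (eA' : A' ≅ B') (m : F.obj B ≅ G.obj Q) (m' : F.obj B' ≅ G.obj Q') (eP : P ≅ Q) (eP' : P' ≅ Q')
    (h₁ : u ≫ eA'.hom = eA.hom ≫ v) (h₃ : F.map v ≫ m'.hom = m.hom ≫ G.map q)
    (h₂ : p ≫ eP'.hom = eP.hom ≫ q) :
    F.map u ≫ (F.mapIso eA' ≪≫ m' ≪≫ G.mapIso eP'.symm).hom =
      (F.mapIso eA ≪≫ m ≪≫ G.mapIso eP.symm).hom ≫ G.map p := by
  have h₂' : q ≫ eP'.inv = eP.inv ≫ p := by
    rw [Iso.comp_inv_eq, Category.assoc, h₂, Iso.inv_hom_id_assoc]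
  simp only [Iso.trans_hom, Functor.mapIso_hom, Iso.symm_hom, Category.assoc, ← F.map_comp_assoc, h₁]
  rw [F.map_comp_assoc, reassoc_of% h₃, ← G.map_comp, h₂', G.map_comp]

theorem tensorPullStalkIso_natural₁ {M M' : X.Modules} (a : M ⟶ M') (N : Y.Modules) :
    (stalkAb x).map (((DCoh.tensorBi (X := X)).map a).app ((Scheme.Modules.pullback f).obj N)) ≫
        (tensorPullStalkIso f x M' N).hom =
      (tensorPullStalkIso f x M N).hom ≫
        (stalkAb (f x)).map (((DCoh.tensorBi (X := Y)).map ((skyRes f x).map a)).app N) :=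
  natural_of_squares _ _ _ _ _ _ _ _ (srcIso_natural₁ f x a N)
    (bcIso_hom_natural (f.stalkMap x).hom ((stalk x).map a) (𝟙 ((stalk (f x)).obj N))) (tgtIso_natural₁ f x a N)

theorem tensorPullStalkIso_natural₂ (M : X.Modules) {N N' : Y.Modules} (b : N ⟶ N') :
    (stalkAb x).map (((DCoh.tensorBi (X := X)).obj M).map ((Scheme.Modules.pullback f).map b)) ≫
        (tensorPullStalkIso f x M N').hom =
      (tensorPullStalkIso f x M N).hom ≫
        (stalkAb (f x)).map (((DCoh.tensorBi (X := Y)).obj ((skyRes f x).obj M)).map b) :=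
  natural_of_squares _ _ _ _ _ _ _ _ (srcIso_natural₂ f x M b)
    ((bcIso_hom_natural (f.stalkMap x).hom (𝟙 ((stalk x).obj M)) ((stalk (f x)).map b)).trans
      (by rw [CategoryTheory.Functor.map_id])) (tgtIso_natural₂ f x M b)

end GrothLib.OX
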