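import Groth.Agent.Lib.OX.PullbackKFlat
import Mathlib.Algebra.Category.ModuleCat.Descent

/-! # Pullback along a flat morphism is exact -/

set_option autoImplicit false
universe u

open CategoryTheory CategoryTheory.Limits AlgebraicGeometry

namespace GrothLib.OX

variable {X Y : Scheme.{u}} (f : X ⟶ Y)

theorem additive_pullback : (Scheme.Modules.pullback f).Additive :=
  (Scheme.Modules.pullbackPushforwardAdjunction f).left_adjoint_additive

variable [Flat f]

/-- Pullback along a flat morphism preserves exact sequences. -/
theorem exact_pullback_of_flat [(Scheme.Modules.pullback f).PreservesZeroMorphisms] {S : ShortComplex Y.Modules}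
    (hS : S.Exact) : (S.map (Scheme.Modules.pullback f)).Exact := by
  refine (exact_iff _).2 fun x => ?_
  have := ModuleCat.preservesFiniteLimits_extendScalars_of_flat.{u} (Flat.stalkMap f x)
  let E := ModuleCat.extendScalars.{u, u, u} (f.stalkMap x).hom
  have : E.IsLeftAdjoint := (ModuleCat.extendRestrictScalarsAdj (f.stalkMap x).hom).isLeftAdjoint
  have : E.Additive := (ModuleCat.extendRestrictScalarsAdj (f.stalkMap x).hom).left_adjoint_additive
  have : E.PreservesZeroMorphisms := inferInstance
  have h1 := (hS.map (stalk (f x))).map E
  exact (ShortComplex.exact_iff_of_iso (S.mapNatIso (pullStalkIso f x))).2 h1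

/-- Pullback along a flat morphism is left exact. -/
theorem preservesFiniteLimits_pullback_of_flat : PreservesFiniteLimits (Scheme.Modules.pullback f) := by
  have := additive_pullback f
  have h : ∀ S : ShortComplex Y.Modules, S.Exact → (S.map (Scheme.Modules.pullback f)).Exact := fun _ hS =>
    exact_pullback_of_flat f hS
  have : (Scheme.Modules.pullback f).PreservesHomology :=
    Functor.preservesHomology_of_map_exact _ h
  exact Functor.preservesFiniteLimits_of_preservesHomology _

end GrothLib.OX
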