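import Groth.Agent.Lib.OX.LTensorCx
import Groth.Prelude.Def_KLin

/-! # The derived tensor product commutes with scalars from the base -/

set_option autoImplicit false
set_option maxHeartbeats 1000000
universe u

open CategoryTheory CategoryTheory.Limits AlgebraicGeometry Opposite MonoidalCategory HomologicalComplex

attribute [local instance] HasDerivedCategory.standard

namespace GrothLib.OX

variable (A : Type u) [CommRing A] {X : Scheme.{u}} [X.Over (Spec (CommRingCat.of A))]

/-- Tensoring commutes with scalars, in the first variable. -/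
theorem tensorBi_map_smul_id (a : A) (M N : X.Modules) :
    ((DCoh.tensorBi (X := X)).map (a • 𝟙 M)).app N = a • 𝟙 (((DCoh.tensorBi (X := X)).obj M).obj N) := by
  let adj := PresheafOfModules.sheafificationAdjunction.{u} (R := X.ringCatSheaf) (𝟙 X.ringCatSheaf.obj)
  refine (adj.homEquiv _ _).injective ?_
  refine (adj.homEquiv_unit _ _ _).trans (Eq.trans ?_ (adj.homEquiv_unit _ _ _).symm)
  refine (adj.unit.naturality _).symm.trans ?_
  refine PresheafOfModules.hom_ext fun U => ModuleCat.MonoidalCategory.tensor_ext fun m n => ?_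
  let r : (X.sheaf.obj ⋙ forget₂ CommRingCat RingCat.{u}).obj U :=
    X.presheaf.map (homOfLE (le_top : U.unop ≤ ⊤)).op (Coh.toGlobal (X ↘ Spec (CommRingCat.of A)) a)
  have h1 : ((a • 𝟙 M : M ⟶ M).val.app U).hom m = r • m := KLin.smul_app_apply a (𝟙 M) U.unop m
  let m' : (DCoh.toP.obj M).obj U := m
  have h2 : (((DCoh.toP.map (a • 𝟙 M)).app U).hom m') = r • m' := h1
  let P : CohB1.PMod X := DCoh.toP.obj M ⊗ DCoh.toP.obj N
  change ((adj.unit.app P).app U).hom
      ((((DCoh.toP.map (a • 𝟙 M)).app U).hom m') ⊗ₜ n) = _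
  rw [h2, ← TensorProduct.smul_tmul']
  refine (((adj.unit.app P).app U).hom.map_smul _ _).trans ?_
  exact (KLin.smul_app_apply a (𝟙 _) U.unop _).symm

/-- Tensoring complexes commutes with scalars. -/
theorem tensorCx_map_smul_id (a : A) (K E : CochainComplex X.Modules ℤ) :
    ((DCoh.tensorCx (X := X)).map (a • 𝟙 K)).app E = a • 𝟙 (((DCoh.tensorCx (X := X)).obj K).obj E) := by
  refine HomologicalComplex.hom_ext _ _ fun n => mapBifunctor.hom_ext fun p q hpq => ?_
  refine (ι_mapBifunctorMap (a • 𝟙 K) (𝟙 E) (DCoh.tensorBi (X := X)) (ComplexShape.up ℤ) p q n hpq).trans ?_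
  rw [HomologicalComplex.smul_f_apply, HomologicalComplex.id_f, HomologicalComplex.id_f,
    CategoryTheory.Functor.map_id, tensorBi_map_smul_id, Category.id_comp, Linear.smul_comp, Category.id_comp,
    HomologicalComplex.smul_f_apply, HomologicalComplex.id_f]
  exact ((Linear.comp_smul _ _ _ _ _ _).trans (congrArg (a • ·) (Category.comp_id _))).symm

/-- The derived tensor product commutes with scalars, on K-flat complexes. -/
theorem ltensorCx_map_smul_id (E : CochainComplex X.Modules ℤ) [DCoh.HasLTensorCx E] (a : A)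
    (K : CochainComplex X.Modules ℤ) (hK : DCoh.IsKFlat K) :
    (DCoh.LTensorCx E).map (a • 𝟙 (DerivedCategory.Q.obj K)) = a • 𝟙 _ := by
  let α := (DCoh.tensorCxQ E).totalLeftDerivedCounit DerivedCategory.Q
    (HomologicalComplex.quasiIso X.Modules (ComplexShape.up ℤ))
  have : IsIso (α.app K) := (cxResolvable_tensor E).isIso_app_of_isLeftDerivedFunctor
    ((DCoh.tensorCxQ E).totalLeftDerived DerivedCategory.Q (HomologicalComplex.quasiIso X.Modules (ComplexShape.up ℤ))) α hK
  have h1 : (DCoh.tensorCxQ E).map (a • 𝟙 K) = a • 𝟙 ((DCoh.tensorCxQ E).obj K) := by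
    change DerivedCategory.Q.map (((DCoh.tensorCx (X := X)).map (a • 𝟙 K)).app E) = _
    rw [tensorCx_map_smul_id, Functor.map_smul, CategoryTheory.Functor.map_id]
    rfl
  rw [← cancel_mono (α.app K), ← CategoryTheory.Functor.map_id, ← Functor.map_smul]
  refine (α.naturality (a • 𝟙 K)).trans ?_
  rw [h1, Linear.comp_smul, Category.comp_id]
  exact ((Linear.smul_comp _ _ _ _ _ _).trans (congrArg (a • ·) (Category.id_comp _))).symm

end GrothLib.OX
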