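import Groth.Agent.Lib.OX.GluePerfect
import Groth.Agent.Lib.TriCat.BrownCorollaries

/-! # Perfect generators of `D_qc` with prescribed vanishing (Bondal–Van den Bergh) -/

set_option autoImplicit false
set_option maxHeartbeats 1000000
universe u

open CategoryTheory CategoryTheory.Limits AlgebraicGeometry Opposite TopologicalSpace Pretriangulated

attribute [local instance] HasDerivedCategory.standard

namespace GrothLib.OX

variable {X : Scheme.{u}}

theorem isQCohD_obj₃ {T : Triangle (DCoh.D X)} (hT : T ∈ distTriang _) (h₁ : DCoh.IsQCohD T.obj₁)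
    (h₂ : DCoh.IsQCohD T.obj₂) : DCoh.IsQCohD T.obj₃ :=
  DerTrunc.cohIn_obj₂ (qcohP X) (rot_of_distTriang _ hT) h₂ (isQCohD_shift h₁ 1)

theorem isQCohD_biprod {A B : DCoh.D X} (hA : DCoh.IsQCohD A) (hB : DCoh.IsQCohD B) : DCoh.IsQCohD (A ⊞ B) :=
  DerTrunc.cohIn_obj₂ (qcohP X) (binaryBiproductTriangle_distinguished A B) hA hB

theorem isPerfect_biprod {A B : DCoh.D X} (hA : DCoh.IsPerfect A) (hB : DCoh.IsPerfect B) :
    DCoh.IsPerfect (A ⊞ B) :=
  (isPerfect_triangle (binaryBiproductTriangle_distinguished A B)).2.1 hA hB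

theorem isPerfect_of_isZero_obj {K : DCoh.D X} (h : IsZero K) : DCoh.IsPerfect K := isPerfect_of_local fun x => by
  obtain ⟨B, hB, hx, -⟩ := exists_isAffineOpen_mem_and_subset (x := x) (U := ⊤) trivial
  have : IsAffine (B : Scheme.{u}) := hB
  obtain ⟨Z, hZ⟩ : ∃ Z : Dual.D Γ((B : Scheme.{u}), ⊤), IsZero Z := HasZeroObject.zero
  exact ⟨B, B.ι, inferInstance, ⟨⟨x, hx⟩, rfl⟩, isPerfect_of_iso
    (isPerfect_resD_tildeD (B : Scheme.{u}).isoSpec.hom (DR.isPerfect_of_isZero hZ))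
    (((resD _).map_isZero ((DCoh.tildeD _).map_isZero hZ)).iso ((resD B.ι).map_isZero h))⟩

theorem isZero_biprod {A B : DCoh.D X} (hA : IsZero A) (hB : IsZero B) : IsZero (A ⊞ B) :=
  (biprod_isZero_iff A B).2 ⟨hA, hB⟩

theorem isZero_resD_biprod {V : Scheme.{u}} (j : V ⟶ X) [IsOpenImmersion j] {A B : DCoh.D X}
    (hA : IsZero ((resD j).obj A)) (hB : IsZero ((resD j).obj B)) : IsZero ((resD j).obj (A ⊞ B)) :=
  have := preservesBinaryBiproducts_of_preservesBiproducts (resD j)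
  (isZero_biprod hA hB).of_iso ((resD j).mapBiprod A B)

/-- An object vanishing on a cover of an open vanishes there. -/
theorem isZero_resD_of_cover {U V W : Scheme.{u}} (i : U ⟶ X) (j : V ⟶ X) (k : W ⟶ X) [IsOpenImmersion i]
    [IsOpenImmersion j] [IsOpenImmersion k] (h : Set.range k ⊆ Set.range i ∪ Set.range j) {K : DCoh.D X}
    (hi : IsZero ((resD i).obj K)) (hj : IsZero ((resD j).obj K)) : IsZero ((resD k).obj K) :=
  (isZero_resD_iff_support k K).2 fun q x hx hk => (h hk).elim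
    (fun h' => (isZero_resD_iff_support i K).1 hi q hx h') (fun h' => (isZero_resD_iff_support j K).1 hj q hx h')

theorem isZero_of_support_empty {K : DCoh.D X} (h : ∀ q, CohB1.support (DCoh.HD K q) = ∅) : IsZero K := by
  obtain ⟨Z, hZ⟩ : ∃ Z : DCoh.D X, IsZero Z := HasZeroObject.zero
  have : IsIso (0 : Z ⟶ K) := (DerivedCategory.isIso_iff _ _).2 fun q =>
    ⟨0, ((DerivedCategory.homologyFunctor _ q).map_isZero hZ).eq_of_src _ _,
      (isZero_of_subsingleton_stalks (DCoh.HD K q) fun x =>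
        not_not.1 ((Set.eq_empty_iff_forall_notMem.1 (h q)) x)).eq_of_src _ _⟩
  exact hZ.of_iso (asIso (0 : Z ⟶ K)).symm

theorem isZero_of_isZero_cover {U V : Scheme.{u}} (i : U ⟶ X) (j : V ⟶ X) [IsOpenImmersion i] [IsOpenImmersion j]
    (h : ∀ x, x ∈ Set.range i ∪ Set.range j) {K : DCoh.D X} (hi : IsZero ((resD i).obj K))
    (hj : IsZero ((resD j).obj K)) : IsZero K :=
  isZero_of_support_empty fun q => Set.eq_empty_iff_forall_notMem.2 fun x hx => (h x).elim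
    (fun h' => (isZero_resD_iff_support i K).1 hi q hx h') (fun h' => (isZero_resD_iff_support j K).1 hj q hx h')

theorem isZero_resD_comp {U W : Scheme.{u}} (j' : W ⟶ U) (j : U ⟶ X) [IsOpenImmersion j] [IsOpenImmersion j']
    {K : DCoh.D X} : IsZero ((resD j').obj ((resD j).obj K)) ↔ IsZero ((resD (j' ≫ j)).obj K) :=
  ((resDCompIso j' j).app K).isZero_iff

theorem faithful_resD_of_surjective {Y : Scheme.{u}} (i : Y ⟶ X) [IsOpenImmersion i] (hi : ∀ x, x ∈ Set.range i)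
    {P E : DCoh.D X} (φ : P ⟶ E) (h : (resD i).map φ = 0) : φ = 0 := by
  let adj := resDAdj i
  have hη : IsIso (adj.unit.app E) := by
    obtain ⟨C, p, d, hT⟩ := distinguished_cocone_triangle (adj.unit.app E)
    exact (Triangle.isZero₃_iff_isIso₁ _ hT).1 (isZero_of_isZero_cover i i (fun x => Or.inl (hi x))
      ((Triangle.isZero₃_iff_isIso₁ _ ((resD i).map_distinguished _ hT)).2 (isIso_resD_unit i E))
      ((Triangle.isZero₃_iff_isIso₁ _ ((resD i).map_distinguished _ hT)).2 (isIso_resD_unit i E)))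
  have hnat := adj.unit.naturality φ
  rw [← cancel_mono (adj.unit.app E), zero_comp]
  refine hnat.trans ?_
  change adj.unit.app P ≫ (RR i).map ((resD i).map φ) = 0
  rw [h, Functor.map_zero, comp_zero]

/-- Derived direct images vanish over opens above which the object vanishes. -/
theorem isZero_resD_RR {Y : Scheme.{u}} (f : Y ⟶ X) [QuasiCompact f] [QuasiSeparated f] {F : DCoh.D Y}
    (hF : DCoh.IsQCohD F) (W : X.Opens) (h : IsZero ((resD (f ⁻¹ᵁ W).ι).obj F)) :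
    IsZero ((resD W.ι).obj ((RR f).obj F)) := by
  refine (isZero_resD_iff_support W.ι _).2 fun q => support_subset_of_isZero_restrict W.ι ?_
  refine isZero_of_affine_cover
    (@Scheme.Modules.isQuasicoherent_restrictFunctor _ _ W.ι _ _ (isQCohD_Rres f F hF q))
    (fun B : (W : Scheme.{u}).affineOpens => B.1) (fun B => B.2) (fun x => ?_) fun B t => ?_
  · obtain ⟨B, hB, hx, -⟩ := exists_isAffineOpen_mem_and_subset (x := x) (U := ⊤) trivial
    exact ⟨⟨B, hB⟩, hx⟩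
  · have hle : f ⁻¹ᵁ (W.ι ''ᵁ B.1) ≤ f ⁻¹ᵁ W := fun y hy => by
      obtain ⟨z, -, hz⟩ := hy
      change f y ∈ W
      rw [← hz]; exact z.2
    exact isZero_HD_sections_RR f (B.2.image_of_isOpenImmersion W.ι) hF
      (isZero_resD_of_le _ _ (by rw [Scheme.Opens.range_ι, Scheme.Opens.range_ι]; exact hle) h) q t

/-- There is a perfect generator of the objects of `D_qc` vanishing on each quasi-compact open. -/
def HasGen (X : Scheme.{u}) : Prop :=
  ∀ W : X.Opens, IsCompact (W : Set X) → ∃ P : DCoh.D X, DCoh.IsPerfect P ∧ IsZero ((resD W.ι).obj P) ∧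
    ∀ E : DCoh.D X, DCoh.IsQCohD E → IsZero ((resD W.ι).obj E) → (∀ (n : ℤ) (φ : P⟦n⟧ ⟶ E), φ = 0) → IsZero E

theorem hasGen_of_isAffine [IsAffine X] : HasGen X := fun W hW => by
  let A := Γ(X, ⊤)
  let i := X.isoSpec.hom
  let S := DCoh.tildeD A ⋙ resD i
  obtain ⟨fs, hfs⟩ := exists_basicOpen_cover (W.ι ≫ i) (isCompact_range_comp i hW)
  obtain ⟨P, hP, hnil, hgen⟩ := DR.exists_nil_generator fs
  refine ⟨S.obj P, isPerfect_resD_tildeD i hP,
    (isZero_AG_of_isTorsion (W.ι ≫ i) hfs fun f hf => (hnil f hf).isTorsion).of_iso ((AGIso i W).app P),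
    fun E hE hEW h => ?_⟩
  obtain ⟨N, ⟨e⟩⟩ := exists_module_iso i hE
  have hNW : IsZero ((AG (W.ι ≫ i)).obj N) :=
    (hEW.of_iso ((resD W.ι).mapIso e)).of_iso ((AGIso i W).app N).symm
  refine (S.map_isZero (hgen N (fun f hf => isTorsion_of_isZero_AG (W.ι ≫ i) hNW
    (hfs ▸ le_iSup (fun k : {f // f ∈ fs} => PrimeSpectrum.basicOpen k.1) ⟨f, hf⟩)) fun n φ => ?_)).of_iso e.symm
  have := (tildeD_full_faithful_essImage (R := A)).2.1
  have h0 : S.map φ = 0 := by
    have h1 := h n ((S.commShiftIso n).inv.app P ≫ S.map φ ≫ e.hom)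
    rw [← cancel_epi ((S.commShiftIso n).inv.app P), comp_zero, ← cancel_mono e.hom, zero_comp, Category.assoc]
    exact h1
  have h2 : (DCoh.tildeD A).map φ = 0 :=
    faithful_resD_of_surjective i (fun x => ⟨(inv i) x, by rw [← Scheme.Hom.comp_apply, IsIso.inv_hom_id]; rfl⟩) _ h0
  exact (DCoh.tildeD A).map_injective (h2.trans ((DCoh.tildeD A).map_zero _ _).symm)

/-- Adjoining an affine open. -/
theorem hasGen_union [CompactSpace X] [QuasiSeparatedSpace X] (U V : X.Opens) (hU : IsCompact (U : Set X))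
    (hV : IsAffineOpen V) (hcov : ∀ x : X, x ∈ (U : Set X) ∪ (V : Set X)) (hgen : HasGen (U : Scheme.{u})) :
    HasGen X := fun W hW => by
  have := quasiCompact_of_isCompact_range U.ι (by rwa [Scheme.Opens.range_ι])
  have : QuasiCompact V.ι := quasiCompact_of_isCompact_range V.ι (by rw [Scheme.Opens.range_ι]; exact hV.isCompact)
  have : IsAffine (V : Scheme.{u}) := hV
  let U' : (V : Scheme.{u}).Opens := V.ι ⁻¹ᵁ U
  let WU : (U : Scheme.{u}).Opens := U.ι ⁻¹ᵁ W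
  let WV : (V : Scheme.{u}).Opens := V.ι ⁻¹ᵁ W
  have hWU : IsCompact (WU : Set (U : Scheme.{u})) := QuasiCompact.isCompact_preimage (f := U.ι) (W : Set X) W.2 hW
  have hWV : IsCompact (WV : Set (V : Scheme.{u})) := QuasiCompact.isCompact_preimage (f := V.ι) (W : Set X) W.2 hW
  have hU' : IsCompact (U' : Set (V : Scheme.{u})) := QuasiCompact.isCompact_preimage (f := V.ι) (U : Set X) U.2 hU
  obtain ⟨P, hP, hPW, hPgen⟩ := hgen WU hWU
  let kU : (U' : Scheme.{u}) ⟶ U := IsOpenImmersion.lift U.ι (U'.ι ≫ V.ι) (by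
    rintro _ ⟨y, rfl⟩
    rw [Scheme.Opens.range_ι]
    exact y.2)
  have hk : kU ≫ U.ι = U'.ι ≫ V.ι := IsOpenImmersion.lift_fac _ _ _
  have : IsOpenImmersion kU := by
    have : IsOpenImmersion (kU ≫ U.ι) := by rw [hk]; infer_instance
    exact IsOpenImmersion.of_comp kU U.ι
  let F := (resD kU).obj P
  have hkW : Set.range ((U'.ι ⁻¹ᵁ WV).ι ≫ kU) ⊆ Set.range WU.ι := by
    rintro _ ⟨y, rfl⟩
    rw [Scheme.Opens.range_ι]
    change U.ι (kU ((U'.ι ⁻¹ᵁ WV).ι y)) ∈ W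
    rw [← Scheme.Hom.comp_apply, hk]
    exact y.2
  have hFW : IsZero ((resD (U'.ι ⁻¹ᵁ WV).ι).obj F) :=
    (isZero_resD_comp _ _).2 (isZero_resD_of_le _ _ hkW hPW)
  obtain ⟨G, hG, hGW, ⟨eG⟩⟩ :=
    exists_extend_sum_shift (X := (V : Scheme.{u})) (V : Scheme.{u}).isoSpec.hom hU' (isPerfect_resD hP kU) WV hWV hFW
  let P₂ := P ⊞ P⟦(1 : ℤ)⟧
  have hP₂W : IsZero ((resD WU.ι).obj P₂) := isZero_resD_biprod WU.ι hPW
    (((shiftFunctor _ (1 : ℤ)).map_isZero hPW).of_iso (((resD WU.ι).commShiftIso (1 : ℤ)).app P))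
  have := preservesBinaryBiproducts_of_preservesBiproducts (resD kU)
  let φ : (resD kU).obj P₂ ≅ (resD U'.ι).obj G :=
    (resD kU).mapBiprod P (P⟦(1 : ℤ)⟧) ≪≫ biprod.mapIso (Iso.refl _) (((resD kU).commShiftIso (1 : ℤ)).app P) ≪≫
      eG.symm
  obtain ⟨K, ⟨eU⟩, ⟨eV⟩⟩ := exists_glue kU U'.ι hk (by
    rw [hk]
    ext x
    constructor
    · rintro ⟨y, rfl⟩
      exact ⟨y.2, y.1.2⟩
    · rintro ⟨hxU, hxV⟩
      exact ⟨⟨⟨x, hxV⟩, hxU⟩, rfl⟩) φ
  have hcov' : ∀ x : X, x ∈ Set.range U.ι ∪ Set.range V.ι := fun x => by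
    rw [Scheme.Opens.range_ι, Scheme.Opens.range_ι]; exact hcov x
  have hperf : ∀ L : DCoh.D X, DCoh.IsPerfect ((resD U.ι).obj L) → DCoh.IsPerfect ((resD V.ι).obj L) →
      DCoh.IsPerfect L := fun L h₁ h₂ => isPerfect_of_local fun x => (hcov' x).elim
    (fun h => ⟨_, U.ι, inferInstance, h, h₁⟩) (fun h => ⟨_, V.ι, inferInstance, h, h₂⟩)
  have hWcov : ∀ L : DCoh.D X, IsZero ((resD WU.ι).obj ((resD U.ι).obj L)) →
      IsZero ((resD WV.ι).obj ((resD V.ι).obj L)) → IsZero ((resD W.ι).obj L) := fun L h₁ h₂ =>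
    isZero_resD_of_cover (WU.ι ≫ U.ι) (WV.ι ≫ V.ι) W.ι (by
      intro x hx
      rw [Scheme.Opens.range_ι] at hx
      rcases hcov x with h | h
      · exact Or.inl ⟨⟨⟨x, h⟩, hx⟩, rfl⟩
      · exact Or.inr ⟨⟨⟨x, h⟩, hx⟩, rfl⟩) ((isZero_resD_comp _ _).1 h₁) ((isZero_resD_comp _ _).1 h₂)
  have hKperf : DCoh.IsPerfect K :=
    hperf K (isPerfect_of_iso (isPerfect_biprod hP (isPerfect_shift hP 1)) eU.symm) (isPerfect_of_iso hG eV.symm)
  have hKW : IsZero ((resD W.ι).obj K) :=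
    hWcov K (hP₂W.of_iso ((resD WU.ι).mapIso eU)) (hGW.of_iso ((resD WV.ι).mapIso eV))
  -- the generator of what vanishes on `U` and `W`
  obtain ⟨L, hL, hLW, hLgen⟩ := hasGen_of_isAffine (X := (V : Scheme.{u})) (WV ⊔ U')
    (by rw [Opens.coe_sup]; exact hWV.union hU')
  have hLWV : IsZero ((resD WV.ι).obj L) := isZero_resD_of_le _ _ (by
    rw [Scheme.Opens.range_ι, Scheme.Opens.range_ι]; exact fun x hx => Or.inl hx) hLW
  have hLU' : IsZero ((resD U'.ι).obj L) := isZero_resD_of_le _ _ (by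
    rw [Scheme.Opens.range_ι, Scheme.Opens.range_ι]; exact fun x hx => Or.inr hx) hLW
  let J := (CxOX.extZeroD V.ι).obj L
  let eJ : L ≅ (resD V.ι).obj J := (resDExtZeroIso V.ι).app L
  have hJU : IsZero ((resD U.ι).obj J) := (isZero_resD_iff_support U.ι J).2 fun q x hx hxU => by
    obtain ⟨y, rfl⟩ := support_HD_extZeroD V.ι L q hx
    have hz : IsZero ((resD (U'.ι ≫ V.ι)).obj J) :=
      (isZero_resD_comp _ _).1 (hLU'.of_iso ((resD U'.ι).mapIso eJ.symm))
    rw [Scheme.Opens.range_ι] at hxU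
    exact (isZero_resD_iff_support _ J).1 hz q hx ⟨⟨y, hxU⟩, rfl⟩
  have hJW : IsZero ((resD W.ι).obj J) := hWcov J ((resD WU.ι).map_isZero hJU)
    (hLWV.of_iso ((resD WV.ι).mapIso eJ.symm))
  have hJperf : DCoh.IsPerfect J := hperf J
    (isPerfect_of_isZero_obj hJU) (isPerfect_of_iso hL eJ)
  refine ⟨K ⊞ J, isPerfect_biprod hKperf hJperf, isZero_resD_biprod W.ι hKW hJW, fun E hE hEW h => ?_⟩
  have hKE : ∀ (n : ℤ) (φ : K⟦n⟧ ⟶ E), φ = 0 := fun n φ => by
    have := h n ((biprod.fst : K ⊞ J ⟶ K)⟦n⟧' ≫ φ)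
    rw [← cancel_epi ((biprod.fst : K ⊞ J ⟶ K)⟦n⟧'), comp_zero]; exact this
  have hJE : ∀ (n : ℤ) (φ : J⟦n⟧ ⟶ E), φ = 0 := fun n φ => by
    have := h n ((biprod.snd : K ⊞ J ⟶ J)⟦n⟧' ≫ φ)
    rw [← cancel_epi ((biprod.snd : K ⊞ J ⟶ J)⟦n⟧'), comp_zero]; exact this
  let adj := resDAdj U.ι
  let EU := (resD U.ι).obj E
  have hEU : DCoh.IsQCohD EU := isQCohD_resD U.ι hE
  have hEUW : IsZero ((resD WU.ι).obj EU) := (isZero_resD_comp _ _).2 (isZero_resD_of_le _ _ (by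
    rintro _ ⟨y, rfl⟩
    rw [Scheme.Opens.range_ι]
    exact y.2) hEW)
  obtain ⟨C, p, d, hT⟩ := distinguished_cocone_triangle (adj.unit.app E)
  have hCU : IsZero ((resD U.ι).obj C) :=
    (Triangle.isZero₃_iff_isIso₁ _ ((resD U.ι).map_distinguished _ hT)).2 (isIso_resD_unit U.ι E)
  have hCW : IsZero ((resD W.ι).obj C) := by
    have h' : IsZero ((resD W.ι).obj ((RR U.ι).obj EU)) := isZero_resD_RR U.ι hEU W hEUW
    exact (Triangle.isZero₃_iff_isIso₁ _ ((resD W.ι).map_distinguished _ hT)).2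
      ⟨0, hEW.eq_of_src _ _, h'.eq_of_src _ _⟩
  have hC : DCoh.IsQCohD C := isQCohD_obj₃ hT hE (isQCohD_Rres U.ι EU hEU)
  have hJC : ∀ (n : ℤ) (φ : J⟦n⟧ ⟶ C), φ = 0 := fun n φ => by
    have h1 : ∀ g : J⟦n⟧ ⟶ E⟦(1 : ℤ)⟧, g = 0 := TriCat.eq_zero_of_forall_shift (fun m g => by
      rw [← cancel_epi ((shiftFunctorAdd _ n m).hom.app J), comp_zero]
      exact hJE _ _) 1
    obtain ⟨ψ, hψ⟩ := Triangle.coyoneda_exact₃ _ hT φ (h1 _)
    have hψ0 : ψ = 0 := ((resDAdj U.ι).homEquiv _ _).symm.injective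
      ((((shiftFunctor _ n).map_isZero hJU).of_iso (((resD U.ι).commShiftIso n).app J)).eq_of_src _ _)
    rw [hψ, hψ0]
    exact zero_comp
  have hCV : IsZero ((resD V.ι).obj C) := by
    refine hLgen _ (isQCohD_resD V.ι hC) (isZero_resD_of_cover WV.ι U'.ι (WV ⊔ U').ι (by
      rw [Scheme.Opens.range_ι, Scheme.Opens.range_ι, Scheme.Opens.range_ι, Opens.coe_sup])
      ((isZero_resD_comp _ _).2 (isZero_resD_of_le _ _ (by
        rintro _ ⟨y, rfl⟩
        rw [Scheme.Opens.range_ι]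
        exact y.2) hCW))
      ((isZero_resD_comp _ _).2 (isZero_resD_of_le _ _ (by
        rintro _ ⟨y, rfl⟩
        rw [Scheme.Opens.range_ι]
        exact y.2) hCU))) fun n φ => ?_
    apply ((extZeroDAdj V.ι).homEquiv _ _).symm.injective
    rw [← cancel_epi (((CxOX.extZeroD V.ι).commShiftIso n).app L).inv]
    exact (hJC n _).trans (hJC n _).symm
  have hη : IsIso (adj.unit.app E) :=
    (Triangle.isZero₃_iff_isIso₁ _ hT).1 (isZero_of_isZero_cover U.ι V.ι hcov' hCU hCV)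
  have hEU0 : IsZero EU := hPgen EU hEU hEUW fun n ψ => by
    let q : (resD U.ι).obj K ⟶ P := eU.hom ≫ biprod.fst
    have hq : IsSplitEpi (q⟦n⟧') := ⟨⟨⟨(biprod.inl ≫ eU.inv)⟦n⟧', by
      rw [← Functor.map_comp, ← CategoryTheory.Functor.map_id]; simp [q]⟩⟩⟩
    rw [← cancel_epi (q⟦n⟧'), comp_zero, ← cancel_epi (((resD U.ι).commShiftIso n).app K).hom, comp_zero]
    apply (adj.homEquiv _ _).injective
    have key : ∀ g : K⟦n⟧ ⟶ (RR U.ι).obj EU, g = 0 := fun g => by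
      have := hKE n (g ≫ inv (adj.unit.app E))
      rw [← cancel_mono (inv (adj.unit.app E)), zero_comp]; exact this
    exact (key _).trans (key _).symm
  exact ((RR U.ι).map_isZero hEU0).of_iso (asIso (adj.unit.app E))

theorem hasGen_of_cover : ∀ (n : ℕ) (X : Scheme.{u}) [CompactSpace X] [QuasiSeparatedSpace X] (B : Fin n → X.Opens),
    (∀ k, IsAffineOpen (B k)) → (∀ x : X, ∃ k, x ∈ B k) → HasGen X
  | 0, X, _, _, B, _, hB => fun W _ => by
    have hz : ∀ K : DCoh.D X, IsZero K := fun K =>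
      isZero_of_support_empty fun q => Set.eq_empty_iff_forall_notMem.2 fun x => (hB x).elim fun k => k.elim0
    obtain ⟨Z, hZ⟩ : ∃ Z : DCoh.D X, IsZero Z := HasZeroObject.zero
    exact ⟨Z, isPerfect_of_local fun x => (hB x).elim fun k => k.elim0, (resD W.ι).map_isZero hZ,
      fun E _ _ _ => hz E⟩
  | n + 1, X, _, _, B, hB, hcov => by
    let U : X.Opens := ⨆ k : Fin n, B k.castSucc
    have hU : IsCompact (U : Set X) := by
      rw [Opens.coe_iSup]; exact isCompact_iUnion fun k => (hB _).isCompact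
    have : CompactSpace (U : Scheme.{u}) := isCompact_iff_compactSpace.1 hU
    refine hasGen_union U (B (Fin.last n)) hU (hB _) (fun x => ?_) (hasGen_of_cover n U
      (fun k => U.ι ⁻¹ᵁ B k.castSucc) (fun k => ?_) (fun x => ?_))
    · obtain ⟨k, hk⟩ := hcov x
      cases k using Fin.lastCases with
      | last => exact Or.inr hk
      | cast k => exact Or.inl (le_iSup (fun k : Fin n => B k.castSucc) k hk)
    · rw [← Scheme.Hom.isAffineOpen_iff_of_isOpenImmersion U.ι,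
        image_preimage_of_le U.ι (by rw [Scheme.Opens.opensRange_ι]; exact le_iSup (fun k : Fin n => B k.castSucc) k)]
      exact hB _
    · obtain ⟨k, hk⟩ := Opens.mem_iSup.1 x.2
      exact ⟨k, hk⟩

/-- Bondal–Van den Bergh. -/
theorem hasGen_of_qcqs (X : Scheme.{u}) [CompactSpace X] [QuasiSeparatedSpace X] : HasGen X := by
  obtain ⟨ι, _, B, hB, -, hcov⟩ := QCoh.exists_finite_affine_cover (X := X) (U := ⊤) isCompact_univ
  let e := (Fintype.equivFin ι).symm
  refine hasGen_of_cover _ X (B ∘ e) (fun k => hB _) fun x => ?_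
  obtain ⟨k, hk⟩ := Opens.mem_iSup.1 (hcov (show x ∈ (⊤ : X.Opens) from trivial))
  exact ⟨e.symm k, by simpa using hk⟩

end GrothLib.OX
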