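import Groth.Agent.Lib.OX.PerfectEnvelope
import Groth.Agent.Lib.OX.RpushCoprod
import Groth.Agent.Lib.DCxRing.CompactPerfect
import Groth.Agent.Lib.KInj.Adjoint
import Groth.Agent.Lib.TriCat.ThickProp

/-! # Compact objects of `D_qc` are the perfect ones -/

set_option autoImplicit false
set_option maxHeartbeats 800000
universe u

open CategoryTheory CategoryTheory.Limits AlgebraicGeometry Pretriangulated
open GrothLib.TriCat (FinHom homSum_of)

attribute [local instance] HasDerivedCategory.standard
attribute [local instance] Classical.decEq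

namespace GrothLib.OX

section Transfer

variable {C D : Type*} [Category C] [Preadditive C] [Category D] [Preadditive D] {ι : Type*}

/-- Finite sums pass to the left adjoint. -/
theorem finHom_leftAdjoint {L : C ⥤ D} {R : D ⥤ C} (adj : L ⊣ R) (X : ι → D) [HasCoproduct X]
    [HasCoproduct fun i => R.obj (X i)] (hR : IsIso (Sigma.desc fun i => R.map (Sigma.ι X i)))
    (hL : L.Additive) {K : C} (hK : FinHom (fun i => R.obj (X i)) K) : FinHom X (L.obj K) := fun φ => by
  obtain ⟨c, hc⟩ := hK (adj.homEquiv _ _ φ ≫ inv (Sigma.desc fun i => R.map (Sigma.ι X i)))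
  rw [show φ = (adj.homEquiv _ _).symm
      (PerfAux.homSumToHomCoprod K _ c ≫ Sigma.desc fun i => R.map (Sigma.ι X i)) by
    rw [hc, Category.assoc, IsIso.inv_hom_id, Category.comp_id, Equiv.symm_apply_apply]]
  suffices ∀ c, (adj.homEquiv _ _).symm
      (PerfAux.homSumToHomCoprod K _ c ≫ Sigma.desc fun i => R.map (Sigma.ι X i)) ∈
        (PerfAux.homSumToHomCoprod (L.obj K) X).range from this c
  intro c
  induction c using DirectSum.induction_on with
  | zero =>
    rw [map_zero, zero_comp, Adjunction.homEquiv_counit, L.map_zero, zero_comp]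
    exact zero_mem _
  | of i x =>
    rw [homSum_of, Category.assoc, Sigma.ι_desc, Adjunction.homEquiv_naturality_right_symm]
    exact TriCat.ι_mem_range X _ i _
  | add a b ha hb =>
    rw [map_add, Preadditive.add_comp, Adjunction.homEquiv_counit, L.map_add, Preadditive.add_comp,
      ← Adjunction.homEquiv_counit, ← Adjunction.homEquiv_counit]
    exact add_mem ha hb

/-- Finite sums are reflected by fully faithful functors. -/
theorem finHom_of_fullyFaithful (F : C ⥤ D) [F.Full] [F.Faithful] [F.Additive] (X : ι → C) [HasCoproduct X]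
    [HasCoproduct fun i => F.obj (X i)] (hF : IsIso (Sigma.desc fun i => F.map (Sigma.ι X i)))
    {K : C} (hK : FinHom (fun i => F.obj (X i)) (F.obj K)) : FinHom X K := fun φ => by
  obtain ⟨c, hc⟩ := hK (F.map φ ≫ inv (Sigma.desc fun i => F.map (Sigma.ι X i)))
  have key : ∀ c, ∃ d, F.map (PerfAux.homSumToHomCoprod K X d) =
      PerfAux.homSumToHomCoprod (F.obj K) _ c ≫ Sigma.desc fun i => F.map (Sigma.ι X i) := by
    intro c
    induction c using DirectSum.induction_on with
    | zero => exact ⟨0, by rw [map_zero, map_zero, zero_comp, F.map_zero]⟩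
    | of i x =>
      refine ⟨DirectSum.of (fun i => K ⟶ X i) i (F.preimage x), ?_⟩
      rw [homSum_of, homSum_of, Category.assoc, Sigma.ι_desc, F.map_comp, F.map_preimage]
    | add a b ha hb =>
      obtain ⟨d, hd⟩ := ha
      obtain ⟨e, he⟩ := hb
      exact ⟨d + e, by rw [map_add, map_add, F.map_add, hd, he, Preadditive.add_comp]⟩
  obtain ⟨d, hd⟩ := key c
  exact ⟨d, F.map_injective (hd.trans (by rw [hc, Category.assoc, IsIso.inv_hom_id, Category.comp_id]))⟩

/-- Reindexing a family. -/
theorem finHom_reindex {κ : Type*} (e : κ ≃ ι) (X : ι → D) [HasCoproduct X] [HasCoproduct fun k => X (e k)]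
    {K : D} (hK : FinHom X K) : FinHom (fun k => X (e k)) K := fun φ => by
  let r : (∐ fun k => X (e k)) ⟶ ∐ X := Sigma.desc fun k => Sigma.ι X (e k)
  let r' : (∐ X) ⟶ ∐ fun k => X (e k) :=
    Sigma.desc fun i => eqToHom (congrArg X (e.apply_symm_apply i).symm) ≫ Sigma.ι (fun k => X (e k)) (e.symm i)
  have hr : ∀ k, Sigma.ι X (e k) ≫ r' = Sigma.ι (fun k => X (e k)) k := fun k => by
    rw [Sigma.ι_desc]
    exact Sigma.eqToHom_comp_ι (fun k => X (e k)) (e.symm_apply_apply k).symm
  have hid : r ≫ r' = 𝟙 _ := Sigma.hom_ext _ _ fun k => by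
    rw [Sigma.ι_desc_assoc, hr, Category.comp_id]
  obtain ⟨c, hc⟩ := hK (φ ≫ r)
  rw [show φ = PerfAux.homSumToHomCoprod K X c ≫ r' by rw [hc, Category.assoc, hid, Category.comp_id]]
  suffices ∀ c, PerfAux.homSumToHomCoprod K X c ≫ r' ∈
      (PerfAux.homSumToHomCoprod K fun k => X (e k)).range from this c
  intro c
  induction c using DirectSum.induction_on with
  | zero => rw [map_zero, zero_comp]; exact zero_mem _
  | of i x =>
    obtain ⟨k, rfl⟩ := e.surjective i
    rw [homSum_of, Category.assoc, hr]
    exact TriCat.ι_mem_range _ _ k _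
  | add a b ha hb => rw [map_add, Preadditive.add_comp]; exact add_mem ha hb

end Transfer

variable {X : Scheme.{u}}

/-- Restriction to an open is left adjoint to derived direct image. -/
noncomputable def resDAdj {U : Scheme.{u}} (j : U ⟶ X) [IsOpenImmersion j] : resD j ⊣ RR j :=
  have : (Scheme.Modules.pushforward j).Additive :=
    (Scheme.Modules.restrictAdjunction j).right_adjoint_additive
  KInj.derivedAdj (Scheme.Modules.restrictAdjunction j)

/-- Perfect objects on a quasi-compact quasi-separated scheme see direct sums in `D_qc`. -/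
theorem finHom_of_isPerfect [CompactSpace X] [QuasiSeparatedSpace X] {K : DCoh.D X} (hK : DCoh.IsPerfect K)
    {ι : Type u} (M : ι → DCoh.D X) [HasCoproduct M] (hM : ∀ i, DCoh.IsQCohD (M i)) : FinHom M K := by
  have h := prop_of_isPerfect (TriCat.thick_finHom M) (fun V hV k n => ?_) hK 0
  · exact h.of_iso ((shiftFunctorZero (DCoh.D X) ℤ).app K)
  · exact (genFin_of_isAffineOpen M hV hM (k - n)).of_iso
      (((DerivedCategory.singleFunctors X.Modules).shiftIso n (k - n) k (by omega)).app _).symm

/-- Compact objects of `D_qc` are perfect. -/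
theorem isPerfect_of_finHom [QuasiSeparatedSpace X] {K : DCoh.D X} (hqc : DCoh.IsQCohD K)
    (hK : ∀ (ι : Type u) (M : ι → DCoh.D X) [HasCoproduct M], (∀ i, DCoh.IsQCohD (M i)) → FinHom M K) :
    DCoh.IsPerfect K := by
  refine isPerfect_of_local fun x => ?_
  obtain ⟨V, hV, hx, -⟩ := exists_isAffineOpen_mem_and_subset (x := x) (U := ⊤) trivial
  let j := hV.fromSpec
  refine ⟨_, j, inferInstance, by rw [hV.range_fromSpec]; exact hx, ?_⟩
  have : QuasiCompact j := by
    rw [quasiCompact_iff_forall_isAffineOpen]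
    intro W hW
    rw [j.isOpenEmbedding.isInducing.isCompact_iff, show (⇑j '' (↑(j ⁻¹ᵁ W) : Set _)) = (W : Set X) ∩ Set.range j from Set.image_preimage_eq_inter_range, hV.range_fromSpec]
    exact QuasiSeparatedSpace.inter_isCompact (W : Set X) (V : Set X) W.2 hW.isCompact V.2 hV.isCompact
  let A : CommRingCat.{u} := Γ(X, V)
  obtain ⟨M, ⟨e⟩⟩ := exists_tildeD_rep hqc j
  refine isPerfect_of_iso ((isPerfect_tildeD_iff (A := A) M).2 (DR.isPerfect_iff_compactD.2 ?_)) e
  intro I N _
  have hff := tildeD_full_faithful_essImage (R := A)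
  have := hff.1
  have := hff.2.1
  let T := DCoh.tildeD A
  let N' : I → Dual.D (A : Type u) := fun i => N ⟨i⟩
  have : HasColimitsOfShape (Discrete I) (DCoh.D (Spec A)) := HoCat.derivedCategory_hasColimitsOfShape
  have : HasColimitsOfShape (Discrete (ULift.{u + 1} I)) (DCoh.D (Spec A)) :=
    hasColimitsOfShape_of_equivalence (Discrete.equivalence Equiv.ulift.symm)
  have : HasColimitsOfShape (Discrete I) (DCoh.D X) := HoCat.derivedCategory_hasColimitsOfShape
  have hTN : FinHom (fun i : I => T.obj (N' i)) ((resD j).obj K) :=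
    finHom_leftAdjoint (resDAdj j) (fun i : I => T.obj (N' i))
      (isIso_Rres_coprod j _ fun i => isQCohD_tildeD _) inferInstance
      (hK I _ fun i => isQCohD_Rres j _ (isQCohD_tildeD _))
  have hTN' : FinHom (fun i : ULift.{u + 1} I => T.obj (N i)) (T.obj M) :=
    (finHom_reindex Equiv.ulift _ hTN).of_iso e.symm
  have : (moduleSpecΓFunctor (R := A)).Additive := tilde.adjunction.right_adjoint_additive
  have : PreservesColimitsOfSize.{u + 1, u + 1} (DCoh.tildeD A) :=
    (KInj.derivedAdj (tilde.adjunction (R := A))).leftAdjoint_preservesColimits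
  exact finHom_of_fullyFaithful T N
    (inferInstanceAs (IsIso (sigmaComparison (DCoh.tildeD A) N))) hTN'

end GrothLib.OX
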