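import Groth.Agent.Lib.TriCat.BrownSmall
import Groth.Agent.Lib.TriCat.BrownCorollaries
import Groth.Agent.Lib.OX.BVdB
import Groth.Agent.Lib.OX.CompactPerfect
import Groth.Agent.Lib.OX.PerfectEnvelope
import Groth.Agent.Lib.OX.RpushCoprod
import Mathlib.CategoryTheory.Limits.FullSubcategory

/-! # Brown representability on `D_qc` of a quasi-compact quasi-separated scheme -/

set_option autoImplicit false
set_option maxHeartbeats 1000000
universe w v u u' v'

open CategoryTheory CategoryTheory.Limits CategoryTheory.Pretriangulated Opposite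
open CategoryTheory.Pretriangulated.Opposite
open AlgebraicGeometry

namespace GrothLib.TriCatS

variable {D : Type u} [Category.{max w v} D] [Preadditive D] [HasZeroObject D] [HasShift D ℤ]
  [∀ n : ℤ, (shiftFunctor D n).Additive] [Pretriangulated D] [HasCoproducts.{w} D]
  [HasColimitsOfShape (Discrete ℕ) D]

/-- Compact generators form a perfect family. -/
theorem isPerfectFamily_of_finHom {ι : Type w} {E : ι → D}
    (hc : ∀ (X : ULift.{w} ℕ → D) k, TriCat.FinHom X (E k)) : IsPerfectFamily E := by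
  classical
  intro A B φ hφ k b
  let B' : ULift.{w} ℕ → D := fun n => B n.down
  let e : (∐ B) ⟶ ∐ B' := Sigma.desc fun n => Sigma.ι B' ⟨n⟩
  let e' : (∐ B') ⟶ ∐ B := Sigma.desc fun n => Sigma.ι B n.down
  have he : e ≫ e' = 𝟙 _ := by
    refine Sigma.hom_ext _ _ fun n => ?_
    simp [e, e', B']
  obtain ⟨c, hc'⟩ := hc B' k (b ≫ e)
  suffices h : ∀ c, ∃ a : E k ⟶ ∐ A,
      a ≫ Limits.Sigma.map φ = PerfAux.homSumToHomCoprod (E k) B' c ≫ e' by
    obtain ⟨a, ha⟩ := h c
    exact ⟨a, ha.trans (by rw [hc', Category.assoc, he, Category.comp_id])⟩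
  intro c
  induction c using DirectSum.induction_on with
  | zero => exact ⟨0, by rw [map_zero, zero_comp, zero_comp]⟩
  | of i x =>
    obtain ⟨a, ha⟩ := hφ i.down k x
    refine ⟨a ≫ Sigma.ι A i.down, ?_⟩
    rw [TriCat.homSum_of, Category.assoc, Category.assoc, Sigma.ι_map, Sigma.ι_desc, ← Category.assoc, ha]
  | add c d hc hd =>
    obtain ⟨a, ha⟩ := hc
    obtain ⟨a', ha'⟩ := hd
    exact ⟨a + a', by rw [Preadditive.add_comp, map_add, Preadditive.add_comp, ha, ha']⟩

/-- A coproduct preserving triangulated functor out of a perfectly generated category is a left adjoint. -/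
theorem isLeftAdjoint_of_perfect {ι : Type w} {E : ι → D} [∀ k X, Small.{w} (E k ⟶ X)]
    (hs : IsShiftClosedFamily E) (hperf : IsPerfectFamily E)
    (h1 : ∀ X : D, (∀ k (f : E k ⟶ X), f = 0) → IsZero X)
    {D' : Type u'} [Category.{max w v} D'] [Preadditive D'] [HasZeroObject D'] [HasShift D' ℤ]
    [∀ n : ℤ, (shiftFunctor D' n).Additive] [Pretriangulated D']
    (F : D ⥤ D') [∀ k Y, Small.{w} (F.obj (E k) ⟶ Y)] [F.CommShift ℤ] [F.IsTriangulated]
    [∀ (κ : Type w), PreservesColimitsOfShape (Discrete κ) F] : F.IsLeftAdjoint := by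
  refine F.isLeftAdjoint_of_rightAdjointObjIsDefined_eq_top (funext fun Y => ?_)
  simp only [Pi.top_apply, Prop.top_eq_true, eq_iff_iff, iff_true]
  rw [F.rightAdjointObjIsDefined_iff]
  have : ∀ (κ : Type w), PreservesLimitsOfShape (Discrete κ) F.op := fun κ => by
    have : PreservesColimitsOfShape (Discrete κ)ᵒᵖ F :=
      preservesColimitsOfShape_of_equiv (Discrete.opposite κ).symm F
    exact preservesLimitsOfShape_op _ F
  have : ∀ (κ : Type w), PreservesLimitsOfShape (Discrete κ) (preadditiveYoneda.obj Y) := fun κ =>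
    preservesLimitsOfShape_of_equiv (Discrete.equivalence Equiv.ulift.{max w v, w}) _
  have : ∀ k, Small.{w} ((F.op ⋙ preadditiveYoneda.obj Y).obj (op (E k))) := fun k =>
    inferInstanceAs (Small.{w} (F.obj (E k) ⟶ Y))
  exact isRepresentable_of_perfect (H := F.op ⋙ preadditiveYoneda.obj Y) hs hperf h1

end GrothLib.TriCatS

attribute [local instance] HasDerivedCategory.standard

namespace GrothLib.OX

variable {X Y : Scheme.{u}}

/-- Morphisms in the derived category form small sets. -/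
instance small_hom_D (A B : DCoh.D X) : Small.{u} (A ⟶ B) :=
  small_map (((DerivedCategory.Qh.objObjPreimageIso A).homFromEquiv).symm.trans
    ((KInj.resAdj X.Modules).homEquiv _ B))

instance small_hom_DQCoh (A B : DCoh.DQCoh X) : Small.{u} (A ⟶ B) :=
  small_of_injective (f := fun g : A ⟶ B => g.hom) fun _ _ h => ObjectProperty.hom_ext _ h

instance isClosedUnderIsomorphisms_isQCohD : (DCoh.IsQCohD (X := X)).IsClosedUnderIsomorphisms where
  of_iso e h q := isQCoh_of_iso ((DerivedCategory.homologyFunctor X.Modules q).mapIso e) (h q)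

instance containsZero_isQCohD : (DCoh.IsQCohD (X := X)).ContainsZero where
  exists_zero := by
    obtain ⟨Z, hZ⟩ : ∃ Z : DCoh.D X, IsZero Z := HasZeroObject.zero
    exact ⟨Z, hZ, isQCohD_of_isPerfect (isPerfect_of_isZero_obj hZ)⟩

instance isStableUnderShift_isQCohD : (DCoh.IsQCohD (X := X)).IsStableUnderShift ℤ where
  isStableUnderShiftBy n := ⟨fun _ h => isQCohD_shift h n⟩

instance isTriangulatedClosed₂_isQCohD : (DCoh.IsQCohD (X := X)).IsTriangulatedClosed₂ where
  ext₂' T hT h₁ h₃ := ObjectProperty.le_isoClosure _ _ (DerTrunc.cohIn_obj₂ (qcohP X) hT h₁ h₃)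

instance isTriangulated_isQCohD : (DCoh.IsQCohD (X := X)).IsTriangulated where

instance isClosedUnderCoproducts_isQCohD (J : Type u) :
    (DCoh.IsQCohD (X := X)).IsClosedUnderColimitsOfShape (Discrete J) where
  colimitsOfShape_le := by
    rintro K ⟨p⟩
    have e : (∐ fun j => p.diag.obj ⟨j⟩) ≅ K :=
      HasColimit.isoOfNatIso (Discrete.natIsoFunctor (F := p.diag)).symm ≪≫
        IsColimit.coconePointUniqueUpToIso (colimit.isColimit _) p.isColimit
    exact ObjectProperty.prop_of_iso _ e (isQCohD_coprod _ fun j => p.prop_diag_obj ⟨j⟩)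

instance hasCoproducts_DQCoh : HasCoproducts.{u} (DCoh.DQCoh X) := fun _ => inferInstance

instance hasColimitsOfShape_nat_DQCoh : HasColimitsOfShape (Discrete ℕ) (DCoh.DQCoh X) :=
  hasColimitsOfShape_of_equivalence (Discrete.equivalence Equiv.ulift.{u, 0})

/-- On `D_qc`, perfect objects are compact. -/
theorem finHom_DQCoh [CompactSpace X] [QuasiSeparatedSpace X] {P : DCoh.DQCoh X} (hP : DCoh.IsPerfect P.obj)
    {κ : Type u} (M : κ → DCoh.DQCoh X) : TriCat.FinHom M P := by
  classical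
  have := preservesColimitOfShape_of_createsColimitsOfShape_and_hasColimitsOfShape
    (F := (DCoh.IsQCohD (X := X)).ι) (J := Discrete κ)
  exact finHom_of_fullyFaithful (DCoh.IsQCohD (X := X)).ι M
    (inferInstanceAs (IsIso (sigmaComparison (DCoh.IsQCohD (X := X)).ι M)))
    (finHom_of_isPerfect hP (fun i => (M i).obj) fun i => (M i).property)

/-- `D_qc` of a qcqs scheme has a perfect generator. -/
theorem exists_perfectFamily [CompactSpace X] [QuasiSeparatedSpace X] :
    ∃ (E : ULift.{u} ℤ → DCoh.DQCoh X), TriCatS.IsShiftClosedFamily E ∧ TriCatS.IsPerfectFamily E ∧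
      (∀ K : DCoh.DQCoh X, (∀ k (f : E k ⟶ K), f = 0) → IsZero K) ∧ ∀ k, DCoh.IsPerfect (E k).obj := by
  obtain ⟨P, hP, -, hgen⟩ := hasGen_of_qcqs X ⊥ isCompact_empty
  let E : ULift.{u} ℤ → DCoh.DQCoh X := fun k => ⟨P⟦k.down⟧, isQCohD_shift (isQCohD_of_isPerfect hP) _⟩
  refine ⟨E, fun k m => ⟨⟨k.down + m⟩, ⟨(DCoh.IsQCohD (X := X)).isoMk
    ((((DCoh.IsQCohD (X := X)).ι.commShiftIso m).app (E k)) ≪≫
      ((shiftFunctorAdd (DCoh.D X) k.down m).app P).symm)⟩⟩,
    TriCatS.isPerfectFamily_of_finHom.{u, u + 1} fun M k => finHom_DQCoh (isPerfect_shift hP k.down) M,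
    fun K hK => ?_, fun k => isPerfect_shift hP k.down⟩
  have h := hgen K.obj K.property (isZero_of_support_empty fun q => ?_) fun n φ =>
    congrArg (fun g : E ⟨n⟩ ⟶ K => g.hom) (hK ⟨n⟩ (ObjectProperty.homMk φ))
  · exact (IsZero.iff_id_eq_zero K).2 (ObjectProperty.hom_ext _ (h.eq_of_src _ _))
  · exact Set.eq_empty_of_forall_notMem fun x _ => x.2.elim

/-- A coproduct preserving triangulated functor out of `D_qc` is a left adjoint. -/
theorem isLeftAdjoint_DQCoh [CompactSpace X] [QuasiSeparatedSpace X]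
    {D' : Type u'} [Category.{u + 1} D'] [Preadditive D'] [HasZeroObject D'] [HasShift D' ℤ]
    [∀ n : ℤ, (shiftFunctor D' n).Additive] [Pretriangulated D'] [∀ A B : D', Small.{u} (A ⟶ B)]
    (F : DCoh.DQCoh X ⥤ D') [F.CommShift ℤ] [F.IsTriangulated]
    [∀ (κ : Type u), PreservesColimitsOfShape (Discrete κ) F] : F.IsLeftAdjoint := by
  obtain ⟨E, hs, hperf, h1, -⟩ := exists_perfectFamily (X := X)
  exact TriCatS.isLeftAdjoint_of_perfect.{u, u + 1} hs hperf h1 F

/-- **`Rf_*` on `D_qc` is a left adjoint.** -/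
theorem isLeftAdjoint_lift_Rpush [CompactSpace X] [QuasiSeparatedSpace X] [QuasiSeparatedSpace Y] (f : X ⟶ Y)
    [DCoh.HasRpush f] (h : ∀ K : DCoh.D X, DCoh.IsQCohD K → DCoh.IsQCohD ((DCoh.Rpush f).obj K)) :
    (ObjectProperty.lift DCoh.IsQCohD (ObjectProperty.ι DCoh.IsQCohD ⋙ DCoh.Rpush f)
      (fun K => h K.obj K.property)).IsLeftAdjoint := by
  have : QuasiSeparated f := QuasiSeparated.of_quasiSeparatedSpace f
  let G : DCoh.D X ⥤ DCoh.D Y := KInj.res X.Modules ⋙ DCoh.pushKh f
  have hG : ∀ K : DCoh.DQCoh X, DCoh.IsQCohD ((ObjectProperty.ι DCoh.IsQCohD ⋙ G).obj K) := fun K =>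
    isQCohD_Rres f K.obj K.property
  let F : DCoh.DQCoh X ⥤ DCoh.DQCoh Y := ObjectProperty.lift DCoh.IsQCohD (ObjectProperty.ι DCoh.IsQCohD ⋙ G) hG
  have hcop : ∀ (κ : Type u), PreservesColimitsOfShape (Discrete κ) F := fun κ => by
    have := preservesColimitOfShape_of_createsColimitsOfShape_and_hasColimitsOfShape
      (F := (DCoh.IsQCohD (X := X)).ι) (J := Discrete κ)
    have : PreservesColimitsOfShape (Discrete κ) (ObjectProperty.ι (DCoh.IsQCohD (X := X)) ⋙ G) := ⟨fun {K} => by
      have : PreservesColimit (Discrete.functor ((K ⋙ (DCoh.IsQCohD (X := X)).ι).obj ∘ Discrete.mk)) G := by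
        have : IsIso (sigmaComparison G ((K ⋙ (DCoh.IsQCohD (X := X)).ι).obj ∘ Discrete.mk)) :=
          isIso_Rres_coprod f (fun i => (K.obj ⟨i⟩).obj) fun i => (K.obj ⟨i⟩).property
        exact PreservesCoproduct.of_iso_comparison _ _
      have : PreservesColimit (K ⋙ (DCoh.IsQCohD (X := X)).ι) G :=
        preservesColimit_of_iso_diagram G (Discrete.natIsoFunctor (F := K ⋙ (DCoh.IsQCohD (X := X)).ι)).symm
      infer_instance⟩
    have : PreservesColimitsOfShape (Discrete κ) (F ⋙ (DCoh.IsQCohD (X := Y)).ι) :=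
      preservesColimitsOfShape_of_natIso (ObjectProperty.liftCompιIso _ _ hG).symm
    exact preservesColimitsOfShape_of_reflects_of_preserves F (DCoh.IsQCohD (X := Y)).ι
  have : F.IsLeftAdjoint := isLeftAdjoint_DQCoh F
  exact Functor.isLeftAdjoint_of_iso (NatIso.ofComponents (fun K =>
    (DCoh.IsQCohD (X := Y)).isoMk ((rpushIsoRres f).symm.app K.obj))
    (fun {A B} g => ObjectProperty.hom_ext _ ((rpushIsoRres f).inv.naturality g.hom)) :
      F ≅ ObjectProperty.lift DCoh.IsQCohD (ObjectProperty.ι DCoh.IsQCohD ⋙ DCoh.Rpush f)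
        (fun K => h K.obj K.property))

end GrothLib.OX
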