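import Groth.Agent.Lib.OX.LiftSupport
import Groth.Agent.Lib.OX.PerfectCriterion
import Groth.Agent.Lib.DCxRing.SupportApprox

/-!
# Approximation by perfect complexes with support

Supports are recorded through the open `W` on which objects vanish.
-/

set_option autoImplicit false
set_option maxHeartbeats 1000000
universe u

open CategoryTheory CategoryTheory.Limits AlgebraicGeometry Opposite TopologicalSpace Pretriangulated

attribute [local instance] HasDerivedCategory.standard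

namespace GrothLib.OX

variable {X : Scheme.{u}}

/-- The cohomology sheaf in degree `i` vanishes on `W`. -/
def VanishAt (W : X.Opens) (E : DCoh.D X) (i : ℤ) : Prop :=
  IsZero ((Scheme.Modules.restrictFunctor W.ι).obj (DCoh.HD E i))

theorem vanishAt_iff_support {W : X.Opens} {E : DCoh.D X} {i : ℤ} :
    VanishAt W E i ↔ CohB1.support (DCoh.HD E i) ⊆ ((W : Set X))ᶜ := by
  refine ⟨fun h => ?_, fun h => isZero_restrict_of_support W.ι fun y hy => h hy y.2⟩
  have := support_subset_of_isZero_restrict W.ι h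
  rwa [Scheme.Opens.range_ι] at this

theorem isZero_resD_iff_vanishAt {W : X.Opens} {E : DCoh.D X} :
    IsZero ((resD W.ι).obj E) ↔ ∀ i, VanishAt W E i := by
  simp only [vanishAt_iff_support, isZero_resD_iff_support, Scheme.Opens.range_ι]

/-- `E` receives a map from a perfect object vanishing on `W` whose cone has no cohomology in degrees `≥ m`. -/
def ApproxOn (W : X.Opens) (m : ℤ) (E : DCoh.D X) : Prop :=
  ∃ (P C : DCoh.D X) (α : P ⟶ E) (c : E ⟶ C) (d : C ⟶ P⟦(1 : ℤ)⟧), Triangle.mk α c d ∈ distTriang _ ∧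
    DCoh.IsPerfect P ∧ IsZero ((resD W.ι).obj P) ∧ ∀ i, m ≤ i → IsZero (DCoh.HD C i)

theorem cone_vanish_iff {T : Triangle (DCoh.D X)} (hT : T ∈ distTriang _) (m : ℤ) :
    (∀ i, m ≤ i → IsZero (DCoh.HD T.obj₃ i)) ↔
      ((∀ i, m < i → IsIso ((DerivedCategory.homologyFunctor X.Modules i).map T.mor₁)) ∧
        Epi ((DerivedCategory.homologyFunctor X.Modules m).map T.mor₁)) := by
  constructor
  · intro h
    have hepi : ∀ i, m ≤ i → Epi ((DerivedCategory.homologyFunctor X.Modules i).map T.mor₁) := fun i hi =>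
      (DerivedCategory.HomologySequence.exact₂ T hT i).epi_f ((h i hi).eq_of_tgt _ _)
    refine ⟨fun i hi => ?_, hepi m le_rfl⟩
    have := hepi i hi.le
    have : Mono ((DerivedCategory.homologyFunctor X.Modules i).map T.mor₁) :=
      (DerivedCategory.HomologySequence.exact₁ T hT (i - 1) i (by omega)).mono_g ((h (i - 1) (by omega)).eq_of_src _ _)
    exact isIso_of_mono_of_epi _
  · rintro ⟨hiso, hepi⟩ i hi
    have h1 : Epi ((DerivedCategory.homologyFunctor X.Modules i).map T.mor₁) := by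
      rcases hi.lt_or_eq with h | rfl
      · have := hiso i h; infer_instance
      · exact hepi
    have := hiso (i + 1) (by omega)
    refine (DerivedCategory.HomologySequence.exact₃ T hT i (i + 1) rfl).isZero_of_both_zeros ?_ ?_
    · rw [← cancel_epi ((DerivedCategory.homologyFunctor X.Modules i).map T.mor₁), comp_zero]
      change (DerivedCategory.homologyFunctor X.Modules i).map T.mor₁ ≫ (DerivedCategory.homologyFunctor X.Modules i).map T.mor₂ = 0
      rw [← Functor.map_comp, comp_distTriang_mor_zero₁₂ _ hT, Functor.map_zero]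
    · rw [← cancel_mono ((DerivedCategory.homologyFunctor X.Modules (i + 1)).map T.mor₁), zero_comp]
      exact DerivedCategory.HomologySequence.δ_comp T hT i (i + 1) rfl

theorem approxOn_of_map {W : X.Opens} {m : ℤ} {P E : DCoh.D X} (α : P ⟶ E) (hP : DCoh.IsPerfect P)
    (hW : IsZero ((resD W.ι).obj P))
    (hiso : ∀ i, m < i → IsIso ((DerivedCategory.homologyFunctor X.Modules i).map α))
    (hepi : Epi ((DerivedCategory.homologyFunctor X.Modules m).map α)) : ApproxOn W m E := by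
  obtain ⟨C, c, d, hT⟩ := distinguished_cocone_triangle α
  exact ⟨P, C, α, c, d, hT, hP, hW, (cone_vanish_iff hT m).2 ⟨hiso, hepi⟩⟩

theorem ApproxOn.exists_map {W : X.Opens} {m : ℤ} {E : DCoh.D X} (h : ApproxOn W m E) :
    ∃ (P : DCoh.D X) (α : P ⟶ E), DCoh.IsPerfect P ∧ IsZero ((resD W.ι).obj P) ∧
      (∀ i, m < i → IsIso ((DerivedCategory.homologyFunctor X.Modules i).map α)) ∧
      Epi ((DerivedCategory.homologyFunctor X.Modules m).map α) := by
  obtain ⟨P, C, α, c, d, hT, hP, hW, hC⟩ := h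
  exact ⟨P, α, hP, hW, ((cone_vanish_iff hT m).1 hC).1, ((cone_vanish_iff hT m).1 hC).2⟩

theorem isZero_HD_resD {V : Scheme.{u}} (j : V ⟶ X) [IsOpenImmersion j] {C : DCoh.D X} {i : ℤ}
    (h : IsZero (DCoh.HD C i)) : IsZero (DCoh.HD ((resD j).obj C) i) :=
  ((Scheme.Modules.restrictFunctor j).map_isZero h).of_iso (HDResIso j C i)

theorem support_subset_of_isZero_HD_resD {V : Scheme.{u}} (j : V ⟶ X) [IsOpenImmersion j] {C : DCoh.D X} {i : ℤ}
    (h : IsZero (DCoh.HD ((resD j).obj C) i)) : CohB1.support (DCoh.HD C i) ⊆ (Set.range j)ᶜ :=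
  support_subset_of_isZero_restrict j (h.of_iso (HDResIso j C i).symm)

/-- Two approximations in succession. -/
theorem approxOn_comp {W : X.Opens} {m : ℤ} {R E C : DCoh.D X} {γ : R ⟶ E} {c : E ⟶ C} {d : C ⟶ R⟦(1 : ℤ)⟧}
    (hT : Triangle.mk γ c d ∈ distTriang _) (hR : DCoh.IsPerfect R) (hRW : IsZero ((resD W.ι).obj R))
    (h : ApproxOn W m C) : ApproxOn W m E := by
  obtain ⟨Q, C', β, c', d', hT', hQ, hQW, hC'⟩ := h
  obtain ⟨Z, p, e, hT''⟩ := distinguished_cocone_triangle (c ≫ c')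
  have ho := (Triangulated.someOctahedron rfl (rot_of_distTriang _ hT) (rot_of_distTriang _ hT') hT'').mem
  have hZ : DCoh.IsPerfect Z := (isPerfect_triangle ho).2.1 (isPerfect_shift hR 1) (isPerfect_shift hQ 1)
  have hW1 : ∀ {K : DCoh.D X} (n : ℤ), IsZero ((resD W.ι).obj K) → IsZero ((resD W.ι).obj (K⟦n⟧)) :=
    fun {K} n hK => ((shiftFunctor _ n).map_isZero hK).of_iso (((resD W.ι).commShiftIso n).app K)
  have hZW : IsZero ((resD W.ι).obj Z) :=
    Triangle.isZero₂_of_isZero₁₃ _ ((resD W.ι).map_distinguished _ ho) (hW1 1 hRW) (hW1 1 hQW)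
  exact ⟨_, C', _, c ≫ c', _, inv_rot_of_distTriang _ hT'', isPerfect_shift hZ (-1), hW1 (-1) hZW, hC'⟩

/-- Approximation extends from an open containing the support. -/
theorem approxOn_of_open {Y : Scheme.{u}} (j : Y ⟶ X) [IsOpenImmersion j] {W : X.Opens}
    (hcov : ∀ x, x ∈ Set.range j ∪ (W : Set X)) {E : DCoh.D X} {m : ℤ} (h : ApproxOn (j ⁻¹ᵁ W) m ((resD j).obj E))
    (hE : ∀ i, m ≤ i → VanishAt W E i) : ApproxOn W m E := by
  obtain ⟨P, α, hP, hPW, hiso, hepi⟩ := h.exists_map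
  let J := (CxOX.extZeroD j).obj P
  let e : P ≅ (resD j).obj J := (resDExtZeroIso j).app P
  let α' : J ⟶ E := ((extZeroDAdj j).homEquiv P E).symm α
  have hα : e.hom ≫ (resD j).map α' = α :=
    ((extZeroDAdj j).homEquiv_unit _ _ _).symm.trans (((extZeroDAdj j).homEquiv P E).apply_symm_apply α)
  have hJW : IsZero ((resD W.ι).obj J) := (isZero_resD_iff_support _ J).2 fun q x hx hW => by
    obtain ⟨y, rfl⟩ := support_HD_extZeroD j P q hx
    rw [Scheme.Opens.range_ι] at hW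
    exact (isZero_resD_iff_support ((j ⁻¹ᵁ W).ι ≫ j) J).1
      ((isZero_resD_comp _ _).1 (hPW.of_iso ((resD _).mapIso e.symm))) q hx ⟨⟨y, hW⟩, rfl⟩
  have hJ : DCoh.IsPerfect J := isPerfect_of_local fun x => (hcov x).elim
    (fun hx => ⟨Y, j, inferInstance, hx, isPerfect_of_iso hP e⟩)
    (fun hx => ⟨_, W.ι, inferInstance, ⟨⟨x, hx⟩, rfl⟩, isPerfect_of_isZero_obj hJW⟩)
  obtain ⟨C, c, d, hT⟩ := distinguished_cocone_triangle α'
  have hCY : ∀ i, m ≤ i → IsZero (DCoh.HD ((resD j).obj C) i) := fun i hi => by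
    refine (cone_vanish_iff ((resD j).map_distinguished _ hT) m).2 ⟨fun i hi => ?_, ?_⟩ i hi
    · have := hiso i hi
      have h1 : (resD j).map α' = e.inv ≫ α := (Iso.eq_inv_comp e).2 hα
      change IsIso ((DerivedCategory.homologyFunctor Y.Modules i).map ((resD j).map α'))
      rw [h1, Functor.map_comp]
      infer_instance
    · have h1 : (resD j).map α' = e.inv ≫ α := (Iso.eq_inv_comp e).2 hα
      change Epi ((DerivedCategory.homologyFunctor Y.Modules m).map ((resD j).map α'))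
      rw [h1, Functor.map_comp]
      infer_instance
  refine ⟨J, C, α', c, d, hT, hJ, hJW, fun i hi => isZero_of_subsingleton_stalks _ fun x => ?_⟩
  by_contra hx
  rcases hcov x with hxj | hxW
  · exact support_subset_of_isZero_HD_resD j (hCY i hi) hx hxj
  · have hz : IsZero (DCoh.HD ((resD W.ι).obj C) i) :=
      (DerivedCategory.HomologySequence.exact₃ _ ((resD W.ι).map_distinguished _ hT) i (i + 1) rfl).isZero_of_both_zeros
        (((hE i hi).of_iso (HDResIso W.ι E i)).eq_of_src _ _)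
        (((DerivedCategory.homologyFunctor _ (i + 1)).map_isZero hJW).eq_of_tgt _ _)
    exact support_subset_of_isZero_HD_resD W.ι hz hx ⟨⟨x, hxW⟩, rfl⟩

/-- Approximation on affine schemes, with the number of basic opens covering `W` as the bound. -/
theorem approxOn_affine {A : CommRingCat.{u}} (i : X ⟶ Spec A) [IsIso i] {W : X.Opens} (fs : List A)
    (hfs : (W.ι ≫ i).opensRange = ⨆ k : {f // f ∈ fs}, PrimeSpectrum.basicOpen k.1) {E : DCoh.D X}
    (hE : DCoh.IsQCohD E) {m : ℤ} (hpc : DCoh.IsPseudoCoherentD m E)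
    (hsupp : ∀ q, m - (fs.length : ℤ) < q → VanishAt W E q) : ApproxOn W m E := by
  obtain ⟨M, ⟨e⟩⟩ := exists_module_iso i hE
  let S := DCoh.tildeD A ⋙ resD i
  have hsurj : ∀ y, ∃ x, i x = y := fun y => ⟨(inv i) y, by rw [← Scheme.Hom.comp_apply, IsIso.inv_hom_id]; rfl⟩
  have hpcM : DRing.IsPseudoCoherent A m M :=
    (isPseudoCoherentD_tildeD_iff (A := A) M m).1 (isPseudoCoherentD_of_local fun y => by
      obtain ⟨x, rfl⟩ := hsurj y
      exact ⟨X, i, inferInstance, ⟨x, rfl⟩, isPseudoCoherentD_of_iso hpc e.symm⟩)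
  have hHD : ∀ (N : Dual.D (A : Type u)) (q : ℤ), DCoh.HD (S.obj N) q ≅ (Scheme.Modules.restrictFunctor i).obj
      ((tilde.functor A).obj ((DerivedCategory.homologyFunctor (ModuleCat.{u} A) q).obj N)) := fun N q =>
    HDResIso i _ q ≪≫ (Scheme.Modules.restrictFunctor i).mapIso (HDTildeIso N q)
  have htor : ∀ f ∈ fs, ∀ q, m - (fs.length : ℤ) < q → DR.TorsionAt f M q := fun f hf q hq x => by
    refine torsion_of_isZero_restrict (W.ι ≫ i) _ ?_ f
      (hfs ▸ le_iSup (fun k : {f // f ∈ fs} => PrimeSpectrum.basicOpen k.1) ⟨f, hf⟩) x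
    exact ((hsupp q hq).of_iso ((Scheme.Modules.restrictFunctor W.ι).mapIso
      ((hHD M q).symm ≪≫ (DerivedCategory.homologyFunctor X.Modules q).mapIso e))).of_iso
      ((Scheme.Modules.restrictFunctorComp W.ι i).app _)
  obtain ⟨P, C, α, c, d, hT, hP, hnil, hC⟩ := DR.exists_approx_support' fs m M hpcM htor
  have hPW : IsZero ((resD W.ι).obj (S.obj P)) :=
    (isZero_AG_of_isTorsion (W.ι ≫ i) hfs fun f hf => (hnil f hf).isTorsion).of_iso ((AGIso i W).app P)
  have h := (cone_vanish_iff (S.map_distinguished _ hT) m).1 fun q hq =>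
    ((Scheme.Modules.restrictFunctor i).map_isZero ((tilde.functor A).map_isZero (hC q hq))).of_iso (hHD C q)
  refine approxOn_of_map (S.map α ≫ e.hom) (isPerfect_resD_tildeD i hP) hPW (fun q hq => ?_) ?_
  · have : IsIso ((DerivedCategory.homologyFunctor X.Modules q).map (S.map α)) := h.1 q hq
    rw [Functor.map_comp]
    infer_instance
  · have : Epi ((DerivedCategory.homologyFunctor X.Modules m).map (S.map α)) := h.2
    rw [Functor.map_comp]
    infer_instance

/-- Perfect objects of quasi-compact schemes are bounded above. -/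
theorem exists_bound_of_isPerfect [CompactSpace X] {P : DCoh.D X} (hP : DCoh.IsPerfect P) :
    ∃ b : ℤ, ∀ i, b < i → IsZero (DCoh.HD P i) := by
  have h : ∀ x : X, ∃ V : X.Opens, x ∈ V ∧ ∃ b : ℤ, ∀ i, b < i → IsZero (DCoh.HD ((resD V.ι).obj P) i) := fun x => by
    obtain ⟨V, hV, hx, -⟩ := exists_isAffineOpen_mem_and_subset (x := x) (U := ⊤) trivial
    have : IsAffine (V : Scheme.{u}) := hV
    obtain ⟨M, hM, ⟨e⟩⟩ := exists_perfect_module_iso (V : Scheme.{u}).isoSpec.hom (isPerfect_resD hP V.ι)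
    obtain ⟨b, -, hb⟩ := DR.exists_bound (DR.isPseudoCoherent_of_isPerfect' hM 0)
    refine ⟨V, hx, b, fun i hi => ?_⟩
    have hz : IsZero ((DerivedCategory.homologyFunctor (ModuleCat.{u} Γ((V : Scheme.{u}), ⊤)) i).obj M) :=
      @ModuleCat.isZero_of_subsingleton _ _ _ (hb i hi)
    exact (((Scheme.Modules.restrictFunctor _).map_isZero ((tilde.functor _).map_isZero hz)).of_iso
        (HDResIso _ _ i ≪≫ (Scheme.Modules.restrictFunctor _).mapIso (HDTildeIso M i))).of_iso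
      ((DerivedCategory.homologyFunctor _ i).mapIso e.symm)
  choose V hV b hb using h
  obtain ⟨s, hs⟩ := isCompact_univ.elim_finite_subcover (fun x : X => (V x : Set X)) (fun x => (V x).2)
    (fun x _ => Set.mem_iUnion.2 ⟨x, hV x⟩)
  obtain ⟨B, hB⟩ := (s.image b).bddAbove
  refine ⟨B, fun i hi => isZero_of_subsingleton_stalks _ fun x => ?_⟩
  by_contra hx
  obtain ⟨y, hy, hxy⟩ := Set.mem_iUnion₂.1 (hs (Set.mem_univ x))
  have : b y ≤ B := hB (Finset.mem_image_of_mem b hy)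
  exact support_subset_of_isZero_HD_resD _ (hb y i (by omega)) hx ⟨⟨x, hxy⟩, rfl⟩

variable {U V : X.Opens}

/-- `U ↪ X` is quasi-compact if `U` and `U ⊓ V` are compact, `V` affine, and they cover `X`. -/
theorem quasiCompact_ι_of_affine (hcov : ∀ x : X, x ∈ (U : Set X) ∪ (V : Set X)) (hV : IsAffineOpen V)
    (hUV : IsCompact ((V ⊓ U : X.Opens) : Set X)) : QuasiCompact U.ι := by
  rw [quasiCompact_iff_forall_isAffineOpen]
  intro O hO
  rw [U.ι.isOpenEmbedding.isInducing.isCompact_iff,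
    show (⇑U.ι '' (↑(U.ι ⁻¹ᵁ O) : Set _)) = (O : Set X) ∩ Set.range U.ι from Set.image_preimage_eq_inter_range,
    Scheme.Opens.range_ι]
  have h : ∀ x : X, ∃ B : X.Opens, (x ∈ (O : Set X) → x ∈ B) ∧ B ≤ O ∧ IsCompact ((B : Set X) ∩ U) := fun x => by
    by_cases hx : x ∈ (O : Set X)
    · rcases hcov x with hxU | hxV
      · obtain ⟨B, hB, hxB, hBle⟩ := exists_isAffineOpen_mem_and_subset (x := x) (U := O ⊓ U) ⟨hx, hxU⟩
        refine ⟨B, fun _ => hxB, fun y hy => (hBle hy).1, ?_⟩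
        rw [Set.inter_eq_self_of_subset_left (show (B : Set X) ⊆ U from fun y hy => (hBle hy).2)]
        exact hB.isCompact
      · obtain ⟨B, hB, hxB, hBle⟩ := exists_isAffineOpen_mem_and_subset (x := x) (U := O ⊓ V) ⟨hx, hxV⟩
        refine ⟨B, fun _ => hxB, fun y hy => (hBle hy).1, ?_⟩
        have : (B : Set X) ∩ U = (B : Set X) ∩ ((V ⊓ U : X.Opens) : Set X) := by
          ext y
          exact ⟨fun hy => ⟨hy.1, (hBle hy.1).2, hy.2⟩, fun hy => ⟨hy.1, hy.2.2⟩⟩
        rw [this]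
        exact hV.isQuasiSeparated _ _ (fun y hy => (hBle hy).2) B.2 hB.isCompact inf_le_left (V ⊓ U).2 hUV
    · exact ⟨⊥, fun h => absurd h hx, bot_le, by simp⟩
  choose B hB hBO hBc using h
  obtain ⟨s, hs⟩ := hO.isCompact.elim_finite_subcover (fun x => (B x : Set X)) (fun x => (B x).2)
    (fun x hx => Set.mem_iUnion.2 ⟨x, hB x hx⟩)
  have heq : (O : Set X) ∩ U = ⋃ x ∈ s, (B x : Set X) ∩ U := by
    ext y
    simp only [Set.mem_iUnion]
    exact ⟨fun hy => by
      obtain ⟨x, hx, hyx⟩ := Set.mem_iUnion₂.1 (hs hy.1)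
      exact ⟨x, hx, hyx, hy.2⟩, fun ⟨x, _, hy, hyU⟩ => ⟨hBO x hy, hyU⟩⟩
  rw [heq]
  exact s.finite_toSet.isCompact_biUnion fun x _ => hBc x

/-- `P ⊕ P[2k+1]` extends, keeping vanishing. -/
theorem exists_extend_odd (hcov : ∀ x : X, x ∈ (U : Set X) ∪ (V : Set X)) (hV : IsAffineOpen V)
    (hUV : IsCompact ((V ⊓ U : X.Opens) : Set X)) {P : DCoh.D (U : Scheme.{u})} (hP : DCoh.IsPerfect P)
    (W : X.Opens) (hW : IsCompact ((V ⊓ W : X.Opens) : Set X)) (hPW : IsZero ((resD (U.ι ⁻¹ᵁ W).ι).obj P)) :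
    ∀ (k : ℕ) (n : ℤ), n = 2 * k + 1 → ∃ K : DCoh.D X, DCoh.IsPerfect K ∧ IsZero ((resD W.ι).obj K) ∧
      Nonempty ((resD U.ι).obj K ≅ P ⊞ P⟦n⟧) := by
  intro k
  induction k with
  | zero =>
    rintro n rfl
    simpa using exists_extend_of_affine hcov hV hUV hP W hW hPW
  | succ k ih =>
    rintro n rfl
    have := quasiCompact_ι_of_affine hcov hV hUV
    obtain ⟨K, hK, hKW, ⟨eK⟩⟩ := ih _ rfl
    obtain ⟨K₁, hK₁, hK₁W, ⟨e₁⟩⟩ := exists_extend_of_affine hcov hV hUV hP W hW hPW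
    let a : ℤ := 2 * k + 1
    have := preservesBinaryBiproducts_of_preservesBiproducts (resD U.ι)
    have hsA : ∀ b : ℤ, PreservesBinaryBiproducts (shiftFunctor (DCoh.D (U : Scheme.{u})) b) := fun b =>
      preservesBinaryBiproducts_of_preservesBiproducts _
    let L := K₁⟦a⟧
    let B := K₁⟦a + 1⟧
    -- on `U`: `L = P[a] ⊕ P[a+1]`, `K ⊕ B = (P ⊕ P[a]) ⊕ (P[a+1] ⊕ P[a+2])`
    let sh : ∀ b : ℤ, (resD U.ι).obj (K₁⟦b⟧) ≅ P⟦b⟧ ⊞ P⟦b + 1⟧ := fun b =>
      ((resD U.ι).commShiftIso b).app K₁ ≪≫ (shiftFunctor _ b).mapIso e₁ ≪≫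
        (shiftFunctor _ b).mapBiprod P (P⟦(1 : ℤ)⟧) ≪≫
          biprod.mapIso (Iso.refl _) ((shiftFunctorAdd' (DCoh.D (U : Scheme.{u})) 1 b (b + 1) (by omega)).app P).symm
    let eB : (resD U.ι).obj (K ⊞ B) ≅ (P ⊞ P⟦a⟧) ⊞ (P⟦a + 1⟧ ⊞ P⟦a + 1 + 1⟧) :=
      (resD U.ι).mapBiprod K B ≪≫ biprod.mapIso eK (sh (a + 1))
    let φ : (resD U.ι).obj L ⟶ (resD U.ι).obj (K ⊞ B) :=
      (sh a).hom ≫ biprod.map biprod.inr biprod.inl ≫ eB.inv
    obtain ⟨R, β, γ, hR, hβ, hβγ, hkeep⟩ := exists_lift_of_affine hcov hV hUV (isPerfect_shift hK₁ a)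
      (isQCohD_biprod (isQCohD_of_isPerfect hK) (isQCohD_of_isPerfect (isPerfect_shift hK₁ _))) φ
    obtain ⟨C, c, d, hT⟩ := distinguished_cocone_triangle γ
    have hshW : ∀ b : ℤ, IsZero ((resD W.ι).obj (K₁⟦b⟧)) := fun b =>
      ((shiftFunctor _ b).map_isZero hK₁W).of_iso (((resD W.ι).commShiftIso b).app K₁)
    refine ⟨C, isPerfect_cone hT hR (isPerfect_biprod hK (isPerfect_shift hK₁ _)),
      Triangle.isZero₃_of_isIso₁ _ ((resD W.ι).map_distinguished _ hT)
        ⟨0, (hkeep W hW (hshW a)).eq_of_src _ _, (isZero_resD_biprod W.ι hKW (hshW (a + 1))).eq_of_src _ _⟩, ?_⟩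
    -- the cone of the split inclusion is the complement
    let T₀ := binaryBiproductTriangle (P⟦a⟧ ⊞ P⟦a + 1⟧) (P ⊞ P⟦a + 1 + 1⟧)
    let σ : (P⟦a⟧ ⊞ P⟦a + 1⟧) ⊞ (P ⊞ P⟦a + 1 + 1⟧) ≅ (P ⊞ P⟦a⟧) ⊞ (P⟦a + 1⟧ ⊞ P⟦a + 1 + 1⟧) :=
      { hom := biprod.desc (biprod.map biprod.inr biprod.inl) (biprod.map biprod.inl biprod.inr)
        inv := biprod.desc (biprod.desc (biprod.inl ≫ biprod.inr) (biprod.inl ≫ biprod.inl))
          (biprod.desc (biprod.inr ≫ biprod.inl) (biprod.inr ≫ biprod.inr))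
        hom_inv_id := by ext <;> simp
        inv_hom_id := by ext <;> simp }
    obtain e₂ := Triangle.π₃.mapIso (isoTriangleOfIso₁₂ _ T₀ ((resD U.ι).map_distinguished _ hT)
      (binaryBiproductTriangle_distinguished _ _)
      (@asIso _ _ _ _ ((resD U.ι).map β) hβ ≪≫ sh a) (eB ≪≫ σ.symm) (by
        change (resD U.ι).map γ ≫ eB.hom ≫ σ.inv = ((resD U.ι).map β ≫ (sh a).hom) ≫ biprod.inl
        rw [← hβγ]
        simp only [φ, Category.assoc, Iso.inv_hom_id_assoc]
        congr 2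
        exact (Iso.comp_inv_eq σ).2 (biprod.inl_desc _ _).symm))
    exact ⟨e₂ ≪≫ biprod.mapIso (Iso.refl _) (eqToIso (by simp only [a]; push_cast; ring_nf))⟩

/-- Approximation holds on `X` with some uniform bound, for each retrocompact `W`. -/
def HasApprox (X : Scheme.{u}) : Prop :=
  ∀ W : X.Opens, (∀ O : X.Opens, IsCompact (O : Set X) → IsCompact ((O ⊓ W : X.Opens) : Set X)) →
    ∃ r : ℤ, ∀ (m : ℤ) (E : DCoh.D X), DCoh.IsQCohD E → DCoh.IsPseudoCoherentD (m - r) E →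
      (∀ i, m - r ≤ i → VanishAt W E i) → ApproxOn W m E

theorem vanishAt_resD_preimage {Y : Scheme.{u}} (j : Y ⟶ X) [IsOpenImmersion j] {W : X.Opens} {E : DCoh.D X} {i : ℤ}
    (h : VanishAt W E i) : VanishAt (j ⁻¹ᵁ W) ((resD j).obj E) i := by
  refine isZero_restrict_of_support _ fun y hy => hy ?_
  by_contra hne
  have hz : IsZero ((Scheme.Modules.restrictFunctor ((j ⁻¹ᵁ W).ι ≫ j)).obj (DCoh.HD E i)) :=
    isZero_restrict_of_support _ fun z hz => vanishAt_iff_support.1 h hz z.2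
  have hz' : IsZero ((Scheme.Modules.restrictFunctor (j ⁻¹ᵁ W).ι).obj (DCoh.HD ((resD j).obj E) i)) :=
    (hz.of_iso ((Scheme.Modules.restrictFunctorComp (j ⁻¹ᵁ W).ι j).app _).symm).of_iso
      ((Scheme.Modules.restrictFunctor _).mapIso (HDResIso j E i))
  exact support_subset_of_isZero_restrict _ hz' hy ⟨y, rfl⟩

/-- The induction step: adjoin an affine open. -/
theorem hasApprox_union [CompactSpace (U : Scheme.{u})] (hcov : ∀ x : X, x ∈ (U : Set X) ∪ (V : Set X))
    (hV : IsAffineOpen V) (hUV : IsCompact ((V ⊓ U : X.Opens) : Set X)) (hU : HasApprox (U : Scheme.{u})) :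
    HasApprox X := fun W hW => by
  have := quasiCompact_ι_of_affine hcov hV hUV
  have : IsAffine (V : Scheme.{u}) := hV
  have hVW : IsCompact ((V ⊓ W : X.Opens) : Set X) := hW V hV.isCompact
  let W' : (V : Scheme.{u}).Opens := V.ι ⁻¹ᵁ (W ⊔ U)
  have hW' : IsCompact (W' : Set (V : Scheme.{u})) := isCompact_preimage_ι V (W ⊔ U) (by
    rw [inf_sup_left, Opens.coe_sup]; exact hVW.union hUV)
  obtain ⟨fs, hfs⟩ := exists_basicOpen_cover (W'.ι ≫ (V : Scheme.{u}).isoSpec.hom) (isCompact_range_comp _ hW')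
  let rV : ℤ := fs.length
  obtain ⟨rU, hrU⟩ := hU (U.ι ⁻¹ᵁ W) fun O hO => by
    rw [U.ι.isOpenEmbedding.isInducing.isCompact_iff]
    have : U.ι '' ((O ⊓ U.ι ⁻¹ᵁ W : (U : Scheme.{u}).Opens) : Set (U : Scheme.{u})) =
        ((U.ι ''ᵁ O ⊓ W : X.Opens) : Set X) := by
      ext x
      exact ⟨by rintro ⟨y, hy, rfl⟩; exact ⟨⟨y, hy.1, rfl⟩, hy.2⟩,
        by rintro ⟨⟨y, hy, rfl⟩, hxW⟩; exact ⟨y, ⟨hy, hxW⟩, rfl⟩⟩
    rw [this]
    exact hW _ (hO.image U.ι.continuous)
  refine ⟨max rV (rU + rV), fun m E hE hpc hsupp => ?_⟩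
  let m₁ := m - rV
  obtain ⟨P, α, hP, hPW, hiso, hepi⟩ := (hrU m₁ _ (isQCohD_resD U.ι hE)
    (isPseudoCoherentD_resD (isPseudoCoherentD_mono hpc (by omega)) U.ι)
    fun i hi => vanishAt_resD_preimage U.ι (hsupp i (by omega))).exists_map
  obtain ⟨b, hb⟩ := exists_bound_of_isPerfect hP
  obtain ⟨k, hk⟩ : ∃ k : ℕ, b - (2 * (k : ℤ) + 1) < m₁ - 1 := ⟨(b - m₁ + 1).toNat, by omega⟩
  obtain ⟨K, hK, hKW, ⟨eK⟩⟩ := exists_extend_odd hcov hV hUV hP W hVW hPW k _ rfl
  obtain ⟨R, β, γ, hR, hβ, hβγ, hkeep⟩ :=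
    exists_lift_of_affine hcov hV hUV hK hE (eK.hom ≫ biprod.fst ≫ α)
  have hRW : IsZero ((resD W.ι).obj R) := hkeep W hVW hKW
  obtain ⟨C, c, d, hT⟩ := distinguished_cocone_triangle γ
  have hfst : ∀ i, m₁ ≤ i → IsIso ((DerivedCategory.homologyFunctor (U : Scheme.{u}).Modules i).map
      (biprod.fst : P ⊞ P⟦2 * (k : ℤ) + 1⟧ ⟶ P)) := fun i hi => by
    let H := DerivedCategory.homologyFunctor (U : Scheme.{u}).Modules i
    refine ⟨H.map biprod.inl, ?_, by rw [← Functor.map_comp, biprod.inl_fst, CategoryTheory.Functor.map_id]⟩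
    have hz : IsZero (H.obj (P⟦2 * (k : ℤ) + 1⟧)) :=
      (hb (2 * k + 1 + i) (by omega)).of_iso (HDShiftIso P _ i _ rfl)
    rw [← H.map_comp, ← H.map_id, ← biprod.total, H.map_add, H.map_comp biprod.snd,
      hz.eq_of_tgt (H.map biprod.snd) 0, zero_comp, add_zero]
  have hTU := (resD U.ι).map_distinguished _ hT
  have hγU : (resD U.ι).map γ = ((resD U.ι).map β ≫ eK.hom) ≫ biprod.fst ≫ α := by
    rw [Category.assoc]; exact hβγ.symm
  have hCU : ∀ i, m₁ ≤ i → IsZero (DCoh.HD ((resD U.ι).obj C) i) := by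
    refine (cone_vanish_iff hTU m₁).2 ⟨fun i hi => ?_, ?_⟩
    · have := hfst i hi.le
      have := hiso i hi
      change IsIso ((DerivedCategory.homologyFunctor (U : Scheme.{u}).Modules i).map ((resD U.ι).map γ))
      rw [hγU, Functor.map_comp, Functor.map_comp, Functor.map_comp]
      infer_instance
    · have := hfst m₁ le_rfl
      change Epi ((DerivedCategory.homologyFunctor (U : Scheme.{u}).Modules m₁).map ((resD U.ι).map γ))
      rw [hγU, Functor.map_comp, Functor.map_comp, Functor.map_comp]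
      infer_instance
  have hCWU : ∀ i, m₁ ≤ i → VanishAt (W ⊔ U) C i := fun i hi => vanishAt_iff_support.2 fun x hx hxWU => by
    rcases hxWU with hxW | hxU
    · have hz : IsZero (DCoh.HD ((resD W.ι).obj C) i) :=
        (DerivedCategory.HomologySequence.exact₃ _ ((resD W.ι).map_distinguished _ hT) i (i + 1) rfl).isZero_of_both_zeros
          (((hsupp i (by omega)).of_iso (HDResIso W.ι E i)).eq_of_src _ _)
          (((DerivedCategory.homologyFunctor _ (i + 1)).map_isZero hRW).eq_of_tgt _ _)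
      exact support_subset_of_isZero_HD_resD W.ι hz hx ⟨⟨x, hxW⟩, rfl⟩
    · exact support_subset_of_isZero_HD_resD U.ι (hCU i hi) hx ⟨⟨x, hxU⟩, rfl⟩
  have hCq : DCoh.IsQCohD C := isQCohD_obj₃ hT (isQCohD_of_isPerfect hR) hE
  have hCpc : DCoh.IsPseudoCoherentD m C := isPseudoCoherentD_cone hT
    (isPseudoCoherentD_of_isPerfect hR (m + 1)) (isPseudoCoherentD_mono hpc (by omega))
  have hV' : ApproxOn W' m ((resD V.ι).obj C) := approxOn_affine (V : Scheme.{u}).isoSpec.hom fs hfs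
    (isQCohD_resD V.ι hCq) (isPseudoCoherentD_resD hCpc V.ι)
    fun q hq => vanishAt_resD_preimage V.ι (hCWU q hq.le)
  obtain ⟨Q, C', β', c', d', hT', hQ, hQW, hC'⟩ := approxOn_of_open V.ι (fun x => by
    rw [Scheme.Opens.range_ι]
    rcases hcov x with h | h
    · exact Or.inr (Or.inr h)
    · exact Or.inl h) hV' (fun i hi => hCWU i (by omega))
  exact approxOn_comp hT hR hRW ⟨Q, C', β', c', d', hT', hQ, isZero_resD_of_le _ _ (by
    rw [Scheme.Opens.range_ι, Scheme.Opens.range_ι]; exact fun x hx => Or.inl hx) hQW, hC'⟩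

theorem hasApprox_of_cover : ∀ (n : ℕ) (X : Scheme.{u}) [CompactSpace X] [QuasiSeparatedSpace X] (B : Fin n → X.Opens),
    (∀ k, IsAffineOpen (B k)) → (∀ x : X, ∃ k, x ∈ B k) → HasApprox X
  | 0, X, _, _, B, _, hB => fun W _ => ⟨0, fun m E _ _ _ => by
      obtain ⟨Z, hZ⟩ : ∃ Z : DCoh.D X, IsZero Z := HasZeroObject.zero
      obtain ⟨C, c, d, hT⟩ := distinguished_cocone_triangle (0 : Z ⟶ E)
      exact ⟨Z, C, 0, c, d, hT, isPerfect_of_isZero_obj hZ, (resD W.ι).map_isZero hZ,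
        fun i _ => isZero_of_subsingleton_stalks _ fun x => (hB x).elim fun k => k.elim0⟩⟩
  | n + 1, X, _, _, B, hB, hcov => by
    let U : X.Opens := ⨆ k : Fin n, B k.castSucc
    have hU : IsCompact (U : Set X) := by
      rw [Opens.coe_iSup]; exact isCompact_iUnion fun k => (hB _).isCompact
    have : CompactSpace (U : Scheme.{u}) := isCompact_iff_compactSpace.1 hU
    refine hasApprox_union (U := U) (V := B (Fin.last n)) (fun x => ?_) (hB _)
      (QuasiSeparatedSpace.inter_isCompact (B (Fin.last n) : Set X) (U : Set X) (B _).2 (hB _).isCompact U.2 hU)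
      (hasApprox_of_cover n U (fun k => U.ι ⁻¹ᵁ B k.castSucc) (fun k => ?_) (fun x => ?_))
    · obtain ⟨k, hk⟩ := hcov x
      cases k using Fin.lastCases with
      | last => exact Or.inr hk
      | cast k => exact Or.inl (le_iSup (fun k : Fin n => B k.castSucc) k hk)
    · rw [← Scheme.Hom.isAffineOpen_iff_of_isOpenImmersion U.ι,
        image_preimage_of_le U.ι (by rw [Scheme.Opens.opensRange_ι]; exact le_iSup (fun k : Fin n => B k.castSucc) k)]
      exact hB _
    · obtain ⟨k, hk⟩ := Opens.mem_iSup.1 x.2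
      exact ⟨k, hk⟩

/-- **Approximation by perfect complexes.** -/
theorem hasApprox_of_qcqs (X : Scheme.{u}) [CompactSpace X] [QuasiSeparatedSpace X] : HasApprox X := by
  obtain ⟨ι, _, B, hB, -, hcov⟩ := QCoh.exists_finite_affine_cover (X := X) (U := ⊤) isCompact_univ
  let e := (Fintype.equivFin ι).symm
  refine hasApprox_of_cover _ X (B ∘ e) (fun k => hB _) fun x => ?_
  obtain ⟨k, hk⟩ := Opens.mem_iSup.1 (hcov (show x ∈ (⊤ : X.Opens) from trivial))
  exact ⟨e.symm k, by simpa using hk⟩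

end GrothLib.OX
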