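import Groth.Agent.Lib.OX.HomQCoh
import Groth.Agent.Lib.OX.QCohTensor
import Groth.Agent.Lib.OX.PCohTriangle
import Groth.Agent.Lib.DerCat.Truncation

/-! # Amplitude of `RHom`, and quasi-coherence out of pseudo-coherent complexes -/

set_option autoImplicit false
set_option maxHeartbeats 1000000
universe u

open CategoryTheory CategoryTheory.Limits CategoryTheory.Pretriangulated AlgebraicGeometry HomologicalComplex

attribute [local instance] HasDerivedCategory.standard

namespace GrothLib.OX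

variable {X : Scheme.{u}}

/-- The derived tensor product is right t-exact. -/
theorem isLE_ltensorCx (C : CochainComplex X.Modules ℤ) [DCoh.HasLTensorCx C] {c : ℤ}
    (hc : ∀ i, c < i → IsZero (C.homology i)) (A : DCoh.D X) (N : ℤ) [A.IsLE N] :
    ((DCoh.LTensorCx C).obj A).IsLE (N + c) := by
  obtain ⟨P, q, hP, -, hq, -⟩ := exists_kflat_resolution C
  have := hasLTensorCx P
  obtain ⟨a⟩ := nonempty_ltensorCx_congr q
  obtain ⟨A', hA', ⟨e⟩⟩ := exists_kflat_rep A
  obtain ⟨v⟩ := ltensorCx_value P A' hA'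
  have hP' : ∀ j, c < j → IsZero (P.homology j) := fun j hj => (hc j hj).of_iso (isoOfQuasiIsoAt q j)
  have hA'' : ∀ j, N < j → IsZero (A'.homology j) := fun j hj =>
    ((DerivedCategory.isZero_of_isLE A N j hj).of_iso ((DerivedCategory.homologyFunctor _ j).mapIso e)).of_iso
      ((DerivedCategory.homologyFunctorFactors X.Modules j).app A').symm
  rw [DerivedCategory.isLE_iff]
  intro i hi
  exact ((rightBound_tensorCx hA' hA'' c P hP hP' i (by omega)).of_iso
    ((DerivedCategory.homologyFunctorFactors X.Modules i).app _)).of_iso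
    ((DerivedCategory.homologyFunctor _ i).mapIso ((DCoh.LTensorCx C).mapIso e.symm ≪≫ a.symm.app _ ≪≫ v))

/-- `RHom` out of a complex bounded above into one bounded below is bounded below. -/
theorem isZero_HD_RSheafHom_of_lt (C : CochainComplex X.Modules ℤ) [DCoh.HasLTensorCx C] [DCoh.HasRSheafHom C]
    {c : ℤ} (hc : ∀ i, c < i → IsZero (C.homology i)) (M : DCoh.D X) (r : ℤ) [M.IsGE r] (i : ℤ) (hi : i < r - c) :
    IsZero (DCoh.HD ((DCoh.RSheafHom C).obj M) i) := by
  let R := (DCoh.RSheafHom C).obj M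
  let T := (DerivedCategory.TStructure.t.truncLT (r - c)).obj R
  have : T.IsLE (r - c - 1) :=
    inferInstanceAs (DerivedCategory.TStructure.t.IsLE ((DerivedCategory.TStructure.t.truncLT (r - c)).obj R) (r - c - 1))
  have : ((DCoh.LTensorCx C).obj T).IsLE (r - 1) := by
    have := isLE_ltensorCx C hc T (r - c - 1)
    rwa [show r - c - 1 + c = r - 1 by omega] at this
  have h0 : (DerivedCategory.TStructure.t.truncLTι (r - c)).app R = 0 := by
    apply ((DCoh.RSheafHomAdj C).homEquiv T M).symm.injective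
    exact (DerivedCategory.TStructure.t.zero_of_isLE_of_isGE _ (r - 1) r (by omega) inferInstance inferInstance).trans
      (DerivedCategory.TStructure.t.zero_of_isLE_of_isGE _ (r - 1) r (by omega) inferInstance inferInstance).symm
  have := DerTrunc.isIso_homology_truncLTι R (r - c) i hi
  rw [h0, Functor.map_zero] at this
  exact IsZero.of_iso ((IsZero.iff_id_eq_zero _).2 (by
    rw [← IsIso.hom_inv_id (0 : (DerivedCategory.homologyFunctor X.Modules i).obj T ⟶
      (DerivedCategory.homologyFunctor X.Modules i).obj R), zero_comp])) (@asIso _ _ _ _ _ this).symm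

/-- The low cohomology of `RHom` out of an approximated complex. -/
theorem exists_prop_iso_HD_RSheafHom_of_approx (Pr : ObjectProperty (DCoh.D X)) [Pr.IsTriangulated]
    [Pr.IsClosedUnderIsomorphisms] (K E : CochainComplex X.Modules ℤ) [DCoh.HasLTensorCx K] [DCoh.HasRSheafHom K]
    (hE : DCoh.IsKFlat E) (a : ℤ) (m : ℕ) (hb : ∀ i : ℤ, i < a ∨ a + m ≤ i → IsZero (E.X i))
    (hf : ∀ i, ∃ n, Nonempty (E.X i ≅ FlatMod.freeMod X n))
    (α : DerivedCategory.Q.obj E ⟶ DerivedCategory.Q.obj K) (n : ℤ)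
    (hiso : ∀ i, n < i → IsIso ((DerivedCategory.homologyFunctor _ i).map α))
    (hepi : Epi ((DerivedCategory.homologyFunctor _ n).map α))
    {G : DCoh.D X} (hG : Pr G) (r : ℤ) [G.IsGE r] (j : ℤ) (hj : j < r - n) :
    ∃ H, Pr H ∧ Nonempty (DCoh.HD ((DCoh.RSheafHom K).obj G) j ≅ DCoh.HD H j) := by
  obtain ⟨Z, s, hs, g, hg⟩ := DerivedCategory.right_fac α
  obtain ⟨T, t, hT, -, ht, -⟩ := exists_kflat_resolution Z
  obtain ⟨N, a', c, hN, hc, hac, -⟩ := exists_factorization (t ≫ g) hT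
  have hqs : QuasiIso s := (DerivedCategory.isIso_Q_map_iff_quasiIso _ s).1 hs
  have hts : QuasiIso (t ≫ s) := quasiIso_comp t s
  let eT : DerivedCategory.Q.obj T ≅ DerivedCategory.Q.obj E := asIso (DerivedCategory.Q.map (t ≫ s))
  let eN : DerivedCategory.Q.obj N ≅ DerivedCategory.Q.obj K := asIso (DerivedCategory.Q.map c)
  have hα : eT.inv ≫ DerivedCategory.Q.map a' ≫ eN.hom = α := by
    rw [Iso.inv_comp_eq, asIso_hom, ← Functor.map_comp, hac, hg, asIso_hom, Functor.map_comp, Functor.map_comp,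
      Category.assoc, IsIso.hom_inv_id_assoc]
  have hα' : DerivedCategory.Q.map a' = eT.hom ≫ α ≫ eN.inv := by rw [← hα]; simp
  let C := CochainComplex.mappingCone a'
  have hcone : ∀ i, n ≤ i → IsZero ((DerivedCategory.homologyFunctor X.Modules i).obj (DerivedCategory.Q.obj C)) := by
    refine (DerCat.cone_vanish_iff (DerivedCategory.Q.mapTriangle.obj (CochainComplex.mappingCone.triangle a'))
      (DerivedCategory.mappingCone_triangle_distinguished a') n).2 ⟨fun i hi => ?_, ?_⟩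
    · change IsIso ((DerivedCategory.homologyFunctor X.Modules i).map (DerivedCategory.Q.map a'))
      have := hiso i hi
      rw [hα', Functor.map_comp, Functor.map_comp]
      infer_instance
    · change Epi ((DerivedCategory.homologyFunctor X.Modules n).map (DerivedCategory.Q.map a'))
      rw [hα', Functor.map_comp, Functor.map_comp]
      infer_instance
  have hC : ∀ i, n - 1 < i → IsZero (C.homology i) := fun i hi =>
    (hcone i (by omega)).of_iso ((DerivedCategory.homologyFunctorFactors X.Modules i).app C).symm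
  obtain ⟨I, i₀, hi₀, hI, -⟩ := KInj.exists_kInjective_resolution (A := X.Modules) (DerivedCategory.Q.objPreimage G)
  let eI : DerivedCategory.Q.obj I ≅ G :=
    (asIso (DerivedCategory.Q.map i₀)).symm ≪≫ DerivedCategory.Q.objObjPreimageIso G
  have hCK : DCoh.IsKFlat C := isKFlat_mappingCone a' hT hN
  have hT1 : DCoh.IsKFlat (T⟦(1 : ℤ)⟧) := isKFlat_shift hT 1
  have := hasLTensorCx C; have := hasRSheafHom C
  have := hasLTensorCx N; have := hasRSheafHom N
  have := hasLTensorCx (T⟦(1 : ℤ)⟧); have := hasRSheafHom (T⟦(1 : ℤ)⟧)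
  have := hasLTensorCx (E⟦(1 : ℤ)⟧); have := hasRSheafHom (E⟦(1 : ℤ)⟧)
  obtain ⟨vC⟩ := nonempty_RSheafHom_value C hCK I
  obtain ⟨vN⟩ := nonempty_RSheafHom_value N hN I
  obtain ⟨vT⟩ := nonempty_RSheafHom_value _ hT1 I
  have hT1q : Pr (DerivedCategory.Q.obj ((homCx (T⟦(1 : ℤ)⟧)).obj I)) := by
    obtain ⟨w⟩ := nonempty_RSheafHom_congr (E := T⟦(1 : ℤ)⟧) (E' := E⟦(1 : ℤ)⟧)
      (((DerivedCategory.Q (C := X.Modules)).commShiftIso (1 : ℤ)).app T ≪≫
        (shiftFunctor (DCoh.D X) (1 : ℤ)).mapIso eT ≪≫ (((DerivedCategory.Q (C := X.Modules)).commShiftIso (1 : ℤ)).app E).symm)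
    exact Pr.prop_of_iso (w.symm.app _ ≪≫ vT)
      (prop_RSheafHom_of_bounded Pr (E⟦(1 : ℤ)⟧) (isKFlat_shift hE 1) (a - 1) m
        (fun i hi => (hb (i + 1) (by omega)).of_iso (E.shiftFunctorObjXIso 1 i (i + 1) rfl))
        (fun i => by
          obtain ⟨k, ⟨e⟩⟩ := hf (i + 1)
          exact ⟨k, ⟨E.shiftFunctorObjXIso 1 i (i + 1) rfl ≪≫ e⟩⟩)
        (Pr.prop_of_iso eI.symm hG))
  have : (DerivedCategory.Q.obj I).IsGE r :=
    DerivedCategory.TStructure.t.isGE_of_iso eI.symm r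
  have hCz : ∀ i, i < r - (n - 1) →
      IsZero ((DerivedCategory.homologyFunctor X.Modules i).obj (DerivedCategory.Q.obj ((homCx C).obj I))) :=
    fun i hi => (isZero_HD_RSheafHom_of_lt C hC _ r i hi).of_iso ((DerivedCategory.homologyFunctor _ i).mapIso vC.symm)
  let Tr := DerivedCategory.triangleOfSES (homSeq_shortExact (S := coneShortComplex a') (coneSplitting a') I)
  have hTr : Tr ∈ distTriang _ := DerivedCategory.triangleOfSES_distinguished _
  have := DerTrunc.isIso_homology_mor₂ (rot_of_distTriang _ hTr) j (hCz j (by omega)) (hCz (j + 1) (by omega))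
  obtain ⟨w⟩ := nonempty_RSheafHom_congr (E := N) (E' := K) eN
  exact ⟨_, Pr.le_shift (1 : ℤ) _ hT1q, ⟨((@asIso _ _ _ _ ((DerivedCategory.homologyFunctor X.Modules j).map Tr.rotate.mor₂) this).symm ≪≫
    (DerivedCategory.homologyFunctor _ j).mapIso (vN.symm ≪≫ w.app _ ≪≫ (DCoh.RSheafHom K).mapIso eI)).symm⟩⟩

/-- A pseudo-coherent complex is locally approximated by bounded complexes of finite free modules. -/
theorem exists_free_approx_open (F : CochainComplex X.Modules ℤ) (n : ℤ)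
    (hF : DCoh.IsPseudoCoherentD n (DerivedCategory.Q.obj F)) (x : X) :
    ∃ (U : Scheme.{u}) (j : U ⟶ X) (_ : IsOpenImmersion j) (E : CochainComplex U.Modules ℤ)
      (α : DerivedCategory.Q.obj E ⟶ DerivedCategory.Q.obj ((resCx j).obj F)), x ∈ j.opensRange ∧
      DCoh.IsKFlat E ∧ (∃ (a : ℤ) (m : ℕ), ∀ k : ℤ, k < a ∨ a + m ≤ k → IsZero (E.X k)) ∧
      (∀ k, ∃ n, Nonempty (E.X k ≅ FlatMod.freeMod U n)) ∧
      (∀ i, n < i → IsIso ((DerivedCategory.homologyFunctor _ i).map α)) ∧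
      Epi ((DerivedCategory.homologyFunctor _ n).map α) := by
  obtain ⟨V, hxV, hV⟩ := hF x
  obtain ⟨E, α, hE, hiso, hepi⟩ := hV F ⟨Iso.refl _⟩
  obtain ⟨W, E', hxW, hb, hf, hEK, ⟨i⟩⟩ := exists_free_bounded (Y := (V : Scheme.{u})) (P := E) (V := ⊤)
    (strictlyPerfect_resCx (⊤ : (V : Scheme.{u}).Opens).ι hE) (y := ⟨x, hxV⟩) trivial (Iso.refl _)
  let c : resCx (W.ι ≫ V.ι) ≅ resCx V.ι ⋙ resCx W.ι :=
    NatIso.mapHomologicalComplex (Scheme.Modules.restrictFunctorComp W.ι V.ι) (ComplexShape.up ℤ)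
  let β : DerivedCategory.Q.obj ((resCx W.ι).obj E) ⟶ DerivedCategory.Q.obj ((resCx W.ι).obj ((resCx V.ι).obj F)) :=
    (resDFac W.ι).inv.app E ≫ (resD W.ι).map α ≫ (resDFac W.ι).hom.app _
  have hgα : DerCat.Good α n := ⟨hiso, hepi⟩
  have hgood : DerCat.Good β n :=
    (DerCat.good_of_isIso _ n).comp ((hgα.map _).comp (DerCat.good_of_isIso _ n))
  let α' : DerivedCategory.Q.obj E' ⟶ DerivedCategory.Q.obj ((resCx (W.ι ≫ V.ι)).obj F) :=
    i.inv ≫ β ≫ (DerivedCategory.Q.mapIso (c.app F)).inv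
  have hgood' : DerCat.Good α' n :=
    (DerCat.good_of_isIso _ n).comp (hgood.comp (DerCat.good_of_isIso _ n))
  obtain ⟨hiso', hepi'⟩ := hgood'
  exact ⟨(W : Scheme.{u}), W.ι ≫ V.ι, inferInstance, E', α', ⟨⟨⟨x, hxV⟩, hxW⟩, rfl⟩, hEK, hb, hf, hiso', hepi'⟩

/-- **Quasi-coherence of the low cohomology of `RHom` out of a pseudo-coherent complex.** -/
theorem isQCoh_HD_RSheafHom_of_pseudo (F : CochainComplex X.Modules ℤ) (n : ℤ)
    (hF : DCoh.IsPseudoCoherentD n (DerivedCategory.Q.obj F)) [DCoh.HasLTensorCx F] [DCoh.HasRSheafHom F]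
    {G : DCoh.D X} (hG : DCoh.IsQCohD G) (r : ℤ) (hGr : ∀ m : ℤ, m < r → IsZero (DCoh.HD G m)) (j : ℤ)
    (hj : j < r - n) : Coh.IsQCoh (DCoh.HD ((DCoh.RSheafHom F).obj G) j) := by
  suffices h : ∀ x : X, ∃ V : X.Opens, x ∈ V ∧
      Coh.IsQCoh ((Scheme.Modules.restrictFunctor V.ι).obj (DCoh.HD ((DCoh.RSheafHom F).obj G) j)) by
    choose V hx hV using h
    exact QCoh.isQuasicoherent_of_restrict _ V
      (eq_top_iff.2 fun x _ => TopologicalSpace.Opens.mem_iSup.2 ⟨x, hx x⟩) hV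
  intro x
  obtain ⟨U, j', _, E', α', hx, hEK, ⟨a, m, hb⟩, hf, hiso', hepi'⟩ := exists_free_approx_open F n hF x
  have := hasLTensorCx ((resCx j').obj F)
  have := hasRSheafHom ((resCx j').obj F)
  have : G.IsGE r := (DerivedCategory.isGE_iff G r).2 hGr
  have : ((resD j').obj G).IsGE r := (DerivedCategory.isGE_iff _ r).2 fun k hk =>
    ((Scheme.Modules.restrictFunctor j').map_isZero (hGr k hk)).of_iso (HDResIso j' G k)
  obtain ⟨e⟩ := nonempty_resD_RSheafHom j' F
  obtain ⟨H, hH, ⟨eH⟩⟩ := exists_prop_iso_HD_RSheafHom_of_approx DCoh.IsQCohD _ E' hEK a m hb hf α' n hiso' hepi'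
    (isQCohD_resD j' hG) r j hj
  have hq : Coh.IsQCoh ((Scheme.Modules.restrictFunctor j').obj (DCoh.HD ((DCoh.RSheafHom F).obj G) j)) :=
    isQCoh_of_iso (eH.symm ≪≫ (DerivedCategory.homologyFunctor _ j).mapIso (e.app G).symm ≪≫ HDResIso j' _ j) (hH j)
  refine ⟨j'.opensRange, hx, ?_⟩
  have hι : j'.isoOpensRange.inv ≫ j' = j'.opensRange.ι := by
    rw [Iso.inv_comp_eq, Scheme.Hom.isoOpensRange_hom_ι]
  exact isQCoh_of_iso (((Scheme.Modules.restrictFunctorComp j'.isoOpensRange.inv j').app _).symm ≪≫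
      (Scheme.Modules.restrictFunctorCongr hι).app _)
    (have := hq; inferInstanceAs (((Scheme.Modules.restrictFunctor j').obj _).restrict j'.isoOpensRange.inv).IsQuasicoherent)

end GrothLib.OX
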