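import Groth.Agent.Lib.OX.CompactPerfect
import Groth.Agent.Lib.OX.ClosedPush
import Groth.Agent.Lib.OX.RHomDual
import Groth.Agent.Lib.OX.HomAmplitude
import Groth.Agent.Lib.CptBdd19.Vanish
import Groth.Agent.Lib.CohDer19.Good
import Groth.Agent.Lib.ColimCoh.Top
import Groth.Agent.Lib.SheafCoh.ModColim
import Groth.Agent.Lib.SheafCoh.Terminal
import Groth.Agent.Lib.SheafCoh.ModAcyclic
import Groth.Prelude.Def_CohDer

/-! # Perfect objects and direct sums of uniformly bounded families of modules -/

set_option autoImplicit false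
set_option maxHeartbeats 400000
universe u

open CategoryTheory CategoryTheory.Limits CategoryTheory.Pretriangulated AlgebraicGeometry Opposite

attribute [local instance] HasDerivedCategory.standard

namespace GrothLib.OX

variable {X : Scheme.{u}}

/-- The cohomology over an open of the underlying abelian sheaf of a module. -/
noncomputable def secCohFun (X : Scheme.{u}) (p : ℕ) (U : X.Opens) : X.Modules ⥤ AddCommGrpCat.{u} :=
  SheafOfModules.toSheaf.{u} X.ringCatSheaf ⋙
    (Sheaf.cohomologyPresheafFunctor (Opens.grothendieckTopology X.carrier) p).flip.obj (op U)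

/-- `Ext` out of a generator is cohomology over the open, naturally. -/
theorem nonempty_extGenIso (U : X.Opens) (p : ℕ) :
    Nonempty ((Abelian.extFunctor.{u} p).obj (op ((genF X).obj U)) ≅ secCohFun X p U) := by
  have := SheafCoh.enoughInjectives_sheafOfModules X.ringCatSheaf
  have := SheafCoh.preservesHomology_toSheaf X.ringCatSheaf
  have htf := torsionFree_freeY (Opens.grothendieckTopology X.carrier) U
  obtain ⟨c⟩ := DimShift.nonempty_comparison (SheafOfModules.toSheaf.{u} X.ringCatSheaf)
    ((genF X).obj U) (SheafCoh.freeY (Opens.grothendieckTopology X.carrier) U) (fun _ => True)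
    (fun _ _ => trivial)
    (fun S hS _ _ => ⟨trivial, by
      have := hS.mono_f
      have := hS.epi_g
      have := SheafCoh.preservesEpimorphisms_toSheaf X.ringCatSheaf
      have : PreservesLimitsOfSize.{0, 0} (SheafOfModules.toSheaf.{u} X.ringCatSheaf) :=
        (SiteDer.tensShAdj X.ringCatSheaf).rightAdjoint_preservesLimits
      exact { exact := hS.exact.map _
              mono_f := inferInstanceAs (Mono ((SheafOfModules.toSheaf X.ringCatSheaf).map S.f))
              epi_g := inferInstanceAs (Epi ((SheafOfModules.toSheaf X.ringCatSheaf).map S.g)) }⟩)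
    (fun I hI m => @SheafCoh.subsingleton_ext_injective_module _ _ _ X.ringCatSheaf _ htf I hI m)
    (fun F => (SiteDer.tensShAdj X.ringCatSheaf).homAddEquiv _ F)
    (fun φ a => (SiteDer.tensShAdj X.ringCatSheaf).homEquiv_naturality_right a φ) p
  refine ⟨NatIso.ofComponents (fun F => AddEquiv.toAddCommGrpIso
    ((c.equiv F trivial).trans (SheafCoh.HUext _ p U).symm)) fun {F G} φ => ?_⟩
  ext x
  exact (congrArg (SheafCoh.HUext _ p U).symm (c.naturality φ trivial trivial x)).trans
    ((AddEquiv.symm_apply_eq _).2 ((SheafCoh.map_eq _ p U _).trans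
      (congrArg (fun t => Abelian.Ext.comp t (Abelian.Ext.mk₀ ((SheafOfModules.toSheaf X.ringCatSheaf).map φ)) (add_zero p))
        (AddEquiv.apply_symm_apply _ (c.equiv F trivial x)))).symm)

/-- `Ext` out of the generator at a compact quasi-separated open commutes with direct sums. -/
theorem preservesColimit_ext_genF {U : X.Opens} (hUc : IsCompact (U : Set X))
    (hU : IsQuasiSeparated (U : Set X)) (p : ℕ) {ι : Type u} (H : ι → X.Modules) :
    PreservesColimit (Discrete.functor H) ((Abelian.extFunctor.{u} p).obj (op ((genF X).obj U))) := by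
  obtain ⟨e⟩ := nonempty_extGenIso (X := X) U p
  have := SheafCoh.preservesColimitsOfSize_toSheaf.{u} X.ringCatSheaf
  have h1 : PreservesColimitsOfShape (Finset (Discrete ι))
      ((Sheaf.cohomologyPresheafFunctor (Opens.grothendieckTopology X.carrier) p).flip.obj (op U)) :=
    ⟨fun {K} => ColimCoh.preservesColimit_cohomology_of_isQuasiSeparated hU hUc K p⟩
  have : PreservesColimitsOfShape (Finset (Discrete ι)) (SheafOfModules.toSheaf.{u} X.ringCatSheaf) :=
    this.preservesColimitsOfShape
  have : PreservesColimitsOfShape (Finset (Discrete ι)) (secCohFun X p U) :=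
    @comp_preservesColimitsOfShape _ _ _ _ _ _ _ _ _ _ this h1
  have : ((Abelian.extFunctor.{u} p).obj (op ((genF X).obj U))).Additive :=
    inferInstanceAs (Abelian.extFunctorObj ((genF X).obj U) p).Additive
  have : PreservesColimitsOfShape (Finset (Discrete ι)) ((Abelian.extFunctor.{u} p).obj (op ((genF X).obj U))) :=
    preservesColimitsOfShape_of_natIso e.symm
  have := CohDer19.preservesColimitsOfShape_discrete
    ((Abelian.extFunctor.{u} p).obj (op ((genF X).obj U))) (α := ι)
  infer_instance

/-- `H^p(X, F)` as `Ext` out of the structure sheaf's generator. -/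
theorem nonempty_ext_genTop_equiv (F : X.Modules) (p : ℕ) :
    Nonempty (Abelian.Ext.{u} ((genF X).obj ⊤) F p ≃ Coh.HH X F p) := by
  obtain ⟨e⟩ := nonempty_extGenIso (X := X) ⊤ p
  let T := (e.app F).addCommGroupIsoToAddEquiv
  exact ⟨T.toEquiv.trans (SheafCoh.extPrecompIso (SheafCoh.freeYTerminalIso (J := Opens.grothendieckTopology X.carrier)
    (isTerminalTop (α := TopologicalSpace.Opens X.carrier))) ((SheafOfModules.toSheaf X.ringCatSheaf).obj F) p).symm.toEquiv⟩

/-- Perfect objects on a quasi-compact quasi-separated scheme see direct sums of uniformly bounded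
below families. -/
theorem finHom_of_isPerfect_of_isGE [CompactSpace X] [QuasiSeparatedSpace X] {K : DCoh.D X}
    (hK : DCoh.IsPerfect K) {ι : Type u} (M : ι → DCoh.D X) [HasCoproduct M] (a : ℤ)
    (hM : ∀ i, (M i).IsGE a) : TriCat.FinHom M K := by
  have hP : TriCat.Thick (fun A : DCoh.D X => ∀ (M : ι → DCoh.D X) [HasCoproduct M] (a : ℤ),
      (∀ i, (M i).IsGE a) → ∀ n : ℤ, TriCat.FinHom M (A⟦n⟧)) :=
    { zero := fun h M _ a hM => (TriCat.thick_finHom M).zero h
      shift := fun n hA M _ a hM => (TriCat.thick_finHom M).shift n (hA M a hM)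
      total := fun i₁ p₁ i₂ p₂ h hA hB M _ a hM => (TriCat.thick_finHom M).total i₁ p₁ i₂ p₂ h (hA M a hM) (hB M a hM)
      cone := fun T hT h₁ h₂ M _ a hM => (TriCat.thick_finHom M).cone T hT (h₁ M a hM) (h₂ M a hM) }
  have h := prop_of_isPerfect hP (fun V hV k M' _ a' hM' n => ?_) hK M a hM 0
  · exact h.of_iso ((shiftFunctorZero (DCoh.D X) ℤ).app K)
  · let P₀ := (DerivedCategory.singleFunctor X.Modules 0).obj ((genF X).obj V)
    have := HoCat.derivedCategory_hasColimitsOfShape (C := X.Modules) (J := ι)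
    let M'' : ι → DCoh.D X := fun i => (M' i)⟦k - n⟧
    have hM'' : ∀ i, (M'' i).IsGE (a' - (k - n)) := fun i =>
      have := hM' i
      DerivedCategory.TStructure.t.isGE_shift _ a' (k - n) (a' - (k - n)) (by omega)
    have h0 : TriCat.FinHom M'' P₀ := CptBdd19.finHom_of_isGE
      (fun p H => preservesColimit_ext_genF hV.isCompact hV.isQuasiSeparated p H) M'' _ hM''
    refine TriCat.FinHom.of_iso (singleShiftNeg ((genF X).obj V) (k - n) ≪≫
      (((DerivedCategory.singleFunctors X.Modules).shiftIso n (k - n) k (by omega)).app _).symm) ?_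
    have hiso : IsIso (Sigma.desc fun i => (shiftFunctor (DCoh.D X) (k - n)).map (Sigma.ι M' i)) :=
      inferInstanceAs (IsIso (sigmaComparison (shiftFunctor (DCoh.D X) (k - n)) M'))
    exact finHom_leftAdjoint (shiftEquiv (DCoh.D X) (k - n)).symm.toAdjunction M' hiso
      (inferInstanceAs (shiftFunctor (DCoh.D X) (-(k - n))).Additive) h0

theorem thick_exists_isLE : TriCat.Thick (fun A : DCoh.D X => ∃ b : ℤ, A.IsLE b) := by
  refine
    { zero := fun {Z} h => ⟨0, (DerivedCategory.isLE_iff Z 0).2 fun i _ => (DerivedCategory.homologyFunctor _ i).map_isZero h⟩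
      shift := fun {A} n hA => ?_
      total := fun {A B C} i₁ p₁ i₂ p₂ h hA hB => ?_
      cone := fun T hT h₁ h₂ => ?_ }
  · obtain ⟨b, hb⟩ := hA
    exact ⟨b - n, DerivedCategory.TStructure.t.isLE_shift A b n (b - n) (by omega)⟩
  · obtain ⟨a, ha⟩ := hA
    obtain ⟨b, hb⟩ := hB
    refine ⟨max a b, (DerivedCategory.isLE_iff C _).2 fun i hi => ?_⟩
    have e := congrArg ((DerivedCategory.homologyFunctor X.Modules i).map) h
    rw [Functor.map_add, Functor.map_comp, Functor.map_comp, CategoryTheory.Functor.map_id] at e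
    rw [IsZero.iff_id_eq_zero, ← e,
      (DerivedCategory.isZero_of_isLE A a i (by omega)).eq_of_tgt ((DerivedCategory.homologyFunctor _ i).map p₁) 0,
      (DerivedCategory.isZero_of_isLE B b i (by omega)).eq_of_tgt ((DerivedCategory.homologyFunctor _ i).map p₂) 0]
    simp
  · obtain ⟨a, ha⟩ := h₁
    obtain ⟨b, hb⟩ := h₂
    refine ⟨max a b, (DerivedCategory.isLE_iff _ _).2 fun i hi => ?_⟩
    have hex := (DerivedCategory.homologyFunctor X.Modules 0).homologySequence_exact₃ T hT i (i + 1) rfl
    exact hex.isZero_of_both_zeros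
      ((DerivedCategory.isZero_of_isLE T.obj₂ b i (by omega)).eq_of_src _ _)
      ((DerivedCategory.isZero_of_isLE T.obj₁ a (i + 1) (by omega)).eq_of_tgt _ _)

theorem exists_isLE_of_isPerfect [CompactSpace X] [QuasiSeparatedSpace X] {K : DCoh.D X}
    (hK : DCoh.IsPerfect K) : ∃ b : ℤ, K.IsLE b :=
  prop_of_isPerfect thick_exists_isLE (fun _ _ k => ⟨k, inferInstance⟩) hK

/-- When cohomology of modules vanishes above `d`, perfect objects have no maps into objects living
in sufficiently low degrees. -/
theorem exists_hom_eq_zero_of_isLE [CompactSpace X] [QuasiSeparatedSpace X] {K : DCoh.D X}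
    (hK : DCoh.IsPerfect K) (d : ℕ) (hd : ∀ (F : X.Modules) (i : ℕ), d < i → Subsingleton (Coh.HH X F i)) :
    ∃ n₀ : ℤ, ∀ (N : DCoh.D X) (m : ℤ), m ≤ n₀ → N.IsLE m → ∀ φ : K ⟶ N, φ = 0 := by
  obtain ⟨Kc, hKc, ⟨eK⟩⟩ := exists_kflat_rep K
  have := hasLTensorCx Kc
  have := hasRSheafHom Kc
  have hKp : DCoh.IsPerfect (DerivedCategory.Q.obj Kc) := isPerfect_of_iso hK eK.symm
  let O₀ := (DerivedCategory.singleFunctor X.Modules 0).obj (Coh.structureModule X)
  obtain ⟨D, hD, ⟨eD⟩⟩ := exists_kflat_rep ((DCoh.RSheafHom Kc).obj O₀)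
  have := hasLTensorCx D
  obtain ⟨b, hb⟩ := exists_isLE_of_isPerfect
    (isPerfect_of_iso (isPerfect_RSheafHom_of_perfect Kc hKp (isPerfect_unit X)) eD.symm)
  have hDb : ∀ i, b < i → IsZero (D.homology i) := fun i hi =>
    (DerivedCategory.isZero_of_isLE (DerivedCategory.Q.obj D) b i hi).of_iso
      ((DerivedCategory.homologyFunctorFactors X.Modules i).app D).symm
  let S := (HomologicalComplex.single X.Modules (ComplexShape.up ℤ) 0).obj (Coh.structureModule X)
  obtain ⟨v⟩ := ltensorCx_value Kc S (isKFlat_single _ (flat_structureModule _) 0)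
  let eO : DerivedCategory.Q.obj S ≅ O₀ :=
    ((DerivedCategory.singleFunctorIsoCompQ X.Modules 0).app _).symm
  let u : K ≅ (DCoh.LTensorCx Kc).obj O₀ := eK.symm ≪≫
    DerivedCategory.Q.mapIso ((singleUnitNatIso (X := X)).app Kc).symm ≪≫
    DerivedCategory.Q.mapIso ((tensorFlipIso S).app Kc) ≪≫ v.symm ≪≫ (DCoh.LTensorCx Kc).mapIso eO
  refine ⟨-(d : ℤ) - 1 - b, fun N m hm hN φ => ?_⟩
  obtain ⟨t⟩ := nonempty_tensor_dual_iso Kc D hKc hKp eD N
  have : ((DCoh.RSheafHom Kc).obj N).IsLE (m + b) :=
    have := isLE_ltensorCx D hDb N m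
    DerivedCategory.TStructure.t.isLE_of_iso t (m + b)
  have h0 : ∀ ψ : O₀ ⟶ (DCoh.RSheafHom Kc).obj N, ψ = 0 := fun ψ => by
    refine (cancel_epi ((DerivedCategory.singleFunctor X.Modules 0).map (genTopIso X).hom)).1 ?_
    rw [comp_zero]
    exact CptBdd19.eq_zero_of_isLE d (fun F p hp => by
      obtain ⟨e⟩ := nonempty_ext_genTop_equiv F p
      have := hd F p hp
      exact e.subsingleton) _ (m + b) (by omega) _
  rw [← cancel_epi u.inv, comp_zero]
  apply ((DCoh.RSheafHomAdj Kc).homEquiv O₀ N).injective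
  exact (h0 _).trans (h0 _).symm

/-- With bounded cohomological dimension, perfect objects see all direct sums. -/
theorem finHom_of_isPerfect_of_bounded_dim [CompactSpace X] [QuasiSeparatedSpace X] {K : DCoh.D X}
    (hK : DCoh.IsPerfect K) (d : ℕ) (hd : ∀ (F : X.Modules) (i : ℕ), d < i → Subsingleton (Coh.HH X F i))
    {ι : Type u} (M : ι → DCoh.D X) [HasCoproduct M] : TriCat.FinHom M K := by
  obtain ⟨n₀, h₀⟩ := exists_hom_eq_zero_of_isLE hK d hd
  have := HoCat.derivedCategory_hasColimitsOfShape (C := X.Modules) (J := ι)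
  let T : ι → Triangle (DCoh.D X) := fun i => (DerivedCategory.TStructure.t.triangleLTGE (n₀ + 1)).obj (M i)
  have hlt : ∀ i, ((T i).obj₁).IsLE n₀ := fun i =>
    inferInstanceAs (DerivedCategory.TStructure.t.IsLE
      ((DerivedCategory.TStructure.t.truncLT (n₀ + 1)).obj (M i)) n₀)
  refine CptBdd19.finHom_ext₂ T (fun i => DerivedCategory.TStructure.t.triangleLTGE_distinguished _ _) ?_ ?_
  · exact CptBdd19.finHom_of_eq_zero (h₀ _ n₀ le_rfl (CptBdd19.isLE_coproduct _ n₀ hlt))
  · exact finHom_of_isPerfect_of_isGE hK _ (n₀ + 1) fun i =>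
      inferInstanceAs (DerivedCategory.TStructure.t.IsGE
        ((DerivedCategory.TStructure.t.truncGE (n₀ + 1)).obj (M i)) (n₀ + 1))

/-- Bijectivity over a lifted index type. -/
theorem bijective_homSum_of_finHom {ι : Type u} (M : ι → DCoh.D X) {K : DCoh.D X}
    [HasCoproduct fun i : ULift.{u + 1} ι => M i.down]
    (h : ∀ [HasCoproduct M], TriCat.FinHom M K) :
    Function.Bijective (CohDer.homSumToHomCoprod K (fun i : ULift.{u + 1} ι => M i.down)) := by
  have := HoCat.derivedCategory_hasColimitsOfShape (C := X.Modules) (J := ι)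
  have : HasCoproduct fun k => M (Equiv.ulift.{u + 1} k) :=
    (inferInstance : HasCoproduct fun i : ULift.{u + 1} ι => M i.down)
  exact (finHom_reindex Equiv.ulift.{u + 1} M h).bijective

end GrothLib.OX
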