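import Groth.Agent.Lib.OX.Approx
import Groth.Agent.Lib.OX.SumSections
import Groth.Agent.Lib.TriCat.Hocolim
import Groth.Agent.Lib.DerCat.Truncation
import Groth.Prelude.Def_DerLim

/-!
# Pseudo-coherent objects as homotopy colimits of perfect objects
-/

set_option autoImplicit false
set_option maxHeartbeats 1000000
universe u

open CategoryTheory CategoryTheory.Limits AlgebraicGeometry Opposite TopologicalSpace Pretriangulated

attribute [local instance] HasDerivedCategory.standard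

namespace GrothLib.OX

variable {X : Scheme.{u}}

/-- An isomorphism on `τ_{≥ a}` is an isomorphism on cohomology in degrees `≥ a`. -/
theorem isIso_truncGE_map_iff {K L : DCoh.D X} (φ : K ⟶ L) (a : ℤ) :
    IsIso ((DerivedCategory.TStructure.t.truncGE a).map φ) ↔
      ∀ i, a ≤ i → IsIso ((DerivedCategory.homologyFunctor X.Modules i).map φ) := by
  have hnat : ∀ i, (DerivedCategory.homologyFunctor X.Modules i).map φ ≫
      (DerivedCategory.homologyFunctor X.Modules i).map ((DerivedCategory.TStructure.t.truncGEπ a).app L) =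
      (DerivedCategory.homologyFunctor X.Modules i).map ((DerivedCategory.TStructure.t.truncGEπ a).app K) ≫
        (DerivedCategory.homologyFunctor X.Modules i).map ((DerivedCategory.TStructure.t.truncGE a).map φ) := fun i => by
    rw [← Functor.map_comp, ← Functor.map_comp]
    exact congrArg _ ((DerivedCategory.TStructure.t.truncGEπ a).naturality φ)
  constructor
  · intro h i hi
    have := DerTrunc.isIso_homology_truncGEπ K a i hi
    have := DerTrunc.isIso_homology_truncGEπ L a i hi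
    have : IsIso ((DerivedCategory.homologyFunctor X.Modules i).map φ ≫
      (DerivedCategory.homologyFunctor X.Modules i).map ((DerivedCategory.TStructure.t.truncGEπ a).app L)) := by
      rw [hnat i]; infer_instance
    exact IsIso.of_isIso_comp_right _
      ((DerivedCategory.homologyFunctor X.Modules i).map ((DerivedCategory.TStructure.t.truncGEπ a).app L))
  · intro h
    refine (DerivedCategory.isIso_iff _ _).2 fun i => ?_
    rcases lt_or_ge i a with hi | hi
    · exact ⟨0, (DerivedCategory.isZero_of_isGE ((DerivedCategory.TStructure.t.truncGE a).obj K) a i hi).eq_of_src _ _,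
        (DerivedCategory.isZero_of_isGE ((DerivedCategory.TStructure.t.truncGE a).obj L) a i hi).eq_of_src _ _⟩
    · have := h i hi
      have := DerTrunc.isIso_homology_truncGEπ K a i hi
      have := DerTrunc.isIso_homology_truncGEπ L a i hi
      have : IsIso ((DerivedCategory.homologyFunctor X.Modules i).map ((DerivedCategory.TStructure.t.truncGEπ a).app K) ≫
          (DerivedCategory.homologyFunctor X.Modules i).map ((DerivedCategory.TStructure.t.truncGE a).map φ)) := by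
        rw [← hnat i]; infer_instance
      exact IsIso.of_isIso_comp_left
        ((DerivedCategory.homologyFunctor X.Modules i).map ((DerivedCategory.TStructure.t.truncGEπ a).app K)) _

/-- Quasi-coherent objects without cohomology in degrees `≥ m` are `m`-pseudo-coherent. -/
theorem isPseudoCoherentD_of_vanishing {C : DCoh.D X} (hC : DCoh.IsQCohD C) {m : ℤ}
    (h : ∀ i, m ≤ i → IsZero (DCoh.HD C i)) : DCoh.IsPseudoCoherentD m C := by
  refine isPseudoCoherentD_of_local fun x => ?_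
  obtain ⟨V, hV, hx, -⟩ := exists_isAffineOpen_mem_and_subset (x := x) (U := ⊤) trivial
  have : IsAffine (V : Scheme.{u}) := hV
  let A := Γ((V : Scheme.{u}), ⊤)
  let i := (V : Scheme.{u}).isoSpec.hom
  obtain ⟨M, ⟨e⟩⟩ := exists_module_iso i (isQCohD_resD V.ι hC)
  refine ⟨V, V.ι, inferInstance, ⟨⟨x, hx⟩, rfl⟩, isPseudoCoherentD_of_iso (isPseudoCoherentD_resD
    ((isPseudoCoherentD_tildeD_iff (A := A) M m).2 (DR.isPseudoCoherent_of_vanishing M m fun q hq => ?_)) i) e⟩
  have hz : IsZero ((Scheme.Modules.restrictFunctor i).obj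
      ((tilde.functor A).obj ((DerivedCategory.homologyFunctor (ModuleCat.{u} A) q).obj M))) :=
    ((isZero_HD_resD V.ι (h q hq)).of_iso ((DerivedCategory.homologyFunctor _ q).mapIso e)).of_iso
      (HDResIso i _ q ≪≫ (Scheme.Modules.restrictFunctor i).mapIso (HDTildeIso M q)).symm
  have hz' : IsZero ((tilde.functor A).obj ((DerivedCategory.homologyFunctor (ModuleCat.{u} A) q).obj M)) := by
    refine isZero_of_subsingleton_stalks _ fun y => ?_
    by_contra hy
    exact support_subset_of_isZero_restrict i hz hy ⟨(inv i) y, by rw [← Scheme.Hom.comp_apply, IsIso.inv_hom_id]; rfl⟩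
  exact ModuleCat.subsingleton_of_isZero (M := (DerivedCategory.homologyFunctor (ModuleCat.{u} A) q).obj M)
    ((IsZero.iff_id_eq_zero _).2 ((tilde.functor A).map_injective
      ((CategoryTheory.Functor.map_id _ _).trans (hz'.eq_of_src _ _))))

theorem isPseudoCoherentD_of_hocolim {K : DCoh.D X} {E : ℕ → DCoh.D X} (hE : ∀ n, DCoh.IsPerfect (E n))
    {f : ∀ n, E n ⟶ E (n + 1)} {i : ∀ n, E n ⟶ K} [HasCoproduct E] (hK : DerLim.IsHocolim E f K i)
    (htr : ∀ n : ℕ, IsIso ((DerivedCategory.TStructure.t.truncGE (-(n : ℤ))).map (i n))) (m : ℤ) :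
    DCoh.IsPseudoCoherentD m K := by
  have : HasColimitsOfShape (Discrete (ULift.{u} ℕ)) (DCoh.D X) := HoCat.derivedCategory_hasColimitsOfShape
  have hsum : DCoh.IsQCohD (∐ E) := by
    let E' : ULift.{u} ℕ → DCoh.D X := fun k => E k.down
    exact fun q => isQCoh_of_iso ((DerivedCategory.homologyFunctor X.Modules q).mapIso
      (Sigma.whiskerEquiv (f := E') (g := E) Equiv.ulift fun _ => Iso.refl _))
      (isQCohD_coprod E' (fun k => isQCohD_of_isPerfect (hE k.down)) q)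
  obtain ⟨c, hT⟩ := hK
  have hKq : DCoh.IsQCohD K := isQCohD_obj₃ hT hsum hsum
  obtain ⟨n, hn⟩ : ∃ n : ℕ, -(n : ℤ) ≤ m - 1 := ⟨(1 - m).toNat, by omega⟩
  obtain ⟨C, p, d, hT'⟩ := distinguished_cocone_triangle (i n)
  have hiso := (isIso_truncGE_map_iff (i n) _).1 (htr n)
  have hC : ∀ q, m ≤ q → IsZero (DCoh.HD C q) := (cone_vanish_iff hT' m).2
    ⟨fun q hq => hiso q (by omega), by have := hiso m (by omega); exact inferInstanceAs (Epi ((DerivedCategory.homologyFunctor X.Modules m).map (i n)))⟩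
  exact isPseudoCoherentD_cone (inv_rot_of_distTriang _ hT')
    (isPseudoCoherentD_shift (isPseudoCoherentD_of_vanishing (isQCohD_obj₃ hT' (isQCohD_of_isPerfect (hE n)) hKq) hC)
      (-1) (m + 1) (by omega))
    (isPseudoCoherentD_of_isPerfect (hE n) m)

/-- A step of the construction: an approximation good below a prescribed degree. -/
theorem exists_approx_below [CompactSpace X] [QuasiSeparatedSpace X] {W : X.Opens} (hW : IsCompact (W : Set X))
    {K : DCoh.D X} (hK : ∀ m, DCoh.IsPseudoCoherentD m K) (hKW : IsZero ((resD W.ι).obj K)) (N : ℤ) :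
    ∃ (P C : DCoh.D X) (α : P ⟶ K) (c : K ⟶ C) (d : C ⟶ P⟦(1 : ℤ)⟧) (a : ℤ),
      Triangle.mk α c d ∈ distTriang _ ∧ DCoh.IsPerfect P ∧ IsZero ((resD W.ι).obj P) ∧
      (∀ i, N ≤ i → IsZero (DCoh.HD C i)) ∧ DCoh.IsQCohD C ∧
      ∀ L : DCoh.D X, DCoh.IsQCohD L → (∀ i, a ≤ i → IsZero (DCoh.HD L i)) → ∀ φ : P ⟶ L, φ = 0 := by
  have hKq : DCoh.IsQCohD K := fun i => isQCoh_HD_of_pseudoCoherent (hK (i - 1)) (by omega)
  obtain ⟨r, hr⟩ := hasApprox_of_qcqs X W fun O hO =>
    QuasiSeparatedSpace.inter_isCompact (O : Set X) (W : Set X) O.2 hO W.2 hW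
  obtain ⟨P, C, α, c, d, hT, hP, hPW, hC⟩ := hr N K hKq (hK _) fun i _ => isZero_resD_iff_vanishAt.1 hKW i
  obtain ⟨a, b, hab⟩ := vanRange_of_isPerfect hP
  exact ⟨P, C, α, c, d, a, hT, hP, hPW, hC, isQCohD_obj₃ hT (isQCohD_of_isPerfect hP) hKq,
    fun L hL hz φ => hab L hL (fun i hi _ => hz i hi) φ⟩

/-- **Pseudo-coherent objects are homotopy colimits of perfect objects**, keeping vanishing on `W`. -/
theorem exists_hocolim_perfect [CompactSpace X] [QuasiSeparatedSpace X] [HasColimitsOfShape (Discrete ℕ) (DCoh.D X)]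
    {W : X.Opens} (hW : IsCompact (W : Set X)) {K : DCoh.D X} (hK : ∀ m, DCoh.IsPseudoCoherentD m K)
    (hKW : IsZero ((resD W.ι).obj K)) :
    ∃ (E : ℕ → DCoh.D X) (f : ∀ n, E n ⟶ E (n + 1)) (i : ∀ n, E n ⟶ K),
      (∀ n, DCoh.IsPerfect (E n)) ∧ (∀ n, IsZero ((resD W.ι).obj (E n))) ∧ DerLim.IsHocolim E f K i ∧
      ∀ n : ℕ, IsIso ((DerivedCategory.TStructure.t.truncGE (-(n : ℤ))).map (i n)) := by
  classical
  letI : DecidableEq ℕ := Classical.decEq _
  have hKq : DCoh.IsQCohD K := fun i => isQCoh_HD_of_pseudoCoherent (hK (i - 1)) (by omega)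
  choose P C α c d a hT hP hPW hC hCq hvan using exists_approx_below hW hK hKW
  let N : ℕ → ℤ := fun n => Nat.rec (-1) (fun k Nk => min (a Nk) (-(k : ℤ) - 2)) n
  have hN : ∀ n : ℕ, N n ≤ -(n : ℤ) - 1 := fun n => by
    cases n with
    | zero => simp [N]
    | succ k =>
      change min (a (N k)) (-(k : ℤ) - 2) ≤ _
      push_cast
      omega
  have hNa : ∀ n, N (n + 1) ≤ a (N n) := fun n => min_le_left _ _
  let E : ℕ → DCoh.D X := fun n => P (N n)
  let i : ∀ n, E n ⟶ K := fun n => α (N n)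
  have hlift : ∀ n, ∃ g : E n ⟶ E (n + 1), g ≫ i (n + 1) = i n := fun n => by
    obtain ⟨g, hg⟩ := Triangle.coyoneda_exact₂ _ (hT (N (n + 1))) (i n)
      (hvan _ _ (hCq _) (fun q hq => hC _ q (le_trans (hNa n) hq)) _)
    exact ⟨g, hg.symm⟩
  choose f hf using hlift
  have hE : ∀ n, DCoh.IsPerfect (E n) := fun n => hP _
  have htr : ∀ n : ℕ, IsIso ((DerivedCategory.TStructure.t.truncGE (-(n : ℤ))).map (i n)) := fun n =>
    (isIso_truncGE_map_iff (i n) _).2 fun q hq =>
      ((cone_vanish_iff (hT (N n)) _).1 fun j (hj : N n ≤ j) => hC _ j hj).1 q (by have := hN n; omega)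
  refine ⟨E, f, i, hE, fun n => hPW _, ?_, htr⟩
  obtain ⟨L, q, hL⟩ := TriCat.exists_isHocolim E f
  obtain ⟨cL, hTL⟩ := hL
  have h0 : (𝟙 (∐ E) - DerLim.shiftMap E f) ≫ Sigma.desc i = 0 := by
    refine Sigma.hom_ext _ _ fun n => ?_
    rw [Preadditive.sub_comp, Category.id_comp, Preadditive.comp_sub, ← Category.assoc, TriCat.ι_shiftMap,
      Category.assoc, Sigma.ι_desc, Sigma.ι_desc, hf, sub_self, comp_zero]
  obtain ⟨u, hu⟩ : ∃ u : L ⟶ K, Sigma.desc i = Sigma.desc q ≫ u := Triangle.yoneda_exact₂ _ hTL (Sigma.desc i) h0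
  have hqu : ∀ n, q n ≫ u = i n := fun n => by
    have := congrArg (Sigma.ι E n ≫ ·) hu
    simpa using this.symm
  have hqf : ∀ n, f n ≫ q (n + 1) = q n := TriCat.isHocolim_comp ⟨cL, hTL⟩
  suffices hiso : IsIso u by
    have := TriCat.isHocolim_of_iso (L' := K) ⟨cL, hTL⟩ (asIso u)
    simpa only [asIso_hom, hqu] using this
  -- it suffices to test on a generator
  obtain ⟨G, hG, -, hgen⟩ := hasGen_of_qcqs X ⊥ (by simp)
  have : HasColimitsOfShape (Discrete (ULift.{u} ℕ)) (DCoh.D X) := HoCat.derivedCategory_hasColimitsOfShape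
  have hfin : ∀ m : ℤ, TriCat.FinHom E (G⟦m⟧) := fun m => by
    let E' : ULift.{u} ℕ → DCoh.D X := fun k => E k.down
    exact finHom_reindex Equiv.ulift.{u}.symm E'
      (finHom_of_isPerfect (isPerfect_shift hG m) E' fun k => isQCohD_of_isPerfect (hE k.down))
  have hsum : DCoh.IsQCohD (∐ E) := by
    let E' : ULift.{u} ℕ → DCoh.D X := fun k => E k.down
    exact fun j => isQCoh_of_iso ((DerivedCategory.homologyFunctor X.Modules j).mapIso
      (Sigma.whiskerEquiv (f := E') (g := E) Equiv.ulift fun _ => Iso.refl _))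
      (isQCohD_coprod E' (fun k => isQCohD_of_isPerfect (hE k.down)) j)
  have hLq : DCoh.IsQCohD L := isQCohD_obj₃ hTL hsum hsum
  obtain ⟨lo, hi', hrange⟩ := vanRange_of_isPerfect hG
  -- maps from shifts of `G` into the cones vanish eventually
  have hcone : ∀ m k : ℤ, ∃ n₀ : ℕ, ∀ n, n₀ ≤ n → ∀ φ : G⟦m⟧ ⟶ (C (N n))⟦k⟧, φ = 0 := fun m k => by
    refine ⟨(m - lo - k).toNat, fun n hn φ => ?_⟩
    have h1 := hom_shift_eq_zero hrange (isQCohD_shift (hCq (N n)) k) (-m) (fun j hj _ =>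
      (hC (N n) (k + j) (by have := hN n; omega)).of_iso (HDShiftIso _ k j _ rfl))
    rw [neg_neg] at h1
    exact h1 φ
  have hnat : ∀ (k : ℕ) (m : ℤ) (x : G⟦m⟧ ⟶ E k) (n : ℕ), k ≤ n → ∃ y : G⟦m⟧ ⟶ E n, x ≫ q k = y ≫ q n := by
    intro k m x n hkn
    induction n, hkn using Nat.le_induction with
    | base => exact ⟨x, rfl⟩
    | succ n _ ih =>
      obtain ⟨y, hy⟩ := ih
      exact ⟨y ≫ f n, by rw [Category.assoc, hqf]; exact hy⟩
  have hlate : ∀ (m : ℤ) (b : G⟦m⟧ ⟶ ∐ E), ∃ k : ℕ, ∀ n, k ≤ n → ∃ y : G⟦m⟧ ⟶ E n, b ≫ Sigma.desc q = y ≫ q n := by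
    intro m b
    obtain ⟨e, rfl⟩ := hfin m b
    induction e using DirectSum.induction_on with
    | zero => exact ⟨0, fun n _ => ⟨0, by rw [map_zero, zero_comp, zero_comp]⟩⟩
    | of k x =>
      exact ⟨k, fun n hn => by
        obtain ⟨y, hy⟩ := hnat k m x n hn
        exact ⟨y, by rw [TriCat.homSum_of, Category.assoc, Sigma.ι_desc]; exact hy⟩⟩
    | add e₁ e₂ h₁ h₂ =>
      obtain ⟨k₁, hk₁⟩ := h₁
      obtain ⟨k₂, hk₂⟩ := h₂
      refine ⟨max k₁ k₂, fun n hn => ?_⟩
      obtain ⟨y₁, hy₁⟩ := hk₁ n (le_trans (le_max_left _ _) hn)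
      obtain ⟨y₂, hy₂⟩ := hk₂ n (le_trans (le_max_right _ _) hn)
      exact ⟨y₁ + y₂, by rw [map_add, Preadditive.add_comp, Preadditive.add_comp, hy₁, hy₂]⟩
  -- no map from a shift of `G` meets the kernel of `1 - shift`
  have hinj : ∀ (m : ℤ) (b : G⟦m⟧ ⟶ ∐ E), b ≫ (𝟙 _ - DerLim.shiftMap E f) = 0 → b = 0 := by
    intro m b hb
    obtain ⟨e, rfl⟩ := hfin m b
    have hπ0 : (𝟙 _ - DerLim.shiftMap E f) ≫ Sigma.π E 0 = Sigma.π E 0 := by
      refine Sigma.hom_ext _ _ fun n => ?_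
      rw [Preadditive.sub_comp, Category.id_comp, Preadditive.comp_sub, ← Category.assoc, TriCat.ι_shiftMap,
        Category.assoc, Sigma.ι_π_of_ne E (Nat.succ_ne_zero n), comp_zero, sub_zero]
    have hπs : ∀ k, (𝟙 _ - DerLim.shiftMap E f) ≫ Sigma.π E (k + 1) = Sigma.π E (k + 1) - Sigma.π E k ≫ f k := by
      intro k
      refine Sigma.hom_ext _ _ fun n => ?_
      rw [Preadditive.sub_comp, Category.id_comp, Preadditive.comp_sub, Preadditive.comp_sub, ← Category.assoc,
        TriCat.ι_shiftMap, Category.assoc]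
      congr 1
      rcases eq_or_ne n k with rfl | hne
      · rw [Sigma.ι_π_eq_id, Category.comp_id, ← Category.assoc, Sigma.ι_π_eq_id, Category.id_comp]
      · rw [Sigma.ι_π_of_ne E (fun h => hne (Nat.succ_injective h)), comp_zero, ← Category.assoc,
          Sigma.ι_π_of_ne E hne, zero_comp]
    have hall : ∀ k, PerfAux.homSumToHomCoprod _ E e ≫ Sigma.π E k = 0 := by
      intro k
      induction k with
      | zero => rw [← hπ0, ← Category.assoc, hb, zero_comp]
      | succ k ih =>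
        have := congrArg (· ≫ Sigma.π E (k + 1)) hb
        rw [Category.assoc, hπs, zero_comp, Preadditive.comp_sub, ← Category.assoc, ih, zero_comp, sub_zero] at this
        exact this
    rw [show e = 0 from DFinsupp.ext fun k => (TriCat.homSum_π E _ e k).symm.trans (hall k), map_zero]
  obtain ⟨Z, p', d', hZ⟩ := distinguished_cocone_triangle u
  refine (Triangle.isZero₃_iff_isIso₁ _ hZ).1 (hgen Z (isQCohD_obj₃ hZ hLq hKq) ?_ fun m ψ => ?_)
  · exact (isZero_resD_iff_support _ Z).2 fun j x _ hx => by rw [Scheme.Opens.range_ι] at hx; exact hx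
  have hsurj : ∀ φ : G⟦m⟧ ⟶ K, ∃ φ' : G⟦m⟧ ⟶ L, φ = φ' ≫ u := fun φ => by
    obtain ⟨n₀, hn₀⟩ := hcone m 0
    have h1 : φ ≫ c (N n₀) = 0 := by
      rw [← cancel_mono ((shiftFunctorZero (DCoh.D X) ℤ).inv.app (C (N n₀))), zero_comp]
      exact hn₀ n₀ le_rfl _
    obtain ⟨y, hy⟩ : ∃ y : G⟦m⟧ ⟶ E n₀, φ = y ≫ i n₀ := Triangle.coyoneda_exact₂ _ (hT (N n₀)) φ h1
    exact ⟨y ≫ q n₀, by rw [Category.assoc, hqu]; exact hy⟩
  have hker : ∀ (m : ℤ) (φ : G⟦m⟧ ⟶ L), φ ≫ u = 0 → φ = 0 := fun m φ hφ => by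
    have h1 : φ ≫ cL = 0 := by
      let e := (shiftFunctorAdd' (DCoh.D X) (m - 1) 1 m (by omega)).app G
      let b : G⟦m - 1⟧ ⟶ ∐ E := (shiftFunctor (DCoh.D X) (1 : ℤ)).preimage (e.inv ≫ φ ≫ cL)
      have hb : b⟦(1 : ℤ)⟧' = e.inv ≫ φ ≫ cL := (shiftFunctor (DCoh.D X) (1 : ℤ)).map_preimage _
      have hb0 : b = 0 := hinj _ b ((shiftFunctor (DCoh.D X) (1 : ℤ)).map_injective (by
        rw [Functor.map_comp, hb, Functor.map_zero, Category.assoc, Category.assoc,
          show cL ≫ (𝟙 _ - DerLim.shiftMap E f)⟦(1 : ℤ)⟧' = 0 from comp_distTriang_mor_zero₃₁ _ hTL,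
          comp_zero, comp_zero]))
      rw [hb0, Functor.map_zero] at hb
      rw [← cancel_epi e.inv, comp_zero]
      exact hb.symm
    obtain ⟨b, hb⟩ : ∃ b : G⟦m⟧ ⟶ ∐ E, φ = b ≫ Sigma.desc q := Triangle.coyoneda_exact₃ _ hTL φ h1
    obtain ⟨k, hk⟩ := hlate m b
    obtain ⟨n₀, hn₀⟩ := hcone m (-1)
    obtain ⟨y, hy⟩ := hk (max k n₀) (le_max_left _ _)
    have hyi : y ≫ i (max k n₀) = 0 := by rw [← hqu, ← Category.assoc, ← hy, ← hb, hφ]
    obtain ⟨z, hz⟩ := Triangle.coyoneda_exact₂ _ (inv_rot_of_distTriang _ (hT (N (max k n₀)))) y hyi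
    have hz0 : z = 0 := hn₀ _ (le_max_right _ _) z
    rw [hb, hy, hz, hz0, zero_comp]
    exact zero_comp
  have h1 : ψ ≫ d' = 0 := by
    let e := (shiftFunctorAdd' (DCoh.D X) (m - 1) 1 m (by omega)).app G
    let b : G⟦m - 1⟧ ⟶ L := (shiftFunctor (DCoh.D X) (1 : ℤ)).preimage (e.inv ≫ ψ ≫ d')
    have hb : b⟦(1 : ℤ)⟧' = e.inv ≫ ψ ≫ d' := (shiftFunctor (DCoh.D X) (1 : ℤ)).map_preimage _
    have hb0 : b = 0 := hker _ b ((shiftFunctor (DCoh.D X) (1 : ℤ)).map_injective (by
      rw [Functor.map_comp, hb, Functor.map_zero, Category.assoc, Category.assoc,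
        show d' ≫ u⟦(1 : ℤ)⟧' = 0 from comp_distTriang_mor_zero₃₁ _ hZ, comp_zero, comp_zero]))
    rw [hb0, Functor.map_zero] at hb
    rw [← cancel_epi e.inv, comp_zero]
    exact hb.symm
  obtain ⟨φ, hφ⟩ : ∃ φ : G⟦m⟧ ⟶ K, ψ = φ ≫ p' := Triangle.coyoneda_exact₃ _ hZ ψ h1
  obtain ⟨φ', rfl⟩ := hsurj φ
  rw [hφ, Category.assoc, show u ≫ p' = 0 from comp_distTriang_mor_zero₁₂ _ hZ, comp_zero]

end GrothLib.OX
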