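import Groth.Agent.Lib.OX.BVdB
import Groth.Agent.Lib.TriCat.Coproduct

/-!
# Supports and derived direct images along opens; lifting maps from perfect objects with prescribed support
-/

set_option autoImplicit false
set_option maxHeartbeats 1000000
universe u

open CategoryTheory CategoryTheory.Limits AlgebraicGeometry Opposite TopologicalSpace Pretriangulated

attribute [local instance] HasDerivedCategory.standard

namespace GrothLib.OX

variable {X : Scheme.{u}}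

/-- Extension by zero takes generators to generators. -/
noncomputable def extZeroGenIso' {U : Scheme.{u}} (j : U ⟶ X) [IsOpenImmersion j] (W : U.Opens) :
    (genF X).obj (j ''ᵁ W) ≅ (CxOX.extZero j).obj ((genF U).obj W) :=
  SiteDer.corepIso
    (F := Scheme.Modules.toPresheaf X ⋙ (evaluation _ _).obj (Opposite.op (j ''ᵁ W)) ⋙
      CategoryTheory.forget AddCommGrpCat.{u})
    { homEquiv := fun {M} => genSec M (j ''ᵁ W)
      homEquiv_comp := fun g φ => genSec_comp (j ''ᵁ W) φ g }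
    { homEquiv := fun {M} => ((CxOX.extZeroAdj j).homEquiv _ M).trans (genSec _ W)
      homEquiv_comp := fun g φ => by
        simp only [Equiv.trans_apply, Adjunction.homEquiv_naturality_right]
        exact genSec_comp W _ ((Scheme.Modules.restrictFunctor j).map g) }

/-- An object vanishing on every member of a cover is zero. -/
theorem isZero_resD_of_isOpenImmersion_cover {U W : Scheme.{u}} (i : U ⟶ X) (k : W ⟶ X) [IsOpenImmersion i]
    [IsOpenImmersion k] (h : ∀ x, x ∈ Set.range i ∪ Set.range k) {K : DCoh.D X} (hi : IsZero ((resD i).obj K))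
    (hk : IsZero ((resD k).obj K)) : IsZero K :=
  isZero_of_isZero_cover i k h hi hk

/-- Derived direct images along open immersions keep supports. -/
theorem isZero_resD_RR_open {Y : Scheme.{u}} (j : Y ⟶ X) [IsOpenImmersion j] {F : DCoh.D Y} (W : X.Opens)
    (h : IsZero ((resD (j ⁻¹ᵁ W).ι).obj F)) : IsZero ((resD W.ι).obj ((RR j).obj F)) := by
  refine isZero_of_support_empty fun k => Set.eq_empty_iff_forall_notMem.2 fun x hx => hx (ModuleCat.subsingleton_of_isZero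
    ((stalk x).map_isZero ((isLocGen_genF (X := (W : Scheme.{u}))).isZero_homology (j := k) fun W' φ =>
      SiteDer.Locally.of_forall fun W'' g => ?_)))
  suffices h0 : φ = 0 by rw [h0, comp_zero]
  let e : (CxOX.extZeroD W.ι).obj ((DerivedCategory.singleFunctor (W : Scheme.{u}).Modules k).obj
      ((genF (W : Scheme.{u})).obj W')) ≅ (DerivedCategory.singleFunctor X.Modules k).obj ((genF X).obj (W.ι ''ᵁ W')) :=
    ((CxOX.extZero W.ι).mapDerivedCategorySingleFunctor k).app _ ≪≫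
      (DerivedCategory.singleFunctor X.Modules k).mapIso (extZeroGenIso' W.ι W').symm
  apply ((extZeroDAdj W.ι).homEquiv _ _).symm.injective
  rw [← cancel_epi e.inv]
  have hz : IsZero ((resD (j ⁻¹ᵁ (W.ι ''ᵁ W')).ι).obj F) := isZero_resD_of_le _ _ (by
    rw [Scheme.Opens.range_ι, Scheme.Opens.range_ι]
    intro y hy
    obtain ⟨z, -, hz⟩ := hy
    change j y ∈ W
    rw [← hz]
    exact z.2) h
  exact (hom_gen_RR_eq_zero j hz k _).trans (hom_gen_RR_eq_zero j hz k _).symm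

/-- An object supported inside an open is the derived direct image of its restriction. -/
theorem isIso_unit_of_cover {Y : Scheme.{u}} (j : Y ⟶ X) [IsOpenImmersion j] (V : X.Opens)
    (hcov : ∀ x, x ∈ Set.range j ∪ (V : Set X)) {E : DCoh.D X} (hE : IsZero ((resD V.ι).obj E)) :
    IsIso ((resDAdj j).unit.app E) := by
  obtain ⟨C, p, d, hT⟩ := distinguished_cocone_triangle ((resDAdj j).unit.app E)
  refine (Triangle.isZero₃_iff_isIso₁ _ hT).1 (isZero_of_isZero_cover j V.ι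
    (fun x => by rw [Scheme.Opens.range_ι]; exact hcov x)
    ((Triangle.isZero₃_iff_isIso₁ _ ((resD j).map_distinguished _ hT)).2 (isIso_resD_unit j E)) ?_)
  have h' : IsZero ((resD V.ι).obj ((RR j).obj ((resD j).obj E))) :=
    isZero_resD_RR_open j V ((isZero_resD_comp _ _).2 (isZero_resD_of_le _ _ (by
      rintro _ ⟨y, rfl⟩
      rw [Scheme.Opens.range_ι]
      exact y.2) hE))
  exact (Triangle.isZero₃_iff_isIso₁ _ ((resD V.ι).map_distinguished _ hT)).2
    ⟨0, hE.eq_of_src _ _, h'.eq_of_src _ _⟩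

/-- Derived direct images of perfect objects with support closed in the target are perfect. -/
theorem isPerfect_RR_of_cover {Y : Scheme.{u}} (j : Y ⟶ X) [IsOpenImmersion j] (V : X.Opens)
    (hcov : ∀ x, x ∈ Set.range j ∪ (V : Set X)) {F : DCoh.D Y} (hF : DCoh.IsPerfect F)
    (h : IsZero ((resD (j ⁻¹ᵁ V).ι).obj F)) : DCoh.IsPerfect ((RR j).obj F) :=
  isPerfect_of_local fun x => (hcov x).elim
    (fun hx => ⟨Y, j, inferInstance, hx, isPerfect_of_iso hF ((resDRRIso j).app F).symm⟩)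
    (fun hx => ⟨_, V.ι, inferInstance, ⟨⟨x, hx⟩, rfl⟩, isPerfect_of_isZero_obj (isZero_resD_RR_open j V h)⟩)

/-- Extension by zero and derived direct image agree on supports closed in the target. -/
theorem nonempty_extZeroD_iso_RR {Y : Scheme.{u}} (j : Y ⟶ X) [IsOpenImmersion j] (V : X.Opens)
    (hcov : ∀ x, x ∈ Set.range j ∪ (V : Set X)) {F : DCoh.D Y} (h : IsZero ((resD (j ⁻¹ᵁ V).ι).obj F)) :
    Nonempty ((CxOX.extZeroD j).obj F ≅ (RR j).obj F) := by
  let J := (CxOX.extZeroD j).obj F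
  let e : F ≅ (resD j).obj J := (resDExtZeroIso j).app F
  have hJ : IsZero ((resD V.ι).obj J) := (isZero_resD_iff_support _ J).2 fun q x hx hV => by
    obtain ⟨y, rfl⟩ := support_HD_extZeroD j F q hx
    rw [Scheme.Opens.range_ι] at hV
    exact (isZero_resD_iff_support ((j ⁻¹ᵁ V).ι ≫ j) J).1
      ((isZero_resD_comp _ _).1 (h.of_iso ((resD _).mapIso e.symm))) q hx ⟨⟨y, hV⟩, rfl⟩
  have := isIso_unit_of_cover j V hcov hJ
  exact ⟨asIso ((resDAdj j).unit.app J) ≪≫ (RR j).mapIso e.symm⟩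

/-- On an affine scheme, maps from perfect objects into objects vanishing on `W₀` factor through perfect objects
vanishing there, without losing vanishing elsewhere. -/
theorem exists_factor_vanishing [IsAffine X] (W₀ : X.Opens) (hW₀ : IsCompact (W₀ : Set X)) {R C : DCoh.D X}
    (hR : DCoh.IsPerfect R) (hC : DCoh.IsQCohD C) (hC₀ : IsZero ((resD W₀.ι).obj C)) (φ : R ⟶ C) :
    ∃ (Q : DCoh.D X) (q : R ⟶ Q) (ψ : Q ⟶ C), DCoh.IsPerfect Q ∧ IsZero ((resD W₀.ι).obj Q) ∧ q ≫ ψ = φ ∧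
      ∀ W : X.Opens, IsCompact (W : Set X) → IsZero ((resD W.ι).obj R) → IsZero ((resD W.ι).obj Q) := by
  let A := Γ(X, ⊤)
  let i := X.isoSpec.hom
  let S := DCoh.tildeD A ⋙ resD i
  obtain ⟨M, hM, ⟨eM⟩⟩ := exists_perfect_module_iso i hR
  obtain ⟨N, ⟨eN⟩⟩ := exists_module_iso i hC
  obtain ⟨fs, hfs⟩ := exists_basicOpen_cover (W₀.ι ≫ i) (isCompact_range_comp i hW₀)
  have := (tildeD_full_faithful_essImage (R := A)).1
  have := (tildeD_full_faithful_essImage (R := A)).2.1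
  have hsurj : ∀ x, x ∈ Set.range i := fun x => ⟨(inv i) x, by rw [← Scheme.Hom.comp_apply, IsIso.inv_hom_id]; rfl⟩
  -- `S` is fully faithful
  obtain ⟨χ, hχ⟩ : ∃ χ : M ⟶ N, S.map χ = eM.hom ≫ φ ≫ eN.inv := by
    let adj := resDAdj i
    let Y := (DCoh.tildeD A).obj N
    have := isIso_unit_of_cover i ⊥ (fun x => Or.inl (hsurj x)) (E := Y)
      ((isZero_resD_iff_support _ Y).2 fun q x _ hx => by rw [Scheme.Opens.range_ι] at hx; exact hx)
    let ψ : (DCoh.tildeD A).obj M ⟶ Y :=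
      adj.homEquiv _ _ (eM.hom ≫ φ ≫ eN.inv) ≫ inv (adj.unit.app Y)
    refine ⟨(DCoh.tildeD A).preimage ψ, ?_⟩
    change (resD i).map ((DCoh.tildeD A).map ((DCoh.tildeD A).preimage ψ)) = _
    rw [Functor.map_preimage]
    apply (adj.homEquiv _ _).injective
    rw [Adjunction.homEquiv_unit]
    refine (adj.unit.naturality ψ).symm.trans ?_
    change ψ ≫ adj.unit.app Y = _
    simp only [ψ, Category.assoc, IsIso.inv_hom_id, Category.comp_id]
    rfl
  have hNW : IsZero ((AG (W₀.ι ≫ i)).obj N) :=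
    (hC₀.of_iso ((resD W₀.ι).mapIso eN)).of_iso ((AGIso i W₀).app N).symm
  obtain ⟨M₁, q, ψ, hM₁, hnil, hfac, hkeep⟩ := DR.exists_factor_nil fs (fun f hf =>
    isTorsion_of_isZero_AG (W₀.ι ≫ i) hNW
      (hfs ▸ le_iSup (fun k : {f // f ∈ fs} => PrimeSpectrum.basicOpen k.1) ⟨f, hf⟩)) hM χ
  refine ⟨S.obj M₁, eM.inv ≫ S.map q, S.map ψ ≫ eN.hom, isPerfect_resD_tildeD i hM₁,
    (isZero_AG_of_isTorsion (W₀.ι ≫ i) hfs fun f hf => (hnil f hf).isTorsion).of_iso ((AGIso i W₀).app M₁),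
    ?_, fun W hW hRW => ?_⟩
  · rw [Category.assoc, ← S.map_comp_assoc, ← hfac, hχ]
    simp
  · obtain ⟨gs, hgs⟩ := exists_basicOpen_cover (W.ι ≫ i) (isCompact_range_comp i hW)
    have hMW : IsZero ((AG (W.ι ≫ i)).obj M) :=
      (hRW.of_iso ((resD W.ι).mapIso eM)).of_iso ((AGIso i W).app M).symm
    exact (isZero_AG_of_isTorsion (W.ι ≫ i) hgs fun g hg => (hkeep g (DR.nil_of_isTorsion hM
      (isTorsion_of_isZero_AG (W.ι ≫ i) hMW
        (hgs ▸ le_iSup (fun k : {f // f ∈ gs} => PrimeSpectrum.basicOpen k.1) ⟨g, hg⟩)))).isTorsion).of_iso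
      ((AGIso i W).app M₁)

theorem isCompact_preimage_ι (U W : X.Opens) (h : IsCompact ((U ⊓ W : X.Opens) : Set X)) :
    IsCompact ((U.ι ⁻¹ᵁ W : (U : Scheme.{u}).Opens) : Set (U : Scheme.{u})) := by
  rw [U.ι.isOpenEmbedding.isInducing.isCompact_iff]
  have : U.ι '' ((U.ι ⁻¹ᵁ W : (U : Scheme.{u}).Opens) : Set (U : Scheme.{u})) = ((U ⊓ W : X.Opens) : Set X) := by
    ext x
    exact ⟨by rintro ⟨y, hy, rfl⟩; exact ⟨y.2, hy⟩, fun hx => ⟨⟨x, hx.1⟩, hx.2, rfl⟩⟩
  rwa [this]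

variable {U V : X.Opens}

/-- Maps over `U` from perfect objects lift after modifying the source inside `V`, keeping vanishing. -/
theorem exists_lift_of_affine (hcov : ∀ x : X, x ∈ (U : Set X) ∪ (V : Set X)) (hV : IsAffineOpen V)
    (hUV : IsCompact ((V ⊓ U : X.Opens) : Set X)) [QuasiCompact U.ι] {K E : DCoh.D X} (hK : DCoh.IsPerfect K)
    (hE : DCoh.IsQCohD E) (α : (resD U.ι).obj K ⟶ (resD U.ι).obj E) :
    ∃ (R : DCoh.D X) (β : R ⟶ K) (γ : R ⟶ E), DCoh.IsPerfect R ∧ IsIso ((resD U.ι).map β) ∧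
      (resD U.ι).map β ≫ α = (resD U.ι).map γ ∧
      ∀ W : X.Opens, IsCompact ((V ⊓ W : X.Opens) : Set X) → IsZero ((resD W.ι).obj K) →
        IsZero ((resD W.ι).obj R) := by
  have : IsAffine (V : Scheme.{u}) := hV
  let adj := resDAdj U.ι
  let adjV := resDAdj V.ι
  let EU := (resD U.ι).obj E
  obtain ⟨C, p, d, hT⟩ := distinguished_cocone_triangle (adj.unit.app E)
  have hC : DCoh.IsQCohD C := isQCohD_obj₃ hT hE (isQCohD_Rres U.ι EU (isQCohD_resD U.ι hE))
  have hCU : IsZero ((resD U.ι).obj C) :=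
    (Triangle.isZero₃_iff_isIso₁ _ ((resD U.ι).map_distinguished _ hT)).2 (isIso_resD_unit U.ι E)
  let δ : K ⟶ (RR U.ι).obj EU := adj.homEquiv _ _ α
  obtain ⟨Q, q, ψ, hQ, hQU, hfac, hkeep⟩ := exists_factor_vanishing (X := (V : Scheme.{u})) (V.ι ⁻¹ᵁ U)
    (isCompact_preimage_ι V U hUV) (isPerfect_resD hK V.ι) (isQCohD_resD V.ι hC)
    ((isZero_resD_comp _ _).2 (isZero_resD_of_le _ _ (by
      rintro _ ⟨y, rfl⟩
      rw [Scheme.Opens.range_ι]
      exact y.2) hCU)) ((resD V.ι).map (δ ≫ p))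
  have hcov' : ∀ x, x ∈ Set.range V.ι ∪ (U : Set X) := fun x => by
    rw [Scheme.Opens.range_ι]; exact (hcov x).symm
  have hunit : IsIso (adjV.unit.app C) := isIso_unit_of_cover V.ι U hcov' hCU
  let J := (RR V.ι).obj Q
  have hJU : IsZero ((resD U.ι).obj J) := isZero_resD_RR_open V.ι U hQU
  let f : K ⟶ J := adjV.unit.app K ≫ (RR V.ι).map q
  let g : J ⟶ C := (RR V.ι).map ψ ≫ inv (adjV.unit.app C)
  have hfg : f ≫ g = δ ≫ p := by
    simp only [f, g, Category.assoc, ← Functor.map_comp_assoc]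
    rw [hfac, ← Category.assoc]
    exact (IsIso.comp_inv_eq _).2 (adjV.unit.naturality (δ ≫ p)).symm
  obtain ⟨R, β, e, hR⟩ := distinguished_cocone_triangle₁ f
  have hβf : β ≫ f = 0 := comp_distTriang_mor_zero₁₂ _ hR
  obtain ⟨γ, hγ⟩ : ∃ γ : R ⟶ E, β ≫ δ = γ ≫ adj.unit.app E := Triangle.coyoneda_exact₂ _ hT (β ≫ δ) (by
    change (β ≫ δ) ≫ p = 0
    rw [Category.assoc, ← hfg, ← Category.assoc, hβf, zero_comp])
  have hJperf : DCoh.IsPerfect J := isPerfect_RR_of_cover V.ι U hcov' hQ hQU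
  refine ⟨R, β, γ, (isPerfect_triangle hR).2.2 hK hJperf, ?_, ?_, fun W hW hKW => ?_⟩
  · exact (Triangle.isZero₃_iff_isIso₁ _ ((resD U.ι).map_distinguished _ hR)).1 hJU
  · apply (adj.homEquiv _ _).injective
    rw [adj.homEquiv_naturality_left, adj.homEquiv_unit R _ ((resD U.ι).map γ)]
    refine hγ.trans ?_
    exact adj.unit.naturality γ
  · have hJW : IsZero ((resD W.ι).obj J) := isZero_resD_RR_open V.ι W
      (hkeep (V.ι ⁻¹ᵁ W) (isCompact_preimage_ι V W hW) ((isZero_resD_comp _ _).2 (isZero_resD_of_le _ _ (by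
        rintro _ ⟨y, rfl⟩
        rw [Scheme.Opens.range_ι]
        exact y.2) hKW)))
    have := (Triangle.isZero₃_iff_isIso₁ _ ((resD W.ι).map_distinguished _ hR)).1 hJW
    exact hKW.of_iso (@asIso _ _ _ _ ((resD W.ι).map β) this)

/-- `P ⊕ P[1]` extends from `U`, keeping vanishing. -/
theorem exists_extend_of_affine (hcov : ∀ x : X, x ∈ (U : Set X) ∪ (V : Set X)) (hV : IsAffineOpen V)
    (hUV : IsCompact ((V ⊓ U : X.Opens) : Set X)) {P : DCoh.D (U : Scheme.{u})} (hP : DCoh.IsPerfect P)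
    (W : X.Opens) (hW : IsCompact ((V ⊓ W : X.Opens) : Set X)) (hPW : IsZero ((resD (U.ι ⁻¹ᵁ W).ι).obj P)) :
    ∃ K : DCoh.D X, DCoh.IsPerfect K ∧ IsZero ((resD W.ι).obj K) ∧
      Nonempty ((resD U.ι).obj K ≅ P ⊞ P⟦(1 : ℤ)⟧) := by
  have : IsAffine (V : Scheme.{u}) := hV
  let U' : (V : Scheme.{u}).Opens := V.ι ⁻¹ᵁ U
  let WU : (U : Scheme.{u}).Opens := U.ι ⁻¹ᵁ W
  let WV : (V : Scheme.{u}).Opens := V.ι ⁻¹ᵁ W
  have hWV : IsCompact (WV : Set (V : Scheme.{u})) := isCompact_preimage_ι V W hW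
  have hU' : IsCompact (U' : Set (V : Scheme.{u})) := isCompact_preimage_ι V U hUV
  let kU : (U' : Scheme.{u}) ⟶ U := IsOpenImmersion.lift U.ι (U'.ι ≫ V.ι) (by
    rintro _ ⟨y, rfl⟩
    rw [Scheme.Opens.range_ι]
    exact y.2)
  have hk : kU ≫ U.ι = U'.ι ≫ V.ι := IsOpenImmersion.lift_fac _ _ _
  have : IsOpenImmersion kU := by
    have : IsOpenImmersion (kU ≫ U.ι) := by rw [hk]; infer_instance
    exact IsOpenImmersion.of_comp kU U.ι
  let F := (resD kU).obj P
  have hkW : Set.range ((U'.ι ⁻¹ᵁ WV).ι ≫ kU) ⊆ Set.range WU.ι := by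
    rintro _ ⟨y, rfl⟩
    rw [Scheme.Opens.range_ι]
    change U.ι (kU ((U'.ι ⁻¹ᵁ WV).ι y)) ∈ W
    rw [← Scheme.Hom.comp_apply, hk]
    exact y.2
  have hFW : IsZero ((resD (U'.ι ⁻¹ᵁ WV).ι).obj F) :=
    (isZero_resD_comp _ _).2 (isZero_resD_of_le _ _ hkW hPW)
  obtain ⟨G, hG, hGW, ⟨eG⟩⟩ :=
    exists_extend_sum_shift (X := (V : Scheme.{u})) (V : Scheme.{u}).isoSpec.hom hU' (isPerfect_resD hP kU) WV hWV hFW
  have := preservesBinaryBiproducts_of_preservesBiproducts (resD kU)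
  let φ : (resD kU).obj (P ⊞ P⟦(1 : ℤ)⟧) ≅ (resD U'.ι).obj G :=
    (resD kU).mapBiprod P (P⟦(1 : ℤ)⟧) ≪≫ biprod.mapIso (Iso.refl _) (((resD kU).commShiftIso (1 : ℤ)).app P) ≪≫
      eG.symm
  obtain ⟨K, ⟨eU⟩, ⟨eV⟩⟩ := exists_glue kU U'.ι hk (by
    rw [hk]
    ext x
    constructor
    · rintro ⟨y, rfl⟩
      exact ⟨y.2, y.1.2⟩
    · rintro ⟨hxU, hxV⟩
      exact ⟨⟨⟨x, hxV⟩, hxU⟩, rfl⟩) φ
  refine ⟨K, isPerfect_of_local fun x => (hcov x).elim
    (fun h => ⟨_, U.ι, inferInstance, ⟨⟨x, h⟩, rfl⟩,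
      isPerfect_of_iso (isPerfect_biprod hP (isPerfect_shift hP 1)) eU.symm⟩)
    (fun h => ⟨_, V.ι, inferInstance, ⟨⟨x, h⟩, rfl⟩, isPerfect_of_iso hG eV.symm⟩), ?_, ⟨eU⟩⟩
  have hP₂W : IsZero ((resD WU.ι).obj (P ⊞ P⟦(1 : ℤ)⟧)) := isZero_resD_biprod WU.ι hPW
    (((shiftFunctor _ (1 : ℤ)).map_isZero hPW).of_iso (((resD WU.ι).commShiftIso (1 : ℤ)).app P))
  exact isZero_resD_of_cover (WU.ι ≫ U.ι) (WV.ι ≫ V.ι) W.ι (by
    intro x hx
    rw [Scheme.Opens.range_ι] at hx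
    rcases hcov x with h | h
    · exact Or.inl ⟨⟨⟨x, h⟩, hx⟩, rfl⟩
    · exact Or.inr ⟨⟨⟨x, h⟩, hx⟩, rfl⟩)
    ((isZero_resD_comp _ _).1 (hP₂W.of_iso ((resD WU.ι).mapIso eU)))
    ((isZero_resD_comp _ _).1 (hGW.of_iso ((resD WV.ι).mapIso eV)))

/-- Lifting maps from perfect objects, up to a direct summand, with prescribed vanishing. -/
theorem exists_lift_summand : ∀ (n : ℕ) (X : Scheme.{u}) [CompactSpace X] [QuasiSeparatedSpace X]
    {U' : Scheme.{u}} (j : U' ⟶ X) [IsOpenImmersion j] (_ : IsCompact (Set.range j)) (B : Fin n → X.Opens),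
    (∀ k, IsAffineOpen (B k)) → (∀ x : X, x ∈ Set.range j ∨ ∃ k, x ∈ B k) →
    ∀ {E : DCoh.D X}, DCoh.IsQCohD E → ∀ {P : DCoh.D U'}, DCoh.IsPerfect P → ∀ (W : X.Opens),
      IsCompact (W : Set X) → IsZero ((resD (j ⁻¹ᵁ W).ι).obj P) → ∀ (α : P ⟶ (resD j).obj E),
      ∃ (R : DCoh.D X) (β : R ⟶ E) (i : P ⟶ (resD j).obj R) (p : (resD j).obj R ⟶ P),
        DCoh.IsPerfect R ∧ IsZero ((resD W.ι).obj R) ∧ i ≫ p = 𝟙 P ∧ i ≫ (resD j).map β = α
  | 0, X, _, _, U', j, _, hj, B, _, hcov, E, hE, P, hP, W, _, hPW, α => by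
    have hcov' : ∀ x, x ∈ Set.range j ∪ ((⊥ : X.Opens) : Set X) := fun x =>
      (hcov x).elim Or.inl fun ⟨k, _⟩ => k.elim0
    have hz : ∀ (Z : DCoh.D X), IsZero ((resD (⊥ : X.Opens).ι).obj Z) := fun Z =>
      (isZero_resD_iff_support _ Z).2 fun q x _ hx => by rw [Scheme.Opens.range_ι] at hx; exact hx
    let adj := resDAdj j
    have hu : IsIso (adj.unit.app E) := isIso_unit_of_cover j ⊥ hcov' (hz E)
    refine ⟨(RR j).obj P, (RR j).map α ≫ inv (adj.unit.app E), inv (adj.counit.app P), adj.counit.app P,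
      isPerfect_RR_of_cover j ⊥ hcov' hP ((isZero_resD_iff_support _ P).2 fun q x _ hx => by
        rw [Scheme.Opens.range_ι] at hx; exact hx),
      isZero_resD_RR_open j W hPW, IsIso.inv_hom_id _, ?_⟩
    rw [IsIso.inv_comp_eq]
    have h1 : (resD j).map ((RR j).map α) ≫ adj.counit.app ((resD j).obj E) = adj.counit.app P ≫ α :=
      adj.counit.naturality α
    rw [← h1, Functor.map_comp]
    congr 1
    rw [Functor.map_inv]
    exact IsIso.inv_eq_of_hom_inv_id (adj.left_triangle_components E)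
  | n + 1, X, _, _, U', j, _, hj, B, hB, hcov, E, hE, P, hP, W, hW, hPW, α => by
    let V : X.Opens := B (Fin.last n)
    obtain ⟨Y, hY, hle, hBY, hcovY⟩ : ∃ Y : X.Opens, IsCompact (Y : Set X) ∧ Set.range j ⊆ (Y : Set X) ∧
        (∀ k : Fin n, B k.castSucc ≤ Y) ∧ ∀ x ∈ Y, x ∈ Set.range j ∨ ∃ k : Fin n, x ∈ B k.castSucc :=
      ⟨j.opensRange ⊔ ⨆ k : Fin n, B k.castSucc, by
        rw [Opens.coe_sup, Opens.coe_iSup]
        exact hj.union (isCompact_iUnion fun k => (hB _).isCompact), fun x hx => Or.inl hx,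
        fun k => le_trans (le_iSup (fun k : Fin n => B k.castSucc) k) le_sup_right,
        fun x hx => hx.imp id Opens.mem_iSup.1⟩
    have : CompactSpace (Y : Scheme.{u}) := isCompact_iff_compactSpace.1 hY
    have := quasiCompact_of_isCompact_range Y.ι (by rwa [Scheme.Opens.range_ι])
    obtain ⟨j₀, rfl⟩ : ∃ j₀ : U' ⟶ Y, j₀ ≫ Y.ι = j :=
      ⟨IsOpenImmersion.lift Y.ι j (by rw [Scheme.Opens.range_ι]; exact hle), IsOpenImmersion.lift_fac _ _ _⟩
    have : IsOpenImmersion j₀ := IsOpenImmersion.of_comp j₀ Y.ι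
    let c := (resDCompIso j₀ Y.ι).app
    have hcomp : IsCompact (Y.ι '' Set.range j₀) := by rwa [← Set.range_comp]
    have hWY : IsCompact ((Y.ι ⁻¹ᵁ W : (Y : Scheme.{u}).Opens) : Set (Y : Scheme.{u})) :=
      QuasiCompact.isCompact_preimage (f := Y.ι) (W : Set X) W.2 hW
    obtain ⟨R₀, β₀, i₀, p₀, hR₀, hR₀W, hip, hiβ⟩ := exists_lift_summand n (Y : Scheme.{u}) j₀
      (Y.ι.isOpenEmbedding.isInducing.isCompact_iff.2 hcomp) (fun k => Y.ι ⁻¹ᵁ B k.castSucc) (fun k => by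
        rw [← Scheme.Hom.isAffineOpen_iff_of_isOpenImmersion Y.ι,
          image_preimage_of_le Y.ι (by
            rw [Scheme.Opens.opensRange_ι]
            exact hBY k)]
        exact hB _)
      (fun x => by
        rcases hcovY _ x.2 with ⟨y, hy⟩ | ⟨k, hk⟩
        · exact Or.inl ⟨y, Subtype.ext hy⟩
        · exact Or.inr ⟨k, hk⟩)
      (isQCohD_resD Y.ι hE) hP (Y.ι ⁻¹ᵁ W) hWY (isZero_resD_of_le _ _ (le_of_eq rfl) hPW)
      (α ≫ (c E).inv)
    have hcov' : ∀ x : X, x ∈ (Y : Set X) ∪ (V : Set X) := fun x => by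
      rcases hcov x with ⟨y, hy⟩ | ⟨k, hk⟩
      · exact Or.inl (hle ⟨y, hy⟩)
      · cases k using Fin.lastCases with
        | last => exact Or.inr hk
        | cast k => exact Or.inl (hBY k hk)
    have hVY : IsCompact ((V ⊓ Y : X.Opens) : Set X) :=
      QuasiSeparatedSpace.inter_isCompact (V : Set X) (Y : Set X) V.2 (hB _).isCompact Y.2 hY
    have hVW : IsCompact ((V ⊓ W : X.Opens) : Set X) :=
      QuasiSeparatedSpace.inter_isCompact (V : Set X) (W : Set X) V.2 (hB _).isCompact W.2 hW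
    obtain ⟨K, hK, hKW, ⟨e⟩⟩ := exists_extend_of_affine hcov' (hB _) hVY hR₀ W hVW hR₀W
    obtain ⟨R, β, γ, hR, hβ, hβγ, hkeep⟩ :=
      exists_lift_of_affine hcov' (hB _) hVY hK hE (e.hom ≫ biprod.fst ≫ β₀)
    let i' : R₀ ⟶ (resD Y.ι).obj R := biprod.inl ≫ e.inv ≫ inv ((resD Y.ι).map β)
    let p' : (resD Y.ι).obj R ⟶ R₀ := (resD Y.ι).map β ≫ e.hom ≫ biprod.fst
    have hip' : i' ≫ p' = 𝟙 R₀ := by simp [i', p']
    have hi'γ : i' ≫ (resD Y.ι).map γ = β₀ := by rw [← hβγ]; simp [i']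
    refine ⟨R, γ, i₀ ≫ (resD j₀).map i' ≫ (c R).hom, (c R).inv ≫ (resD j₀).map p' ≫ p₀, hR,
      hkeep W hVW hKW, ?_, ?_⟩
    · simp only [Category.assoc, Iso.hom_inv_id_assoc]
      rw [← Functor.map_comp_assoc, hip', CategoryTheory.Functor.map_id, Category.id_comp, hip]
    · have hn : (c R).hom ≫ (resD (j₀ ≫ Y.ι)).map γ = (resD j₀).map ((resD Y.ι).map γ) ≫ (c E).hom :=
        ((resDCompIso j₀ Y.ι).hom.naturality γ).symm
      simp only [Category.assoc, hn]
      rw [← Functor.map_comp_assoc, hi'γ, ← Category.assoc, hiβ]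
      simp

/-- Every map from a perfect object of a quasi-compact open with support in `T` lifts up to a summand. -/
theorem exists_lift_summand_of_qcqs [CompactSpace X] [QuasiSeparatedSpace X] {U' : Scheme.{u}} (j : U' ⟶ X)
    [IsOpenImmersion j] (hj : IsCompact (Set.range j)) {E : DCoh.D X} (hE : DCoh.IsQCohD E) {P : DCoh.D U'}
    (hP : DCoh.IsPerfect P) (W : X.Opens) (hW : IsCompact (W : Set X)) (hPW : IsZero ((resD (j ⁻¹ᵁ W).ι).obj P))
    (α : P ⟶ (resD j).obj E) :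
    ∃ (R : DCoh.D X) (β : R ⟶ E) (i : P ⟶ (resD j).obj R) (p : (resD j).obj R ⟶ P),
      DCoh.IsPerfect R ∧ IsZero ((resD W.ι).obj R) ∧ i ≫ p = 𝟙 P ∧ i ≫ (resD j).map β = α := by
  obtain ⟨ι, _, B, hB, -, hcov⟩ := QCoh.exists_finite_affine_cover (X := X) (U := ⊤) isCompact_univ
  let e := (Fintype.equivFin ι).symm
  refine exists_lift_summand _ X j hj (B ∘ e) (fun k => hB _) (fun x => Or.inr ?_) hE hP W hW hPW α
  obtain ⟨k, hk⟩ := Opens.mem_iSup.1 (hcov (show x ∈ (⊤ : X.Opens) from trivial))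
  exact ⟨e.symm k, by simpa using hk⟩

/-- Compact objects among supported objects are perfect. -/
theorem finHom_of_supported [CompactSpace X] [QuasiSeparatedSpace X] (U : X.Opens) (hU : IsCompact (U : Set X))
    {K : DCoh.D X} (hKU : IsZero ((resD U.ι).obj K))
    (hK : ∀ (ι : Type u) (M : ι → DCoh.D X) [HasCoproduct M],
      (∀ i, DCoh.IsQCohD (M i) ∧ IsZero ((resD U.ι).obj (M i))) → TriCat.FinHom M K)
    {ι : Type u} (M : ι → DCoh.D X) [HasCoproduct M] (hM : ∀ i, DCoh.IsQCohD (M i)) : TriCat.FinHom M K := by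
  have := quasiCompact_of_isCompact_range U.ι (by rwa [Scheme.Opens.range_ι])
  have : HasColimitsOfShape (Discrete ι) (DCoh.D X) := HoCat.derivedCategory_hasColimitsOfShape
  have : HasColimitsOfShape (Discrete ι) (DCoh.D (U : Scheme.{u})) := HoCat.derivedCategory_hasColimitsOfShape
  let adj := resDAdj U.ι
  choose G m₁ m₃ hT using fun i => distinguished_cocone_triangle₁ (adj.unit.app (M i))
  let T := fun i => Triangle.mk (m₁ i) (adj.unit.app (M i)) (m₃ i)
  have hG : ∀ i, DCoh.IsQCohD (G i) ∧ IsZero ((resD U.ι).obj (G i)) := fun i => by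
    have hqE : DCoh.IsQCohD ((RR U.ι).obj ((resD U.ι).obj (M i))) :=
      isQCohD_Rres U.ι _ (isQCohD_resD U.ι (hM i))
    refine ⟨isQCohD_obj₃ (inv_rot_of_distTriang _ (inv_rot_of_distTriang _ (hT i)))
      (isQCohD_shift (hM i) (-1)) (isQCohD_shift hqE (-1)), ?_⟩
    exact (Triangle.isZero₁_iff_isIso₂ _ ((resD U.ι).map_distinguished _ (hT i))).2 (isIso_resD_unit U.ι (M i))
  classical
  intro φ
  have hS := TriCat.sigmaTriangle_distinguished T hT
  obtain ⟨ψ, hψ⟩ : ∃ ψ : K ⟶ ∐ G, φ = ψ ≫ Limits.Sigma.map (fun i => (T i).mor₁) :=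
    Triangle.coyoneda_exact₂ _ hS φ (by
      have hz : ∀ z : K ⟶ ∐ fun i => (RR U.ι).obj ((resD U.ι).obj (M i)), z = 0 := fun z => by
        let c := Sigma.desc fun i => (RR U.ι).map (Sigma.ι (fun i => (resD U.ι).obj (M i)) i)
        have : IsIso c := isIso_Rres_coprod U.ι _ fun i => isQCohD_resD U.ι (hM i)
        rw [← cancel_mono c, zero_comp]
        exact (adj.homEquiv _ _).symm.injective (hKU.eq_of_src _ _)
      exact hz _)
  obtain ⟨d, rfl⟩ := hK ι G hG ψ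
  rw [hψ]
  clear hψ φ
  suffices PerfAux.homSumToHomCoprod K G d ≫ Limits.Sigma.map (fun i => (T i).mor₁) ∈
      (PerfAux.homSumToHomCoprod K M).range from this
  induction d using DirectSum.induction_on with
  | zero => rw [map_zero, zero_comp]; exact zero_mem _
  | of i x =>
    rw [TriCat.homSum_of, Category.assoc, Sigma.ι_map, ← Category.assoc]
    exact TriCat.ι_mem_range _ _ i _
  | add a b ha hb => rw [map_add, Preadditive.add_comp]; exact add_mem ha hb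

end GrothLib.OX
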