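import Groth.Agent.Lib.OX.BVdB
import Groth.Agent.Lib.OX.LiftSupport
import Groth.Agent.Lib.OX.RRLocal
import Groth.Agent.Lib.TriCat.MVSquare

/-!
# The Mayer–Vietoris triangle of direct images from two opens
-/

set_option autoImplicit false
set_option maxHeartbeats 1000000
universe u

open CategoryTheory CategoryTheory.Limits AlgebraicGeometry Opposite TopologicalSpace Pretriangulated

attribute [local instance] HasDerivedCategory.standard

namespace GrothLib.MV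

universe v u'

/-- The mirror of `isIso_fst_of_isIso_inr`. -/
theorem isIso_snd_of_isIso_inl {C : Type u'} [Category.{v} C] [Preadditive C] [HasZeroObject C] [HasShift C ℤ]
    [∀ n : ℤ, (shiftFunctor C n).Additive] [Pretriangulated C] {P X Y Z : C} (a : P ⟶ X ⊞ Y) (b : X ⊞ Y ⟶ Z)
    (c : Z ⟶ P⟦(1 : ℤ)⟧) (hT : Triangle.mk a b c ∈ distTriang C) [IsIso (biprod.inl ≫ b)] :
    IsIso (a ≫ biprod.snd) := by
  let σ := biprod.braiding X Y
  have hT' : Triangle.mk (a ≫ σ.hom) (σ.inv ≫ b) c ∈ distTriang C :=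
    isomorphic_distinguished _ hT _ (Triangle.isoMk _ _ (Iso.refl _) σ.symm (Iso.refl _)
      (by change (a ≫ σ.hom) ≫ σ.inv = 𝟙 P ≫ a; rw [Category.assoc, Iso.hom_inv_id, Category.comp_id, Category.id_comp])
      (by change (σ.inv ≫ b) ≫ 𝟙 Z = σ.inv ≫ b; rw [Category.comp_id]) (by change _ ≫ (𝟙 P)⟦(1 : ℤ)⟧' = 𝟙 Z ≫ c; simp))
  have : IsIso (biprod.inr ≫ σ.inv ≫ b) := by
    have e : biprod.inr ≫ σ.inv = biprod.inl := by apply biprod.hom_ext <;> simp [σ]
    rw [← Category.assoc, e]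
    infer_instance
  have h := isIso_fst_of_isIso_inr _ _ _ hT'
  rwa [Category.assoc, show σ.hom ≫ biprod.fst = biprod.snd by simp [σ]] at h

end GrothLib.MV

namespace GrothLib.OX

variable {X : Scheme.{u}}

/-- The unit of `resD W` is invertible over `U` on direct images from `V`, for `W = U ∩ V`. -/
theorem isIso_resD_map_unit_RR (U V W : X.Opens) (hW : W = U ⊓ V) (F : DCoh.D (V : Scheme.{u})) :
    IsIso ((resD U.ι).map ((resDAdj W.ι).unit.app ((RR V.ι).obj F))) := by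
  obtain ⟨K, p, d, hT⟩ := distinguished_cocone_triangle ((resDAdj W.ι).unit.app ((RR V.ι).obj F))
  have hKW : IsZero ((resD W.ι).obj K) :=
    (Triangle.isZero₃_iff_isIso₁ _ ((resD W.ι).map_distinguished _ hT)).2 (isIso_resD_unit W.ι _)
  refine (Triangle.isZero₃_iff_isIso₁ _ ((resD U.ι).map_distinguished _ hT)).1 ?_
  -- test against objects extended by zero from `U`
  let Q := (resD U.ι).obj K
  let P := (CxOX.extZeroD U.ι).obj Q
  suffices hP : ∀ φ : P ⟶ K, φ = 0 from (IsZero.iff_id_eq_zero _).2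
    (((extZeroDAdj U.ι).homEquiv Q K).symm.injective ((hP _).trans (hP _).symm))
  intro φ
  let PW := (CxOX.extZeroD W.ι).obj ((resD W.ι).obj P)
  let c : PW ⟶ P := (extZeroDAdj W.ι).counit.app P
  have hu : IsIso (extZeroDAdj W.ι).unit := (extZeroDAdj W.ι).isIso_unit_of_iso (resDExtZeroIso W.ι).symm
  have hcW : IsIso ((resD W.ι).map c) :=
    MV.isIso_left_of_fac (f := (resD W.ι).map c) (g := 𝟙 _) (h := inv ((extZeroDAdj W.ι).unit.app ((resD W.ι).obj P)))
      (by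
        rw [Category.comp_id, ← cancel_epi ((extZeroDAdj W.ι).unit.app ((resD W.ι).obj P)), IsIso.hom_inv_id]
        exact (extZeroDAdj W.ι).right_triangle_components P) inferInstance
  obtain ⟨Pc, m, e, hc⟩ := distinguished_cocone_triangle c
  have hPcW : IsZero ((resD W.ι).obj Pc) :=
    (Triangle.isZero₃_iff_isIso₁ _ ((resD W.ι).map_distinguished _ hc)).2 hcW
  have hPcV : IsZero ((resD V.ι).obj Pc) := (isZero_resD_iff_support _ Pc).2 fun q x hx hxV => by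
    rw [Scheme.Opens.range_ι] at hxV
    refine (isZero_resD_iff_support W.ι Pc).1 hPcW q hx ?_
    rw [Scheme.Opens.range_ι, hW]
    refine ⟨?_, hxV⟩
    by_contra hxU
    have h1 : ∀ (i : ℤ), Subsingleton ((DCoh.HD P i).presheaf.stalk x) := fun i => not_not.1 fun h => by
      obtain ⟨y, rfl⟩ := support_HD_extZeroD U.ι Q i h
      exact hxU y.2
    have h2 : ∀ (i : ℤ), Subsingleton ((DCoh.HD PW i).presheaf.stalk x) := fun i => not_not.1 fun h => by
      obtain ⟨y, rfl⟩ := support_HD_extZeroD W.ι _ i h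
      exact hxU (hW.le y.2).1
    refine hx (ModuleCat.subsingleton_of_isZero ((((DerivedCategory.HomologySequence.exact₃ _ hc q (q + 1) rfl).map
      (stalk x)).isZero_of_both_zeros ?_ ?_)))
    · exact (@ModuleCat.isZero_of_subsingleton _ _ _ (h1 q)).eq_of_src _ _
    · exact (@ModuleCat.isZero_of_subsingleton _ _ _ (h2 (q + 1))).eq_of_tgt _ _
  -- maps from `Pc` and its shifts into `K` vanish, and so do maps from `PW`
  have hshift : ∀ (n : ℤ) (j : (X.Opens)), IsZero ((resD j.ι).obj Pc) → IsZero ((resD j.ι).obj (Pc⟦n⟧)) :=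
    fun n j h => ((shiftFunctor _ n).map_isZero h).of_iso (((resD j.ι).commShiftIso n).app Pc)
  have hPcK : ∀ χ : Pc ⟶ K, χ = 0 := fun χ => by
    have h1 : χ ≫ d = 0 := by
      let ε := (shiftEquiv (DCoh.D X) (1 : ℤ)).toAdjunction
      have h2 : ∀ ψ : Pc⟦(-1 : ℤ)⟧ ⟶ (RR V.ι).obj F, ψ = 0 := fun ψ =>
        ((resDAdj V.ι).homEquiv _ _).symm.injective ((hshift (-1) V hPcV).eq_of_src _ _)
      obtain ⟨ψ, hψ⟩ := (shiftFunctor (DCoh.D X) (1 : ℤ)).map_surjective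
        ((shiftEquiv (DCoh.D X) (1 : ℤ)).counitIso.hom.app Pc ≫ χ ≫ d)
      have h3 := h2 ψ
      rw [h3] at hψ
      exact (cancel_epi ((shiftEquiv (DCoh.D X) (1 : ℤ)).counitIso.hom.app Pc)).1
        (hψ.symm.trans ((Functor.map_zero _ _ _).trans comp_zero.symm))
    obtain ⟨ψ, hψ⟩ : ∃ ψ, χ = ψ ≫ p := Triangle.coyoneda_exact₃ _ hT χ h1
    rw [hψ, show ψ = 0 from ((resDAdj W.ι).homEquiv _ _).symm.injective (hPcW.eq_of_src _ _), zero_comp]
  obtain ⟨χ, hχ⟩ : ∃ χ : Pc ⟶ K, φ = m ≫ χ := Triangle.yoneda_exact₂ _ hc φ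
    (((extZeroDAdj W.ι).homEquiv _ _).injective (hKW.eq_of_tgt _ _))
  rw [hχ, hPcK χ, comp_zero]

/-- **The Mayer–Vietoris triangle.** -/
theorem exists_mvTriangle (U V W : X.Opens) (hUV : U ⊔ V = ⊤) (hW : W = U ⊓ V) (E : DCoh.D X) :
    ∃ (a : E ⟶ (RR U.ι).obj ((resD U.ι).obj E) ⊞ (RR V.ι).obj ((resD V.ι).obj E))
      (b : (RR U.ι).obj ((resD U.ι).obj E) ⊞ (RR V.ι).obj ((resD V.ι).obj E) ⟶ (RR W.ι).obj ((resD W.ι).obj E))
      (c : (RR W.ι).obj ((resD W.ι).obj E) ⟶ E⟦(1 : ℤ)⟧), Triangle.mk a b c ∈ distTriang (DCoh.D X) := by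
  let A := (RR U.ι).obj ((resD U.ι).obj E)
  let B := (RR V.ι).obj ((resD V.ι).obj E)
  let ηU : E ⟶ A := (resDAdj U.ι).unit.app E
  let ηV : E ⟶ B := (resDAdj V.ι).unit.app E
  have hWU : W ≤ U := hW.le.trans inf_le_left
  have hWV : W ≤ V := hW.le.trans inf_le_right
  have key : ∀ (O : X.Opens), W ≤ O → IsIso ((resD W.ι).map ((resDAdj O.ι).unit.app E)) := fun O hO => by
    obtain ⟨K, p, d, hT⟩ := distinguished_cocone_triangle ((resDAdj O.ι).unit.app E)
    refine (Triangle.isZero₃_iff_isIso₁ _ ((resD W.ι).map_distinguished _ hT)).1 (isZero_resD_of_le _ _ (by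
      rw [Scheme.Opens.range_ι, Scheme.Opens.range_ι]
      exact hO) ((Triangle.isZero₃_iff_isIso₁ _ ((resD O.ι).map_distinguished _ hT)).2 (isIso_resD_unit O.ι E)))
  have := key U hWU
  have := key V hWV
  let rU : A ⟶ (RR W.ι).obj ((resD W.ι).obj E) :=
    (resDAdj W.ι).unit.app A ≫ (RR W.ι).map (inv ((resD W.ι).map ηU))
  let rV : B ⟶ (RR W.ι).obj ((resD W.ι).obj E) :=
    (resDAdj W.ι).unit.app B ≫ (RR W.ι).map (inv ((resD W.ι).map ηV))
  have hr : ∀ {O : DCoh.D X} (η : E ⟶ O) [IsIso ((resD W.ι).map η)],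
      η ≫ (resDAdj W.ι).unit.app O ≫ (RR W.ι).map (inv ((resD W.ι).map η)) = (resDAdj W.ι).unit.app E := by
    intro O η _
    have h : η ≫ (resDAdj W.ι).unit.app O = (resDAdj W.ι).unit.app E ≫ (RR W.ι).map ((resD W.ι).map η) :=
      (resDAdj W.ι).unit.naturality η
    rw [← Category.assoc, h, Category.assoc, ← Functor.map_comp, IsIso.hom_inv_id, CategoryTheory.Functor.map_id]
    exact Category.comp_id _
  let a := biprod.lift ηU ηV
  let b := biprod.desc rU (-rV)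
  have hab : a ≫ b = 0 := by
    simp only [a, b, rU, rV, biprod.lift_desc, Preadditive.comp_neg]
    rw [hr ηU, hr ηV, add_neg_cancel]
  obtain ⟨N, a', d', hT⟩ := distinguished_cocone_triangle₁ b
  obtain ⟨φ, hφ⟩ : ∃ φ : E ⟶ N, a = φ ≫ a' := Triangle.coyoneda_exact₂ _ hT a hab
  have := isIso_resD_unit U.ι E
  have := isIso_resD_unit V.ι E
  have hU : IsIso ((resD U.ι).map φ) := by
    obtain ⟨c', hc⟩ := MV.map_distinguished_biprod (resD U.ι) hT (Iso.refl _)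
    have : IsIso ((resD U.ι).map ((resDAdj W.ι).unit.app B)) := isIso_resD_map_unit_RR U V W hW _
    have : IsIso (biprod.inr ≫ biprod.desc ((Iso.refl ((resD U.ι).obj A)).inv ≫ (resD U.ι).map (biprod.inl ≫ b))
        ((resD U.ι).map (biprod.inr ≫ b))) := by
      rw [biprod.inr_desc, biprod.inr_desc, Functor.map_neg, Functor.map_comp]
      exact ⟨-inv _, by rw [Preadditive.neg_comp_neg, IsIso.hom_inv_id],
        by rw [Preadditive.neg_comp_neg, IsIso.inv_hom_id]⟩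
    have h := MV.isIso_fst_of_isIso_inr _ _ _ hc
    rw [biprod.lift_fst, Iso.refl_hom, Category.comp_id] at h
    exact MV.isIso_left_of_fac (g := (resD U.ι).map (a' ≫ biprod.fst)) (h := (resD U.ι).map ηU)
      (((resD U.ι).map_comp _ _).symm.trans (congrArg _ (by rw [← Category.assoc, ← hφ, biprod.lift_fst])))
      inferInstance
  have hV : IsIso ((resD V.ι).map φ) := by
    obtain ⟨c', hc⟩ := MV.map_distinguished_biprod (resD V.ι) hT (Iso.refl _)
    have : IsIso ((resD V.ι).map ((resDAdj W.ι).unit.app A)) :=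
      isIso_resD_map_unit_RR V U W (by rw [hW, inf_comm]) _
    have : IsIso (biprod.inl ≫ biprod.desc ((Iso.refl ((resD V.ι).obj A)).inv ≫ (resD V.ι).map (biprod.inl ≫ b))
        ((resD V.ι).map (biprod.inr ≫ b))) := by
      rw [biprod.inl_desc, biprod.inl_desc, Iso.refl_inv, Category.id_comp, Functor.map_comp]
      infer_instance
    have h := MV.isIso_snd_of_isIso_inl _ _ _ hc
    rw [biprod.lift_snd] at h
    exact MV.isIso_left_of_fac (g := (resD V.ι).map (a' ≫ biprod.snd)) (h := (resD V.ι).map ηV)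
      (((resD V.ι).map_comp _ _).symm.trans (congrArg _ (by rw [← Category.assoc, ← hφ, biprod.lift_snd])))
      inferInstance
  have hiso : IsIso φ := MV.isIso_of_cone φ fun _ _ _ h => isZero_of_isZero_cover U.ι V.ι (fun x => by
      rw [Scheme.Opens.range_ι, Scheme.Opens.range_ι]
      exact hUV.ge (show x ∈ (⊤ : X.Opens) from trivial))
    ((Triangle.isZero₃_iff_isIso₁ _ ((resD U.ι).map_distinguished _ h)).2 hU)
    ((Triangle.isZero₃_iff_isIso₁ _ ((resD V.ι).map_distinguished _ h)).2 hV)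
  obtain ⟨a₁, b₁, c₁, h⟩ := exists_triangle_of_isos hT (asIso φ).symm (Iso.refl _) (Iso.refl _)
  exact ⟨a₁, b₁, c₁, h⟩

/-- The relative Mayer–Vietoris triangle. -/
theorem exists_rpush_mv {Y : Scheme.{u}} (f : X ⟶ Y) (U V W : X.Opens) [DCoh.HasRpush f]
    [DCoh.HasRpush (U.ι ≫ f)] [DCoh.HasRpush (V.ι ≫ f)] [DCoh.HasRpush (W.ι ≫ f)] (E : DCoh.D X)
    {a : E ⟶ (RR U.ι).obj ((resD U.ι).obj E) ⊞ (RR V.ι).obj ((resD V.ι).obj E)}
    {b : (RR U.ι).obj ((resD U.ι).obj E) ⊞ (RR V.ι).obj ((resD V.ι).obj E) ⟶ (RR W.ι).obj ((resD W.ι).obj E)}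
    {c : (RR W.ι).obj ((resD W.ι).obj E) ⟶ E⟦(1 : ℤ)⟧} (h : Triangle.mk a b c ∈ distTriang (DCoh.D X)) :
    ∃ (a' : (DCoh.Rpush f).obj E ⟶ (DCoh.Rpush (U.ι ≫ f)).obj ((resD U.ι).obj E) ⊞
          (DCoh.Rpush (V.ι ≫ f)).obj ((resD V.ι).obj E))
      (b' : _ ⟶ (DCoh.Rpush (W.ι ≫ f)).obj ((resD W.ι).obj E)) (c' : _ ⟶ ((DCoh.Rpush f).obj E)⟦(1 : ℤ)⟧),
      Triangle.mk a' b' c' ∈ distTriang (DCoh.D Y) := by
  let F := KInj.res X.Modules ⋙ DCoh.pushKh f
  have := preservesBinaryBiproducts_of_preservesBiproducts F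
  exact exists_triangle_of_isos (F.map_distinguished _ h) ((rpushIsoRres f).symm.app E)
    (F.mapBiprod _ _ ≪≫ biprod.mapIso
      ((RRCompOpenIso U.ι f).app _ ≪≫ (rpushIsoRres (U.ι ≫ f)).symm.app _)
      ((RRCompOpenIso V.ι f).app _ ≪≫ (rpushIsoRres (V.ι ≫ f)).symm.app _))
    ((RRCompOpenIso W.ι f).app _ ≪≫ (rpushIsoRres (W.ι ≫ f)).symm.app _)

/-- The Mayer–Vietoris triangle of global sections. -/
theorem exists_rgamma_mv (U V W : X.Opens) [DCoh.HasRΓ X] [DCoh.HasRΓ (U : Scheme.{u})]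
    [DCoh.HasRΓ (V : Scheme.{u})] [DCoh.HasRΓ (W : Scheme.{u})] (E : DCoh.D X)
    {a : E ⟶ (RR U.ι).obj ((resD U.ι).obj E) ⊞ (RR V.ι).obj ((resD V.ι).obj E)}
    {b : (RR U.ι).obj ((resD U.ι).obj E) ⊞ (RR V.ι).obj ((resD V.ι).obj E) ⟶ (RR W.ι).obj ((resD W.ι).obj E)}
    {c : (RR W.ι).obj ((resD W.ι).obj E) ⟶ E⟦(1 : ℤ)⟧} (h : Triangle.mk a b c ∈ distTriang (DCoh.D X)) :
    ∃ (a' : (DCoh.RΓ X).obj E ⟶ (DCoh.RΓ (U : Scheme.{u})).obj ((resD U.ι).obj E) ⊞
          (DCoh.RΓ (V : Scheme.{u})).obj ((resD V.ι).obj E))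
      (b' : _ ⟶ (DCoh.RΓ (W : Scheme.{u})).obj ((resD W.ι).obj E)) (c' : _ ⟶ ((DCoh.RΓ X).obj E)⟦(1 : ℤ)⟧),
      Triangle.mk a' b' c' ∈ distTriang (DerivedCategory AddCommGrpCat.{u}) := by
  let F := KInj.res X.Modules ⋙ DCoh.gammaKh X
  have := preservesBinaryBiproducts_of_preservesBiproducts F
  let g := fun (O : X.Opens) [DCoh.HasRΓ (O : Scheme.{u})] =>
    (RΓRRIso O.ι).app ((resD O.ι).obj E) ≪≫
      ((KInj.totalRightDerivedIso (DCoh.gammaKh (O : Scheme.{u}))).symm.app _)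
  exact exists_triangle_of_isos (F.map_distinguished _ h)
    ((KInj.totalRightDerivedIso (DCoh.gammaKh X)).symm.app E)
    (F.mapBiprod _ _ ≪≫ biprod.mapIso (g U) (g V)) (g W)

end GrothLib.OX
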