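import Groth.Agent.Lib.OX.CompactPerfect
import Groth.Agent.Lib.OX.AffineReflect

/-! # Derived direct image along an open immersion is fully faithful -/

set_option autoImplicit false
universe u

open CategoryTheory CategoryTheory.Limits AlgebraicGeometry Pretriangulated

attribute [local instance] HasDerivedCategory.standard

namespace GrothLib.OX

variable {X U : Scheme.{u}} (j : U ⟶ X) [IsOpenImmersion j]

instance pushforward_additive_open : (Scheme.Modules.pushforward j).Additive :=
  (Scheme.Modules.restrictAdjunction j).right_adjoint_additive

/-- Restricting the derived direct image gives back the object. -/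
noncomputable def resDRRIso : RR j ⋙ resD j ≅ 𝟭 (DCoh.D U) :=
  let adj := KInj.mapHomotopyAdj (Scheme.Modules.restrictAdjunction j)
  have : IsIso adj.counit := by
    have : ∀ K, IsIso (adj.counit.app K) := fun K => by
      have : IsIso ((KInj.mapComplexAdj (Scheme.Modules.restrictAdjunction j) (ComplexShape.up ℤ)).counit.app K.as) := by
        have : ∀ i, IsIso (((KInj.mapComplexAdj (Scheme.Modules.restrictAdjunction j)
            (ComplexShape.up ℤ)).counit.app K.as).f i) := fun i =>
          inferInstanceAs (IsIso ((Scheme.Modules.restrictAdjunction j).counit.app (K.as.X i)))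
        exact HomologicalComplex.Hom.isIso_of_components _
      exact (asIso ((KInj.mapComplexAdj (Scheme.Modules.restrictAdjunction j) (ComplexShape.up ℤ)).counit.app K.as) |> (HomotopyCategory.quotient U.Modules (ComplexShape.up ℤ)).mapIso).isIso_hom
    exact NatIso.isIso_of_isIso_app _
  Functor.associator (KInj.res U.Modules) _ (resD j) ≪≫
    Functor.isoWhiskerLeft (KInj.res U.Modules)
      (Functor.associator _ DerivedCategory.Qh (resD j) ≪≫
        Functor.isoWhiskerLeft _ (Scheme.Modules.restrictFunctor j).mapDerivedCategoryFactorsh ≪≫
        (Functor.associator _ _ _).symm ≪≫ Functor.isoWhiskerRight (asIso adj.counit) DerivedCategory.Qh ≪≫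
        Functor.leftUnitor _) ≪≫
    asIso (KInj.resAdj U.Modules).counit

instance isIso_resDAdj_counit : IsIso (resDAdj j).counit :=
  (resDAdj j).isIso_counit_of_iso (resDRRIso j)

theorem isIso_resDAdj_counit_app (E : DCoh.D U) : IsIso ((resDAdj j).counit.app E) := inferInstance

theorem isIso_resD_unit (E : DCoh.D X) : IsIso ((resD j).map ((resDAdj j).unit.app E)) := by
  have h := (resDAdj j).left_triangle_components E
  exact IsIso.of_isIso_fac_right (h := 𝟙 _) h

end GrothLib.OX
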