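import Groth.Agent.Lib.OX.RRLocal
import Groth.Agent.Lib.OX.RestrictAdj
import Groth.Agent.Lib.OX.ExtZeroOpen
import Groth.Agent.Lib.OX.Support
import Groth.Agent.Lib.OX.MVTriangle
import Groth.Agent.Lib.OX.BVdB
import Groth.Agent.Lib.Cohom.InjModule
import Groth.Prelude.Def_CxOX

/-! # The triangle of sections with support: `RΓ_Z K ⟶ K ⟶ Rj_* j^* K` -/

set_option autoImplicit false
set_option maxHeartbeats 1000000
universe u

open CategoryTheory CategoryTheory.Limits AlgebraicGeometry Opposite TopologicalSpace Pretriangulated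

attribute [local instance] HasDerivedCategory.standard

namespace GrothLib.OX

variable {U X : Scheme.{u}} (j : U ⟶ X) [IsOpenImmersion j]

/-- The unit `F ⟶ j_* (F|_U)` is an epimorphism for injective `F`. -/
theorem epi_restrict_unit_of_injective (I : X.Modules) [Injective I] :
    Epi ((Scheme.Modules.restrictAdjunction j).unit.app I) := by
  have hfl := Cohom.isFlasque_toAb_of_injective I
  have : Epi ((Scheme.Modules.toPresheaf X).map ((Scheme.Modules.restrictAdjunction j).unit.app I)) := by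
    have : ∀ V, Epi (((Scheme.Modules.toPresheaf X).map
        ((Scheme.Modules.restrictAdjunction j).unit.app I)).app V) := fun V =>
      hfl.epi (homOfLE (Scheme.Hom.image_preimage_le j V.unop)).op
    exact NatTrans.epi_of_epi_app _
  exact (Scheme.Modules.toPresheaf X).epi_of_epi_map this

theorem isZero_restrict_gammaZ (F : X.Modules) :
    IsZero ((Scheme.Modules.restrictFunctor j).obj ((DCoh.gammaZ j).obj F)) := by
  let L := Scheme.Modules.restrictFunctor j
  let η := (Scheme.Modules.restrictAdjunction j).unit.app F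
  have : IsIso (L.map η) :=
    IsIso.of_isIso_fac_right (h := 𝟙 _) ((Scheme.Modules.restrictAdjunction j).left_triangle_components F)
  have h : L.map (kernel.ι η) = 0 := by
    have h0 : L.map (kernel.ι η) ≫ L.map η = 0 := by
      rw [← L.map_comp, kernel.condition, L.map_zero]
    exact (cancel_mono (L.map η)).1 (h0.trans zero_comp.symm)
  have : Mono (L.map (kernel.ι η)) := L.map_mono _
  exact (IsZero.iff_id_eq_zero _).2 ((cancel_mono (L.map (kernel.ι η))).1 (by rw [h, comp_zero, comp_zero]))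

/-- The sequence `0 ⟶ Γ_Z I ⟶ I ⟶ j_* (I|_U) ⟶ 0` of complexes. -/
noncomputable def supportSES (I : CochainComplex X.Modules ℤ) :
    ShortComplex (CochainComplex X.Modules ℤ) :=
  ShortComplex.mk
    (((NatTrans.mapHomologicalComplex (CxOX.gammaZι j) (ComplexShape.up ℤ))).app I ≫
      (Functor.mapHomologicalComplexIdIso X.Modules (ComplexShape.up ℤ)).hom.app I)
    ((KInj.mapComplexAdj (Scheme.Modules.restrictAdjunction j) (ComplexShape.up ℤ)).unit.app I)
    (by
      apply HomologicalComplex.hom_ext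
      intro n
      change (kernel.ι ((Scheme.Modules.restrictAdjunction j).unit.app (I.X n)) ≫ 𝟙 _) ≫
        (Scheme.Modules.restrictAdjunction j).unit.app (I.X n) = 0
      rw [Category.comp_id, kernel.condition])

theorem supportSES_shortExact (I : CochainComplex X.Modules ℤ) (hI : ∀ n, Injective (I.X n)) :
    (supportSES j I).ShortExact := by
  refine HomologicalComplex.shortExact_of_degreewise_shortExact _ fun n => ?_
  have := hI n
  have := epi_restrict_unit_of_injective j (I.X n)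
  refine ShortComplex.ShortExact.mk' ?_ ?_ ?_
  · refine ShortComplex.exact_of_iso (ShortComplex.isoMk (Iso.refl _) (Iso.refl _) (Iso.refl _) ?_ ?_)
      (ShortComplex.exact_of_f_is_kernel (ShortComplex.mk _ _ (kernel.condition
        ((Scheme.Modules.restrictAdjunction j).unit.app (I.X n)))) (kernelIsKernel _))
    · change 𝟙 _ ≫ (kernel.ι _ ≫ 𝟙 _) = kernel.ι _ ≫ 𝟙 _
      rw [Category.id_comp]
    · change 𝟙 _ ≫ _ = _ ≫ 𝟙 _
      rw [Category.id_comp, Category.comp_id]
  · change Mono (kernel.ι _ ≫ 𝟙 _)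
    infer_instance
  · exact this

variable [CxOX.HasRgammaZ j]

theorem rgammaZToId_fac (K : HomotopyCategory X.Modules (ComplexShape.up ℤ)) :
    ((CxOX.gammaZKh j).totalRightDerivedUnit DerivedCategory.Qh
        (HomotopyCategory.quasiIso X.Modules (ComplexShape.up ℤ))).app K ≫
      (CxOX.RgammaZToId j).app (DerivedCategory.Qh.obj K) = (CxOX.gammaZKhι j).app K :=
  (Functor.rightDerived_fac_app _ _ _ _ _ K).trans (Category.comp_id _)

theorem isIso_rgammaZ_unit {K : HomotopyCategory X.Modules (ComplexShape.up ℤ)}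
    (hK : (HomotopyCategory.subcategoryAcyclic X.Modules).rightOrthogonal K) :
    IsIso (((CxOX.gammaZKh j).totalRightDerivedUnit DerivedCategory.Qh
        (HomotopyCategory.quasiIso X.Modules (ComplexShape.up ℤ))).app K) := by
  have := KInj.isIso_unit_of_rightOrthogonal hK
  have : IsIso ((CxOX.gammaZKh j).map ((KInj.resAdj X.Modules).unit.app K)) := Functor.map_isIso _ _
  exact IsIso.of_isIso_fac_right (KInj.totalRightDerivedUnit_iso_hom (CxOX.gammaZKh j) K)

theorem isIso_resDAdj_unit_RR (F : DCoh.D U) : IsIso ((resDAdj j).unit.app ((RR j).obj F)) :=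
  IsIso.of_isIso_fac_right (h := 𝟙 _) ((resDAdj j).right_triangle_components F)

theorem exists_triangle_Q (I : CochainComplex X.Modules ℤ) [I.IsKInjective] (hI : ∀ n, Injective (I.X n)) :
    ∃ (d : (RR j).obj ((resD j).obj (DerivedCategory.Qh.obj
        ((HomotopyCategory.quotient _ _).obj I))) ⟶ _),
      Triangle.mk ((CxOX.RgammaZToId j).app (DerivedCategory.Qh.obj ((HomotopyCategory.quotient _ _).obj I)))
        ((resDAdj j).unit.app (DerivedCategory.Qh.obj ((HomotopyCategory.quotient _ _).obj I))) d ∈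
          distTriang (DCoh.D X) := by
  let L := Scheme.Modules.restrictFunctor j
  let E := DerivedCategory.Qh.obj ((HomotopyCategory.quotient _ _).obj I)
  have hses := supportSES_shortExact j I hI
  have hT := DerivedCategory.triangleOfSES_distinguished hses
  -- the first term
  have hortho := CochainComplex.IsKInjective.rightOrthogonal I
  let u := ((CxOX.gammaZKh j).totalRightDerivedUnit DerivedCategory.Qh
        (HomotopyCategory.quasiIso X.Modules (ComplexShape.up ℤ))).app ((HomotopyCategory.quotient _ _).obj I)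
  have hu : IsIso u := isIso_rgammaZ_unit j hortho
  -- the third term
  let R := ((Scheme.Modules.restrictFunctor j).mapHomologicalComplex (ComplexShape.up ℤ)).obj I
  let P : DCoh.D X := DerivedCategory.Q.obj (supportSES j I).X₃
  have hR : (HomotopyCategory.subcategoryAcyclic U.Modules).rightOrthogonal
      ((L.mapHomotopyCategory (ComplexShape.up ℤ)).obj ((HomotopyCategory.quotient _ _).obj I)) :=
    KInj.rightOrthogonal_map (CxOX.extZeroAdj j) hortho
  let r := (DCoh.pushKh j).map ((KInj.resAdj U.Modules).unit.app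
      ((L.mapHomotopyCategory (ComplexShape.up ℤ)).obj ((HomotopyCategory.quotient _ _).obj I)))
  have hr : IsIso r := @Functor.map_isIso _ _ _ _ _ _ (DCoh.pushKh j) _ (KInj.isIso_unit_of_rightOrthogonal hR)
  let eP : P ≅ (RR j).obj (DerivedCategory.Qh.obj
      ((L.mapHomotopyCategory (ComplexShape.up ℤ)).obj ((HomotopyCategory.quotient _ _).obj I))) :=
    @asIso _ _ _ _ r hr
  let T := DerivedCategory.triangleOfSES hses
  have h₁ : IsZero ((resD j).obj (DerivedCategory.Q.obj (supportSES j I).X₁)) := by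
    refine IsZero.of_iso ?_ ((resDFac j).app (supportSES j I).X₁)
    refine DerivedCategory.Q.map_isZero ?_
    rw [IsZero.iff_id_eq_zero]
    apply HomologicalComplex.hom_ext
    intro n
    exact (isZero_restrict_gammaZ j (I.X n)).eq_of_src _ _
  have hg : IsIso ((resD j).map (DerivedCategory.Q.map (supportSES j I).g)) :=
    (Triangle.isZero₁_iff_isIso₂ _ ((resD j).map_distinguished _ hT)).1 h₁
  have hP : IsIso ((resDAdj j).unit.app P) := by
    have := isIso_resDAdj_unit_RR j (DerivedCategory.Qh.obj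
      ((L.mapHomotopyCategory (ComplexShape.up ℤ)).obj ((HomotopyCategory.quotient _ _).obj I)))
    exact (NatTrans.isIso_app_iff_of_iso (resDAdj j).unit eP).2 this
  have hn : DerivedCategory.Q.map (supportSES j I).g ≫ (resDAdj j).unit.app P =
      (resDAdj j).unit.app _ ≫ (RR j).map ((resD j).map (DerivedCategory.Q.map (supportSES j I).g)) :=
    (resDAdj j).unit.naturality _
  let e₃ : P ≅ (RR j).obj ((resD j).obj E) :=
    asIso ((resDAdj j).unit.app P) ≪≫ (RR j).mapIso (@asIso _ _ _ _ _ hg).symm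
  let e₁ : T.obj₁ ≅ (CxOX.RgammaZ j).obj E := @asIso _ _ _ _ u hu
  have c₁ : u ≫ (CxOX.RgammaZToId j).app E = DerivedCategory.Q.map (supportSES j I).f := by
    refine (rgammaZToId_fac j _).trans ?_
    change (𝟙 _ ≫ _) = _
    simp [CxOX.gammaZKhι, supportSES, Functor.mapHomotopyCategoryFactors]
    erw [CategoryTheory.Functor.map_id, Category.id_comp, Category.comp_id]
  have c₂ : DerivedCategory.Q.map (supportSES j I).g ≫ e₃.hom = (resDAdj j).unit.app E := by
    refine (Category.assoc _ _ _).symm.trans ?_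
    refine (congrArg (· ≫ (RR j).map (@asIso _ _ _ _ _ hg).inv) hn).trans ?_
    refine (Category.assoc _ _ _).trans ?_
    refine (congrArg ((resDAdj j).unit.app _ ≫ ·) (((RR j).map_comp _ _).symm.trans ?_)).trans
      (Category.comp_id _)
    exact (congrArg (RR j).map (@asIso _ _ _ _ _ hg).hom_inv_id).trans ((RR j).map_id _)
  refine ⟨e₃.inv ≫ T.mor₃ ≫ e₁.hom⟦(1 : ℤ)⟧', isomorphic_distinguished _ hT _ ?_⟩
  refine (Triangle.isoMk T (Triangle.mk ((CxOX.RgammaZToId j).app E) ((resDAdj j).unit.app E)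
    (e₃.inv ≫ T.mor₃ ≫ e₁.hom⟦(1 : ℤ)⟧')) e₁ (Iso.refl _) e₃
    (c₁.symm) (c₂.trans (Category.id_comp _).symm)
    ?_).symm
  exact ((e₃.hom_inv_id_assoc _)).symm

/-- **The triangle of sections with support.** -/
theorem exists_rgammaZ_triangle (E : DCoh.D X) :
    ∃ (d : (RR j).obj ((resD j).obj E) ⟶ _),
      Triangle.mk ((CxOX.RgammaZToId j).app E) ((resDAdj j).unit.app E) d ∈ distTriang (DCoh.D X) := by
  obtain ⟨C, ⟨e⟩⟩ : ∃ C : CochainComplex X.Modules ℤ, Nonempty (DerivedCategory.Q.obj C ≅ E) :=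
    ⟨_, ⟨DerivedCategory.Q.objObjPreimageIso E⟩⟩
  obtain ⟨I, i, hi, hK, hI⟩ := KInj.exists_kInjective_resolution (A := X.Modules) C
  let e' : DerivedCategory.Qh.obj ((HomotopyCategory.quotient _ _).obj I) ≅ E :=
    (DerivedCategory.quotientCompQhIso X.Modules).app I ≪≫ (asIso (DerivedCategory.Q.map i)).symm ≪≫ e
  obtain ⟨d, hd⟩ := exists_triangle_Q j I hI
  refine ⟨(RR j).map ((resD j).map e'.inv) ≫ d ≫ ((CxOX.RgammaZ j).map e'.hom)⟦(1 : ℤ)⟧',
    isomorphic_distinguished _ hd _ (Triangle.isoMk _ _ ((CxOX.RgammaZ j).mapIso e') e'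
      ((resD j ⋙ RR j).mapIso e') ?_ ?_ ?_).symm⟩
  · exact ((CxOX.RgammaZToId j).naturality e'.hom).symm
  · exact ((resDAdj j).unit.naturality e'.hom).symm
  · change d ≫ _ = (resD j ⋙ RR j).map e'.hom ≫ (resD j ⋙ RR j).map e'.inv ≫ d ≫ _
    rw [← Functor.map_comp_assoc, Iso.hom_inv_id, CategoryTheory.Functor.map_id]
    exact (Category.id_comp _).symm

theorem isZero_resD_RgammaZ (E : DCoh.D X) : IsZero ((resD j).obj ((CxOX.RgammaZ j).obj E)) := by
  obtain ⟨d, hd⟩ := exists_rgammaZ_triangle j E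
  exact (Triangle.isZero₁_iff_isIso₂ _ ((resD j).map_distinguished _ hd)).2 (isIso_resD_unit j E)

theorem isSuppD_RgammaZ (E : DCoh.D X) : CxOX.IsSuppD j ((CxOX.RgammaZ j).obj E) :=
  (isZero_resD_iff_support j _).1 (isZero_resD_RgammaZ j E)

theorem isZero_RgammaZ_iff (E : DCoh.D X) :
    IsZero ((CxOX.RgammaZ j).obj E) ↔ IsIso ((resDAdj j).unit.app E) := by
  obtain ⟨d, hd⟩ := exists_rgammaZ_triangle j E
  exact Triangle.isZero₁_iff_isIso₂ _ hd

theorem isZero_RgammaZ_RR (F : DCoh.D U) : IsZero ((CxOX.RgammaZ j).obj ((RR j).obj F)) :=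
  (isZero_RgammaZ_iff j _).2 (isIso_resDAdj_unit_RR j F)

theorem isQCohD_RgammaZ [QuasiCompact j] {E : DCoh.D X} (hE : DCoh.IsQCohD E) :
    DCoh.IsQCohD ((CxOX.RgammaZ j).obj E) := by
  obtain ⟨d, hd⟩ := exists_rgammaZ_triangle j E
  exact isQCohD_obj₃ (inv_rot_of_distTriang _ (inv_rot_of_distTriang _ hd))
    (isQCohD_shift hE (-1)) (isQCohD_shift (isQCohD_Rres j _ (isQCohD_resD j hE)) (-1))

omit [CxOX.HasRgammaZ j] in
/-- Nothing maps from an object vanishing on `U` to a shifted direct image from `U`. -/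
theorem eq_zero_of_comp_local {A B : DCoh.D X} (hA : IsZero ((resD j).obj A))
    [IsIso ((resDAdj j).unit.app B)] (φ : A ⟶ B) : φ = 0 := by
  refine (cancel_mono ((resDAdj j).unit.app B)).1 (Eq.trans ?_ zero_comp.symm)
  have h : φ ≫ (resDAdj j).unit.app B = (resDAdj j).unit.app A ≫ (RR j).map ((resD j).map φ) :=
    (resDAdj j).unit.naturality φ
  exact h.trans (by rw [hA.eq_of_src ((resD j).map φ) 0, Functor.map_zero, comp_zero])

omit [CxOX.HasRgammaZ j] in
/-- Uniqueness of lifts through a map whose cone is a direct image from `U`. -/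
theorem eq_zero_of_comp_eq_zero {A B C Q : DCoh.D X} {a : B ⟶ C} {b : C ⟶ Q} {d : Q ⟶ B⟦(1 : ℤ)⟧}
    (hT : Triangle.mk a b d ∈ distTriang (DCoh.D X)) (hQ : IsIso ((resDAdj j).unit.app Q))
    (hA : IsZero ((resD j).obj A)) {x : A ⟶ B} (h : x ≫ a = 0) : x = 0 := by
  have h1 : x⟦(1 : ℤ)⟧' ≫ a⟦(1 : ℤ)⟧' = 0 := by rw [← Functor.map_comp, h, Functor.map_zero]
  have hA' : IsZero ((resD j).obj (A⟦(1 : ℤ)⟧)) :=
    ((shiftFunctor _ (1 : ℤ)).map_isZero hA).of_iso (((resD j).commShiftIso (1 : ℤ)).app A)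
  obtain ⟨y, hy⟩ : ∃ y : A⟦(1 : ℤ)⟧ ⟶ Q, x⟦(1 : ℤ)⟧' = y ≫ d :=
    Triangle.coyoneda_exact₁ _ hT (x⟦(1 : ℤ)⟧') h1
  have := hQ
  rw [eq_zero_of_comp_local j hA' y, zero_comp] at hy
  exact (shiftFunctor _ (1 : ℤ)).map_injective (hy.trans (Functor.map_zero _ _ _).symm)

theorem eq_of_comp_RgammaZToId {A E : DCoh.D X} (hA : IsZero ((resD j).obj A))
    {x y : A ⟶ (CxOX.RgammaZ j).obj E}
    (h : x ≫ (CxOX.RgammaZToId j).app E = y ≫ (CxOX.RgammaZToId j).app E) : x = y := by
  obtain ⟨d, hd⟩ := exists_rgammaZ_triangle j E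
  exact sub_eq_zero.1 (eq_zero_of_comp_eq_zero j hd (isIso_resDAdj_unit_RR j _) hA
    (by rw [Preadditive.sub_comp, h, sub_self]))

theorem exists_lift_RgammaZ {A E : DCoh.D X} (hA : IsZero ((resD j).obj A)) (φ : A ⟶ E) :
    ∃ α : A ⟶ (CxOX.RgammaZ j).obj E, α ≫ (CxOX.RgammaZToId j).app E = φ := by
  obtain ⟨d, hd⟩ := exists_rgammaZ_triangle j E
  have : IsIso ((resDAdj j).unit.app ((resD j ⋙ RR j).obj E)) := isIso_resDAdj_unit_RR j ((resD j).obj E)
  obtain ⟨α, hα⟩ := Triangle.coyoneda_exact₂ _ hd φ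
    (eq_zero_of_comp_local j hA (φ ≫ (resDAdj j).unit.app E))
  exact ⟨α, hα.symm⟩

/-- **The universal property of `RΓ_Z`.** -/
theorem exists_lift_isIso_RgammaZ {A E C : DCoh.D X} {φ : A ⟶ E} {q : E ⟶ C} {d : C ⟶ A⟦(1 : ℤ)⟧}
    (hT : Triangle.mk φ q d ∈ distTriang (DCoh.D X)) (hA : IsZero ((resD j).obj A))
    (hC : IsIso ((resDAdj j).unit.app C)) :
    (∃ α : A ⟶ (CxOX.RgammaZ j).obj E, α ≫ (CxOX.RgammaZToId j).app E = φ) ∧
      ∀ α : A ⟶ (CxOX.RgammaZ j).obj E, α ≫ (CxOX.RgammaZToId j).app E = φ → IsIso α := by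
  refine ⟨exists_lift_RgammaZ j hA φ, fun α hα => ?_⟩
  have := hC
  obtain ⟨β, hβ⟩ : ∃ β, (CxOX.RgammaZToId j).app E = β ≫ φ := Triangle.coyoneda_exact₂ _ hT _
    (eq_zero_of_comp_local j (isZero_resD_RgammaZ j E) ((CxOX.RgammaZToId j).app E ≫ q))
  refine ⟨β, sub_eq_zero.1 (eq_zero_of_comp_eq_zero j hT hC hA ?_),
    eq_of_comp_RgammaZToId j (isZero_resD_RgammaZ j E) ?_⟩
  · rw [Preadditive.sub_comp, Category.assoc, ← hβ, hα, Category.id_comp, sub_self]
  · rw [Category.assoc, hα, ← hβ, Category.id_comp]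

omit [CxOX.HasRgammaZ j] in
/-- Being a direct image from `U` passes to cones. -/
theorem isIso_unit_obj₃ {A B C : DCoh.D X} {f : A ⟶ B} {g : B ⟶ C} {d : C ⟶ A⟦(1 : ℤ)⟧}
    (hT : Triangle.mk f g d ∈ distTriang (DCoh.D X)) (hA : IsIso ((resDAdj j).unit.app A))
    (hB : IsIso ((resDAdj j).unit.app B)) : IsIso ((resDAdj j).unit.app C) := by
  have : CxOX.HasRgammaZ j := KInj.hasRightDerivedFunctor _
  rw [← isZero_RgammaZ_iff] at hA hB ⊢
  have := hA
  obtain ⟨d', hd⟩ := exists_rgammaZ_triangle j C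
  refine (IsZero.iff_id_eq_zero _).2 (eq_of_comp_RgammaZToId j (isZero_resD_RgammaZ j C) ?_)
  rw [Category.id_comp, zero_comp]
  set t := (CxOX.RgammaZToId j).app C
  have h1 : ∀ {W : DCoh.D X}, IsIso ((resDAdj j).unit.app W) → ∀ y : ((CxOX.RgammaZ j).obj C) ⟶ W, y = 0 :=
    fun hW y => @eq_zero_of_comp_local _ _ j _ _ _ (isZero_resD_RgammaZ j C) hW y
  have hA' := (isZero_RgammaZ_iff j A).1 hA
  have hB' := (isZero_RgammaZ_iff j B).1 hB
  have h2 : t ≫ d = 0 := by
    obtain ⟨x, hx⟩ := (shiftFunctor (DCoh.D X) (1 : ℤ)).map_surjective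
      ((shiftEquiv (DCoh.D X) (1 : ℤ)).counitIso.hom.app ((CxOX.RgammaZ j).obj C) ≫ t ≫ d)
    have hz : IsZero ((resD j).obj ((((CxOX.RgammaZ j).obj C))⟦(-1 : ℤ)⟧)) :=
      ((shiftFunctor _ (-1 : ℤ)).map_isZero (isZero_resD_RgammaZ j C)).of_iso
        (((resD j).commShiftIso (-1 : ℤ)).app _)
    have h3 := @eq_zero_of_comp_local _ _ j _ _ _ hz hA' x
    rw [h3] at hx
    exact (cancel_epi ((shiftEquiv (DCoh.D X) (1 : ℤ)).counitIso.hom.app _)).1
      (hx.symm.trans ((Functor.map_zero _ _ _).trans comp_zero.symm))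
  obtain ⟨y, hy⟩ : ∃ y, t = y ≫ g := Triangle.coyoneda_exact₃ _ hT t h2
  rw [hy, h1 hB' y, zero_comp]

/-- **`RΓ_Z` commutes with direct sums on `D_qc`.** -/
theorem isIso_RgammaZ_coprod [QuasiCompact j] {ι : Type u} (E : ι → DCoh.D X)
    (hE : ∀ i, DCoh.IsQCohD (E i)) :
    IsIso (Sigma.desc (fun i => (CxOX.RgammaZ j).map (Sigma.ι E i))) := by
  classical
  let t := fun i => (CxOX.RgammaZToId j).app (E i)
  choose d hd using fun i => exists_rgammaZ_triangle j (E i)
  let T := fun i => Triangle.mk (t i) ((resDAdj j).unit.app (E i)) (d i)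
  have hT := TriCat.sigmaTriangle_distinguished T hd
  have := (resDAdj j).leftAdjoint_preservesColimits
  have h₁ : IsZero ((resD j).obj (∐ fun i => (CxOX.RgammaZ j).obj (E i))) := by
    refine IsZero.of_iso ?_ (PreservesCoproduct.iso (resD j) (fun i => (CxOX.RgammaZ j).obj (E i)))
    exact (IsZero.iff_id_eq_zero _).2 (Sigma.hom_ext _ _ fun i => (isZero_resD_RgammaZ j (E i)).eq_of_src _ _)
  have h₃ : IsIso ((resDAdj j).unit.app (∐ fun i => (RR j).obj ((resD j).obj (E i)))) := by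
    have hs := isIso_Rres_coprod j (fun i => (resD j).obj (E i)) fun i => isQCohD_resD j (hE i)
    exact (NatTrans.isIso_app_iff_of_iso (resDAdj j).unit (@asIso _ _ _ _ _ hs)).2 (isIso_resDAdj_unit_RR j _)
  refine (exists_lift_isIso_RgammaZ j hT h₁ h₃).2 _ (Sigma.hom_ext _ _ fun i => ?_)
  refine (Category.assoc _ _ _).symm.trans ((congrArg (· ≫ _) (Sigma.ι_desc _ i)).trans ?_)
  refine ((CxOX.RgammaZToId j).naturality (Sigma.ι E i)).trans ?_
  exact (Sigma.ι_map (fun i => t i) i).symm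

end GrothLib.OX
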