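import Groth.Agent.Lib.OX.RRLocal
import Groth.Agent.Lib.OX.RgammaZ

/-! # `Rg_* Rf_* = R(g f)_*` -/

set_option autoImplicit false
set_option maxHeartbeats 1000000
universe u

open CategoryTheory CategoryTheory.Limits AlgebraicGeometry Opposite TopologicalSpace Pretriangulated

attribute [local instance] HasDerivedCategory.standard

namespace GrothLib.OX

variable {X Y S : Scheme.{u}}

theorem isIso_pushKh_map_unit (f : X ⟶ Y) (g : Y ⟶ S) (E : DCoh.D X) :
    IsIso ((DCoh.pushKh g).map ((KInj.resAdj Y.Modules).unit.app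
      ((SiteDer.pushK (rmor f)).obj ((KInj.res X.Modules).obj E)))) := by
  let K := (SiteDer.pushK (rmor f)).obj ((KInj.res X.Modules).obj E)
  let η := (KInj.resAdj (ModSite.Mod Y.sheaf)).unit.app K
  have := SiteDer.isIso_Qh_map_unit (A := ModSite.Mod Y.sheaf) K
  refine (SiteDer.isLocGen_freeMod (ModSite.ringSh S.sheaf)).isIso_Qh_map ((SiteDer.pushK (rmor g)).map η) fun W k => ?_
  have hb : Function.Bijective (fun φ : SiteDer.genK Y.sheaf ((rmor g).fn.obj W) k ⟶ K => φ ≫ η) :=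
    SiteDer.bijective_comp_of_Qh _ (SiteDer.bijective_Qh_pushK (rmor f) (KInj.rightOrthogonal_res E) _ k)
      (SiteDer.bijective_Qh_res _ _)
  let e : ∀ Z, (SiteDer.genK S.sheaf W k ⟶ (SiteDer.pushK (rmor g)).obj Z) ≃
      (SiteDer.genK Y.sheaf ((rmor g).fn.obj W) k ⟶ Z) := fun Z =>
    ((KInj.mapHomotopyAdj (rmor g).adj).homEquiv _ Z).symm.trans (SiteDer.pullGenIso (rmor g) W k).homFromEquiv
  have he : ∀ φ, e _ (φ ≫ (SiteDer.pushK (rmor g)).map η) = e K φ ≫ η := fun φ => by
    change (SiteDer.pullGenIso (rmor g) W k).inv ≫ ((KInj.mapHomotopyAdj (rmor g).adj).homEquiv _ _).symm _ =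
      ((SiteDer.pullGenIso (rmor g) W k).inv ≫ ((KInj.mapHomotopyAdj (rmor g).adj).homEquiv _ _).symm _) ≫ η
    rw [Adjunction.homEquiv_naturality_right_symm, Category.assoc]
  refine (Function.Bijective.of_comp_iff' (e _).bijective _).1 ?_
  rw [show ⇑(e _) ∘ (fun φ => φ ≫ (SiteDer.pushK (rmor g)).map η) = (fun φ => φ ≫ η) ∘ ⇑(e K) from funext he]
  exact hb.comp (e K).bijective

/-- `Rg_* Rf_* = R(g f)_*`. -/
noncomputable def RRCompIso (f : X ⟶ Y) (g : Y ⟶ S) : RR f ⋙ RR g ≅ RR (f ≫ g) :=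
  derCompIso (A := X.Modules) (B := Y.Modules) (C := S.Modules) (F := Scheme.Modules.pushforward f)
    (G := Scheme.Modules.pushforward g) (H := Scheme.Modules.pushforward (f ≫ g))
    (Scheme.Modules.pushforwardComp f g) (isIso_pushKh_map_unit f g)

/-- Equal morphisms have the same derived direct image. -/
noncomputable def RRCongr {f g : X ⟶ Y} (h : f = g) : RR f ≅ RR g := eqToIso (by rw [h])

/-- A direct image factoring through `V` is local with respect to `V`. -/
theorem isIso_unit_RR_of_factor {V : Scheme.{u}} (i : V ⟶ S) [IsOpenImmersion i] {g : X ⟶ S} (g' : X ⟶ V)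
    (h : g' ≫ i = g) (F : DCoh.D X) : IsIso ((resDAdj i).unit.app ((RR g).obj F)) :=
  have : CxOX.HasRgammaZ i := KInj.hasRightDerivedFunctor _
  (NatTrans.isIso_app_iff_of_iso (resDAdj i).unit ((RRCompIso g' i ≪≫ RRCongr h).app F)).1
    (isIso_resDAdj_unit_RR i _)

/-- Units of two adjunctions with the same left adjoint are simultaneously invertible. -/
theorem isIso_unit_app_congr {C D : Type*} [Category C] [Category D] {L : C ⥤ D} {R R' : D ⥤ C}
    (adj : L ⊣ R) (adj' : L ⊣ R') (G : C) (h : IsIso (adj.unit.app G)) : IsIso (adj'.unit.app G) := by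
  rw [← Adjunction.unit_rightAdjointUniq_hom_app adj adj' G]
  infer_instance

/-- The derived direct image from an open commutes with restriction: vanishing. -/
theorem isZero_resD_RR' (f : X ⟶ S) {V : S.Opens} {F : DCoh.D X}
    (h : IsZero ((resD (f ⁻¹ᵁ V).ι).obj F)) : IsZero ((resD V.ι).obj ((RR f).obj F)) :=
  ((RR (f ∣_ V)).map_isZero h).of_iso ((resDRRBaseChange f V).app F)

theorem exists_rgammaZ_triangle_RR (f : X ⟶ S) {V : Scheme.{u}} (j : V ⟶ X) [IsOpenImmersion j]
    [CxOX.HasRgammaZ j] (K : DCoh.D X) :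
    ∃ (d : (RR f).obj ((RR j).obj ((resD j).obj K)) ⟶ ((RR f).obj ((CxOX.RgammaZ j).obj K))⟦(1 : ℤ)⟧),
      Triangle.mk ((RR f).map ((CxOX.RgammaZToId j).app K)) ((RR f).map ((resDAdj j).unit.app K)) d ∈
        distTriang (DCoh.D S) := by
  obtain ⟨d, hd⟩ := exists_rgammaZ_triangle j K
  exact ⟨_, (KInj.res X.Modules ⋙ DCoh.pushKh f).map_distinguished _ hd⟩

end GrothLib.OX

namespace GrothLib.OX

variable {X Y : Scheme.{u}}

/-- Vanishing on an open from vanishing on a cover of it. -/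
theorem isZero_resD_of_cover₂ {V U W : Scheme.{u}} (v : V ⟶ X) (a : U ⟶ X) (b : W ⟶ X) [IsOpenImmersion v]
    [IsOpenImmersion a] [IsOpenImmersion b] (h : Set.range v ⊆ Set.range a ∪ Set.range b) {K : DCoh.D X}
    (ha : IsZero ((resD a).obj K)) (hb : IsZero ((resD b).obj K)) : IsZero ((resD v).obj K) :=
  (isZero_resD_iff_support v K).2 fun q x hx hv => (h hv).elim
    (fun h' => (isZero_resD_iff_support a K).1 ha q hx h') fun h' => (isZero_resD_iff_support b K).1 hb q hx h'

/-- A local object vanishing on the open is zero. -/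
theorem isZero_of_isIso_unit {U : Scheme.{u}} (j : U ⟶ X) [IsOpenImmersion j] {K : DCoh.D X}
    (h : IsIso ((resDAdj j).unit.app K)) (h0 : IsZero ((resD j).obj K)) : IsZero K :=
  ((RR j).map_isZero h0).of_iso (@asIso _ _ _ _ _ h)

/-- The cone of the unit at an object supported on a closed set coming from `X`. -/
theorem isZero_resD_unit_cone {U : Scheme.{u}} (j : U ⟶ X) [IsOpenImmersion j] (V : X.Opens) {G K : DCoh.D X}
    {q : (RR j).obj ((resD j).obj G) ⟶ K} {d : K ⟶ G⟦(1 : ℤ)⟧}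
    (hT : Pretriangulated.Triangle.mk ((resDAdj j).unit.app G) q d ∈ distTriang (DCoh.D X))
    (hG : IsZero ((resD V.ι).obj G)) : IsZero ((resD V.ι).obj K) ∧ IsZero ((resD j).obj K) := by
  refine ⟨?_, (Triangle.isZero₃_iff_isIso₁ _ ((resD j).map_distinguished _ hT)).2 (isIso_resD_unit j G)⟩
  have h2 : IsZero ((resD V.ι).obj ((RR j).obj ((resD j).obj G))) := isZero_resD_RR' j
    ((isZero_resD_comp (j ⁻¹ᵁ V).ι j).2 (isZero_resD_of_le _ V.ι (by
      rw [Scheme.Opens.range_ι]
      rintro _ ⟨z, rfl⟩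
      exact z.2) hG))
  exact (Triangle.isZero₃_iff_isIso₁ _ ((resD V.ι).map_distinguished _ hT)).2
    ⟨0, hG.eq_of_src _ _, h2.eq_of_src _ _⟩

end GrothLib.OX
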