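import Groth.Agent.Lib.OX.HomCx
import Mathlib.Algebra.Homology.DerivedCategory.ShortExact

/-! # `RHom` and degreewise split short exact sequences in the first variable -/

set_option autoImplicit false
set_option maxHeartbeats 1000000
universe u

open CategoryTheory CategoryTheory.Limits CategoryTheory.Pretriangulated AlgebraicGeometry HomologicalComplex

attribute [local instance] HasDerivedCategory.standard

namespace GrothLib.OX

variable {X : Scheme.{u}}

theorem nonempty_ltensorCx_congr {E E' : CochainComplex X.Modules ℤ} (φ : E ⟶ E') [QuasiIso φ]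
    [DCoh.HasLTensorCx E] [DCoh.HasLTensorCx E'] : Nonempty (DCoh.LTensorCx E ≅ DCoh.LTensorCx E') := by
  let W := HomologicalComplex.quasiIso X.Modules (ComplexShape.up ℤ)
  let τ : DCoh.tensorCxQ E ⟶ DCoh.tensorCxQ E' :=
    Functor.whiskerRight ((DCoh.tensorCx (X := X)).flip.map φ) DerivedCategory.Q
  let α := (DCoh.tensorCxQ E).totalLeftDerivedCounit DerivedCategory.Q W
  let α' := (DCoh.tensorCxQ E').totalLeftDerivedCounit DerivedCategory.Q W
  let β := Functor.leftDerivedNatTrans (DCoh.LTensorCx E) (DCoh.LTensorCx E') α α' W τ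
  have hβ : ∀ Z, IsIso (β.app Z) := fun Z => by
    obtain ⟨P, hP, ⟨e⟩⟩ := exists_kflat_rep Z
    refine (NatTrans.isIso_app_iff_of_iso β e).1 ?_
    have h1 : β.app (DerivedCategory.Q.obj P) ≫ α'.app P = α.app P ≫ τ.app P :=
      Functor.leftDerivedNatTrans_app _ _ α α' W τ P
    have := (cxResolvable_tensor E).isIso_app_of_isLeftDerivedFunctor (DCoh.LTensorCx E) α hP
    have := (cxResolvable_tensor E').isIso_app_of_isLeftDerivedFunctor (DCoh.LTensorCx E') α' hP
    have : IsIso (τ.app P) :=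
      have := quasiIso_tensor_map_of_isKFlat φ P hP
      inferInstanceAs (IsIso (DerivedCategory.Q.map (((DCoh.tensorCx (X := X)).obj P).map φ)))
    exact @IsIso.of_isIso_fac_right _ _ _ _ _ _ _ _ (by assumption) (inferInstanceAs (IsIso (α.app P ≫ τ.app P))) h1
  have := NatIso.isIso_of_isIso_app β
  exact ⟨asIso β⟩

/-- The derived tensor product only depends on the class in the derived category. -/
theorem nonempty_ltensorCx_congr_of_iso {E E' : CochainComplex X.Modules ℤ}
    (i : DerivedCategory.Q.obj E ≅ DerivedCategory.Q.obj E') [DCoh.HasLTensorCx E] [DCoh.HasLTensorCx E'] :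
    Nonempty (DCoh.LTensorCx E ≅ DCoh.LTensorCx E') := by
  obtain ⟨Z, s, hs, g, hg⟩ := DerivedCategory.right_fac i.hom
  have : QuasiIso s := (DerivedCategory.isIso_Q_map_iff_quasiIso _ s).1 hs
  have hg' : IsIso (DerivedCategory.Q.map g) :=
    @IsIso.of_isIso_fac_left _ _ _ _ _ _ _ _ (inferInstance : IsIso (inv (DerivedCategory.Q.map s)))
      (inferInstance : IsIso i.hom) hg.symm
  have : QuasiIso g := (DerivedCategory.isIso_Q_map_iff_quasiIso _ g).1 hg'
  have := hasLTensorCx Z
  obtain ⟨a⟩ := nonempty_ltensorCx_congr s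
  obtain ⟨b⟩ := nonempty_ltensorCx_congr g
  exact ⟨a.symm ≪≫ b⟩

/-- `- ⊗^L E` has a right adjoint. -/
theorem hasRSheafHom (E : CochainComplex X.Modules ℤ) [DCoh.HasLTensorCx E] : DCoh.HasRSheafHom E := by
  obtain ⟨P, q, hP, -, hq, -⟩ := exists_kflat_resolution E
  have := hasLTensorCx P
  have := hasRSheafHom_of_isKFlat P hP
  obtain ⟨a⟩ := nonempty_ltensorCx_congr q
  exact ((Adjunction.ofIsLeftAdjoint (DCoh.LTensorCx P)).ofNatIsoLeft a).isLeftAdjoint

/-- `RHom` only depends on the class in the derived category. -/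
theorem nonempty_RSheafHom_congr {E E' : CochainComplex X.Modules ℤ}
    (i : DerivedCategory.Q.obj E ≅ DerivedCategory.Q.obj E') [DCoh.HasLTensorCx E] [DCoh.HasRSheafHom E]
    [DCoh.HasLTensorCx E'] [DCoh.HasRSheafHom E'] : Nonempty (DCoh.RSheafHom E ≅ DCoh.RSheafHom E') := by
  obtain ⟨a⟩ := nonempty_ltensorCx_congr_of_iso i
  exact ⟨((DCoh.RSheafHomAdj E).ofNatIsoLeft a).rightAdjointUniq (DCoh.RSheafHomAdj E')⟩

/-- `RHom(E, I) = Hom(E, I)` for K-flat `E` and K-injective `I`. -/
theorem nonempty_RSheafHom_value (E : CochainComplex X.Modules ℤ) [DCoh.HasLTensorCx E] [DCoh.HasRSheafHom E]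
    (hE : DCoh.IsKFlat E) (I : CochainComplex X.Modules ℤ) [I.IsKInjective] :
    Nonempty ((DCoh.RSheafHom E).obj (DerivedCategory.Q.obj I) ≅ DerivedCategory.Q.obj ((homCx E).obj I)) := by
  obtain ⟨r⟩ := nonempty_representableBy_ltensor E hE I
  exact ⟨((DCoh.RSheafHomAdj E).representableBy _).uniqueUpToIso r⟩

/-- `A ⊗ -` is additive on maps. -/
theorem flip_map_app {E E' : CochainComplex X.Modules ℤ} (f : E ⟶ E') (A : CochainComplex X.Modules ℤ) :
    ((DCoh.tensorCx (X := X)).flip.map f).app A = ((DCoh.tensorCx (X := X)).obj A).map f := rfl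

/-- The map `Hom(E', I) ⟶ Hom(E, I)` induced by `E ⟶ E'`. -/
noncomputable def homMap {E E' : CochainComplex X.Modules ℤ} (f : E ⟶ E') (I : CochainComplex X.Modules ℤ) :
    (homCx E').obj I ⟶ (homCx E).obj I :=
  (homCxAdj E).homEquiv _ I (((DCoh.tensorCx (X := X)).flip.map f).app ((homCx E').obj I) ≫ (homCxAdj E').counit.app I)

theorem homEquiv_homMap {E E' : CochainComplex X.Modules ℤ} (f : E ⟶ E') {I A : CochainComplex X.Modules ℤ}
    (a : A ⟶ (homCx E').obj I) :
    ((homCxAdj E).homEquiv A I).symm (a ≫ homMap f I) =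
      ((DCoh.tensorCx (X := X)).flip.map f).app A ≫ ((homCxAdj E').homEquiv A I).symm a := by
  rw [Adjunction.homEquiv_naturality_left_symm, homMap, Equiv.symm_apply_apply, Adjunction.homEquiv_counit]
  refine ((Category.assoc _ _ _).symm.trans (congrArg (· ≫ _) ?_)).trans (Category.assoc _ _ _)
  exact ((DCoh.tensorCx (X := X)).flip.map f).naturality a

variable (S : ShortComplex (CochainComplex X.Modules ℤ))

theorem homEquiv_symm_zero (E A I : CochainComplex X.Modules ℤ) :
    ((homCxAdj E).homEquiv A I).symm 0 = 0 := by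
  rw [Adjunction.homEquiv_counit, tensR_map_zero, zero_comp]

theorem homMap_comp_zero (I : CochainComplex X.Modules ℤ) : homMap S.g I ≫ homMap S.f I = 0 := by
  apply ((homCxAdj S.X₁).homEquiv _ I).symm.injective
  rw [homEquiv_homMap, homEquiv_symm_zero]
  conv_lhs => rw [← Category.id_comp (homMap S.g I), homEquiv_homMap]
  have h : ((DCoh.tensorCx (X := X)).flip.map S.f).app ((homCx S.X₃).obj I) ≫
      ((DCoh.tensorCx (X := X)).flip.map S.g).app ((homCx S.X₃).obj I) = 0 := by
    rw [flip_map_app, flip_map_app]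
    exact (Functor.map_comp _ _ _).symm.trans ((congrArg _ S.zero).trans (Functor.map_zero _ _ _))
  exact ((Category.assoc _ _ _).symm.trans (congrArg (· ≫ _) h)).trans zero_comp

/-- The sequence `Hom(E₃, I) ⟶ Hom(E₂, I) ⟶ Hom(E₁, I)`. -/
noncomputable def homSeq (I : CochainComplex X.Modules ℤ) : ShortComplex (CochainComplex X.Modules ℤ) :=
  ShortComplex.mk (homMap S.g I) (homMap S.f I) (homMap_comp_zero S I)

variable {S} (σ : ∀ q, (S.map (HomologicalComplex.eval X.Modules (ComplexShape.up ℤ) q)).Splitting)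

include σ in
theorem homSeq_shortExact (I : CochainComplex X.Modules ℤ) : (homSeq S I).ShortExact := by
  have hT : ∀ A, (S.map ((DCoh.tensorCx (X := X)).obj A)).ShortExact := fun A => tensorCx_shortExact_of_splitting σ A
  have hepi : ∀ A, Epi (((DCoh.tensorCx (X := X)).flip.map S.g).app A) := fun A => (hT A).epi_g
  have hm : Mono (homMap S.g I) := ⟨fun {A} a b h => by
    apply ((homCxAdj S.X₃).homEquiv _ I).symm.injective
    have h' := congrArg ((homCxAdj S.X₂).homEquiv A I).symm h
    rw [homEquiv_homMap, homEquiv_homMap] at h'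
    exact (@cancel_epi _ _ _ _ _ _ (hepi A) _ _).1 h'⟩
  have : Mono (homSeq S I).f := hm
  refine { exact := ShortComplex.exact_of_f_is_kernel _ (KernelFork.IsLimit.ofι' _ _ fun {A} k hk => ?_), epi_g := ?_ }
  · let k' : A ⟶ (homCx S.X₂).obj I := k
    have hk' : k' ≫ homMap S.f I = 0 := hk
    have h' : ((DCoh.tensorCx (X := X)).flip.map S.f).app A ≫ ((homCxAdj S.X₂).homEquiv A I).symm k' = 0 := by
      rw [← homEquiv_homMap, hk', homEquiv_symm_zero]
    have hex : (S.map ((DCoh.tensorCx (X := X)).obj A)).Exact := (hT A).exact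
    have : Epi (S.map ((DCoh.tensorCx (X := X)).obj A)).g := (hT A).epi_g
    refine ⟨(homCxAdj S.X₃).homEquiv A I (hex.desc _ h'), ?_⟩
    apply ((homCxAdj S.X₂).homEquiv A I).symm.injective
    exact ((homEquiv_homMap S.g _).trans (congrArg (_ ≫ ·) (Equiv.symm_apply_apply _ _))).trans (hex.g_desc _ h')
  · let H := (homCx S.X₁).obj I
    let D := CochainComplex.mappingCone (𝟙 (H⟦(-1 : ℤ)⟧))
    let m : D ⟶ (H⟦(-1 : ℤ)⟧)⟦(1 : ℤ)⟧ := (coneShortComplex (𝟙 (H⟦(-1 : ℤ)⟧))).g
    have hmE : Epi m :=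
      have : ∀ n, Epi (m.f n) := fun n => (coneSplitting (𝟙 (H⟦(-1 : ℤ)⟧)) n).shortExact.epi_g
      HomologicalComplex.epi_of_epi_f _ this
    let c := (shiftFunctorCompIsoId (CochainComplex X.Modules ℤ) (-1 : ℤ) 1 (by omega)).app H
    let π : D ⟶ H := m ≫ c.hom
    have hπ : Epi π := epi_comp m c.hom
    let h₀ := CochainComplex.mappingCone.homotopyToZeroOfId (H⟦(-1 : ℤ)⟧)
    obtain ⟨hv⟩ := transpose_symm_null ((Homotopy.ofEq (Category.id_comp π).symm).trans
      (homotopyZeroOfContractible h₀ (𝟙 D) π))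
    choose r hr using fun n => mapBifunctor_retraction₂ (DCoh.tensorBi (X := X)) S.f (fun q => (σ q).r)
      (fun q => (σ q).f_r) D n
    obtain ⟨w, hw⟩ := exists_extension_of_null (((DCoh.tensorCx (X := X)).obj D).map S.f) r hr _ hv
    have hπ' : (homCxAdj S.X₂).homEquiv D I w ≫ homMap S.f I = π := by
      apply ((homCxAdj S.X₁).homEquiv _ I).symm.injective
      rw [homEquiv_homMap, Equiv.symm_apply_apply]
      exact hw
    exact @epi_of_epi_fac _ _ _ _ _ _ _ _ hπ hπ'

include σ in
theorem homTriangle_distinguished (I : CochainComplex X.Modules ℤ) :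
    DerivedCategory.triangleOfSES (homSeq_shortExact σ I) ∈ distTriang _ :=
  DerivedCategory.triangleOfSES_distinguished _

end GrothLib.OX
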