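import Groth.Agent.Lib.OX.PullbackKFlat
import Groth.Prelude.Def_DRing4
import Mathlib.AlgebraicGeometry.Modules.Tilde
import Mathlib.Algebra.Homology.Monoidal

/-! # The complex of sheaves of a K-flat complex of modules is K-flat -/

set_option autoImplicit false
set_option maxHeartbeats 400000
universe u

open CategoryTheory CategoryTheory.Limits MonoidalCategory AlgebraicGeometry Opposite HomologicalComplex

namespace GrothLib.OX

variable (R : CommRingCat.{u}) (x : (Spec R : Scheme.{u}))

/-- The map from the ring to a local ring of its spectrum. -/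
noncomputable def specToStalk : R →+* (Spec R).presheaf.stalk x :=
  ((Spec R).presheaf.germ ⊤ x trivial).hom.comp (Scheme.ΓSpecIso R).inv.hom

theorem sky_smul_top (N : ModuleCat.{u} ((Spec R).presheaf.stalk x)) (r : R)
    (m : (moduleSpecΓFunctor (R := R)).obj ((sky x).obj N)) :
    ((show SkySec x N (op ⊤) from (r • m : (moduleSpecΓFunctor (R := R)).obj ((sky x).obj N))) ⟨trivial⟩ : N) =
      specToStalk R x r • ((show SkySec x N (op ⊤) from m) ⟨trivial⟩ : N) := by
  refine (congrFun (Scheme.Modules.smul_Spec_def r m) ⟨trivial⟩).trans ?_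
  change (Spec R).presheaf.germ ⊤ x trivial ((Spec R).presheaf.map _ ((Scheme.ΓSpecIso R).inv r)) • ((show SkySec x N (op ⊤) from m) ⟨trivial⟩ : N) = _
  rw [TopCat.Presheaf.germ_res_apply]
  rfl

/-- Global sections of a skyscraper. -/
noncomputable def skyΓIso : sky x ⋙ moduleSpecΓFunctor (R := R) ≅ ModuleCat.restrictScalars (specToStalk R x) :=
  NatIso.ofComponents
    (fun N =>
      { hom := ConcreteCategory.ofHom
          { toFun := fun m => (m : SkySec x N (op ⊤)) ⟨trivial⟩
            map_add' := fun _ _ => rfl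
            map_smul' := fun r m => sky_smul_top R x N r m }
        inv := ConcreteCategory.ofHom
          { toFun := fun n => ((fun _ => n) : SkySec x N (op ⊤))
            map_add' := fun _ _ => rfl
            map_smul' := fun r n => funext fun h => (sky_smul_top R x N r (fun _ => n)).symm } })

/-- The stalk of an associated sheaf is the base change to the local ring. -/
noncomputable def tildeStalkIso : tilde.functor R ⋙ stalk x ≅ ModuleCat.extendScalars (specToStalk R x) :=
  Adjunction.leftAdjointUniq ((tilde.adjunction.comp (stalkSkyAdj x)).ofNatIsoRight (skyΓIso R x))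
    (ModuleCat.extendRestrictScalarsAdj (specToStalk R x))

/-- The stalk at `x`, as a module over the ring. -/
noncomputable abbrev stalkRes : (Spec R).Modules ⥤ ModuleCat.{u} R :=
  stalk x ⋙ ModuleCat.restrictScalars (specToStalk R x)

/-- The stalk of a tensor product with an associated sheaf. -/
noncomputable def tildeSrcIso (M : (Spec R).Modules) (N : ModuleCat.{u} R) :
    (stalk x).obj (((DCoh.tensorBi (X := Spec R)).obj M).obj ((tilde.functor R).obj N)) ≅
      (stalk x).obj M ⊗ (ModuleCat.extendScalars (specToStalk R x)).obj N :=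
  stalkTensorBiIso x M _ ≪≫ whiskerLeftIso _ ((tildeStalkIso R x).app N)

theorem tildeSrcIso_natural₁ {M M' : (Spec R).Modules} (a : M ⟶ M') (N : ModuleCat.{u} R) :
    (stalk x).map (((DCoh.tensorBi (X := Spec R)).map a).app ((tilde.functor R).obj N)) ≫ (tildeSrcIso R x M' N).hom =
      (tildeSrcIso R x M N).hom ≫ ((stalk x).map a ⊗ₘ (ModuleCat.extendScalars (specToStalk R x)).map (𝟙 N)) := by
  rw [CategoryTheory.Functor.map_id, tensorHom_id]
  exact (((Category.assoc _ _ _).symm.trans
    (congrArg (· ≫ _) (stalkTensorBiIso_natural₁ x a ((tilde.functor R).obj N)))).trans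
    ((Category.assoc _ _ _).trans (congrArg (_ ≫ ·) (whisker_exchange _ _).symm))).trans (Category.assoc _ _ _).symm

theorem tildeSrcIso_natural₂ (M : (Spec R).Modules) {N N' : ModuleCat.{u} R} (b : N ⟶ N') :
    (stalk x).map (((DCoh.tensorBi (X := Spec R)).obj M).map ((tilde.functor R).map b)) ≫ (tildeSrcIso R x M N').hom =
      (tildeSrcIso R x M N).hom ≫ (𝟙 ((stalk x).obj M) ⊗ₘ (ModuleCat.extendScalars (specToStalk R x)).map b) := by
  rw [id_tensorHom]
  exact (((Category.assoc _ _ _).symm.trans
    (congrArg (· ≫ _) (stalkTensorBiIso_natural₂ x M ((tilde.functor R).map b)))).trans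
    ((Category.assoc _ _ _).trans (congrArg (_ ≫ ·) (((MonoidalCategory.whiskerLeft_comp _ _ _).symm.trans
      (congrArg (_ ◁ ·) ((tildeStalkIso R x).hom.naturality b))).trans
        (MonoidalCategory.whiskerLeft_comp _ _ _))))).trans (Category.assoc _ _ _).symm

/-- The tensor products, before passing to stalks. -/
noncomputable abbrev tildeSrcBicx (L : CochainComplex (Spec R).Modules ℤ) (K : CochainComplex (ModuleCat.{u} R) ℤ) :=
  (((DCoh.tensorBi (X := Spec R)).mapBifunctorHomologicalComplex (ComplexShape.up ℤ) (ComplexShape.up ℤ)).obj L).obj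
    (((tilde.functor R).mapHomologicalComplex (ComplexShape.up ℤ)).obj K)

/-- The tensor products over the ring. -/
noncomputable abbrev tildeTgtBicx (L : CochainComplex (Spec R).Modules ℤ) (K : CochainComplex (ModuleCat.{u} R) ℤ) :=
  (((curriedTensor (ModuleCat.{u} R)).mapBifunctorHomologicalComplex (ComplexShape.up ℤ) (ComplexShape.up ℤ)).obj
    (((stalkRes R x).mapHomologicalComplex (ComplexShape.up ℤ)).obj L)).obj K

/-- The bicomplexes agree. -/
noncomputable def bicxTildeIso (L : CochainComplex (Spec R).Modules ℤ) (K : CochainComplex (ModuleCat.{u} R) ℤ) :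
    TotalMap.mapBicx (stalkAb x) (tildeSrcBicx R L K) ≅
      TotalMap.mapBicx (forget₂ (ModuleCat.{u} R) Ab.{u}) (tildeTgtBicx R x L K) :=
  HomologicalComplex.Hom.isoOfComponents
    (fun i => HomologicalComplex.Hom.isoOfComponents
      (fun j => (forget₂ _ Ab.{u}).mapIso (tildeSrcIso R x (L.X i) (K.X j)) ≪≫
        bcIso (specToStalk R x) ((stalk x).obj (L.X i)) (K.X j))
      (fun j j' _ => by
        have h1 := congrArg (forget₂ (ModuleCat.{u} ((Spec R).presheaf.stalk x)) Ab.{u}).map
          (tildeSrcIso_natural₂ R x (L.X i) (K.d j j'))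
        rw [Functor.map_comp, Functor.map_comp] at h1
        have h2 := bcIso_hom_natural (specToStalk R x) (𝟙 ((stalk x).obj (L.X i))) (K.d j j')
        rw [CategoryTheory.Functor.map_id, id_tensorHom] at h2
        exact ((Category.assoc _ _ _).trans ((congrArg (_ ≫ ·) h2.symm).trans
          ((Category.assoc _ _ _).symm.trans ((congrArg (· ≫ _) h1.symm).trans (Category.assoc _ _ _))))) ))
    (fun i i' _ => HomologicalComplex.hom_ext _ _ fun j => by
      have h1 := congrArg (forget₂ (ModuleCat.{u} ((Spec R).presheaf.stalk x)) Ab.{u}).map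
        (tildeSrcIso_natural₁ R x (L.d i i') (K.X j))
      rw [Functor.map_comp, Functor.map_comp] at h1
      have h2 := bcIso_hom_natural (specToStalk R x) ((stalk x).map (L.d i i')) (𝟙 (K.X j))
      rw [tensorHom_id] at h2
      exact (((Category.assoc _ _ _).trans ((congrArg (_ ≫ ·) h2.symm).trans
          ((Category.assoc _ _ _).symm.trans ((congrArg (· ≫ _) h1.symm).trans (Category.assoc _ _ _)))))) )

/-- The stalk of the total complex. -/
noncomputable def tildeTotalIso (L : CochainComplex (Spec R).Modules ℤ) (K : CochainComplex (ModuleCat.{u} R) ℤ) :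
    ((forget₂ (ModuleCat.{u} R) Ab.{u}).mapHomologicalComplex (ComplexShape.up ℤ)).obj
        ((tildeTgtBicx R x L K).total (ComplexShape.up ℤ)) ≅
      ((stalkAb x).mapHomologicalComplex (ComplexShape.up ℤ)).obj
        ((tildeSrcBicx R L K).total (ComplexShape.up ℤ)) :=
  have : ∀ J : Type, PreservesColimitsOfShape (Discrete J) (forget₂ (ModuleCat.{u} R) Ab.{u}) := fun J =>
    have h : PreservesColimitsOfSize.{u, u} (forget₂ (ModuleCat.{u} R) Ab.{u}) := inferInstance
    have : PreservesColimitsOfSize.{0, 0} (forget₂ (ModuleCat.{u} R) Ab.{u}) :=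
      @preservesSmallestColimits_of_preservesColimits _ _ _ _ _ h
    inferInstance
  (TotalMap.totalMapIso (forget₂ (ModuleCat.{u} R) Ab.{u}) (tildeTgtBicx R x L K)).symm ≪≫
    (HomologicalComplex₂.total.mapIso (bicxTildeIso R x L K) (ComplexShape.up ℤ)).symm ≪≫
      TotalMap.totalMapIso (stalkAb x) (tildeSrcBicx R L K)

theorem acyclic_forget {K : CochainComplex (ModuleCat.{u} R) ℤ} (h : K.Acyclic) :
    (((forget₂ (ModuleCat.{u} R) Ab.{u}).mapHomologicalComplex (ComplexShape.up ℤ)).obj K).Acyclic :=
  acyclic_map _ (fun S hS => (ShortComplex.exact_iff_exact_map_forget₂ S).1 hS) K h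

/-- The associated complex of sheaves of a K-flat complex is K-flat. -/
theorem isKFlat_tilde (K : CochainComplex (ModuleCat.{u} R) ℤ)
    (hK : ∀ L : CochainComplex (ModuleCat.{u} R) ℤ, L.Acyclic →
      (HomologicalComplex.mapBifunctor L K (curriedTensor (ModuleCat.{u} R)) (ComplexShape.up ℤ)).Acyclic) :
    DCoh.IsKFlat (((tilde.functor R).mapHomologicalComplex (ComplexShape.up ℤ)).obj K) := by
  refine (isKFlat_iff _).2 fun L hL => (acyclic_iff_stalkAb _).2 fun x => ?_
  have hL' : (((stalkRes R x).mapHomologicalComplex (ComplexShape.up ℤ)).obj L).Acyclic :=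
    acyclic_map (stalkRes R x) (fun _ hS => (hS.map (stalk x)).map (ModuleCat.restrictScalars _)) L hL
  rw [tensorCx_obj_obj_eq]
  exact DerCat.acyclic_of_iso (tildeTotalIso R x L K) (acyclic_forget R (hK _ hL'))

end GrothLib.OX
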