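import Groth.Agent.Lib.OX.QCohBelow
import Groth.Agent.Lib.OX.PCohQCoh
import Groth.Agent.Lib.OX.TildeKFlat
import Groth.Agent.Lib.OX.FlatRes
import Groth.Agent.Lib.OX.LocFreeTensor
import Mathlib.Algebra.Category.ModuleCat.Projective
import Mathlib.CategoryTheory.Abelian.Projective.Extend
import Mathlib.RingTheory.Flat.Basic

/-! # Derived pullback and quasi-coherence of the cohomology -/

set_option autoImplicit false
set_option maxHeartbeats 400000
universe u

open CategoryTheory CategoryTheory.Limits AlgebraicGeometry HomologicalComplex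

attribute [local instance] HasDerivedCategory.standard

namespace GrothLib.OX

variable {X Y : Scheme.{u}}

/-- The pullback of an associated sheaf is quasi-coherent. -/
theorem isQCoh_pullback_tilde {R : CommRingCat.{u}} (g : X ⟶ Spec R) (M : ModuleCat.{u} R) :
    Coh.IsQCoh ((Scheme.Modules.pullback g).obj ((tilde.functor R).obj M)) := by
  let F : SheafOfModules.{u} (Spec R).ringCatSheaf ⥤ SheafOfModules.{u} X.ringCatSheaf := Scheme.Modules.pullback g
  have h : PreservesColimitsOfSize.{u, u} F :=
    (Scheme.Modules.pullbackPushforwardAdjunction g).leftAdjoint_preservesColimits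
  have P : SheafOfModules.Presentation.{u} (F.obj ((tilde.functor R).obj M)) :=
    SheafOfModules.Presentation.map (R := (Spec R).ringCatSheaf) (S := X.ringCatSheaf) (M := (tilde.functor R).obj M)
      (presentationTilde M Set.univ (by simp) _ (Submodule.span_eq _)) F (pullUnitIso g).symm
  exact P.isQuasicoherent

theorem flat_tilde_of_projective {R : CommRingCat.{u}} (M : ModuleCat.{u} R) [Projective M] :
    FlatMod.IsFlat ((tilde.functor R).obj M) := by
  intro x
  have : Module.Projective R M := (IsProjective.iff_projective _).2 inferInstance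
  have : Module.Flat R M := Module.Flat.of_projective
  exact flat_of_modIso ((tildeStalkIso R x).app M).symm (flat_extendScalars _ _ this)

/-- A complex with one cohomology sheaf on an affine scheme has a resolution by associated sheaves. -/
theorem exists_tilde_rep {R : CommRingCat.{u}} {N : CochainComplex (Spec R).Modules ℤ}
    (hz : ∀ j, j ≠ 0 → IsZero (N.homology j)) (hq : Coh.IsQCoh (N.homology 0)) :
    ∃ C : CochainComplex (ModuleCat.{u} R) ℤ,
      DCoh.IsKFlat (((tilde.functor R).mapHomologicalComplex (ComplexShape.up ℤ)).obj C) ∧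
      Nonempty (DerivedCategory.Q.obj (((tilde.functor R).mapHomologicalComplex (ComplexShape.up ℤ)).obj C) ≅
        DerivedCategory.Q.obj N) := by
  have hLE : N.IsLE 0 := (CochainComplex.isLE_iff N 0).2 fun j hj =>
    (exactAt_iff_isZero_homology _ _).2 (hz j (by omega))
  have hGE : N.IsGE 0 := (CochainComplex.isGE_iff N 0).2 fun j hj =>
    (exactAt_iff_isZero_homology _ _).2 (hz j (by omega))
  have : QuasiIso (N.ιTruncLE 0) := (N.quasiIso_ιTruncLE_iff 0).2 hLE
  have : (N.truncLE 0).IsGE 0 := (HomologicalComplex.isSupported_iff_of_quasiIso (N.ιTruncLE 0) _).2 hGE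
  let N' := (N.truncLE 0).truncGE 0
  have : QuasiIso ((N.truncLE 0).πTruncGE 0) := ((N.truncLE 0).quasiIso_πTruncGE_iff 0).2 inferInstance
  obtain ⟨M, ⟨eM⟩⟩ := N'.exists_iso_single 0
  let w : N'.homology 0 ≅ N.homology 0 :=
    (isoOfQuasiIsoAt ((N.truncLE 0).πTruncGE 0) 0).symm ≪≫ isoOfQuasiIsoAt (N.ιTruncLE 0) 0
  have hM : M.IsQuasicoherent := isQCoh_of_iso
    (w.symm ≪≫ (homologyFunctor _ (ComplexShape.up ℤ) 0).mapIso eM ≪≫
      HomologicalComplex.singleObjHomologySelfIso (ComplexShape.up ℤ) 0 M) hq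
  let G := (moduleSpecΓFunctor (R := R)).obj M
  have hM' : IsIso M.fromTildeΓ := @Scheme.Modules.isIso_fromTildeΓ_of_isQuasicoherent _ M hM
  let Res := ProjectiveResolution.of G
  let T := ((tilde.functor R).mapHomologicalComplex (ComplexShape.up ℤ)).obj Res.cochainComplex
  refine ⟨Res.cochainComplex, isKFlat_of_bounded_above T 0
    (fun n hn => (tilde.functor R).map_isZero (CochainComplex.isZero_of_isStrictlyLE _ 0 n hn))
    (fun n => flat_tilde_of_projective _), ⟨?_⟩⟩
  let π₁ : T ⟶ _ := ((tilde.functor R).mapHomologicalComplex (ComplexShape.up ℤ)).map Res.π'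
  have : QuasiIso π₁ := inferInstance
  exact asIso (DerivedCategory.Q.map π₁) ≪≫ DerivedCategory.Q.mapIso
    (((HomologicalComplex.singleMapHomologicalComplex (tilde.functor R) (ComplexShape.up ℤ) 0).app G) ≪≫
      (HomologicalComplex.single _ (ComplexShape.up ℤ) 0).mapIso (@asIso _ _ _ _ M.fromTildeΓ hM') ≪≫ eM.symm) ≪≫
    (asIso (DerivedCategory.Q.map ((N.truncLE 0).πTruncGE 0))).symm ≪≫ asIso (DerivedCategory.Q.map (N.ιTruncLE 0))

theorem isQCoh_homology_pull_affine {R : CommRingCat.{u}} (g : X ⟶ Spec R)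
    {N : CochainComplex (Spec R).Modules ℤ} (hN : DCoh.IsKFlat N)
    (hz : ∀ j, j ≠ 0 → IsZero (N.homology j)) (hq : Coh.IsQCoh (N.homology 0)) (i : ℤ) :
    Coh.IsQCoh (((pullCxF g).obj N).homology i) := by
  obtain ⟨C, hC, ⟨e⟩⟩ := exists_tilde_rep hz hq
  obtain ⟨v⟩ := nonempty_iso_pullCx g hC hN e
  exact isQCoh_of_iso ((hdIso _ i).symm ≪≫ (DerivedCategory.homologyFunctor _ i).mapIso v ≪≫ hdIso _ i)
    (isQuasicoherent_homology (fun k => isQCoh_pullback_tilde g (C.X k)) i)

theorem isQCoh_homology_pull_zero (f : X ⟶ Y) {N : CochainComplex Y.Modules ℤ} (hN : DCoh.IsKFlat N)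
    (hz : ∀ j, j ≠ 0 → IsZero (N.homology j)) (hq : Coh.IsQCoh (N.homology 0)) (i : ℤ) :
    Coh.IsQCoh (((pullCxF f).obj N).homology i) := by
  choose U hU hx _ using fun x : X => exists_isAffineOpen_mem_and_subset (x := f x) (U := ⊤) trivial
  refine QCoh.isQuasicoherent_of_restrict _ (fun x => f ⁻¹ᵁ U x)
    (eq_top_iff.2 fun x _ => TopologicalSpace.Opens.mem_iSup.2 ⟨x, hx x⟩) fun x => ?_
  let j := (hU x).fromSpec
  let V := f ⁻¹ᵁ U x
  let g : (V : Scheme.{u}) ⟶ Spec Γ(Y, U x) := (f ∣_ U x) ≫ (hU x).isoSpec.hom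
  have hg : g ≫ j = V.ι ≫ f := by
    simp only [g, j, IsAffineOpen.fromSpec, Category.assoc, Iso.hom_inv_id_assoc]
    exact morphismRestrict_ι f (U x)
  let η : Scheme.Modules.pullback j ⋙ Scheme.Modules.pullback g ≅
      Scheme.Modules.pullback f ⋙ Scheme.Modules.restrictFunctor V.ι :=
    Scheme.Modules.pullbackComp g j ≪≫ Scheme.Modules.pullbackCongr hg ≪≫
      (Scheme.Modules.pullbackComp V.ι f).symm ≪≫
        Functor.isoWhiskerLeft _ (Scheme.Modules.restrictFunctorIsoPullback V.ι).symm
  let N₁ := (pullCxF j).obj N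
  let r : ∀ k, N₁.homology k ≅ (Scheme.Modules.restrictFunctor j).obj (N.homology k) := fun k =>
    (homologyFunctor _ _ k).mapIso
      ((NatIso.mapHomologicalComplex (Scheme.Modules.restrictFunctorIsoPullback j) (ComplexShape.up ℤ)).app N).symm ≪≫
      (N.sc k).mapHomologyIso (Scheme.Modules.restrictFunctor j)
  have := hq
  have h := isQCoh_homology_pull_affine g (isKFlat_pullback j hN)
    (fun k hk => ((Scheme.Modules.restrictFunctor j).map_isZero (hz k hk)).of_iso (r k))
    (isQCoh_of_iso (r 0).symm (inferInstanceAs ((N.homology 0).restrict j).IsQuasicoherent)) i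
  let w : (pullCxF g).obj N₁ ≅
      ((Scheme.Modules.restrictFunctor V.ι).mapHomologicalComplex (ComplexShape.up ℤ)).obj ((pullCxF f).obj N) :=
    HomologicalComplex.Hom.isoOfComponents (fun k => η.app (N.X k)) (fun k l _ => (η.hom.naturality (N.d k l)).symm)
  exact isQCoh_of_iso ((homologyFunctor _ _ i).mapIso w ≪≫
    (((pullCxF f).obj N).sc i).mapHomologyIso (Scheme.Modules.restrictFunctor V.ι)) h

theorem singleQCoh_pull (f : X ⟶ Y) : SingleQCoh (pullCxF f) := by
  intro n N hN hz hq i
  let s := fun k => ((homologyFunctor Y.Modules (ComplexShape.up ℤ) 0).shiftIso n k (n + k) rfl).app N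
  have h := isQCoh_homology_pull_zero f (isKFlat_shift hN n)
    (fun k hk => (hz (n + k) (by omega)).of_iso (s k))
    (isQCoh_of_iso (s 0).symm (show Coh.IsQCoh (N.homology (n + 0)) by rw [add_zero]; exact hq)) (i - n)
  exact isQCoh_of_iso ((homologyFunctor X.Modules (ComplexShape.up ℤ) (i - n)).mapIso (((pullCxF f).commShiftIso n).app N) ≪≫
    (((homologyFunctor X.Modules (ComplexShape.up ℤ) 0).shiftIso n (i - n) i (by omega)).app _)) h

/-- Derived pullback preserves quasi-coherence of the cohomology. -/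
theorem isQCoh_homology_pullCx (f : X ⟶ Y) {G : CochainComplex Y.Modules ℤ} (hG : DCoh.IsKFlat G)
    (hq : ∀ j, Coh.IsQCoh (G.homology j)) (i : ℤ) : Coh.IsQCoh (((pullCxF f).obj G).homology i) := by
  have : PreservesColimitsOfSize.{u, u} (Scheme.Modules.pullback f) :=
    (Scheme.Modules.pullbackPushforwardAdjunction f).leftAdjoint_preservesColimits
  have : PreservesColimitsOfSize.{0, 0} (Scheme.Modules.pullback f) := preservesColimitsOfSize_shrink _
  have : PreservesColimitsOfShape ℕ (pullCxF f) := HomologicalComplex.preservesColimitsOfShape_of_eval _ fun k =>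
    inferInstanceAs (PreservesColimitsOfShape ℕ (HomologicalComplex.eval _ _ k ⋙ Scheme.Modules.pullback f))
  refine isQCoh_homology_of_qcohBelow (pullCxF f) (fun K L φ hK hL hφ => quasiIso_pullback f φ hK hL) ?_ hG hq i
  refine qcohBelow_of_single (pullCxF f) (fun S σ _ _ _ =>
    HomologicalComplex.shortExact_of_degreewise_shortExact _ fun k => ((σ k).some.map (Scheme.Modules.pullback f)).shortExact)
    (c := 0) (fun b P hP hb i hi => isZero_homology_pullback f hP hb i (by omega)) (singleQCoh_pull f)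

end GrothLib.OX
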