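import Groth.Agent.Lib.OX.LTensor
import Groth.Agent.Lib.KInj.Adjoint
import Mathlib.CategoryTheory.Functor.Derived.Adjunction

/-! # Composition of derived pullbacks; the adjunction with derived direct image -/

set_option autoImplicit false
set_option maxHeartbeats 400000
universe u

open CategoryTheory CategoryTheory.Limits AlgebraicGeometry HomologicalComplex

attribute [local instance] HasDerivedCategory.standard

namespace GrothLib.OX

variable {X Y Z : Scheme.{u}}

theorem pullKh_resolvable (f : X ⟶ Y) :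
    Derive.LeftResolvable (HomotopyCategory.quasiIso Y.Modules (ComplexShape.up ℤ)) kFlatP (DCoh.pullKh f) :=
  leftResolvable_of_acyclic (Scheme.Modules.pullback f) fun _ hC hK => acyclic_pullback f hC hK

/-- The comparison of a composite of derived pullbacks. -/
noncomputable def compCounit (f : X ⟶ Y) (g : Y ⟶ Z) [DCoh.HasLpull f] [DCoh.HasLpull g] :
    DerivedCategory.Qh ⋙ DCoh.Lpull g ⋙ DCoh.Lpull f ⟶ DCoh.pullKh (f ≫ g) :=
  (Functor.associator _ _ _).inv ≫
    Functor.whiskerRight ((DCoh.pullKh g).totalLeftDerivedCounit DerivedCategory.Qh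
      (HomotopyCategory.quasiIso Z.Modules (ComplexShape.up ℤ))) (DCoh.Lpull f) ≫
    (Functor.associator _ _ _).hom ≫
    Functor.whiskerLeft _ ((DCoh.pullKh f).totalLeftDerivedCounit DerivedCategory.Qh
      (HomotopyCategory.quasiIso Y.Modules (ComplexShape.up ℤ))) ≫
    (Functor.associator _ _ _).inv ≫
    Functor.whiskerRight
      (Functor.mapHomotopyCategoryCompIso (Scheme.Modules.pullbackComp f g) (ComplexShape.up ℤ)).hom
      DerivedCategory.Qh

theorem isIso_compCounit_app (f : X ⟶ Y) (g : Y ⟶ Z) [DCoh.HasLpull f] [DCoh.HasLpull g]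
    (Q : HomotopyCategory Z.Modules (ComplexShape.up ℤ)) (hQ : kFlatP Q) :
    IsIso ((compCounit f g).app Q) := by
  have h1 := (pullKh_resolvable g).isIso_app_of_isLeftDerivedFunctor _
    ((DCoh.pullKh g).totalLeftDerivedCounit DerivedCategory.Qh
      (HomotopyCategory.quasiIso Z.Modules (ComplexShape.up ℤ))) hQ
  have hgQ : kFlatP (((Scheme.Modules.pullback g).mapHomotopyCategory (ComplexShape.up ℤ)).obj Q) :=
    isKFlat_pullback g hQ
  have h2 := (pullKh_resolvable f).isIso_app_of_isLeftDerivedFunctor _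
    ((DCoh.pullKh f).totalLeftDerivedCounit DerivedCategory.Qh
      (HomotopyCategory.quasiIso Y.Modules (ComplexShape.up ℤ))) hgQ
  rw [compCounit]
  simp only [NatTrans.comp_app, Functor.associator_hom_app, Functor.associator_inv_app, Functor.whiskerRight_app,
    Functor.whiskerLeft_app, Category.id_comp]
  infer_instance

/-- Derived pullbacks compose. -/
noncomputable def lpullCompIso (f : X ⟶ Y) (g : Y ⟶ Z) [DCoh.HasLpull f] [DCoh.HasLpull g] [DCoh.HasLpull (f ≫ g)] :
    DCoh.Lpull g ⋙ DCoh.Lpull f ≅ DCoh.Lpull (f ≫ g) :=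
  have := (pullKh_resolvable (f ≫ g)).isLeftDerivedFunctor (DCoh.Lpull g ⋙ DCoh.Lpull f) (compCounit f g)
    (isIso_compCounit_app f g)
  Functor.leftDerivedUnique _ _ (compCounit f g) ((DCoh.pullKh (f ≫ g)).totalLeftDerivedCounit DerivedCategory.Qh
    (HomotopyCategory.quasiIso Z.Modules (ComplexShape.up ℤ)))
    (HomotopyCategory.quasiIso Z.Modules (ComplexShape.up ℤ))

/-- Derived pullback is left adjoint to derived direct image. -/
theorem nonempty_lpullAdj (f : X ⟶ Y) [DCoh.HasLpull f] [DCoh.HasRpush f] :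
    Nonempty (DCoh.Lpull f ⊣ DCoh.Rpush f) := by
  let adj := KInj.mapHomotopyAdj (Scheme.Modules.pullbackPushforwardAdjunction f)
  let α := (DCoh.pullKh f).totalLeftDerivedCounit DerivedCategory.Qh
    (HomotopyCategory.quasiIso Y.Modules (ComplexShape.up ℤ))
  let β := (DCoh.pushKh f).totalRightDerivedUnit DerivedCategory.Qh
    (HomotopyCategory.quasiIso X.Modules (ComplexShape.up ℤ))
  have h₁ : (DCoh.Lpull f ⋙ DCoh.Rpush f).IsLeftDerivedFunctor
      ((Functor.associator _ _ _).inv ≫ Functor.whiskerRight α (DCoh.Rpush f))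
      (HomotopyCategory.quasiIso Y.Modules (ComplexShape.up ℤ)) :=
    ((pullKh_resolvable f).postcomp (DCoh.Rpush f)).isLeftDerivedFunctor _ _ fun Q hQ => by
      have := (pullKh_resolvable f).isIso_app_of_isLeftDerivedFunctor _ α hQ
      simp only [NatTrans.comp_app, Functor.associator_inv_app, Functor.whiskerRight_app, Category.id_comp]
      infer_instance
  let E := DCoh.Lpull f
  let F := DCoh.pushKh f
  let e : KInj.res X.Modules ⋙ F ⋙ E ≅ DCoh.Rpush f ⋙ E :=
    (Functor.associator _ _ _).symm ≪≫ Functor.isoWhiskerRight (KInj.totalRightDerivedIso F).symm E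
  have h₂ : (DCoh.Rpush f ⋙ E).IsRightDerivedFunctor
      (Functor.whiskerRight β E ≫ (Functor.associator _ _ _).hom)
      (HomotopyCategory.quasiIso X.Modules (ComplexShape.up ℤ)) := by
    refine (Functor.isRightDerivedFunctor_iff_of_iso (KInj.derUnit (F ⋙ E)) _ _ e ?_).1 inferInstance
    ext Q
    have h := KInj.totalRightDerivedUnit_iso_hom F Q
    simp only [NatTrans.comp_app, Functor.whiskerLeft_app, Functor.whiskerRight_app, Functor.associator_hom_app,
      Category.comp_id, e, Iso.trans_hom, Iso.symm_hom, Functor.associator_inv_app,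
      Category.id_comp, Functor.isoWhiskerRight_hom]
    rw [show (KInj.derUnit (F ⋙ E)).app Q = E.map (F.map ((KInj.resAdj X.Modules).unit.app Q)) by
      simp [KInj.derUnit]]
    change E.map (F.map ((KInj.resAdj X.Modules).unit.app Q)) ≫
      E.map ((KInj.totalRightDerivedIso F).inv.app (DerivedCategory.Qh.obj Q)) = E.map (β.app Q)
    rw [← E.map_comp, ← h, Category.assoc, ← NatTrans.comp_app, Iso.hom_inv_id, NatTrans.id_app]
    exact congrArg E.map (Category.comp_id _)
  exact ⟨Adjunction.derived adj (HomotopyCategory.quasiIso Y.Modules (ComplexShape.up ℤ))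
    (HomotopyCategory.quasiIso X.Modules (ComplexShape.up ℤ)) α β⟩

end GrothLib.OX
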