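import Groth.Agent.Lib.OX.PerfectEnvelope

/-! # Maps from perfect objects see only finitely many cohomology sheaves -/

set_option autoImplicit false
universe u

open CategoryTheory CategoryTheory.Limits AlgebraicGeometry Pretriangulated

attribute [local instance] HasDerivedCategory.standard

namespace GrothLib.OX

variable {X : Scheme.{u}}

/-- Cohomology sheaves of a shift. -/
noncomputable def HDShiftIso (L : DCoh.D X) (n i j : ℤ) (h : n + i = j) : DCoh.HD (L⟦n⟧) i ≅ DCoh.HD L j :=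
  ((DerivedCategory.homologyFunctor X.Modules 0).shiftIso n i j h).app L

theorem isQCohD_shift {L : DCoh.D X} (hL : DCoh.IsQCohD L) (n : ℤ) : DCoh.IsQCohD (L⟦n⟧) :=
  fun i => isQCoh_of_iso (HDShiftIso L n i (n + i) rfl).symm (hL _)

theorem eq_zero_of_shiftAdj (n : ℤ) {A L : DCoh.D X} (φ : A⟦n⟧ ⟶ L)
    (h : (shiftEquiv (DCoh.D X) n).toAdjunction.homEquiv A L φ = 0) : φ = 0 := by
  refine ((shiftEquiv (DCoh.D X) n).toAdjunction.homEquiv A L).injective (h.trans ?_)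
  rw [Adjunction.homEquiv_unit]
  exact (comp_zero.symm.trans (congrArg _ (Functor.map_zero (shiftFunctor (DCoh.D X) (-n)) _ _).symm))

/-- Maps from `A` into objects of `D_qc` without cohomology in a fixed interval vanish. -/
def VanRange (A : DCoh.D X) : Prop :=
  ∃ a b : ℤ, ∀ L : DCoh.D X, DCoh.IsQCohD L → (∀ i : ℤ, a ≤ i → i ≤ b → IsZero (DCoh.HD L i)) →
    ∀ φ : A ⟶ L, φ = 0

theorem thick_vanRange : TriCat.Thick (VanRange (X := X)) where
  zero h := ⟨0, 0, fun _ _ _ φ => h.eq_of_src φ 0⟩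
  shift {A} n := by
    rintro ⟨a, b, h⟩
    refine ⟨a - n, b - n, fun L hL hz φ => ?_⟩
    let e := (shiftEquiv (DCoh.D X) n).toAdjunction.homEquiv A L
    have h0 : e φ = 0 := h _ (isQCohD_shift hL (-n)) (fun i h1 h2 =>
      (hz (-n + i) (by omega) (by omega)).of_iso (HDShiftIso L (-n) i _ rfl)) _
    exact eq_zero_of_shiftAdj n φ h0
  total {A B C} i₁ p₁ i₂ p₂ h := by
    rintro ⟨a, b, hA⟩ ⟨c, d, hB⟩
    refine ⟨min a c, max b d, fun L hL hz φ => ?_⟩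
    rw [← Category.id_comp φ, ← h, Preadditive.add_comp, Category.assoc, Category.assoc,
      hA L hL (fun i _ _ => hz i (by omega) (by omega)) (i₁ ≫ φ),
      hB L hL (fun i _ _ => hz i (by omega) (by omega)) (i₂ ≫ φ), comp_zero, comp_zero, add_zero]
  cone T hT := by
    rintro ⟨a, b, hA⟩ ⟨c, d, hB⟩
    refine ⟨min (a - 1) c, max b d, fun L hL hz φ => ?_⟩
    obtain ⟨ψ, hψ⟩ := T.yoneda_exact₃ hT φ (hB L hL (fun i _ _ => hz i (by omega) (by omega)) _)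
    let e := (shiftEquiv (DCoh.D X) (1 : ℤ)).toAdjunction.homEquiv T.obj₁ L
    have h0 : e ψ = 0 := hA _ (isQCohD_shift hL (-1)) (fun i h1 h2 =>
      (hz (-1 + i) (by omega) (by omega)).of_iso (HDShiftIso L (-1) i _ rfl)) _
    rw [hψ, eq_zero_of_shiftAdj 1 ψ h0, comp_zero]

theorem vanRange_single {U : X.Opens} (hU : IsAffineOpen U) (k : ℤ) :
    VanRange ((DerivedCategory.singleFunctor X.Modules k).obj ((genF X).obj U)) :=
  ⟨k, k, fun _ hL hz φ => (theta_bijective hU hL k).1 ((hz k le_rfl le_rfl).eq_of_tgt _ _)⟩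

theorem vanRange_of_isPerfect [CompactSpace X] [QuasiSeparatedSpace X] {K : DCoh.D X} (hK : DCoh.IsPerfect K) :
    VanRange K :=
  prop_of_isPerfect thick_vanRange (fun _ hV k => vanRange_single hV k) hK

end GrothLib.OX

namespace GrothLib.OX

variable {X : Scheme.{u}}

theorem isQCohD_truncGE {E : DCoh.D X} (hE : DCoh.IsQCohD E) (a : ℤ) :
    DCoh.IsQCohD ((DerivedCategory.TStructure.t.truncGE a).obj E) := fun q => isQCoh_HD_truncGE hE a q

theorem isQCohD_truncLT {E : DCoh.D X} (hE : DCoh.IsQCohD E) (a : ℤ) :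
    DCoh.IsQCohD ((DerivedCategory.TStructure.t.truncLT a).obj E) := fun q => by
  rcases lt_or_ge q a with h | h
  · have := DerTrunc.isIso_homology_truncLTι E a q h
    exact isQCoh_of_iso (asIso ((DerivedCategory.homologyFunctor X.Modules q).map
      ((DerivedCategory.TStructure.t.truncLTι a).app E))).symm (hE q)
  · exact isQCoh_of_isZero (DerivedCategory.isZero_of_isLE _ (a - 1) q (by omega))

theorem hom_zero_iff_of_triangle {T : Triangle (DCoh.D X)} (hT : T ∈ distTriang _) {A : DCoh.D X}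
    (h₁ : ∀ φ : A ⟶ T.obj₁, φ = 0) (h₁' : ∀ φ : A ⟶ T.obj₁⟦(1 : ℤ)⟧, φ = 0) :
    (∀ φ : A ⟶ T.obj₂, φ = 0) ↔ ∀ φ : A ⟶ T.obj₃, φ = 0 := by
  constructor
  · intro h φ
    obtain ⟨ψ, hψ⟩ := T.coyoneda_exact₃ hT φ (h₁' _)
    rw [hψ, h ψ, zero_comp]
  · intro h φ
    obtain ⟨ψ, hψ⟩ := T.coyoneda_exact₂ hT φ (h _)
    rw [hψ, h₁ ψ, zero_comp]

theorem hom_zero_iff_of_triangle' {T : Triangle (DCoh.D X)} (hT : T ∈ distTriang _) {A : DCoh.D X}
    (h₃ : ∀ φ : A ⟶ T.obj₃, φ = 0) (h₃' : ∀ φ : A ⟶ T.invRotate.obj₁, φ = 0) :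
    (∀ φ : A ⟶ T.obj₁, φ = 0) ↔ ∀ φ : A ⟶ T.obj₂, φ = 0 :=
  hom_zero_iff_of_triangle (T := T.invRotate) (inv_rot_of_distTriang _ hT) h₃' (fun φ =>
    (cancel_mono ((shiftEquiv (DCoh.D X) (1 : ℤ)).counitIso.hom.app T.obj₃)).1 ((h₃ _).trans zero_comp.symm))

/-- `P[-i] ⟶ L` vanishes if `L` has no cohomology in the shifted interval. -/
theorem hom_shift_eq_zero {A : DCoh.D X} {a b : ℤ}
    (h : ∀ L : DCoh.D X, DCoh.IsQCohD L → (∀ i : ℤ, a ≤ i → i ≤ b → IsZero (DCoh.HD L i)) → ∀ φ : A ⟶ L, φ = 0)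
    {L : DCoh.D X} (hL : DCoh.IsQCohD L) (i : ℤ) (hz : ∀ q : ℤ, a + i ≤ q → q ≤ b + i → IsZero (DCoh.HD L q))
    (φ : A⟦-i⟧ ⟶ L) : φ = 0 :=
  eq_zero_of_shiftAdj (-i) φ (h _ (isQCohD_shift hL _) (fun q h1 h2 =>
    (hz (- -i + q) (by omega) (by omega)).of_iso (HDShiftIso L (- -i) q _ rfl)) _)

theorem hom_vanish_large_iff {P E : DCoh.D X} (hP : VanRange P) (hE : DCoh.IsQCohD E) (a : ℤ) :
    (∃ N : ℤ, ∀ i : ℤ, N ≤ i → ∀ φ : P⟦-i⟧ ⟶ E, φ = 0) ↔
      (∃ N : ℤ, ∀ i : ℤ, N ≤ i → ∀ φ : P⟦-i⟧ ⟶ (DerivedCategory.TStructure.t.truncGE a).obj E, φ = 0) := by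
  obtain ⟨c, d, h⟩ := hP
  have key : ∀ i : ℤ, a - c + 1 ≤ i → ((∀ φ : P⟦-i⟧ ⟶ E, φ = 0) ↔
      ∀ φ : P⟦-i⟧ ⟶ (DerivedCategory.TStructure.t.truncGE a).obj E, φ = 0) := fun i hi =>
    hom_zero_iff_of_triangle (T := (DerivedCategory.TStructure.t.triangleLTGE a).obj E)
      (DerivedCategory.TStructure.t.triangleLTGE_distinguished a E)
      (hom_shift_eq_zero h (isQCohD_truncLT hE a) i fun q h1 _ =>
        DerivedCategory.isZero_of_isLE ((DerivedCategory.TStructure.t.truncLT a).obj E) (a - 1) q (by omega))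
      (hom_shift_eq_zero h (isQCohD_shift (isQCohD_truncLT hE a) 1) i fun q h1 _ =>
        (DerivedCategory.isZero_of_isLE ((DerivedCategory.TStructure.t.truncLT a).obj E) (a - 1) (1 + q)
          (by omega)).of_iso (HDShiftIso _ 1 q _ rfl))
  constructor <;> rintro ⟨N, hN⟩ <;> refine ⟨max N (a - c + 1), fun i hi => ?_⟩
  · exact (key i (by omega)).1 (hN i (by omega))
  · exact (key i (by omega)).2 (hN i (by omega))

theorem hom_vanish_small_iff {P E : DCoh.D X} (hP : VanRange P) (hE : DCoh.IsQCohD E) (a : ℤ) :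
    (∃ N : ℤ, ∀ i : ℤ, i ≤ N → ∀ φ : P⟦-i⟧ ⟶ E, φ = 0) ↔
      (∃ N : ℤ, ∀ i : ℤ, i ≤ N → ∀ φ : P⟦-i⟧ ⟶ (DerivedCategory.TStructure.t.truncLE a).obj E, φ = 0) := by
  obtain ⟨c, d, h⟩ := hP
  have key : ∀ i : ℤ, i ≤ a - d - 1 → ((∀ φ : P⟦-i⟧ ⟶ (DerivedCategory.TStructure.t.truncLE a).obj E, φ = 0) ↔
      ∀ φ : P⟦-i⟧ ⟶ E, φ = 0) := fun i hi =>
    hom_zero_iff_of_triangle' (T := (DerivedCategory.TStructure.t.triangleLEGE a (a + 1) rfl).obj E)
      (DerivedCategory.TStructure.t.triangleLEGE_distinguished a (a + 1) rfl E)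
      (hom_shift_eq_zero h (isQCohD_truncGE hE (a + 1)) i fun q _ h2 =>
        DerivedCategory.isZero_of_isGE ((DerivedCategory.TStructure.t.truncGE (a + 1)).obj E) (a + 1) q (by omega))
      (hom_shift_eq_zero h (isQCohD_shift (isQCohD_truncGE hE (a + 1)) (-1)) i fun q _ h2 =>
        (DerivedCategory.isZero_of_isGE ((DerivedCategory.TStructure.t.truncGE (a + 1)).obj E) (a + 1) (-1 + q)
          (by omega)).of_iso (HDShiftIso _ (-1) q _ rfl))
  constructor <;> rintro ⟨N, hN⟩ <;> refine ⟨min N (a - d - 1), fun i hi => ?_⟩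
  · exact (key i (by omega)).2 (hN i (by omega))
  · exact (key i (by omega)).1 (hN i (by omega))

end GrothLib.OX
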