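import Groth.Agent.Lib.OX.LTensor
import Groth.Agent.Lib.OX.TildeKFlat
import Groth.Agent.Lib.OX.TorAmp
import Groth.Agent.Lib.DCxKFlat.Resolution
import Groth.Agent.Lib.QCoh.Abelian
import Mathlib.Algebra.Homology.DerivedCategory.ExactFunctor

/-! # Associated sheaves, extension of scalars and derived pullback -/

set_option autoImplicit false
set_option maxHeartbeats 400000
universe u

open CategoryTheory CategoryTheory.Limits AlgebraicGeometry HomologicalComplex

attribute [local instance] HasDerivedCategory.standard

namespace GrothLib.OX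

variable {A B : Type u} [CommRing A] [CommRing B] (φ : A →+* B)

theorem additive_tildeGen (R : CommRingCat.{u}) : (tilde.functor R).Additive := inferInstance

theorem preservesFiniteColimits_tildeGen (R : CommRingCat.{u}) : PreservesFiniteColimits (tilde.functor R) :=
  inferInstance

theorem faithful_tildeGen (R : CommRingCat.{u}) : (tilde.functor R).Faithful := inferInstance

theorem reflectsIsomorphisms_tildeGen (R : CommRingCat.{u}) : (tilde.functor R).ReflectsIsomorphisms := inferInstance

theorem preservesHomology_tildeGen (R : CommRingCat.{u}) : (tilde.functor R).PreservesHomology := inferInstance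

instance additive_tildeOf (A : Type u) [CommRing A] :
    Functor.Additive (C := ModuleCat.{u} A) (tilde.functor (CommRingCat.of A)) :=
  additive_tildeGen (CommRingCat.of A)

instance preservesFiniteColimits_tildeOf (A : Type u) [CommRing A] :
    PreservesFiniteColimits (C := ModuleCat.{u} A) (tilde.functor (CommRingCat.of A)) :=
  preservesFiniteColimits_tildeGen (CommRingCat.of A)

instance preservesHomology_tildeOf (A : Type u) [CommRing A] :
    Functor.PreservesHomology (C := ModuleCat.{u} A) (tilde.functor (CommRingCat.of A)) :=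
  preservesHomology_tildeGen (CommRingCat.of A)

instance reflectsIsomorphisms_tildeOf (A : Type u) [CommRing A] :
    Functor.ReflectsIsomorphisms (C := ModuleCat.{u} A) (tilde.functor (CommRingCat.of A)) :=
  reflectsIsomorphisms_tildeGen (CommRingCat.of A)

/-- The morphism of affine schemes of a ring map. -/
noncomputable abbrev specHom : Spec (CommRingCat.of B) ⟶ Spec (CommRingCat.of A) :=
  Spec.map (CommRingCat.ofHom φ)

theorem appTop_specHom_apply (r : A) :
    (specHom φ).appTop ((Scheme.ΓSpecIso (CommRingCat.of A)).inv r) =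
      (Scheme.ΓSpecIso (CommRingCat.of B)).inv (φ r) :=
  (ConcreteCategory.congr_hom (Scheme.ΓSpecIso_inv_naturality (CommRingCat.ofHom φ)) r).symm

theorem specΓ_smul (M : (Spec (CommRingCat.of B)).Modules) (r : A)
    (x : (moduleSpecΓFunctor (R := CommRingCat.of A)).obj ((Scheme.Modules.pushforward (specHom φ)).obj M)) :
    (show (moduleSpecΓFunctor (R := CommRingCat.of B)).obj M from r • x) =
      φ r • (show (moduleSpecΓFunctor (R := CommRingCat.of B)).obj M from x) := by
  refine (Scheme.Modules.smul_Spec_def (M := (Scheme.Modules.pushforward (specHom φ)).obj M) (U := ⊤) r x).trans ?_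
  refine Eq.trans ?_ (Scheme.Modules.smul_Spec_def (M := M) (U := ⊤) (φ r) x).symm
  refine congrArg (fun t : Γ(Spec (CommRingCat.of B), ⊤) => t • (show Γ(M, ⊤) from x)) ?_
  rw [show (TopologicalSpace.Opens.leTop (⊤ : (Spec (CommRingCat.of A)).Opens)).op = 𝟙 _ from rfl,
    show (TopologicalSpace.Opens.leTop (⊤ : (Spec (CommRingCat.of B)).Opens)).op = 𝟙 _ from rfl]
  simp only [CategoryTheory.Functor.map_id, ConcreteCategory.id_apply]
  exact appTop_specHom_apply φ r

/-- Global sections of a direct image are a restriction of scalars. -/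
noncomputable def pushΓIso :
    Scheme.Modules.pushforward (specHom φ) ⋙ moduleSpecΓFunctor (R := CommRingCat.of A) ≅
      moduleSpecΓFunctor (R := CommRingCat.of B) ⋙ ModuleCat.restrictScalars φ :=
  NatIso.ofComponents
    (fun M =>
      { hom := ConcreteCategory.ofHom
          { toFun := fun x => x
            map_add' := fun _ _ => rfl
            map_smul' := fun r x => specΓ_smul φ M r x }
        inv := ConcreteCategory.ofHom
          { toFun := fun x => x
            map_add' := fun _ _ => rfl
            map_smul' := fun r x => (specΓ_smul φ M r x).symm } })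

/-- The pullback of an associated sheaf is the associated sheaf of the extension of scalars. -/
noncomputable def tildePullIso :
    tilde.functor (CommRingCat.of A) ⋙ Scheme.Modules.pullback (specHom φ) ≅
      ModuleCat.extendScalars φ ⋙ tilde.functor (CommRingCat.of B) :=
  Adjunction.leftAdjointUniq
    (((tilde.adjunction (R := CommRingCat.of A)).comp
      (Scheme.Modules.pullbackPushforwardAdjunction (specHom φ))).ofNatIsoRight (pushΓIso φ))
    ((ModuleCat.extendRestrictScalarsAdj φ).comp (tilde.adjunction (R := CommRingCat.of B)))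

/-- K-flat complexes with flat terms. -/
def kfMod : ObjectProperty (HomotopyCategory (ModuleCat.{u} A) (ComplexShape.up ℤ)) :=
  fun Q => KF.IsKFlat Q.as ∧ KF.FlatTerms Q.as

theorem kflat_tilde {K : CochainComplex (ModuleCat.{u} A) ℤ} (hK : KF.IsKFlat K) :
    DCoh.IsKFlat (((tilde.functor (CommRingCat.of A)).mapHomologicalComplex (ComplexShape.up ℤ)).obj K) :=
  isKFlat_tilde (CommRingCat.of A) K ((KF.isKFlat_iff K).1 hK)

theorem flatTerms_tilde {K : CochainComplex (ModuleCat.{u} A) ℤ} (hK : KF.FlatTerms K) :
    FlatTerms (((tilde.functor (CommRingCat.of A)).mapHomologicalComplex (ComplexShape.up ℤ)).obj K) :=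
  fun n x => flat_of_modIso ((tildeStalkIso (CommRingCat.of A) x).app (K.X n)).symm (flat_extendScalars _ _ (hK n))

/-- The comparison of complexes. -/
noncomputable def tildePullCxIso :
    (tilde.functor (CommRingCat.of A)).mapHomologicalComplex (ComplexShape.up ℤ) ⋙
        (Scheme.Modules.pullback (specHom φ)).mapHomologicalComplex (ComplexShape.up ℤ) ≅
      (ModuleCat.extendScalars φ).mapHomologicalComplex (ComplexShape.up ℤ) ⋙
        (tilde.functor (CommRingCat.of B)).mapHomologicalComplex (ComplexShape.up ℤ) :=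
  Functor.mapHomologicalComplexCompIso (tildePullIso φ) _ ≪≫
    (Functor.mapHomologicalComplexCompIso (Iso.refl _) _).symm

theorem quasiIso_bc {K L : CochainComplex (ModuleCat.{u} A) ℤ} (s : K ⟶ L) [QuasiIso s] (hK : KF.IsKFlat K)
    (hL : KF.IsKFlat L) : QuasiIso (((ModuleCat.extendScalars φ).mapHomologicalComplex (ComplexShape.up ℤ)).map s) := by
  have := quasiIso_pullback (specHom φ) (((tilde.functor (CommRingCat.of A)).mapHomologicalComplex (ComplexShape.up ℤ)).map s)
    (kflat_tilde hK) (kflat_tilde hL)
  refine (quasiIso_map_iff_of_preservesHomology _ (tilde.functor (CommRingCat.of B))).1 ?_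
  exact (quasiIso_iff_of_arrow_mk_iso _ _ (Arrow.isoMk ((tildePullCxIso φ).app K) ((tildePullCxIso φ).app L)
    ((tildePullCxIso φ).hom.naturality s).symm)).1 this

theorem leftResolvable_baseChange :
    Derive.LeftResolvable (HomotopyCategory.quasiIso (ModuleCat.{u} A) (ComplexShape.up ℤ)) kfMod
      (DRing.baseChangeKh φ) where
  exists_res G := by
    obtain ⟨Q, p, hQ, hf, hp, -⟩ := KF.exists_kflat_resolution G.as
    exact ⟨(HomotopyCategory.quotient _ _).obj Q, (HomotopyCategory.quotient _ _).map p, ⟨hQ, hf⟩,
      (HomotopyCategory.quotient_map_mem_quasiIso_iff p).2 hp⟩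
  inverts Q Q' s hQ hQ' hs := by
    obtain ⟨g, rfl⟩ := (HomotopyCategory.quotient (ModuleCat.{u} A) (ComplexShape.up ℤ)).map_surjective s
    have : QuasiIso g := (HomotopyCategory.quotient_map_mem_quasiIso_iff g).1 hs
    have := quasiIso_bc φ g hQ.1 hQ'.1
    exact Localization.inverts DerivedCategory.Qh (HomotopyCategory.quasiIso (ModuleCat.{u} B) (ComplexShape.up ℤ)) _
      ((HomotopyCategory.quotient_map_mem_quasiIso_iff _).2 this)

variable [PreservesFiniteLimits (tilde.functor (CommRingCat.of A))] [PreservesFiniteLimits (tilde.functor (CommRingCat.of B))]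

/-- The two functors on the homotopy category. -/
noncomputable def bcTildeKhIso :
    DRing.baseChangeKh φ ⋙ DCoh.tildeD (CommRingCat.of B) ≅
      (tilde.functor (CommRingCat.of A)).mapHomotopyCategory (ComplexShape.up ℤ) ⋙ DCoh.pullKh (specHom φ) :=
  Functor.associator _ _ _ ≪≫
    Functor.isoWhiskerLeft _ (tilde.functor (CommRingCat.of B)).mapDerivedCategoryFactorsh ≪≫
    (Functor.associator _ _ _).symm ≪≫
    Functor.isoWhiskerRight ((Functor.mapHomotopyCategoryCompIso (Iso.refl _) (ComplexShape.up ℤ)) ≪≫
      (Functor.mapHomotopyCategoryCompIso (tildePullIso φ) (ComplexShape.up ℤ)).symm) _ ≪≫ Functor.associator _ _ _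

theorem nonempty_bcTilde_iso [DRing.HasLBaseChange φ] [DCoh.HasLpull (specHom φ)] :
    Nonempty (DRing.LBaseChange φ ⋙ DCoh.tildeD (CommRingCat.of B) ≅
      DCoh.tildeD (CommRingCat.of A) ⋙ DCoh.Lpull (specHom φ)) := by
  let W := HomotopyCategory.quasiIso (ModuleCat.{u} A) (ComplexShape.up ℤ)
  let F := DRing.baseChangeKh φ ⋙ DCoh.tildeD (CommRingCat.of B)
  have h := (leftResolvable_baseChange φ).postcomp (DCoh.tildeD (CommRingCat.of B))
  let c := (DRing.baseChangeKh φ).totalLeftDerivedCounit DerivedCategory.Qh W
  let α₁ : DerivedCategory.Qh ⋙ (DRing.LBaseChange φ ⋙ DCoh.tildeD (CommRingCat.of B)) ⟶ F :=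
    Functor.whiskerRight c (DCoh.tildeD (CommRingCat.of B))
  have h₁ : ∀ Q, kfMod Q → IsIso (α₁.app Q) := fun Q hQ => by
    have : IsIso (c.app Q) :=
      (leftResolvable_baseChange φ).isIso_app_of_isLeftDerivedFunctor (DRing.LBaseChange φ) c hQ
    exact inferInstanceAs (IsIso ((DCoh.tildeD (CommRingCat.of B)).map (c.app Q)))
  let d := (DCoh.pullKh (specHom φ)).totalLeftDerivedCounit DerivedCategory.Qh
    (HomotopyCategory.quasiIso (Spec (CommRingCat.of A)).Modules (ComplexShape.up ℤ))
  let α₂ : DerivedCategory.Qh ⋙ (DCoh.tildeD (CommRingCat.of A) ⋙ DCoh.Lpull (specHom φ)) ⟶ F :=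
    (Functor.associator _ _ _).inv ≫
      Functor.whiskerRight (tilde.functor (CommRingCat.of A)).mapDerivedCategoryFactorsh.hom _ ≫
      (Functor.associator _ _ _).hom ≫ Functor.whiskerLeft _ d ≫ (bcTildeKhIso φ).inv
  have h₂ : ∀ Q, kfMod Q → IsIso (α₂.app Q) := fun Q hQ => by
    have : IsIso (d.app (((tilde.functor (CommRingCat.of A)).mapHomotopyCategory (ComplexShape.up ℤ)).obj Q)) :=
      (pullKh_leftResolvable (specHom φ)).isIso_app_of_isLeftDerivedFunctor (DCoh.Lpull (specHom φ)) d
        ⟨kflat_tilde hQ.1, flatTerms_tilde hQ.2⟩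
    simp only [α₂, NatTrans.comp_app, Functor.whiskerLeft_app]
    infer_instance
  have := h.isLeftDerivedFunctor (L := DerivedCategory.Qh) _ α₁ h₁
  have := h.isLeftDerivedFunctor (L := DerivedCategory.Qh) _ α₂ h₂
  exact ⟨Functor.leftDerivedNatIso _ _ α₁ α₂ W (Iso.refl F)⟩

end GrothLib.OX
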