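import Groth.Agent.Lib.OX.TildeD
import Groth.Agent.Lib.OX.TildeBaseChange
import Groth.Agent.Lib.OX.PCohTriangle
import Groth.Agent.Lib.OX.FlatLocFree
import Groth.Agent.Lib.OX.SingleDegree
import Groth.Agent.Lib.OX.QCohPull
import Groth.Agent.Lib.QCoh.Abelian
import Groth.Agent.Lib.DCxRing.Descent
import Groth.Agent.Lib.KInj.Adjoint
import Groth.Prelude.Def_DRing2
import Mathlib.RingTheory.Finiteness.Projective

/-! # Perfect and pseudo-coherent objects on affine schemes -/

set_option autoImplicit false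
set_option maxHeartbeats 800000
universe u

open CategoryTheory CategoryTheory.Limits AlgebraicGeometry HomologicalComplex

attribute [local instance] HasDerivedCategory.standard

namespace GrothLib.OX

theorem preservesFiniteLimits_tildeGen (R : CommRingCat.{u}) : PreservesFiniteLimits (tilde.functor R) :=
  inferInstance

instance preservesFiniteLimits_tildeOf (A : Type u) [CommRing A] :
    PreservesFiniteLimits (C := ModuleCat.{u} A) (tilde.functor (CommRingCat.of A)) :=
  preservesFiniteLimits_tildeGen (CommRingCat.of A)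

/-- The free module of rank `n` is the sheaf associated with `Rⁿ`. -/
noncomputable def tildeFreeIso (R : CommRingCat.{u}) (n : ℕ) :
    (tilde.functor R).obj (ModuleCat.of R (ULift.{u} (Fin n) →₀ R)) ≅ FlatMod.freeMod (Spec R) n :=
  tildeFinsupp (ULift.{u} (Fin n)) ≪≫
    Sigma.whiskerEquiv (f := fun _ : ULift.{u} (Fin n) => Coh.structureModule (Spec R))
      (g := fun _ : Fin n => Coh.structureModule (Spec R)) Equiv.ulift (fun _ => Iso.refl _)

theorem finiteFree_of_iso {R : CommRingCat.{u}} {M : (Spec R).Modules} {n : ℕ}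
    (e : M ≅ FlatMod.freeMod (Spec R) n) :
    Module.Free R (moduleSpecΓFunctor.obj M) ∧ Module.Finite R (moduleSpecΓFunctor.obj M) := by
  let i : moduleSpecΓFunctor.obj M ≅ ModuleCat.of R (ULift.{u} (Fin n) →₀ R) :=
    moduleSpecΓFunctor.mapIso (e ≪≫ (tildeFreeIso R n).symm) ≪≫ (tilde.toTildeΓNatIso.app _).symm
  exact ⟨Module.Free.of_equiv i.symm.toLinearEquiv, Module.Finite.equiv i.symm.toLinearEquiv⟩

/-- The sheaf associated with a finite projective module is finite locally free. -/
theorem isFinLocFree_tilde {R : CommRingCat.{u}} (P : ModuleCat.{u} R) [Module.Finite R P] [Module.Projective R P] :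
    FlatMod.IsFinLocFree ((tilde.functor R).obj P) := by
  obtain ⟨n, f, hf⟩ := Module.Finite.exists_fin' R P
  let l : (ULift.{u} (Fin n) →₀ R) →ₗ[R] P :=
    f ∘ₗ ((Finsupp.linearEquivFunOnFinite R R (ULift.{u} (Fin n))).trans
      (LinearEquiv.funCongrLeft R R Equiv.ulift.symm)).toLinearMap
  have hl : Function.Surjective l := hf.comp (LinearEquiv.surjective _)
  obtain ⟨s, hs⟩ := Module.projective_lifting_property l LinearMap.id hl
  let F := ModuleCat.of R (ULift.{u} (Fin n) →₀ R)
  let π : F ⟶ P := ModuleCat.ofHom l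
  let σ : P ⟶ F := ModuleCat.ofHom s
  have hσπ : σ ≫ π = 𝟙 P := ModuleCat.hom_ext hs
  let d : F ⟶ F := 𝟙 F - π ≫ σ
  have w : d ≫ π = 0 := by simp [d, Preadditive.sub_comp, hσπ]
  have hex : (ShortComplex.mk d π w).Exact := by
    rw [ShortComplex.moduleCat_exact_iff]
    intro x hx
    refine ⟨x, ?_⟩
    change x - s (l x) = x
    rw [show l x = 0 from hx, map_zero, sub_zero]
  let T := tilde.functor R
  let e := tildeFreeIso R n
  have w' : (e.inv ≫ T.map d ≫ e.hom) ≫ e.inv ≫ T.map π = 0 := by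
    simp [← T.map_comp, w]
  have hex' : (ShortComplex.mk (e.inv ≫ T.map d ≫ e.hom) (e.inv ≫ T.map π) w').Exact :=
    (ShortComplex.exact_iff_of_iso
      (ShortComplex.isoMk (S₁ := (ShortComplex.mk d π w).map T) (S₂ := ShortComplex.mk _ _ w') e e (Iso.refl _)
        (e.hom_inv_id_assoc _) ((e.hom_inv_id_assoc _).trans (Category.comp_id _).symm))).1 (hex.map T)
  have : Epi π := (ModuleCat.epi_iff_surjective π).2 hl
  have : Epi (T.map π) := inferInstance
  have : Epi (e.inv ≫ T.map π) := epi_comp _ _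
  have : Projective P := (IsProjective.iff_projective _).1 inferInstance
  refine isFinLocFree_of_local fun x => ?_
  obtain ⟨U, j, hj, r, hx, ⟨ee⟩⟩ := exists_restrict_free_of_flat _ _ w' hex' (isFinLocFree_freeMod _ n)
    (flat_tilde_of_projective P) x
  exact ⟨U, j, hj, hx, DCoh.isFinLocFree_of_iso ee.symm (isFinLocFree_freeMod _ r)⟩

variable {A : Type u} [CommRing A]

/-- The inclusion of a standard open. -/
noncomputable abbrev awayMap (f : A) : Spec (CommRingCat.of (Localization.Away f)) ⟶ Spec (CommRingCat.of A) :=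
  specHom (algebraMap A (Localization.Away f))

/-- Restriction of an associated sheaf to a standard open. -/
noncomputable def tildeResIso (f : A) :
    tilde.functor (CommRingCat.of A) ⋙ Scheme.Modules.restrictFunctor (awayMap f) ≅
      ModuleCat.extendScalars (algebraMap A (Localization.Away f)) ⋙
        tilde.functor (CommRingCat.of (Localization.Away f)) :=
  Functor.isoWhiskerLeft _ (Scheme.Modules.restrictFunctorIsoPullback (awayMap f)) ≪≫ tildePullIso _

/-- Restriction to a standard open in the derived category. -/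
theorem nonempty_resD_tildeD (f : A) (K : DRing.Cx A) :
    Nonempty ((resD (awayMap f)).obj ((DCoh.tildeD (CommRingCat.of A)).obj (DRing.toD K)) ≅
      (DCoh.tildeD (CommRingCat.of (Localization.Away f))).obj
        (DRing.toD ((DR.bc (algebraMap A (Localization.Away f))).obj K))) :=
  ⟨(resD (awayMap f)).mapIso ((tilde.functor (CommRingCat.of A)).mapDerivedCategoryFactors.app K) ≪≫
    (resDFac (awayMap f)).app _ ≪≫
    DerivedCategory.Q.mapIso
      ((Functor.mapHomologicalComplexCompIso (tildeResIso f) (ComplexShape.up ℤ) ≪≫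
        (Functor.mapHomologicalComplexCompIso (Iso.refl _) (ComplexShape.up ℤ)).symm).app K) ≪≫
    ((tilde.functor (CommRingCat.of (Localization.Away f))).mapDerivedCategoryFactors.app _).symm⟩

theorem range_awayMap (f : A) :
    Set.range (awayMap f) = (PrimeSpectrum.basicOpen f : Set (PrimeSpectrum A)) :=
  PrimeSpectrum.localization_away_comap_range (Localization.Away f) f

/-- A strictly perfect complex is free on a standard open around a point. -/
theorem exists_away_free {U : Scheme.{u}} (j : U ⟶ Spec (CommRingCat.of A)) [IsOpenImmersion j]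
    {E : CochainComplex U.Modules ℤ} (hE : DCoh.IsStrictlyPerfect E) (y : U) :
    ∃ (f : A) (g : Spec (CommRingCat.of (Localization.Away f)) ⟶ U) (_ : IsOpenImmersion g),
      g ≫ j = awayMap f ∧ j y ∈ PrimeSpectrum.basicOpen f ∧
      ∀ i, ∃ n : ℕ, Nonempty (((resCx g).obj E).X i ≅ FlatMod.freeMod _ n) := by
  obtain ⟨⟨a, b, hab⟩, hloc⟩ := hE
  choose V n hV hn using fun i => hloc i y
  let W : U.Opens := (Finset.Icc a b).inf V
  have hW : y ∈ W := by
    suffices h : ∀ s : Finset ℤ, y ∈ s.inf V from h _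
    intro s
    induction s using Finset.induction with
    | empty => simp
    | insert k s hk ih => rw [Finset.inf_insert]; exact ⟨hV k, ih⟩
  obtain ⟨_, ⟨_, ⟨f, rfl⟩, rfl⟩, hyf, hfW⟩ :=
    (PrimeSpectrum.isBasis_basic_opens (R := A)).exists_subset_of_mem_open
      (show j y ∈ ((j ''ᵁ W : (Spec (CommRingCat.of A)).Opens) : Set _) from ⟨y, hW, rfl⟩) (j ''ᵁ W).2
  have hr : Set.range (awayMap f) ⊆ Set.range j := by
    rw [range_awayMap]
    exact fun z hz => by
      obtain ⟨w, -, rfl⟩ := hfW hz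
      exact ⟨w, rfl⟩
  let g := IsOpenImmersion.lift j (awayMap f) hr
  have hg : g ≫ j = awayMap f := IsOpenImmersion.lift_fac _ _ _
  have : IsOpenImmersion (g ≫ j) := hg ▸ inferInstance
  have hgi : IsOpenImmersion g := IsOpenImmersion.of_comp g j
  refine ⟨f, g, hgi, hg, hyf, fun i => ?_⟩
  by_cases hi : a ≤ i ∧ i ≤ b
  · have hgV : Set.range g ⊆ Set.range (V i).ι := by
      rintro _ ⟨z, rfl⟩
      have hz : j (g z) ∈ ((j ''ᵁ W : (Spec (CommRingCat.of A)).Opens) : Set _) := hfW (by
        have h1 : j (g z) = awayMap f z := by rw [← hg]; rfl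
        exact h1 ▸ (range_awayMap f).subset ⟨z, rfl⟩)
      obtain ⟨w, hw, hwz⟩ := hz
      rw [← j.isOpenEmbedding.injective hwz, Scheme.Opens.range_ι]
      exact (Finset.inf_le (Finset.mem_Icc.2 hi) : W ≤ V i) hw
    let g' := IsOpenImmersion.lift (V i).ι g hgV
    have hg' : g' ≫ (V i).ι = g := IsOpenImmersion.lift_fac _ _ _
    have : IsOpenImmersion (g' ≫ (V i).ι) := hg' ▸ hgi
    have : IsOpenImmersion g' := IsOpenImmersion.of_comp g' (V i).ι
    obtain ⟨e⟩ := hn i
    exact ⟨n i, ⟨((Scheme.Modules.restrictFunctorCongr hg'.symm ≪≫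
      Scheme.Modules.restrictFunctorComp g' (V i).ι).app _) ≪≫
        (Scheme.Modules.restrictFunctor g').mapIso e ≪≫ DCoh.restrictFreeModIso g' _⟩⟩
  · refine ⟨0, ⟨((Scheme.Modules.restrictFunctor g).map_isZero (hab i ?_)).iso
      ((IsZero.iff_id_eq_zero _).2 (Sigma.hom_ext _ _ fun k => k.elim0))⟩⟩
    omega

/-- Free terms: the complex comes from a complex of finite free modules. -/
theorem exists_free_model {R : CommRingCat.{u}} {E : CochainComplex (Spec R).Modules ℤ}
    (hE : DCoh.IsStrictlyPerfect E) (hf : ∀ i, ∃ n : ℕ, Nonempty (E.X i ≅ FlatMod.freeMod (Spec R) n)) :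
    ∃ (P : CochainComplex (ModuleCat.{u} R) ℤ) (a b : ℤ), DRing.VanishesOutside P a b ∧
      DRing.TermwiseFiniteFree P ∧
      Nonempty (((tilde.functor R).mapHomologicalComplex (ComplexShape.up ℤ)).obj P ≅ E) := by
  obtain ⟨⟨a, b, hab⟩, -⟩ := hE
  have : (moduleSpecΓFunctor (R := R)).Additive := tilde.adjunction.right_adjoint_additive
  refine ⟨((moduleSpecΓFunctor (R := R)).mapHomologicalComplex (ComplexShape.up ℤ)).obj E, a, b,
    fun i hi => (moduleSpecΓFunctor (R := R)).map_isZero (hab i hi), fun i => ?_, ?_⟩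
  · obtain ⟨n, ⟨e⟩⟩ := hf i
    exact ⟨(finiteFree_of_iso e).2, (finiteFree_of_iso e).1⟩
  · let c := (KInj.mapComplexAdj (tilde.adjunction (R := R)) (ComplexShape.up ℤ)).counit.app E
    have : ∀ i, IsIso (c.f i) := fun i => by
      obtain ⟨n, ⟨e⟩⟩ := hf i
      exact isIso_fromTildeΓ_iff.2 ⟨_, ⟨tildeFreeIso R n ≪≫ e.symm⟩⟩
    exact ⟨HomologicalComplex.Hom.isoOfComponents (fun i => asIso (c.f i)) fun i k _ => c.comm i k⟩

theorem strictlyPerfect_tilde {R : CommRingCat.{u}} {P : CochainComplex (ModuleCat.{u} R) ℤ} {a b : ℤ}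
    (hv : DRing.VanishesOutside P a b) (hp : DRing.TermwiseFiniteProjective P) :
    DCoh.IsStrictlyPerfect (((tilde.functor R).mapHomologicalComplex (ComplexShape.up ℤ)).obj P) :=
  ⟨⟨a, b, fun i hi => (tilde.functor R).map_isZero (hv i hi)⟩, fun i => by
    have := (hp i).1
    have := (hp i).2
    exact isFinLocFree_tilde (P.X i)⟩

theorem good_of_map {R : CommRingCat.{u}} [PreservesFiniteLimits (tilde.functor R)]
    {K L : DerivedCategory (ModuleCat.{u} R)} {g : K ⟶ L} {m : ℤ}
    (h : DerCat.Good ((DCoh.tildeD R).map g) m) : DerCat.Good g m := by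
  refine ⟨fun i hi => ?_, ?_⟩
  · have := h.1 i hi
    have := (DerTrunc.isIso_map_homology_iff (tilde.functor R) g i).1 this
    exact isIso_of_reflects_iso _ (tilde.functor R)
  · have := h.2
    have : Epi ((tilde.functor R).map ((DerivedCategory.homologyFunctor _ m).map g)) :=
      ((MorphismProperty.epimorphisms _).arrow_mk_iso_iff
        (Arrow.isoMk ((DerTrunc.homologyMapIso (tilde.functor R) m).app K)
          ((DerTrunc.homologyMapIso (tilde.functor R) m).app L)
          ((DerTrunc.homologyMapIso (tilde.functor R) m).hom.naturality g).symm)).1 this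
    exact Functor.epi_of_epi_map (tilde.functor R) this

theorem exists_free_approx {R : CommRingCat.{u}} [PreservesFiniteLimits (tilde.functor R)]
    {E : CochainComplex (Spec R).Modules ℤ} (hE : DCoh.IsStrictlyPerfect E)
    (hf : ∀ i, ∃ n : ℕ, Nonempty (E.X i ≅ FlatMod.freeMod (Spec R) n))
    {K : DerivedCategory (ModuleCat.{u} R)} (α : DerivedCategory.Q.obj E ⟶ (DCoh.tildeD R).obj K) :
    ∃ (P : CochainComplex (ModuleCat.{u} R) ℤ) (a b : ℤ) (β : DerivedCategory.Q.obj P ⟶ K),
      DRing.VanishesOutside P a b ∧ DRing.TermwiseFiniteFree P ∧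
      (∀ m, DerCat.Good α m → DerCat.Good β m) ∧ (IsIso α → IsIso β) := by
  obtain ⟨P, a, b, hv, hff, ⟨e⟩⟩ := exists_free_model hE hf
  obtain ⟨hfull, hfaith, -⟩ := tildeD_full_faithful_essImage (R := R)
  let e' : (DCoh.tildeD R).obj (DerivedCategory.Q.obj P) ≅ DerivedCategory.Q.obj E :=
    (tilde.functor R).mapDerivedCategoryFactors.app P ≪≫ DerivedCategory.Q.mapIso e
  obtain ⟨β, hβ⟩ := (DCoh.tildeD R).map_surjective (e'.hom ≫ α)
  refine ⟨P, a, b, β, hv, hff, fun m hm => good_of_map ?_, fun hα => ?_⟩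
  · rw [hβ]
    exact (DerCat.good_of_isIso _ m).comp hm
  · have : IsIso ((DCoh.tildeD R).map β) := by rw [hβ]; infer_instance
    exact isIso_of_reflects_iso _ (DCoh.tildeD R)

theorem exists_away_cover {P : A → Prop}
    (h : ∀ x : PrimeSpectrum A, ∃ f, x ∈ PrimeSpectrum.basicOpen f ∧ P f) :
    ∃ (r : ℕ) (f : Fin r → A), Ideal.span (Set.range f) = ⊤ ∧ ∀ i, P (f i) := by
  choose f hx hP using h
  obtain ⟨s, hs⟩ := CompactSpace.elim_nhds_subcover (fun x => (PrimeSpectrum.basicOpen (f x) : Set (PrimeSpectrum A)))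
    fun x => (PrimeSpectrum.basicOpen (f x)).2.mem_nhds (hx x)
  refine ⟨s.card, fun i => f (s.equivFin.symm i), ?_, fun i => hP _⟩
  rw [← PrimeSpectrum.iSup_basicOpen_eq_top_iff, eq_top_iff]
  intro x _
  have hx' : x ∈ ⋃ y ∈ s, (PrimeSpectrum.basicOpen (f y) : Set (PrimeSpectrum A)) := by rw [hs]; trivial
  simp only [Set.mem_iUnion] at hx'
  obtain ⟨y, hy, hxy⟩ := hx'
  rw [TopologicalSpace.Opens.mem_iSup]
  exact ⟨s.equivFin ⟨y, hy⟩, by simpa using hxy⟩

/-- Local strictly perfect approximations give approximations by free complexes on standard opens. -/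
theorem exists_away_approx (K : DRing.Cx A) {U : Scheme.{u}} (j : U ⟶ Spec (CommRingCat.of A)) [IsOpenImmersion j]
    {E : CochainComplex U.Modules ℤ} (hE : DCoh.IsStrictlyPerfect E) (y : U)
    (α : DerivedCategory.Q.obj E ⟶ (resD j).obj ((DCoh.tildeD (CommRingCat.of A)).obj (DRing.toD K))) :
    ∃ (f : A) (P : DRing.Cx (Localization.Away f)) (a b : ℤ)
      (β : DRing.toD P ⟶ DRing.toD ((DR.bc (algebraMap A (Localization.Away f))).obj K)),
      j y ∈ PrimeSpectrum.basicOpen f ∧ DRing.VanishesOutside P a b ∧ DRing.TermwiseFiniteFree P ∧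
      (∀ m, DerCat.Good α m → DerCat.Good β m) ∧ (IsIso α → IsIso β) := by
  obtain ⟨f, g, hgi, hg, hy, hfree⟩ := exists_away_free j hE y
  obtain ⟨e₁⟩ := nonempty_resD_comp g j ((DCoh.tildeD (CommRingCat.of A)).obj (DRing.toD K))
  obtain ⟨e₂⟩ := nonempty_resD_congr hg ((DCoh.tildeD (CommRingCat.of A)).obj (DRing.toD K))
  obtain ⟨e₃⟩ := nonempty_resD_tildeD f K
  let α' := (resDFac g).inv.app E ≫ (resD g).map α ≫ (e₁.symm ≪≫ e₂ ≪≫ e₃).hom
  obtain ⟨P, a, b, β, hv, hff, hgood, hiso⟩ :=
    exists_free_approx (strictlyPerfect_resCx g hE) hfree α'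
  exact ⟨f, P, a, b, β, hy, hv, hff, fun m hm => hgood m ((DerCat.good_of_isIso _ m).comp
    ((hm.map (Scheme.Modules.restrictFunctor g)).comp (DerCat.good_of_isIso _ m))),
    fun hα => hiso inferInstance⟩

/-- Pseudo-coherence of an associated object. -/
theorem isPseudoCoherentD_tildeD_iff (M : Dual.D A) (m : ℤ) :
    DCoh.IsPseudoCoherentD m ((DCoh.tildeD (CommRingCat.of A)).obj M) ↔ DRing.IsPseudoCoherent A m M := by
  rw [isPseudoCoherentD_iff]
  constructor
  · intro h
    let K := DerivedCategory.Q.objPreimage M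
    let eK : DRing.toD K ≅ M := DerivedCategory.Q.objObjPreimageIso M
    obtain ⟨r, f, hf, hP⟩ := exists_away_cover (A := A)
      (P := fun f => DRing.IsPseudoCoherent (Localization.Away f) m
        (DRing.toD ((DR.bc (algebraMap A (Localization.Away f))).obj K))) fun x => by
      obtain ⟨U, j, hj, ⟨y, rfl⟩, E, α, hE, hα⟩ := h x
      obtain ⟨f, P, a, b, β, hy, hv, hff, hgood, -⟩ := exists_away_approx K j hE y
        (α ≫ (resD j).map ((DCoh.tildeD (CommRingCat.of A)).map eK.inv))
      obtain ⟨h1, h2⟩ := hgood m (hα.comp (DerCat.good_of_isIso _ m))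
      exact ⟨f, hy, P, a, b, β, hv, hff, h1, h2⟩
    exact DerBC.isPseudoCoherent_of_iso eK
      (DR.isPseudoCoherent_of_covers (DR.covers_away f hf) (fun i => DR.flat_away (f i)) K m hP)
  · rintro ⟨E, a, b, α, hv, hff, h1, h2⟩ x
    refine ⟨_, 𝟙 _, inferInstance, ⟨x, rfl⟩, Approx.restrict ?_ _⟩
    let T := tilde.functor (CommRingCat.of A)
    exact ⟨(T.mapHomologicalComplex (ComplexShape.up ℤ)).obj E,
      T.mapDerivedCategoryFactors.inv.app E ≫ (DCoh.tildeD (CommRingCat.of A)).map α,
      strictlyPerfect_tilde hv (fun i => ⟨(hff i).1, @Module.Projective.of_free _ _ _ _ _ (hff i).2⟩),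
      (DerCat.good_of_isIso _ m).comp (DerCat.Good.map T ⟨h1, h2⟩)⟩

/-- Perfectness of an associated object. -/
theorem isPerfect_tildeD_iff (M : Dual.D A) :
    DCoh.IsPerfect ((DCoh.tildeD (CommRingCat.of A)).obj M) ↔ DRing.IsPerfect A M := by
  rw [isPerfect_iff]
  constructor
  · intro h
    let K := DerivedCategory.Q.objPreimage M
    let eK : DRing.toD K ≅ M := DerivedCategory.Q.objObjPreimageIso M
    obtain ⟨r, f, hf, hP⟩ := exists_away_cover (A := A)
      (P := fun f => DRing.IsPerfect (Localization.Away f)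
        (DRing.toD ((DR.bc (algebraMap A (Localization.Away f))).obj K))) fun x => by
      obtain ⟨U, j, hj, ⟨y, rfl⟩, E, hE, ⟨α⟩⟩ := h x
      obtain ⟨f, P, a, b, β, hy, hv, hff, -, hiso⟩ := exists_away_approx K j hE y
        (α.hom ≫ (resD j).map ((DCoh.tildeD (CommRingCat.of A)).map eK.inv))
      have := hiso inferInstance
      exact ⟨f, hy, P, a, b, hv, fun i => ⟨(hff i).1, @Module.Projective.of_free _ _ _ _ _ (hff i).2⟩,
        ⟨asIso β⟩⟩
    exact DR.isPerfect_of_iso eK
      (DR.isPerfect_of_covers (DR.covers_away f hf) (fun i => DR.flat_away (f i)) K hP)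
  · rintro ⟨E, a, b, hv, hp, ⟨α⟩⟩ x
    refine ⟨_, 𝟙 _, inferInstance, ⟨x, rfl⟩, Strict.restrict ?_ _⟩
    let T := tilde.functor (CommRingCat.of A)
    exact ⟨(T.mapHomologicalComplex (ComplexShape.up ℤ)).obj E, strictlyPerfect_tilde hv hp,
      ⟨(T.mapDerivedCategoryFactors.app E).symm ≪≫ (DCoh.tildeD (CommRingCat.of A)).mapIso α⟩⟩

end GrothLib.OX
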