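import Groth.Agent.Lib.OX.HomQCoh
import Groth.Agent.Lib.QCoh.SupportExact
import Groth.Agent.Lib.Cohom.LinearLES
import Groth.Agent.Lib.DerCat.CohIn

/-! # `D_coh` is a triangulated class on a locally Noetherian scheme -/

set_option autoImplicit false
set_option maxHeartbeats 400000
universe u

open CategoryTheory CategoryTheory.Limits CategoryTheory.Pretriangulated AlgebraicGeometry

attribute [local instance] HasDerivedCategory.standard

namespace GrothLib.OX

variable {X : Scheme.{u}} [IsLocallyNoetherian X]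

/-- Coherent modules, as a property. -/
abbrev cohP (X : Scheme.{u}) : ObjectProperty X.Modules := fun M => Coh.IsCoh M

omit [IsLocallyNoetherian X] in
theorem isCoh_of_isZero {M : X.Modules} (h : IsZero M) : Coh.IsCoh M := by
  have hq : M.IsQuasicoherent := isQCoh_of_isZero h
  refine ⟨hq, (QCoh.isFiniteType_iff_moduleFinite _).2 fun U hU => ?_⟩
  have : Subsingleton Γ(M, U) := by
    refine ⟨fun a b => ?_⟩
    have e := congrArg (fun (t : M ⟶ M) => t.app U) (h.eq_of_src (𝟙 M) 0)
    have ha := ConcreteCategory.congr_hom e a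
    have hb := ConcreteCategory.congr_hom e b
    simp at ha hb
    rw [ha, hb]
  infer_instance

theorem isCoh_extension {T : ShortComplex X.Modules} (hT : T.ShortExact) (h₁ : Coh.IsCoh T.X₁)
    (h₃ : Coh.IsCoh T.X₃) : Coh.IsCoh T.X₂ := by
  have := h₁.1
  have := h₃.1
  have h2 : T.X₂.IsQuasicoherent := QCoh.isQuasicoherent_X₂ hT
  refine ⟨h2, (QCoh.isFiniteType_iff_moduleFinite _).2 fun U hU => ?_⟩
  have : IsNoetherianRing Γ(X, U) := IsLocallyNoetherian.component_noetherian ⟨U, hU⟩
  have := QCoh.moduleFinite_of_isFiniteType T.X₁ h₁.2 hU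
  have := QCoh.moduleFinite_of_isFiniteType T.X₃ h₃.2 hU
  exact Cohom.moduleFinite_of_exact (f := QCoh.appLinear T.f U) (g := QCoh.appLinear T.g U) fun b =>
    ⟨fun hb => QCoh.app_exact hT U b hb, by rintro ⟨a, rfl⟩; exact QCoh.app_comp_zero U a⟩

instance isWeakSerre_cohP : WSerre.IsWeakSerre (cohP X) where
  exists_zero := by
    obtain ⟨Z, hZ⟩ : ∃ Z : X.Modules, IsZero Z := HasZeroObject.zero
    exact ⟨Z, hZ, isCoh_of_isZero hZ⟩
  kernels_le := fun K hK => by
    obtain ⟨f, k, hk, hf⟩ := hK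
    exact QCoh.isCoh_of_iso (IsLimit.conePointUniqueUpToIso (kernelIsKernel f) hk) (QCoh.isCoh_kernel f hf.1 hf.2)
  cokernels_le := fun K hK => by
    obtain ⟨f, k, hk, hf⟩ := hK
    exact QCoh.isCoh_of_iso (IsColimit.coconePointUniqueUpToIso (cokernelIsCokernel f) hk)
      (QCoh.isCoh_cokernel f hf.1 hf.2)
  prop_X₂_of_shortExact := fun {T} hT h₁ h₃ => isCoh_extension hT h₁ h₃

instance isClosedUnderIsomorphisms_isCohD :
    ObjectProperty.IsClosedUnderIsomorphisms (C := DCoh.D X) DCoh.IsCohD where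
  of_iso e h := DerTrunc.cohIn_of_iso (cohP X) e h

instance containsZero_isCohD : ObjectProperty.ContainsZero (C := DCoh.D X) DCoh.IsCohD where
  exists_zero := by
    obtain ⟨Z, hZ⟩ : ∃ Z : DCoh.D X, IsZero Z := HasZeroObject.zero
    exact ⟨Z, hZ, fun i => isCoh_of_isZero ((DerivedCategory.homologyFunctor X.Modules i).map_isZero hZ)⟩

instance isStableUnderShift_isCohD : ObjectProperty.IsStableUnderShift (C := DCoh.D X) DCoh.IsCohD ℤ where
  isStableUnderShiftBy n := ⟨fun _ h => DerTrunc.cohIn_shift (cohP X) h n⟩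

instance isTriangulatedClosed₂_isCohD : ObjectProperty.IsTriangulatedClosed₂ (C := DCoh.D X) DCoh.IsCohD where
  ext₂' T hT h₁ h₃ := ObjectProperty.le_isoClosure _ _ (DerTrunc.cohIn_obj₂ (cohP X) hT h₁ h₃)

instance isTriangulated_isCohD : ObjectProperty.IsTriangulated (C := DCoh.D X) DCoh.IsCohD where

end GrothLib.OX
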