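import Groth.Agent.Lib.OX.ProjQCoh
import Groth.Agent.Lib.OX.AffineApps
import Groth.Agent.Lib.OX.AffineLocal
import Groth.Agent.Lib.OX.QCohCx
import Groth.Agent.Lib.OX.TildeBaseChange
import Groth.Agent.Lib.OX.RRComp
import Groth.Agent.Lib.OX.PerfectEnvelope
import Groth.Agent.Lib.OX.RHomDual
import Groth.Agent.Lib.OX.TildePerfect
import Groth.Agent.Lib.DCxRing.Restrict
import Groth.Agent.Lib.DCxRing.PC

/-! # Direct images along affine morphisms, on affine opens -/

set_option autoImplicit false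
set_option maxHeartbeats 600000
universe u

open CategoryTheory CategoryTheory.Limits CategoryTheory.Pretriangulated AlgebraicGeometry HomologicalComplex
open DerivedCategory (Qh)

attribute [local instance] HasDerivedCategory.standard

namespace GrothLib.OX

variable {X Y : Scheme.{u}}

/-- Restriction along equal open immersions. -/
noncomputable def resDCongrIso {U : Scheme.{u}} {i j : U ⟶ X} [IsOpenImmersion i] [IsOpenImmersion j] (h : i = j) :
    resD i ≅ resD j :=
  eqToIso (by subst h; rfl)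

theorem isIso_of_isIso_resD_surjective {U : Scheme.{u}} (h : U ⟶ X) [IsOpenImmersion h]
    (hs : Function.Surjective h) {K L : DCoh.D X} (φ : K ⟶ L) (hφ : IsIso ((resD h).map φ)) : IsIso φ := by
  obtain ⟨C, g, c, hT⟩ := distinguished_cocone_triangle φ
  suffices IsZero C from (Triangle.isZero₃_iff_isIso₁ _ hT).1 this
  have hz : IsZero ((resD h).obj C) :=
    (Triangle.isZero₃_iff_isIso₁ _ ((resD h).map_distinguished _ hT)).2 hφ
  obtain ⟨Z, hZ⟩ : ∃ Z : DCoh.D X, IsZero Z := HasZeroObject.zero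
  have : IsIso (0 : Z ⟶ C) := (DerivedCategory.isIso_iff _ _).2 fun q =>
    ⟨0, ((DerivedCategory.homologyFunctor _ q).map_isZero hZ).eq_of_src _ _,
      (isZero_of_local fun x => ⟨U, h, inferInstance, hs x,
        ((DerivedCategory.homologyFunctor U.Modules q).map_isZero hz).of_iso (HDResIso h C q).symm⟩).eq_of_src _ _⟩
  exact hZ.of_iso (asIso (0 : Z ⟶ C)).symm

theorem isIso_resDAdj_unit_of_surjective {U : Scheme.{u}} (h : U ⟶ X) [IsOpenImmersion h]
    (hs : Function.Surjective h) (N : DCoh.D X) : IsIso ((resDAdj h).unit.app N) :=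
  isIso_of_isIso_resD_surjective h hs _ (isIso_resD_unit h N)

/-- `Rf_*` over an affine open of the target, when its preimage is affine. -/
theorem nonempty_resD_RR_affine (f : X ⟶ Y) {V : Y.Opens} (hV : IsAffineOpen V) (hU : IsAffineOpen (f ⁻¹ᵁ V))
    (E : DCoh.D X) :
    Nonempty ((resD hV.fromSpec).obj ((RR f).obj E) ≅
      (RR (Spec.map (f.appLE V (f ⁻¹ᵁ V) le_rfl))).obj ((resD hU.fromSpec).obj E)) := by
  let g := hV.isoSpec.hom
  let h := hU.isoSpec.hom
  let fs := Spec.map (f.appLE V (f ⁻¹ᵁ V) le_rfl)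
  have hg : g ≫ hV.fromSpec = V.ι := hV.isoSpec_hom_fromSpec
  have hh : h ≫ hU.fromSpec = (f ⁻¹ᵁ V).ι := hU.isoSpec_hom_fromSpec
  have hsq : (f ∣_ V) ≫ g = h ≫ fs := by
    rw [← cancel_mono hV.fromSpec, Category.assoc, hg, Category.assoc,
      IsAffineOpen.SpecMap_appLE_fromSpec f hV hU le_rfl, ← Category.assoc, hh]
    exact morphismRestrict_ι f V
  let G := (resD hV.fromSpec).obj ((RR f).obj E)
  let E' := (resD hU.fromSpec).obj E
  have hu : IsIso ((resDAdj g).unit.app G) :=
    isIso_resDAdj_unit_of_surjective g (ConcreteCategory.bijective_of_isIso g.base).2 G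
  have hu' : IsIso ((resDAdj h).unit.app E') :=
    isIso_resDAdj_unit_of_surjective h (ConcreteCategory.bijective_of_isIso h.base).2 E'
  let a : (resD g).obj G ≅ (RR (f ∣_ V)).obj ((resD h).obj E') :=
    (resDCompIso g hV.fromSpec).app ((RR f).obj E) ≪≫ (resDCongrIso hg).app _ ≪≫
      (resDRRBaseChange f V).app E ≪≫
      (RR (f ∣_ V)).mapIso ((resDCongrIso hh.symm).app E ≪≫ ((resDCompIso h hU.fromSpec).app E).symm)
  exact ⟨@asIso _ _ _ _ _ hu ≪≫ (RR g).mapIso a ≪≫ (RRCompIso (f ∣_ V) g).app _ ≪≫ (RRCongr hsq).app _ ≪≫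
    ((RRCompIso h fs).app _).symm ≪≫ (RR fs).mapIso (@asIso _ _ _ _ _ hu').symm⟩

/-- Direct image along an affine morphism of a complex of quasi-coherent modules. -/
noncomputable def RRAffineCxIso (f : X ⟶ Y) [IsAffineHom f] (F : CochainComplex X.Modules ℤ)
    (hF : ∀ n, Coh.IsQCoh (F.X n)) :
    (RR f).obj (DerivedCategory.Q.obj F) ≅ DerivedCategory.Q.obj ((pushCxF f).obj F) :=
  (RR f).mapIso ((DerivedCategory.quotientCompQhIso X.Modules).app F).symm ≪≫
    (@asIso _ _ _ _ (pushUnit f F) (isIso_pushKh_unit_of_affine f F hF)).symm ≪≫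
    (DerivedCategory.quotientCompQhIso Y.Modules).app _

section Spec

/-- A functor commuting with the right adjoints commutes with fully faithful left adjoints on good objects. -/
noncomputable def squareNatIso {MS QS QR MR : Type*} [Category MS] [Category QS] [Category QR] [Category MR]
    (TS : MS ⥤ QS) (P : QS ⥤ QR) (GR : QR ⥤ MR) (TR : MR ⥤ QR) (GS : QS ⥤ MS) (Res : MS ⥤ MR)
    (ε : GR ⋙ TR ⟶ 𝟭 QR) (e : P ⋙ GR ≅ GS ⋙ Res) (η : 𝟭 MS ≅ TS ⋙ GS)
    (h : ∀ N, IsIso (ε.app (P.obj (TS.obj N)))) : TS ⋙ P ≅ Res ⋙ TR :=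
  (NatIso.ofComponents (F := Res ⋙ TR) (G := TS ⋙ P)
    (fun N => TR.mapIso (Res.mapIso (η.app N) ≪≫ (e.app (TS.obj N)).symm) ≪≫ @asIso _ _ _ _ _ (h N))
    fun {N N'} g => by
      have h1 := ε.naturality (P.map (TS.map g))
      have h2 := e.inv.naturality (TS.map g)
      have h3 := congrArg Res.map (η.hom.naturality g)
      dsimp at h1 h2 h3 ⊢
      rw [Res.map_comp, Res.map_comp] at h3
      simp only [Functor.map_comp, Category.assoc]
      rw [← h1]
      simp only [← Category.assoc, ← Functor.map_comp]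
      refine congrArg (fun t => TR.map t ≫ ε.app (P.obj (TS.obj N'))) ?_
      rw [Res.map_comp, h3]
      simp only [Category.assoc, h2]).symm

variable {R S : CommRingCat.{u}} (φ : R ⟶ S)

theorem isIso_counit_push_tilde (N : ModuleCat.{u} S) :
    IsIso (Scheme.Modules.fromTildeΓ ((Scheme.Modules.pushforward (Spec.map φ)).obj ((tilde.functor S).obj N))) :=
  @isIso_fromTildeΓ_pushforward _ _ φ _ inferInstance

/-- Direct images of associated sheaves. -/
noncomputable def pushTildeIso :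
    tilde.functor S ⋙ Scheme.Modules.pushforward (Spec.map φ) ≅
      ModuleCat.restrictScalars φ.hom ⋙ tilde.functor R :=
  squareNatIso (tilde.functor S) (Scheme.Modules.pushforward (Spec.map φ)) (moduleSpecΓFunctor (R := R))
    (tilde.functor R) (moduleSpecΓFunctor (R := S)) (ModuleCat.restrictScalars φ.hom)
    (Scheme.Modules.fromTildeΓNatTrans (R := R)) (pushΓIso φ.hom) (tilde.toTildeΓNatIso (R := S))
    fun N => isIso_counit_push_tilde φ N

/-- Direct images of complexes of associated sheaves. -/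
noncomputable def pushTildeCxIso (C : CochainComplex (ModuleCat.{u} S) ℤ) :
    (pushCxF (Spec.map φ)).obj (((tilde.functor S).mapHomologicalComplex (ComplexShape.up ℤ)).obj C) ≅
      ((tilde.functor R).mapHomologicalComplex (ComplexShape.up ℤ)).obj
        (((ModuleCat.restrictScalars φ.hom).mapHomologicalComplex (ComplexShape.up ℤ)).obj C) :=
  HomologicalComplex.Hom.isoOfComponents (fun n => (pushTildeIso φ).app (C.X n))
    fun i j _ => ((pushTildeIso φ).hom.naturality (C.d i j)).symm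

/-- Direct image of associated objects of derived categories. -/
theorem nonempty_RR_tildeD (M : Dual.D (S : Type u)) :
    Nonempty ((RR (Spec.map φ)).obj ((DCoh.tildeD S).obj M) ≅
      (DCoh.tildeD R).obj ((DRing.restrictD φ.hom).obj M)) := by
  let C := DerivedCategory.Q.objPreimage M
  let e : DerivedCategory.Q.obj C ≅ M := DerivedCategory.Q.objObjPreimageIso M
  exact ⟨(RR (Spec.map φ)).mapIso ((DCoh.tildeD S).mapIso e.symm ≪≫
      (tilde.functor S).mapDerivedCategoryFactors.app C) ≪≫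
    RRAffineCxIso (Spec.map φ) (((tilde.functor S).mapHomologicalComplex (ComplexShape.up ℤ)).obj C)
      (fun n => inferInstanceAs ((tilde (C.X n)).IsQuasicoherent)) ≪≫
    DerivedCategory.Q.mapIso (pushTildeCxIso φ C) ≪≫
    ((tilde.functor R).mapDerivedCategoryFactors.app _).symm ≪≫
    (DCoh.tildeD R).mapIso (((ModuleCat.restrictScalars φ.hom).mapDerivedCategoryFactors.app C).symm ≪≫
      (DRing.restrictD φ.hom).mapIso e)⟩

end Spec

/-- The unit object of an affine scheme. -/
noncomputable def tildeUnitDIso (R : CommRingCat.{u}) :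
    (DCoh.tildeD R).obj (Dual.inD (R : Type u) (R : Type u)) ≅
      DerivedCategory.Q.obj (unitCx (Spec R)) :=
  (DCoh.tildeD R).mapIso ((DerivedCategory.singleFunctorIsoCompQ (ModuleCat.{u} R) 0).app _) ≪≫
    (tilde.functor R).mapDerivedCategoryFactors.app _ ≪≫
    DerivedCategory.Q.mapIso (((singleMapHomologicalComplex (tilde.functor R) (ComplexShape.up ℤ) 0).app _) ≪≫
      (single _ (ComplexShape.up ℤ) 0).mapIso tildeSelf)

/-- The unit complex restricts to the unit complex. -/
noncomputable def resUnitCxIso {U : Scheme.{u}} (j : U ⟶ X) [IsOpenImmersion j] :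
    (resD j).obj (DerivedCategory.Q.obj (unitCx X)) ≅ DerivedCategory.Q.obj (unitCx U) :=
  (resDFac j).app _ ≪≫ DerivedCategory.Q.mapIso
    (((singleMapHomologicalComplex (Scheme.Modules.restrictFunctor j) (ComplexShape.up ℤ) 0).app _) ≪≫
      (single _ (ComplexShape.up ℤ) 0).mapIso
        ((Scheme.Modules.restrictFunctorIsoPullback j).app _ ≪≫ pullUnitIso j))

theorem isQCoh_unitCx_X (n : ℤ) : Coh.IsQCoh ((unitCx X).X n) := by
  by_cases h : n = 0
  · subst h
    exact isQCoh_of_iso (singleObjXSelf (ComplexShape.up ℤ) 0 (Coh.structureModule X)).symm (HomSh.isCoh_structureModule X).1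
  · exact isQCoh_of_isZero (isZero_single_obj_X _ _ _ _ h)

/-- **Pseudo-coherence and finite direct images.** -/
theorem isPseudoCoherentD_RR_iff (f : X ⟶ Y) [IsAffineHom f]
    (hO : ∀ m : ℤ, DCoh.IsPseudoCoherentD m (DCoh.inD Y ((Scheme.Modules.pushforward f).obj (Coh.structureModule X))))
    {E : DCoh.D X} (hE : DCoh.IsQCohD E) (m : ℤ) :
    DCoh.IsPseudoCoherentD m E ↔ DCoh.IsPseudoCoherentD m ((RR f).obj E) := by
  let u : (RR f).obj (DerivedCategory.Q.obj (unitCx X)) ≅
      DCoh.inD Y ((Scheme.Modules.pushforward f).obj (Coh.structureModule X)) :=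
    RRAffineCxIso f (unitCx X) isQCoh_unitCx_X ≪≫
      DerivedCategory.Q.mapIso ((singleMapHomologicalComplex (Scheme.Modules.pushforward f) (ComplexShape.up ℤ) 0).app _) ≪≫
      ((DerivedCategory.singleFunctorIsoCompQ Y.Modules 0).app _).symm
  have key : ∀ (V : Y.Opens) (hV : IsAffineOpen V),
      DCoh.IsPseudoCoherentD m ((resD hV.fromSpec).obj ((RR f).obj E)) ↔
        DCoh.IsPseudoCoherentD m ((resD (hV.preimage f).fromSpec).obj E) := by
    intro V hV
    let φ := f.appLE V (f ⁻¹ᵁ V) le_rfl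
    obtain ⟨M, ⟨eM⟩⟩ := exists_tildeD_rep hE (hV.preimage f).fromSpec
    obtain ⟨a⟩ := nonempty_resD_RR_affine f hV (hV.preimage f) E
    obtain ⟨b⟩ := nonempty_RR_tildeD φ M
    obtain ⟨a₀⟩ := nonempty_resD_RR_affine f hV (hV.preimage f) (DerivedCategory.Q.obj (unitCx X))
    obtain ⟨b₀⟩ := nonempty_RR_tildeD φ (Dual.inD (Γ(X, f ⁻¹ᵁ V) : Type u) Γ(X, f ⁻¹ᵁ V))
    let c : (DCoh.tildeD Γ(Y, V)).obj ((DRing.restrictD φ.hom).obj (Dual.inD (Γ(X, f ⁻¹ᵁ V) : Type u) Γ(X, f ⁻¹ᵁ V))) ≅
        (resD hV.fromSpec).obj (DCoh.inD Y ((Scheme.Modules.pushforward f).obj (Coh.structureModule X))) :=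
      b₀.symm ≪≫ (RR (Spec.map φ)).mapIso (tildeUnitDIso _ ≪≫ (resUnitCxIso (hV.preimage f).fromSpec).symm) ≪≫
        a₀.symm ≪≫ (resD hV.fromSpec).mapIso u
    have hB : DR.RingPseudoCoherent φ.hom := DR.isPseudoCoherent'_of_forall fun k =>
      DerBC.isPseudoCoherent_of_iso ((ModuleCat.restrictScalars φ.hom).mapDerivedCategorySingleFunctor 0 |>.app _)
        ((isPseudoCoherentD_tildeD_iff (A := (Γ(Y, V) : Type u)) _ k).1
          (isPseudoCoherentD_of_iso (isPseudoCoherentD_resD (hO k) hV.fromSpec) c.symm))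
    exact ⟨fun h => isPseudoCoherentD_of_iso ((isPseudoCoherentD_tildeD_iff (A := (Γ(X, f ⁻¹ᵁ V) : Type u)) M m).2
        ((DR.isPseudoCoherent_restrictD_iff hB M m).2 ((isPseudoCoherentD_tildeD_iff (A := (Γ(Y, V) : Type u)) _ m).1
          (isPseudoCoherentD_of_iso h (a ≪≫ (RR (Spec.map φ)).mapIso eM.symm ≪≫ b))))) eM,
      fun h => isPseudoCoherentD_of_iso ((isPseudoCoherentD_tildeD_iff (A := (Γ(Y, V) : Type u)) _ m).2
        ((DR.isPseudoCoherent_restrictD_iff hB M m).1 ((isPseudoCoherentD_tildeD_iff (A := (Γ(X, f ⁻¹ᵁ V) : Type u)) M m).1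
          (isPseudoCoherentD_of_iso h eM.symm)))) (a ≪≫ (RR (Spec.map φ)).mapIso eM.symm ≪≫ b).symm⟩
  constructor
  · intro h
    refine isPseudoCoherentD_of_local fun y => ?_
    obtain ⟨V, hV, hy, -⟩ := exists_isAffineOpen_mem_and_subset (x := y) (U := ⊤) trivial
    exact ⟨_, hV.fromSpec, inferInstance, hV.range_fromSpec.symm ▸ hy, (key V hV).2 (isPseudoCoherentD_resD h _)⟩
  · intro h
    refine isPseudoCoherentD_of_local fun x => ?_
    obtain ⟨V, hV, hy, -⟩ := exists_isAffineOpen_mem_and_subset (x := f x) (U := ⊤) trivial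
    exact ⟨_, (hV.preimage f).fromSpec, inferInstance, (hV.preimage f).range_fromSpec.symm ▸ hy,
      (key V hV).1 (isPseudoCoherentD_resD h _)⟩

end GrothLib.OX
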