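import Groth.Agent.Lib.OX.HomVanish
import Groth.Agent.Lib.OX.LocalHomotopy
import Groth.Agent.Lib.OX.RHomDual
import Groth.Agent.Lib.OX.HomAmplitude
import Groth.Agent.Lib.OX.AffineLocal

/-! # Uniform vanishing of maps out of finite locally free modules -/

set_option autoImplicit false
set_option maxHeartbeats 400000
universe u

open CategoryTheory CategoryTheory.Limits CategoryTheory.Pretriangulated AlgebraicGeometry HomologicalComplex

attribute [local instance] HasDerivedCategory.standard

namespace GrothLib.OX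

variable {X : Scheme.{u}}

/-- The class of complexes whose internal Hom into `I` lives in degrees at most `N` contains the
single free complexes. -/
theorem isLE_Q_homCx_single_free (I : CochainComplex X.Modules ℤ) (N : ℤ)
    [(DerivedCategory.Q.obj I).IsLE N] : ∀ n : ℕ, (DerivedCategory.Q.obj ((homCx ((single X.Modules
      (ComplexShape.up ℤ) 0).obj (∐ fun _ : Fin n => Coh.structureModule X))).obj I)).IsLE N
  | 0 => by
    refine (DerivedCategory.isLE_iff _ _).2 fun i _ => (DerivedCategory.homologyFunctor _ i).map_isZero ?_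
    exact isZero_Q_homCx_of_contractible (Homotopy.ofEq (((single X.Modules (ComplexShape.up ℤ) 0).map_isZero (by
      rw [IsZero.iff_id_eq_zero]
      exact Sigma.hom_ext _ _ fun i => i.elim0)).eq_of_src _ _)) I
  | n + 1 => by
    let O := Coh.structureModule X
    let F := fun m : ℕ => fun _ : Fin m => O
    let f : ∐ F n ⟶ ∐ F (n + 1) := Sigma.desc fun i => Sigma.ι (F (n + 1)) i.castSucc
    let g : ∐ F (n + 1) ⟶ O := Sigma.desc (Fin.lastCases (𝟙 O) fun _ => 0)
    let r : ∐ F (n + 1) ⟶ ∐ F n := Sigma.desc (Fin.lastCases 0 fun i => Sigma.ι (F n) i)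
    let s : O ⟶ ∐ F (n + 1) := Sigma.ι (F (n + 1)) (Fin.last n)
    have hfg : f ≫ g = 0 := Sigma.hom_ext _ _ fun i => by simp [f, g]
    let σ : (ShortComplex.mk f g hfg).Splitting :=
      { r := r, s := s, f_r := Sigma.hom_ext _ _ fun i => by simp [f, r], s_g := by simp [s, g]
        id := Sigma.hom_ext _ _ fun i => by
          induction i using Fin.lastCases with
          | last =>
            simp [f, g, r, s, Preadditive.comp_add]
            exact Category.id_comp _
          | cast i => simp [f, g, r, s, Preadditive.comp_add] }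
    let σ' := fun q => (σ.map (single X.Modules (ComplexShape.up ℤ) 0)).map (HomologicalComplex.eval _ _ q)
    have h1 := isLE_Q_homCx_single_free I N n
    have h3 : (DerivedCategory.Q.obj ((homCx ((single X.Modules (ComplexShape.up ℤ) 0).obj O)).obj I)).IsLE N :=
      @Triangulated.TStructure.isLE_of_iso _ _ _ _ _ _ _ DerivedCategory.TStructure.t _ _
        (DerivedCategory.Q.mapIso (homCxUnitIso.app I)).symm N ‹_›
    exact DerivedCategory.TStructure.t.isLE₂ _ (homTriangle_distinguished
      (S := (ShortComplex.mk f g hfg).map (single X.Modules (ComplexShape.up ℤ) 0)) σ' I) N h3 h1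

/-- `RHom` out of a finite locally free module is right t-exact. -/
theorem isLE_RSheafHom_of_finLocFree {F : X.Modules} (hF : FlatMod.IsFinLocFree F)
    [DCoh.HasLTensorCx ((single X.Modules (ComplexShape.up ℤ) 0).obj F)]
    [DCoh.HasRSheafHom ((single X.Modules (ComplexShape.up ℤ) 0).obj F)] (L : DCoh.D X) (N : ℤ) [L.IsLE N] :
    ((DCoh.RSheafHom ((single X.Modules (ComplexShape.up ℤ) 0).obj F)).obj L).IsLE N := by
  refine isLE_of_affines fun x => ?_
  obtain ⟨V, n, hx, ⟨e⟩⟩ := hF x
  refine ⟨_, V.ι, inferInstance, ⟨⟨x, hx⟩, rfl⟩, ?_⟩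
  let K := (single X.Modules (ComplexShape.up ℤ) 0).obj F
  let E := (single (V : Scheme.{u}).Modules (ComplexShape.up ℤ) 0).obj (FlatMod.freeMod V n)
  let eE : (resCx V.ι).obj K ≅ E :=
    (singleMapHomologicalComplex (Scheme.Modules.restrictFunctor V.ι) (ComplexShape.up ℤ) 0).app _ ≪≫
      (single _ _ 0).mapIso e
  have := hasLTensorCx E
  have := hasRSheafHom E
  have := hasLTensorCx ((resCx V.ι).obj K)
  have := hasRSheafHom ((resCx V.ι).obj K)
  obtain ⟨a⟩ := nonempty_resD_RSheafHom V.ι K
  obtain ⟨b⟩ := nonempty_RSheafHom_congr (DerivedCategory.Q.mapIso eE)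
  have hE : DCoh.IsKFlat E := isKFlat_single _ (flat_freeMod V n) 0
  let M := (resD V.ι).obj L
  have hM : M.IsLE N := (DerivedCategory.isLE_iff M N).2 fun i hi =>
    ((Scheme.Modules.restrictFunctor V.ι).map_isZero (DerivedCategory.isZero_of_isLE L N i hi)).of_iso
      (HDResIso V.ι L i)
  obtain ⟨I, i, hi, hI, -⟩ := KInj.exists_kInjective_resolution (A := (V : Scheme.{u}).Modules)
    (DerivedCategory.Q.objPreimage M)
  let eI : DerivedCategory.Q.obj I ≅ M :=
    (asIso (DerivedCategory.Q.map i)).symm ≪≫ DerivedCategory.Q.objObjPreimageIso M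
  have : (DerivedCategory.Q.obj I).IsLE N := DerivedCategory.TStructure.t.isLE_of_iso eI.symm N
  obtain ⟨v⟩ := nonempty_RSheafHom_value E hE I
  have hle : (DerivedCategory.Q.obj ((homCx E).obj I)).IsLE N := isLE_Q_homCx_single_free I N n
  exact DerivedCategory.TStructure.t.isLE_of_iso
    ((a.app L ≪≫ b.app M ≪≫ (DCoh.RSheafHom E).mapIso eI.symm ≪≫ v).symm) N

theorem isPerfect_single_of_finLocFree {F : X.Modules} (hF : FlatMod.IsFinLocFree F) :
    DCoh.IsPerfect (DerivedCategory.Q.obj ((single X.Modules (ComplexShape.up ℤ) 0).obj F)) := by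
  refine (isPerfect_iff_rep (Iso.refl _)).2 fun x => ⟨⊤, _, trivial,
    strictlyPerfect_single 0 (isFinLocFree_restrict (⊤ : X.Opens).ι hF), ?_⟩
  exact ⟨DerivedCategory.Q.mapIso
    ((singleMapHomologicalComplex (Scheme.Modules.restrictFunctor (⊤ : X.Opens).ι) (ComplexShape.up ℤ) 0).app _)⟩

/-- **Maps out of finite locally free modules into high shifts vanish uniformly.** -/
theorem exists_hom_finLocFree_eq_zero [CompactSpace X] [QuasiSeparatedSpace X] {E : DCoh.D X}
    (hE : DCoh.IsQCohD E) (b : ℤ) [E.IsLE b] :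
    ∃ n₀ : ℤ, 0 < n₀ ∧ ∀ (F : X.Modules), FlatMod.IsFinLocFree F → ∀ n : ℤ, n₀ ≤ n →
      ∀ φ : DCoh.inD X F ⟶ E⟦n⟧, φ = 0 := by
  obtain ⟨a₀, b₀, hvan⟩ := vanRange_of_isPerfect (isPerfect_unit X)
  refine ⟨max 1 (b - a₀ + 1), by omega, fun F hF n hn φ => ?_⟩
  let K := (single X.Modules (ComplexShape.up ℤ) 0).obj F
  have := hasLTensorCx K
  have := hasRSheafHom K
  have hK : DCoh.IsKFlat K := isKFlat_single _ (flat_of_isFinLocFree hF) 0
  have hKp : DCoh.IsPerfect (DerivedCategory.Q.obj K) :=
    isPerfect_single_of_finLocFree hF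
  let S := (single X.Modules (ComplexShape.up ℤ) 0).obj (Coh.structureModule X)
  obtain ⟨v⟩ := ltensorCx_value K S (isKFlat_single _ (flat_structureModule _) 0)
  let O₀ := (DerivedCategory.singleFunctor X.Modules 0).obj (Coh.structureModule X)
  let u : DCoh.inD X F ≅ (DCoh.LTensorCx K).obj O₀ :=
    (DerivedCategory.singleFunctorIsoCompQ X.Modules 0).app F ≪≫
    DerivedCategory.Q.mapIso ((singleUnitNatIso (X := X)).app K).symm ≪≫
    DerivedCategory.Q.mapIso ((tensorFlipIso S).app K) ≪≫ v.symm ≪≫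
      (DCoh.LTensorCx K).mapIso (unitCxQIso X)
  have : (E⟦n⟧).IsLE (b - n) := DerivedCategory.TStructure.t.isLE_shift E b n (b - n) (by omega)
  have hR := isLE_RSheafHom_of_finLocFree hF (E⟦n⟧) (b - n)
  have h0 : ∀ ψ : O₀ ⟶ (DCoh.RSheafHom K).obj (E⟦n⟧), ψ = 0 := fun ψ =>
    hvan _ (isQCohD_RSheafHom_of_perfect K hKp (isQCohD_shift hE n))
      (fun i h1 _ => DerivedCategory.isZero_of_isLE _ (b - n) i (by omega)) ψ
  rw [← cancel_epi u.inv, comp_zero]
  apply ((DCoh.RSheafHomAdj K).homEquiv O₀ _).injective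
  exact (h0 _).trans (h0 _).symm

end GrothLib.OX
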