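import Groth.Agent.Lib.OX.TensorCx
import Mathlib.Algebra.Homology.Embedding.CochainComplex
import Mathlib.Algebra.Homology.HomologicalComplexBiprod

/-! # Closure properties of K-flat complexes -/

set_option autoImplicit false
universe u

open CategoryTheory CategoryTheory.Limits AlgebraicGeometry Opposite HomologicalComplex

namespace GrothLib.OX

variable {X : Scheme.{u}}

instance preservesSmallestColimits_tensorBi_obj (N : X.Modules) :
    PreservesColimitsOfSize.{0, 0} ((DCoh.tensorBi (X := X)).obj N) :=
  preservesSmallestColimits_of_preservesColimits _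

instance preservesSmallestColimits_tensorCx_obj (L : CochainComplex X.Modules ℤ) :
    PreservesColimitsOfSize.{0, 0} ((DCoh.tensorCx (X := X)).obj L) :=
  preservesSmallestColimits_of_preservesColimits _

instance additive_tensorCx_obj (L : CochainComplex X.Modules ℤ) : ((DCoh.tensorCx (X := X)).obj L).Additive :=
  have : ((DCoh.tensorCx (X := X)).obj L).PreservesZeroMorphisms :=
    Functor.preservesZeroMorphisms_of_preserves_initial_object
  have := preservesBinaryBiproducts_of_preservesBinaryCoproducts ((DCoh.tensorCx (X := X)).obj L)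
  Functor.additive_of_preservesBinaryBiproducts _

/-- All terms of a complex are flat. -/
def FlatTerms (K : CochainComplex X.Modules ℤ) : Prop := ∀ n : ℤ, FlatMod.IsFlat (K.X n)

theorem isKFlat_iff (K : CochainComplex X.Modules ℤ) :
    DCoh.IsKFlat K ↔ ∀ L : CochainComplex X.Modules ℤ, L.Acyclic →
      (((DCoh.tensorCx (X := X)).obj L).obj K).Acyclic :=
  forall_congr' fun L => ⟨fun h hL => (DerCat.acyclic_iff _).2 (h ((DerCat.acyclic_iff L).1 hL)),
    fun h hL => (DerCat.acyclic_iff _).1 (h ((DerCat.acyclic_iff L).2 hL))⟩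

theorem isKFlat_of_iso {K K' : CochainComplex X.Modules ℤ} (e : K ≅ K') (h : DCoh.IsKFlat K) :
    DCoh.IsKFlat K' :=
  (isKFlat_iff K').2 fun L hL =>
    DerCat.acyclic_of_iso (((DCoh.tensorCx (X := X)).obj L).mapIso e) ((isKFlat_iff K).1 h L hL)

theorem isKFlat_shift {K : CochainComplex X.Modules ℤ} (h : DCoh.IsKFlat K) (n : ℤ) :
    DCoh.IsKFlat (K⟦n⟧) :=
  (isKFlat_iff _).2 fun L hL => DerCat.acyclic_of_iso
    ((((DCoh.tensorCx (X := X)).obj L).commShiftIso n).app K).symm
    (DerCat.acyclic_shift ((isKFlat_iff K).1 h L hL) n)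

theorem flatTerms_shift {K : CochainComplex X.Modules ℤ} (h : FlatTerms K) (n : ℤ) :
    FlatTerms (K⟦n⟧) :=
  fun i => flat_of_iso (K.shiftFunctorObjXIso n i _ rfl).symm (h _)

theorem flatTerms_of_iso {K K' : CochainComplex X.Modules ℤ} (e : K ≅ K') (h : FlatTerms K) :
    FlatTerms K' :=
  fun i => flat_of_iso ((HomologicalComplex.eval X.Modules _ i).mapIso e) (h i)

theorem isKFlat_sigma {J : Type} [Countable J] (K : J → CochainComplex X.Modules ℤ)
    (h : ∀ j, DCoh.IsKFlat (K j)) : DCoh.IsKFlat (∐ K) :=
  (isKFlat_iff _).2 fun L hL => DerCat.acyclic_of_iso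
    (PreservesCoproduct.iso ((DCoh.tensorCx (X := X)).obj L) K).symm
    (DerCat.acyclic_sigma _ fun j => (isKFlat_iff _).1 (h j) L hL)

theorem isKFlat_colimit (F : ℕ ⥤ CochainComplex X.Modules ℤ) (h : ∀ n, DCoh.IsKFlat (F.obj n)) :
    DCoh.IsKFlat (colimit F) :=
  (isKFlat_iff _).2 fun L hL => DerCat.acyclic_of_iso
    (preservesColimitIso ((DCoh.tensorCx (X := X)).obj L) F).symm
    (DerCat.acyclic_colimit _ fun n => (isKFlat_iff _).1 (h n) L hL)

theorem flatTerms_colimit (F : ℕ ⥤ CochainComplex X.Modules ℤ) (h : ∀ n, FlatTerms (F.obj n)) :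
    FlatTerms (colimit F) := fun i =>
  flat_colimit (isColimitOfPreserves (HomologicalComplex.eval X.Modules (ComplexShape.up ℤ) i) (colimit.isColimit F))
    fun n => h n i

section TwoOutOfThree

variable {S : ShortComplex (CochainComplex X.Modules ℤ)}
  (hS : ∀ L : CochainComplex X.Modules ℤ, (S.map ((DCoh.tensorCx (X := X)).obj L)).ShortExact)

include hS

theorem isKFlat_X₃ (h₁ : DCoh.IsKFlat S.X₁) (h₂ : DCoh.IsKFlat S.X₂) : DCoh.IsKFlat S.X₃ :=
  (isKFlat_iff _).2 fun L hL =>
    DerCat.acyclic_X₃ (hS L) ((isKFlat_iff _).1 h₁ L hL) ((isKFlat_iff _).1 h₂ L hL)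

theorem isKFlat_X₂ (h₁ : DCoh.IsKFlat S.X₁) (h₃ : DCoh.IsKFlat S.X₃) : DCoh.IsKFlat S.X₂ :=
  (isKFlat_iff _).2 fun L hL =>
    DerCat.acyclic_X₂ (hS L) ((isKFlat_iff _).1 h₁ L hL) ((isKFlat_iff _).1 h₃ L hL)

theorem isKFlat_X₁ (h₂ : DCoh.IsKFlat S.X₂) (h₃ : DCoh.IsKFlat S.X₃) : DCoh.IsKFlat S.X₁ :=
  (isKFlat_iff _).2 fun L hL =>
    DerCat.acyclic_X₁ (hS L) ((isKFlat_iff _).1 h₂ L hL) ((isKFlat_iff _).1 h₃ L hL)

end TwoOutOfThree

theorem tensorCx_shortExact_of_flat {S : ShortComplex (CochainComplex X.Modules ℤ)} (hS : S.ShortExact)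
    (h₃ : FlatTerms S.X₃) (L : CochainComplex X.Modules ℤ) :
    (S.map ((DCoh.tensorCx (X := X)).obj L)).ShortExact :=
  tensorCx_map_shortExact L S fun M q =>
    tensor_left_shortExact M (hS.map_of_exact (HomologicalComplex.eval X.Modules _ q)) (h₃ q)

theorem tensorCx_shortExact_of_splitting {S : ShortComplex (CochainComplex X.Modules ℤ)}
    (σ : ∀ q, (S.map (HomologicalComplex.eval X.Modules (ComplexShape.up ℤ) q)).Splitting)
    (L : CochainComplex X.Modules ℤ) : (S.map ((DCoh.tensorCx (X := X)).obj L)).ShortExact :=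
  tensorCx_map_shortExact L S fun M q => ((σ q).map ((DCoh.tensorBi (X := X)).obj M)).shortExact

theorem flatTerms_extension {S : ShortComplex (CochainComplex X.Modules ℤ)} (hS : S.ShortExact)
    (h₁ : FlatTerms S.X₁) (h₃ : FlatTerms S.X₃) : FlatTerms S.X₂ := fun q =>
  flat_extension (hS.map_of_exact (HomologicalComplex.eval X.Modules _ q)) (h₁ q) (h₃ q)

/-- The short complex `L ⟶ cone φ ⟶ K⟦1⟧`. -/
noncomputable def coneShortComplex {K L : CochainComplex X.Modules ℤ} (φ : K ⟶ L) :
    ShortComplex (CochainComplex X.Modules ℤ) :=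
  ShortComplex.mk (CochainComplex.mappingCone.inr φ) (CochainComplex.mappingCone.triangle φ).mor₃
    (CochainComplex.mappingCone.inr_triangleδ φ)

set_option backward.isDefEq.respectTransparency false in
/-- It splits in each degree. -/
noncomputable def coneSplitting {K L : CochainComplex X.Modules ℤ} (φ : K ⟶ L) (q : ℤ) :
    ((coneShortComplex φ).map (HomologicalComplex.eval X.Modules (ComplexShape.up ℤ) q)).Splitting where
  r := (CochainComplex.mappingCone.snd φ).v q q (add_zero q)
  s := -((K.shiftFunctorObjXIso 1 q (q + 1) rfl).hom ≫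
    (CochainComplex.mappingCone.inl φ).v (q + 1) q (by omega))
  f_r := CochainComplex.mappingCone.inr_f_snd_v φ q
  s_g := by
    change (-((K.shiftFunctorObjXIso 1 q (q + 1) rfl).hom ≫
      (CochainComplex.mappingCone.inl φ).v (q + 1) q (by omega))) ≫
      (CochainComplex.mappingCone.triangle φ).mor₃.f q = 𝟙 _
    rw [Preadditive.neg_comp, Category.assoc, CochainComplex.mappingCone.inl_v_triangle_mor₃_f,
      Preadditive.comp_neg, neg_neg, Iso.hom_inv_id]
  id := by
    dsimp [coneShortComplex]
    refine CochainComplex.mappingCone.ext_from φ (q + 1) q rfl ?_ ?_ <;> simp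
    · exact (Category.id_comp _).trans (Category.comp_id _).symm
    · exact (Category.comp_id _).symm

theorem isKFlat_mappingCone {K L : CochainComplex X.Modules ℤ} (φ : K ⟶ L) (hK : DCoh.IsKFlat K)
    (hL : DCoh.IsKFlat L) : DCoh.IsKFlat (CochainComplex.mappingCone φ) :=
  isKFlat_X₂ (S := coneShortComplex φ) (tensorCx_shortExact_of_splitting (coneSplitting φ)) hL
    (isKFlat_shift hK 1)

theorem flatTerms_mappingCone {K L : CochainComplex X.Modules ℤ} (φ : K ⟶ L) (hK : FlatTerms K)
    (hL : FlatTerms L) : FlatTerms (CochainComplex.mappingCone φ) :=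
  flatTerms_extension (S := coneShortComplex φ)
    (HomologicalComplex.shortExact_of_degreewise_shortExact _ fun q => (coneSplitting φ q).shortExact)
    hL (flatTerms_shift hK 1)

section Biprod

variable (K L : CochainComplex X.Modules ℤ)

theorem isKFlat_biprod {K L : CochainComplex X.Modules ℤ} (hK : DCoh.IsKFlat K) (hL : DCoh.IsKFlat L) :
    DCoh.IsKFlat (K ⊞ L) :=
  isKFlat_X₂ (S := ShortComplex.mk (biprod.inl : K ⟶ K ⊞ L) biprod.snd biprod.inl_snd)
    (fun M => ((ShortComplex.Splitting.ofHasBinaryBiproduct K L).map ((DCoh.tensorCx (X := X)).obj M)).shortExact)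
    hK hL

theorem flatTerms_biprod {K L : CochainComplex X.Modules ℤ} (hK : FlatTerms K) (hL : FlatTerms L) :
    FlatTerms (K ⊞ L) :=
  flatTerms_extension (S := ShortComplex.mk (biprod.inl : K ⟶ K ⊞ L) biprod.snd biprod.inl_snd)
    (ShortComplex.Splitting.ofHasBinaryBiproduct K L).shortExact hK hL

end Biprod

section Single

variable (L : CochainComplex X.Modules ℤ) (F : X.Modules)

/-- Tensoring with a module placed in degree zero. -/
noncomputable def singleIso :
    (((DCoh.tensorBi (X := X)).flip.obj F).mapHomologicalComplex (ComplexShape.up ℤ)).obj L ≅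
      ((DCoh.tensorCx (X := X)).obj L).obj ((HomologicalComplex.single X.Modules (ComplexShape.up ℤ) 0).obj F) :=
  HomologicalComplex.Hom.isoOfComponents
    (fun n =>
      { hom := ((DCoh.tensorBi (X := X)).obj (L.X n)).map (HomologicalComplex.singleObjXSelf (ComplexShape.up ℤ) 0 F).inv ≫
          HomologicalComplex.ιMapBifunctor L _ (DCoh.tensorBi (X := X)) (ComplexShape.up ℤ) n 0 n (add_zero n)
        inv := HomologicalComplex.mapBifunctorDesc fun p q h =>
          if hq : q = 0 then
            ((DCoh.tensorBi (X := X)).obj (L.X p)).map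
                (eqToHom (congrArg _ hq) ≫ (HomologicalComplex.singleObjXSelf (ComplexShape.up ℤ) 0 F).hom) ≫
              eqToHom (congrArg (fun k => ((DCoh.tensorBi (X := X)).obj (L.X k)).obj F) (show p = n by
                have h' : p + q = n := h
                omega))
          else 0
        hom_inv_id := by
          erw [Category.assoc, HomologicalComplex.ι_mapBifunctorDesc]
          rw [dif_pos rfl]
          erw [Category.id_comp, Category.comp_id, ← Functor.map_comp, Iso.inv_hom_id, CategoryTheory.Functor.map_id]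
          rfl
        inv_hom_id := by
          refine HomologicalComplex.mapBifunctor.hom_ext fun p q h => ?_
          erw [← Category.assoc, HomologicalComplex.ι_mapBifunctorDesc, Category.comp_id]
          by_cases hq : q = 0
          · subst hq
            obtain rfl : p = n := by
              have h' : p + 0 = n := h
              omega
            rw [dif_pos rfl]
            erw [Category.id_comp, Category.comp_id, ← Category.assoc, ← Functor.map_comp, Iso.hom_inv_id,
              CategoryTheory.Functor.map_id, Category.id_comp]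
          · exact (((DCoh.tensorBi (X := X)).obj (L.X p)).map_isZero
              (HomologicalComplex.isZero_single_obj_X _ 0 F q hq)).eq_of_src _ _ })
    (fun n m (hnm : n + 1 = m) => by
      subst hnm
      change (_ ≫ _) ≫ (HomologicalComplex.mapBifunctor L _ (DCoh.tensorBi (X := X)) (ComplexShape.up ℤ)).d n (n + 1) =
        ((DCoh.tensorBi (X := X)).map (L.d n (n + 1))).app F ≫ _
      simp only [HomologicalComplex.mapBifunctor.d_eq, Preadditive.comp_add, Category.assoc,
        HomologicalComplex.mapBifunctor.ι_D₁, HomologicalComplex.mapBifunctor.ι_D₂]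
      rw [HomologicalComplex.mapBifunctor.d₁_eq _ _ _ _ (show (ComplexShape.up ℤ).Rel n (n + 1) from rfl) 0 (n + 1)
          (add_zero (n + 1)),
        HomologicalComplex.mapBifunctor.d₂_eq _ _ _ _ _ (show (ComplexShape.up ℤ).Rel 0 1 from (zero_add 1)) (n + 1)
          rfl]
      simp [((DCoh.tensorBi (X := X)).map (L.d n (n + 1))).naturality_assoc]
      rfl)

theorem isKFlat_single (F : X.Modules) (hF : FlatMod.IsFlat F) (a : ℤ) :
    DCoh.IsKFlat ((HomologicalComplex.single X.Modules (ComplexShape.up ℤ) a).obj F) := by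
  refine isKFlat_of_iso (((CochainComplex.singleFunctors X.Modules).shiftIso (-a) a 0 (by omega)).app F)
    (isKFlat_shift ((isKFlat_iff _).2 fun L hL => DerCat.acyclic_of_iso (singleIso L F) fun i => ?_) (-a))
  refine ShortComplex.exact_of_iso (Iso.refl _) ?_
  have : ((DCoh.tensorBi (X := X)).flip.obj F).PreservesHomology :=
    (((DCoh.tensorBi (X := X)).flip.obj F).exact_tfae.out 2 0).2 fun S hS => tensor_map_shortExact hF hS
  exact (hL i).map ((DCoh.tensorBi (X := X)).flip.obj F)

theorem flatTerms_single (F : X.Modules) (hF : FlatMod.IsFlat F) (a : ℤ) :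
    FlatTerms ((HomologicalComplex.single X.Modules (ComplexShape.up ℤ) a).obj F) := fun n => by
  by_cases hn : n = a
  · subst hn
    exact flat_of_iso (HomologicalComplex.singleObjXSelf (ComplexShape.up ℤ) n F).symm hF
  · exact flat_of_isZero (HomologicalComplex.isZero_single_obj_X _ a F n hn)

end Single

theorem isKFlat_of_isZero {K : CochainComplex X.Modules ℤ} (h : IsZero K) : DCoh.IsKFlat K :=
  (isKFlat_iff _).2 fun L _ i =>
    ShortComplex.exact_of_isZero_X₂ _
      ((HomologicalComplex.eval X.Modules _ i).map_isZero (((DCoh.tensorCx (X := X)).obj L).map_isZero h))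

end GrothLib.OX
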