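import Groth.Agent.Lib.OX.TildeKFlat
import Groth.Agent.Lib.OX.PullbackTensor

/-! # The sheaf associated to a tensor product of modules -/

set_option autoImplicit false
set_option maxHeartbeats 400000
universe u

open CategoryTheory CategoryTheory.Limits MonoidalCategory AlgebraicGeometry Opposite

namespace GrothLib.OX

variable (R : CommRingCat.{u})

/-- A section over the spectrum coming from the module. -/
noncomputable def tsecTop (M : ModuleCat.{u} R) (m : M) :
    (DCoh.toP.obj ((tilde.functor R).obj M)).obj (op ⊤) :=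
  (tilde.adjunction (R := R)).unit.app M m

/-- The product, on global sections. -/
noncomputable def tildeMulHom (M N : ModuleCat.{u} R) :
    M ⊗ N ⟶ (moduleSpecΓFunctor (R := R)).obj
      (((DCoh.tensorBi (X := Spec R)).obj ((tilde.functor R).obj M)).obj ((tilde.functor R).obj N)) := by
  let T := ((DCoh.tensorBi (X := Spec R)).obj ((tilde.functor R).obj M)).obj ((tilde.functor R).obj N)
  let b : M → N → (moduleSpecΓFunctor (R := R)).obj T := fun m n =>
    tmulSec _ _ ⊤ (tsecTop R M m) (tsecTop R N n)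
  have hsm : ∀ (E : (Spec R).Modules) (r : R) (s : (moduleSpecΓFunctor (R := R)).obj E),
      (show (DCoh.toP.obj E).obj (op ⊤) from r • s) =
        (show (Spec R).presheaf.obj (op ⊤) from
          (Spec R).presheaf.map (⊤ : (Spec R).Opens).leTop.op ((Scheme.ΓSpecIso R).inv r)) •
            (show (DCoh.toP.obj E).obj (op ⊤) from s) :=
    fun E r s => Scheme.Modules.smul_Spec_def r s
  have hts : ∀ (M : ModuleCat.{u} R) (r : R) (m : M), tsecTop R M (r • m) =
      (show (Spec R).presheaf.obj (op ⊤) from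
          (Spec R).presheaf.map (⊤ : (Spec R).Opens).leTop.op ((Scheme.ΓSpecIso R).inv r)) • tsecTop R M m :=
    fun M r m => (map_smul ((tilde.adjunction (R := R)).unit.app M).hom r m).trans
      (hsm ((tilde.functor R).obj M) r ((tilde.adjunction (R := R)).unit.app M m))
  refine ModuleCat.MonoidalCategory.tensorLift b ?_ ?_ ?_ ?_
  · intro m m' n
    exact (congrArg (fun t => tmulSec _ _ ⊤ t (tsecTop R N n)) (map_add _ m m')).trans
      (tmulSec_add_left _ _ ⊤ _ _ _)
  · intro r m n
    exact (congrArg (fun t => tmulSec _ _ ⊤ t (tsecTop R N n)) (hts M r m)).trans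
      ((tmulSec_smul_left _ _ ⊤ _ _ _).trans (hsm T r _).symm)
  · intro m n n'
    exact (congrArg (fun t => tmulSec _ _ ⊤ (tsecTop R M m) t) (map_add _ n n')).trans
      (tmulSec_add_right _ _ ⊤ _ _ _)
  · intro r m n
    exact (congrArg (fun t => tmulSec _ _ ⊤ (tsecTop R M m) t) (hts N r n)).trans
      ((tmulSec_smul_right _ _ ⊤ _ _ _).trans (hsm T r _).symm)

/-- From the sheaf of the tensor product to the tensor product of the sheaves. -/
noncomputable def tildeTensorHom (M N : ModuleCat.{u} R) :
    (tilde.functor R).obj (M ⊗ N) ⟶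
      ((DCoh.tensorBi (X := Spec R)).obj ((tilde.functor R).obj M)).obj ((tilde.functor R).obj N) :=
  ((tilde.adjunction (R := R)).homEquiv _ _).symm (tildeMulHom R M N)

theorem tildeTensorHom_tsecTop (M N : ModuleCat.{u} R) (m : M) (n : N) :
    (DCoh.toP.map (tildeTensorHom R M N)).app (op ⊤) (tsecTop R (M ⊗ N) (m ⊗ₜ[R] n)) =
      tmulSec _ _ ⊤ (tsecTop R M m) (tsecTop R N n) := by
  have h := ((tilde.adjunction (R := R)).homEquiv_unit _ _ (tildeTensorHom R M N)).symm.trans
    (Equiv.apply_symm_apply _ _)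
  exact ConcreteCategory.congr_hom h (m ⊗ₜ[R] n)

variable (x : (Spec R : Scheme.{u}))

/-- The stalk of an associated sheaf, on germs. -/
theorem tildeStalkIso_germ (M : ModuleCat.{u} R) (m : M) :
    ((tildeStalkIso R x).hom.app M).hom
        (germ (DCoh.toP.obj ((tilde.functor R).obj M)) ⊤ trivial (tsecTop R M m)) =
      (ModuleCat.extendRestrictScalarsAdj (specToStalk R x)).unit.app M m :=
  ConcreteCategory.congr_hom (Adjunction.unit_leftAdjointUniq_hom_app
    (((tilde.adjunction (R := R)).comp (stalkSkyAdj x)).ofNatIsoRight (skyΓIso R x))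
    (ModuleCat.extendRestrictScalarsAdj (specToStalk R x)) M) m

theorem stalk_map_tildeTensorHom (M N : ModuleCat.{u} R) :
    (stalk x).map (tildeTensorHom R M N) ≫ (stalkTensorBiIso x _ _).hom ≫
        ((tildeStalkIso R x).hom.app M ⊗ₘ (tildeStalkIso R x).hom.app N) =
      (tildeStalkIso R x).hom.app (M ⊗ N) ≫
        Functor.OplaxMonoidal.δ (ModuleCat.extendScalars (specToStalk R x)) M N := by
  rw [← cancel_epi ((tildeStalkIso R x).inv.app _)]
  conv_rhs => rw [Iso.inv_hom_id_app_assoc]
  refine ((ModuleCat.extendRestrictScalarsAdj (specToStalk R x)).homEquiv _ _).injective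
    (ModuleCat.MonoidalCategory.tensor_ext fun m n => ?_)
  let T := ModuleCat.extendScalars (specToStalk R x)
  let one : ∀ {W : ModuleCat.{u} R}, W → T.obj W := fun {W} w =>
    (ModuleCat.extendRestrictScalarsAdj (specToStalk R x)).unit.app W w
  have h2 : ((tildeStalkIso R x).inv.app (M ⊗ N)).hom (one (m ⊗ₜ[R] n)) =
      germ (DCoh.toP.obj ((tilde.functor R).obj (M ⊗ N))) ⊤ trivial (tsecTop R (M ⊗ N) (m ⊗ₜ[R] n)) :=
    (congrArg ((tildeStalkIso R x).inv.app _).hom (tildeStalkIso_germ R x _ _).symm).trans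
      (ConcreteCategory.congr_hom ((tildeStalkIso R x).hom_inv_id_app _) _)
  change (((tildeStalkIso R x).hom.app M ⊗ₘ (tildeStalkIso R x).hom.app N)).hom
      ((stalkTensorBiIso x _ _).hom.hom (((stalk x).map (tildeTensorHom R M N)).hom
        (((tildeStalkIso R x).inv.app _).hom (one (m ⊗ₜ[R] n))))) =
    (Functor.OplaxMonoidal.δ T M N).hom (one (m ⊗ₜ[R] n))
  refine (congrArg (fun t => (((tildeStalkIso R x).hom.app M ⊗ₘ (tildeStalkIso R x).hom.app N)).hom
    ((stalkTensorBiIso x _ _).hom.hom (((stalk x).map (tildeTensorHom R M N)).hom t))) h2).trans ?_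
  refine (congrArg (fun t => (((tildeStalkIso R x).hom.app M ⊗ₘ (tildeStalkIso R x).hom.app N)).hom
    ((stalkTensorBiIso x _ _).hom.hom t)) ((stalkPre_map_germ _ ⊤ trivial _).trans
      (congrArg (germ _ ⊤ trivial) (tildeTensorHom_tsecTop R M N m n)))).trans ?_
  refine (congrArg (fun t => (((tildeStalkIso R x).hom.app M ⊗ₘ (tildeStalkIso R x).hom.app N)).hom t)
    (stalkTensorBiIso_germ x _ _ ⊤ trivial (tsecTop R M m) (tsecTop R N n))).trans ?_
  exact (congrArg₂ (fun a b => (a ⊗ₜ[(Spec R).presheaf.stalk x] b : _)) (tildeStalkIso_germ R x M m)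
    (tildeStalkIso_germ R x N n)).trans rfl

theorem isIso_tildeTensorHom (M N : ModuleCat.{u} R) : IsIso (tildeTensorHom R M N) := by
  refine (isIso_iff _).2 fun x => ?_
  have h := stalk_map_tildeTensorHom R x M N
  have h2 : IsIso ((stalk x).map (tildeTensorHom R M N) ≫ (stalkTensorBiIso x _ _).hom ≫
      ((tildeStalkIso R x).hom.app M ⊗ₘ (tildeStalkIso R x).hom.app N)) := by rw [h]; infer_instance
  exact @IsIso.of_isIso_comp_right _ _ _ _ _ ((stalk x).map (tildeTensorHom R M N)) _ inferInstance h2

/-- The sheaf of a tensor product is the tensor product of the sheaves. -/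
noncomputable def tildeTensorIso (M N : ModuleCat.{u} R) :
    (tilde.functor R).obj (M ⊗ N) ≅
      ((DCoh.tensorBi (X := Spec R)).obj ((tilde.functor R).obj M)).obj ((tilde.functor R).obj N) :=
  have := isIso_tildeTensorHom R M N
  asIso (tildeTensorHom R M N)

end GrothLib.OX
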