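import Groth.Agent.Lib.OX.ProjQCoh

/-! # The projection formula for objects with quasi-coherent cohomology: coproducts and conclusion -/

set_option autoImplicit false
set_option maxHeartbeats 600000
universe u

open CategoryTheory CategoryTheory.Limits CategoryTheory.Pretriangulated AlgebraicGeometry HomologicalComplex
open DerivedCategory (Qh)

attribute [local instance] HasDerivedCategory.standard

namespace GrothLib.OX

variable {X Y : Scheme.{u}} (f : X ⟶ Y) (V : Y.Opens) (A : CochainComplex X.Modules ℤ)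
variable [QuasiCompact f] [QuasiSeparated f]

/-- The source of the projection map over `V`. -/
noncomputable def srcF : CochainComplex Y.Modules ℤ ⥤ DCoh.D (V : Scheme.{u}) :=
  (DCoh.tensorCx (X := Y)).flip.obj ((pushCxF f).obj A) ⋙ HomotopyCategory.quotient _ _ ⋙ Qh ⋙ resD V.ι

/-- The tensor products on `f ⁻¹ V`. -/
noncomputable def tgtF : CochainComplex Y.Modules ℤ ⥤ DCoh.D ((f ⁻¹ᵁ V : X.Opens) : Scheme.{u}) :=
  pullCxF f ⋙ (DCoh.tensorCx (X := X)).flip.obj A ⋙ HomotopyCategory.quotient _ _ ⋙ Qh ⋙ resD (f ⁻¹ᵁ V).ι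

omit [QuasiCompact f] [QuasiSeparated f] in
/-- The projection map over `V`, at one complex. -/
noncomputable def projTauApp (Q : CochainComplex Y.Modules ℤ) :
    (resD V.ι).obj (Qh.obj ((HomotopyCategory.quotient _ _).obj (((DCoh.tensorCx (X := Y)).obj Q).obj ((pushCxF f).obj A)))) ⟶
      (RR (f ∣_ V)).obj ((resD (f ⁻¹ᵁ V).ι).obj (Qh.obj ((HomotopyCategory.quotient _ _).obj
        (((DCoh.tensorCx (X := X)).obj ((pullCxF f).obj Q)).obj A)))) :=
  (resD V.ι).map (projD f Q A) ≫ (resDRRBaseChange f V).hom.app _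

omit [QuasiCompact f] [QuasiSeparated f] in
theorem projTauApp_natural {Q Q' : CochainComplex Y.Modules ℤ} (q : Q ⟶ Q') :
    (resD V.ι).map (Qh.map ((HomotopyCategory.quotient _ _).map (((DCoh.tensorCx (X := Y)).map q).app ((pushCxF f).obj A)))) ≫
        projTauApp f V A Q' =
      projTauApp f V A Q ≫ (RR (f ∣_ V)).map ((resD (f ⁻¹ᵁ V).ι).map (Qh.map ((HomotopyCategory.quotient _ _).map
        (((DCoh.tensorCx (X := X)).map ((pullCxF f).map q)).app A)))) := by
  have e := ((resD V.ι).map_comp _ _).symm.trans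
    ((congrArg (resD V.ι).map (projD_natural f q A)).trans ((resD V.ι).map_comp _ _))
  unfold projTauApp
  refine (Category.assoc _ _ _).symm.trans ((congrArg (· ≫ _) e).trans ((Category.assoc _ _ _).trans ?_))
  exact (congrArg (_ ≫ ·) ((resDRRBaseChange f V).hom.naturality _)).trans (Category.assoc _ _ _).symm

omit [QuasiCompact f] [QuasiSeparated f] in
/-- The projection map over `V`, as a natural transformation. -/
noncomputable def projTau : srcF f V A ⟶ tgtF f V A ⋙ RR (f ∣_ V) :=
  { app := fun Q => by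
      dsimp only [srcF, tgtF, Functor.comp_obj, Functor.flip_obj_obj]
      exact projTauApp f V A Q
    naturality := fun _ _ q => by
      dsimp only [srcF, tgtF, Functor.comp_map, Functor.comp_obj, Functor.flip_obj_map, Functor.flip_obj_obj]
      exact projTauApp_natural f V A q }

omit [QuasiCompact f] [QuasiSeparated f] in
theorem isIso_projTau_app_iff (Q : CochainComplex Y.Modules ℤ) :
    IsIso ((projTau f V A).app Q) ↔ IsIso ((resD V.ι).map (projD f Q A)) :=
  ⟨fun h => @IsIso.of_isIso_comp_right _ _ _ _ _ _ _ (Iso.isIso_hom ((resDRRBaseChange f V).app _)) h,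
    fun h => @IsIso.comp_isIso _ _ _ _ _ _ _ h (Iso.isIso_hom ((resDRRBaseChange f V).app _))⟩

omit [QuasiCompact f] [QuasiSeparated f] in
theorem preserves_tensorFlip {Z : Scheme.{u}} (L : CochainComplex Z.Modules ℤ) (ι : Type u) :
    PreservesColimitsOfShape (Discrete ι) ((DCoh.tensorCx (X := Z)).flip.obj L) :=
  have := preservesColimitsOfShape_tensorCx_obj (X := Z) L ι
  preservesColimitsOfShape_of_natIso (tensorFlipIso L).symm

omit [QuasiCompact f] [QuasiSeparated f] in
theorem preserves_mapCx {Z Z' : Scheme.{u}} {F : Z.Modules ⥤ Z'.Modules} [F.Additive] {G : Z'.Modules ⥤ Z.Modules}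
    (adj : F ⊣ G) (ι : Type u) :
    PreservesColimitsOfShape (Discrete ι) (F.mapHomologicalComplex (ComplexShape.up ℤ)) :=
  have : PreservesColimitsOfSize.{u, u} F := adj.leftAdjoint_preservesColimits
  HomologicalComplex.preservesColimitsOfShape_of_eval _ fun k =>
    inferInstanceAs (PreservesColimitsOfShape (Discrete ι) (HomologicalComplex.eval _ _ k ⋙ F))

omit [QuasiCompact f] [QuasiSeparated f] in
theorem preserves_QhQ {Z : Scheme.{u}} (ι : Type u) : PreservesColimitsOfShape (Discrete ι)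
    (HomotopyCategory.quotient Z.Modules (ComplexShape.up ℤ) ⋙ Qh) := inferInstance

omit [QuasiCompact f] [QuasiSeparated f] in
theorem preserves_srcF (ι : Type u) : PreservesColimitsOfShape (Discrete ι) (srcF f V A) :=
  have := preserves_tensorFlip ((pushCxF f).obj A) ι
  have := preserves_QhQ (Z := Y) ι
  inferInstanceAs (PreservesColimitsOfShape (Discrete ι) ((DCoh.tensorCx (X := Y)).flip.obj ((pushCxF f).obj A) ⋙
    (HomotopyCategory.quotient _ _ ⋙ Qh) ⋙ resD V.ι))

omit [QuasiCompact f] [QuasiSeparated f] in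
theorem preserves_tgtF (ι : Type u) : PreservesColimitsOfShape (Discrete ι) (tgtF f V A) :=
  have := preserves_tensorFlip A ι
  have := preserves_QhQ (Z := X) ι
  have := preserves_mapCx (Scheme.Modules.pullbackPushforwardAdjunction f) ι
  inferInstanceAs (PreservesColimitsOfShape (Discrete ι) (pullCxF f ⋙ (DCoh.tensorCx (X := X)).flip.obj A ⋙
    (HomotopyCategory.quotient _ _ ⋙ Qh) ⋙ resD (f ⁻¹ᵁ V).ι))

theorem isQCohD_tgtF_jz (hAq : DCoh.IsQCohD (DerivedCategory.Q.obj A))
    {R : CochainComplex (V : Scheme.{u}).Modules ℤ} (hR : DCoh.IsKFlat R)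
    (hq : DCoh.IsQCohD (DerivedCategory.Q.obj R)) : DCoh.IsQCohD ((tgtF f V A).obj ((jzF V).obj R)) := by
  dsimp only [tgtF, Functor.comp_obj, Functor.flip_obj_obj]
  exact isQCohD_tensor_jz (f := f) (V := V) (A := A) hAq hR hq

theorem isIso_projTau_sigma {ι : Type u} (P : ι → CochainComplex Y.Modules ℤ)
    (hq : ∀ i, DCoh.IsQCohD ((tgtF f V A).obj (P i))) (h : ∀ i, IsIso ((projTau f V A).app (P i))) :
    IsIso ((projTau f V A).app (∐ P)) := by
  have := preserves_srcF f V A ι
  have := preserves_tgtF f V A ι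
  have hG : IsIso (Sigma.desc fun i => (tgtF f V A ⋙ RR (f ∣_ V)).map (Sigma.ι P i)) :=
    isIso_sigmaDesc_comp (tgtF f V A) (RR (f ∣_ V)) P
      (isIso_Rres_coprod (f ∣_ V) (fun i => (tgtF f V A).obj (P i)) hq)
  exact isIso_app_sigma (projTau f V A) P hG h

theorem pgood_sigma (hAq : DCoh.IsQCohD (DerivedCategory.Q.obj A)) {ι : Type u}
    (R : ι → CochainComplex (V : Scheme.{u}).Modules ℤ) (hR : ∀ i, DCoh.IsKFlat (R i))
    (hq : ∀ i, DCoh.IsQCohD (DerivedCategory.Q.obj (R i))) (h : ∀ i, PGood f V A (R i)) :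
    PGood f V A (∐ R) := by
  have := preserves_mapCx (CxOX.extZeroAdj V.ι) ι
  have h1 : IsIso ((projTau f V A).app (∐ fun i => (jzF V).obj (R i))) :=
    isIso_projTau_sigma f V A (fun i => (jzF V).obj (R i)) (fun i => isQCohD_tgtF_jz f V A hAq (hR i) (hq i))
      fun i => (isIso_projTau_app_iff f V A _).2 (h i)
  have hPK : DCoh.IsKFlat (∐ fun i => (jzF V).obj (R i)) :=
    isKFlat_sigma_small (fun i => (jzF V).obj (R i)) fun i => isKFlat_extZero _ (hR i)
  let e : (∐ fun i => (jzF V).obj (R i)) ≅ (jzF V).obj (∐ R) := (PreservesCoproduct.iso (jzF V) R).symm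
  exact (isIso_resD_projD_iff f V e.hom hPK (isKFlat_extZero _ (isKFlat_sigma_small R hR))
    (inferInstanceAs (QuasiIso ((resCx V.ι).mapIso e).hom)) A).1 ((isIso_projTau_app_iff f V A _).1 h1)

/-- Over an affine open every object with quasi-coherent cohomology is good. -/
theorem pgoodD_of_isQCohD (hV : IsAffineOpen V) (hA : InjK A) (hAq : DCoh.IsQCohD (DerivedCategory.Q.obj A))
    {N : DCoh.D (V : Scheme.{u})} (hN : DCoh.IsQCohD N) : PGoodD f V A N := by
  let j := hV.isoSpec.hom
  obtain ⟨M, ⟨e⟩⟩ := exists_module_iso j hN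
  refine pgoodD_of_iso e (HoCat.prop_derived_of_free (fun M => PGoodD f V A ((AG j).obj M))
    (fun i h => pgoodD_of_iso ((AG j).mapIso i) h) (fun n => ?_) (fun J Z _ hZ => ?_)
    (fun T hT h₁ h₂ => pgoodD_cone _ ((AG j).map_distinguished T hT) h₁ h₂) M)
  · let O := Coh.structureModule (V : Scheme.{u})
    let o : (Scheme.Modules.restrictFunctor j).obj ((tilde.functor Γ(Y, V)).obj (ModuleCat.of _ Γ(Y, V))) ≅ O :=
      (Scheme.Modules.restrictFunctor j).mapIso tildeSelf ≪≫
        (Scheme.Modules.restrictFunctorIsoPullback j).app _ ≪≫ pullUnitIso j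
    let i : (AG j).obj (DerivedCategory.Q.obj ((single _ (ComplexShape.up ℤ) n).obj (ModuleCat.of _ Γ(Y, V)))) ≅
        DerivedCategory.Q.obj ((single _ (ComplexShape.up ℤ) n).obj O) :=
      (resD j).mapIso ((tilde.functor Γ(Y, V)).mapDerivedCategoryFactors.app _ ≪≫
        DerivedCategory.Q.mapIso ((singleMapHomologicalComplex (tilde.functor Γ(Y, V)) (ComplexShape.up ℤ) n).app _)) ≪≫
      (resDFac j).app _ ≪≫
        DerivedCategory.Q.mapIso (((singleMapHomologicalComplex (Scheme.Modules.restrictFunctor j) (ComplexShape.up ℤ) n).app _) ≪≫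
          (single _ (ComplexShape.up ℤ) n).mapIso o)
    exact pgoodD_of_iso i.symm (pgoodD_of_pgood (isKFlat_single O (flat_structureModule (V : Scheme.{u})) n) (pgood_free hA n))
  · choose R hR eR using fun x => exists_kflat_rep ((AG j).obj (Z x))
    let i : DerivedCategory.Q.obj (∐ R) ≅ (AG j).obj (∐ Z) :=
      PreservesCoproduct.iso DerivedCategory.Q R ≪≫ Limits.Sigma.mapIso (fun x => (eR x).some) ≪≫
        (PreservesCoproduct.iso (AG j) Z).symm
    exact pgoodD_of_iso i (pgoodD_of_pgood (isKFlat_sigma_small R hR)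
      (pgood_sigma f V A hAq R hR (fun x i => isQCoh_of_iso
        ((DerivedCategory.homologyFunctor _ i).mapIso (eR x).some).symm (isQCohD_AG j (Z x) i))
        fun x => hZ x _ (hR x) (eR x)))

/-- **Projection formula for objects with quasi-coherent cohomology, on representatives.** -/
theorem isIso_projD_of_isQCohD (hA : InjK A) (hAq : DCoh.IsQCohD (DerivedCategory.Q.obj A))
    (P : CochainComplex Y.Modules ℤ) (hP : DCoh.IsKFlat P) (hq : DCoh.IsQCohD (DerivedCategory.Q.obj P)) :
    IsIso (projD f P A) := by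
  obtain ⟨C, g, c, hT⟩ := distinguished_cocone_triangle (projD f P A)
  suffices IsZero C from (Triangle.isZero₃_iff_isIso₁ _ hT).1 this
  refine isZero_of_support_empty fun q => Set.eq_empty_iff_forall_notMem.2 fun y hy => ?_
  obtain ⟨V, hV, hyV, -⟩ := exists_isAffineOpen_mem_and_subset (x := y) (U := ⊤) trivial
  let R := (resCx V.ι).obj P
  have hR : DCoh.IsKFlat R := isKFlat_resCx V.ι hP
  have hRq : DCoh.IsQCohD (DerivedCategory.Q.obj R) := fun i =>
    isQCoh_of_iso ((DerivedCategory.homologyFunctor _ i).mapIso ((resDFac V.ι).app P)) (isQCohD_resD V.ι hq i)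
  have h1 : PGood f V A R := pgoodD_of_isQCohD f V A hV hA hAq hRq R hR ⟨Iso.refl _⟩
  let ε : (jzF V).obj R ⟶ P :=
    { f := fun n => epsZ V.ι (P.X n)
      comm' := fun n k _ => ((CxOX.extZeroAdj V.ι).counit.naturality (P.d n k)).symm }
  have hε : IsIso ((resCx V.ι).map ε) :=
    have : ∀ n, IsIso (((resCx V.ι).map ε).f n) := fun n => isIso_restrict_epsZ V.ι (P.X n)
    HomologicalComplex.Hom.isIso_of_components _
  have h2 : IsIso ((resD V.ι).map (projD f P A)) :=
    (isIso_resD_projD_iff f V ε (isKFlat_extZero _ hR) hP inferInstance A).1 h1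
  have h3 : IsZero ((resD V.ι).obj C) :=
    (Triangle.isZero₃_iff_isIso₁ _ ((resD V.ι).map_distinguished _ hT)).2 h2
  exact (isZero_resD_iff_support V.ι C).1 h3 q hy ⟨⟨y, hyV⟩, rfl⟩

end GrothLib.OX
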