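import Groth.Agent.Lib.OX.BVdB
import Groth.Agent.Lib.OX.SumSections
import Groth.Agent.Lib.TriCat.ThickGen
import Groth.Agent.Lib.HDU.SmallDer

/-!
# Generators of `D_qc` and bounds on cohomology

Maps out of a perfect generator detect, for `i` near `±∞`, the vanishing of the cohomology sheaves.
-/

set_option autoImplicit false
set_option maxHeartbeats 1000000
universe u

open CategoryTheory CategoryTheory.Limits AlgebraicGeometry Opposite TopologicalSpace Pretriangulated

attribute [local instance] HasDerivedCategory.standard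

namespace GrothLib.DR

open DerivedCategory

variable {A : Type u} [CommRing A]

/-- `eq_zero_of_cone_torsion`, one shift at a time. -/
theorem eq_zero_of_cone_torsion_at {f : A} {E P P₁ : Dual.D A} {m₂ : P ⟶ P₁} {m₃ : P₁ ⟶ P⟦(1 : ℤ)⟧}
    (hT : Triangle.mk (f • 𝟙 P) m₂ m₃ ∈ distTriang _) (htor : TriCat.TorsionHom f E P)
    (n : ℤ) (hzero : ∀ φ : P₁⟦n⟧ ⟶ E, φ = 0) (φ : P⟦n⟧ ⟶ E) : φ = 0 := by
  have hinj : ∀ χ : P⟦n⟧ ⟶ E, f • χ = 0 → χ = 0 := by
    intro χ hχ
    obtain ⟨ψ, hψ⟩ := Triangle.yoneda_exact₂ _ (Triangle.shift_distinguished _ hT n) χ (by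
      change (n.negOnePow • (f • 𝟙 P)⟦n⟧') ≫ χ = 0
      rw [Functor.map_smul, CategoryTheory.Functor.map_id, Linear.units_smul_comp, Linear.smul_comp,
        Category.id_comp, hχ, smul_zero])
    exact hψ.trans ((congrArg _ (hzero ψ)).trans comp_zero)
  obtain ⟨k, hk⟩ := htor n φ
  induction k generalizing φ with
  | zero => rwa [pow_zero, one_smul] at hk
  | succ k ih => exact hinj φ (ih (f • φ) (by rwa [← mul_smul, ← pow_succ]))

/-- A perfect torsion object detecting each cohomology module of torsion objects. -/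
theorem exists_nil_detector (fs : List A) : ∃ P : Dual.D A, DRing.IsPerfect A P ∧ (∀ f ∈ fs, Nil f P) ∧
    ∀ E : Dual.D A, (∀ f ∈ fs, IsTorsion f E) → ∀ n : ℤ, (∀ φ : P⟦n⟧ ⟶ E, φ = 0) →
      IsZero ((homologyFunctor (ModuleCat.{u} A) (-n)).obj E) := by
  induction fs with
  | nil =>
    refine ⟨_, isPerfect_gen, fun f hf => absurd hf List.not_mem_nil, fun E _ n h => ?_⟩
    haveI : Subsingleton ((homologyFunctor (ModuleCat.{u} A) (-n)).obj E) := ⟨fun x y => by
      obtain ⟨φ, hφ⟩ := (DerTheta.thetaBij_of_projective (ModuleCat.of A A) (-n) E).2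
        (ModuleCat.ofHom (LinearMap.toSpanSingleton A _ (x - y)))
      obtain rfl : φ = 0 := by
        rw [← cancel_epi (((singleFunctors (ModuleCat.{u} A)).shiftIso n (-n) 0 (by omega)).app
          (ModuleCat.of A A)).hom, comp_zero]
        exact h _
      have h1 := LinearMap.congr_fun (congrArg ModuleCat.Hom.hom (SiteDer.theta_zero.symm.trans hφ)) (1 : A)
      exact sub_eq_zero.1 (by simpa using h1.symm)⟩
    exact ModuleCat.isZero_of_subsingleton _
  | cons f fs ih =>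
    obtain ⟨P, hP, hnil, hdet⟩ := ih
    obtain ⟨C, m₂, m₃, hT⟩ := distinguished_cocone_triangle (f • 𝟙 P)
    refine ⟨C, (isPerfect_triangle _ hT).1 hP hP, fun g hg => ?_, fun E hE n h => hdet E
      (fun g hg => hE g (List.mem_cons_of_mem _ hg)) n
        (eq_zero_of_cone_torsion_at hT (torsionHom_of_isPerfect (hE f List.mem_cons_self) hP) n h)⟩
    rcases List.mem_cons.1 hg with rfl | hg
    · exact nil_cone_self ⟨1, (pow_one g).symm⟩ hT
    · exact nil_cone_of_nil hT (hnil g hg) (hnil g hg)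

end GrothLib.DR

namespace GrothLib.OX

variable {X : Scheme.{u}}

/-- On an affine scheme a perfect object vanishing on `W` detects each cohomology sheaf of what vanishes on `W`. -/
theorem exists_detector [IsAffine X] (W : X.Opens) (hW : IsCompact (W : Set X)) :
    ∃ P : DCoh.D X, DCoh.IsPerfect P ∧ IsZero ((resD W.ι).obj P) ∧
      ∀ E : DCoh.D X, DCoh.IsQCohD E → IsZero ((resD W.ι).obj E) → ∀ n : ℤ, (∀ φ : P⟦n⟧ ⟶ E, φ = 0) →
        IsZero (DCoh.HD E (-n)) := by
  let A := Γ(X, ⊤)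
  let i := X.isoSpec.hom
  let S := DCoh.tildeD A ⋙ resD i
  obtain ⟨fs, hfs⟩ := exists_basicOpen_cover (W.ι ≫ i) (isCompact_range_comp i hW)
  obtain ⟨P, hP, hnil, hdet⟩ := DR.exists_nil_detector fs
  refine ⟨S.obj P, isPerfect_resD_tildeD i hP,
    (isZero_AG_of_isTorsion (W.ι ≫ i) hfs fun f hf => (hnil f hf).isTorsion).of_iso ((AGIso i W).app P),
    fun E hE hEW n h => ?_⟩
  obtain ⟨N, ⟨e⟩⟩ := exists_module_iso i hE
  have hNW : IsZero ((AG (W.ι ≫ i)).obj N) :=
    (hEW.of_iso ((resD W.ι).mapIso e)).of_iso ((AGIso i W).app N).symm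
  have hN : IsZero ((DerivedCategory.homologyFunctor (ModuleCat.{u} A) (-n)).obj N) := by
    refine hdet N (fun f hf => isTorsion_of_isZero_AG (W.ι ≫ i) hNW
      (hfs ▸ le_iSup (fun k : {f // f ∈ fs} => PrimeSpectrum.basicOpen k.1) ⟨f, hf⟩)) n fun φ => ?_
    have := (tildeD_full_faithful_essImage (R := A)).2.1
    have h0 : S.map φ = 0 := by
      have h1 := h ((S.commShiftIso n).inv.app P ≫ S.map φ ≫ e.hom)
      rw [← cancel_epi ((S.commShiftIso n).inv.app P), comp_zero, ← cancel_mono e.hom, zero_comp, Category.assoc]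
      exact h1
    have h2 : (DCoh.tildeD A).map φ = 0 :=
      faithful_resD_of_surjective i (fun x => ⟨(inv i) x, by rw [← Scheme.Hom.comp_apply, IsIso.inv_hom_id]; rfl⟩) _ h0
    exact (DCoh.tildeD A).map_injective (h2.trans ((DCoh.tildeD A).map_zero _ _).symm)
  refine IsZero.of_iso ?_ ((DerivedCategory.homologyFunctor X.Modules (-n)).mapIso e.symm)
  exact (((Scheme.Modules.restrictFunctor i).map_isZero ((tilde.functor A).map_isZero hN)).of_iso
    ((Scheme.Modules.restrictFunctor i).mapIso ((DerTrunc.homologyMapIso (tilde.functor A) (-n)).app N))).of_iso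
      ((DerTrunc.homologyMapIso (Scheme.Modules.restrictFunctor i) (-n)).app ((DCoh.tildeD A).obj N))

/-- A generator puts every perfect object in its thick envelope. -/
theorem prop_of_generator [CompactSpace X] [QuasiSeparatedSpace X] {G : DCoh.D X} (hG : DCoh.IsPerfect G)
    (hgen : ∀ E : DCoh.D X, DCoh.IsQCohD E → (∀ (n : ℤ) (φ : G⟦n⟧ ⟶ E), φ = 0) → IsZero E)
    {Q : DCoh.D X → Prop} (hQ : TriCat.Thick Q) (hQG : Q G) {P : DCoh.D X} (hP : DCoh.IsPerfect P) : Q P := by
  have : ∀ J : Type u, HasColimitsOfShape (Discrete J) (DCoh.D X) := fun J =>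
    HoCat.derivedCategory_hasColimitsOfShape (C := X.Modules) (J := J)
  have hfin : ∀ {K : DCoh.D X}, DCoh.IsPerfect K →
      TriCat.FinHomOn.{u} (fun L : DCoh.D X => DCoh.IsQCohD L) K :=
    fun hK ι M _ hM n => finHom_of_isPerfect (isPerfect_shift hK n) M hM
  have hsm := HDU.locallySmall_derivedCategory X.Modules
  exact TriCat.mem_thick_of_generator.{u} (P := fun L : DCoh.D X => DCoh.IsQCohD L)
    (fun ι M hM => isQCohD_coprod M hM) (fun T hT => isQCohD_obj₃ hT)
    (fun m => isQCohD_shift (isQCohD_of_isPerfect hG) m) (fun m M => hsm.hom_small _ _) (hfin hG) hgen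
    (isQCohD_of_isPerfect hP) (hfin hP) hQ hQG

/-- Perfect objects on a quasi-compact open extend as direct summands. -/
theorem exists_extend_summand [CompactSpace X] [QuasiSeparatedSpace X] (U V : X.Opens) (hU : IsCompact (U : Set X))
    (hV : IsAffineOpen V) (hcov : ∀ x : X, x ∈ (U : Set X) ∪ (V : Set X)) {P : DCoh.D (U : Scheme.{u})}
    (hP : DCoh.IsPerfect P) :
    ∃ K : DCoh.D X, DCoh.IsPerfect K ∧ Nonempty (Retract P ((resD U.ι).obj K)) := by
  have := quasiCompact_of_isCompact_range U.ι (by rwa [Scheme.Opens.range_ι])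
  have : QuasiCompact V.ι := quasiCompact_of_isCompact_range V.ι (by rw [Scheme.Opens.range_ι]; exact hV.isCompact)
  have : IsAffine (V : Scheme.{u}) := hV
  let U' : (V : Scheme.{u}).Opens := V.ι ⁻¹ᵁ U
  have hU' : IsCompact (U' : Set (V : Scheme.{u})) := QuasiCompact.isCompact_preimage (f := V.ι) (U : Set X) U.2 hU
  let kU : (U' : Scheme.{u}) ⟶ U := IsOpenImmersion.lift U.ι (U'.ι ≫ V.ι) (by
    rintro _ ⟨y, rfl⟩
    rw [Scheme.Opens.range_ι]
    exact y.2)
  have hk : kU ≫ U.ι = U'.ι ≫ V.ι := IsOpenImmersion.lift_fac _ _ _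
  have : IsOpenImmersion kU := by
    have : IsOpenImmersion (kU ≫ U.ι) := by rw [hk]; infer_instance
    exact IsOpenImmersion.of_comp kU U.ι
  let F := (resD kU).obj P
  have hF0 : IsZero ((resD (U'.ι ⁻¹ᵁ (⊥ : (V : Scheme.{u}).Opens)).ι).obj F) :=
    (isZero_resD_iff_support _ F).2 fun q x _ hx => by
      rw [Scheme.Opens.range_ι] at hx
      exact hx
  obtain ⟨G, hG, -, ⟨eG⟩⟩ := exists_extend_sum_shift (X := (V : Scheme.{u})) (V : Scheme.{u}).isoSpec.hom hU'
    (isPerfect_resD hP kU) ⊥ (by simp) hF0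
  have := preservesBinaryBiproducts_of_preservesBiproducts (resD kU)
  let φ : (resD kU).obj (P ⊞ P⟦(1 : ℤ)⟧) ≅ (resD U'.ι).obj G :=
    (resD kU).mapBiprod P (P⟦(1 : ℤ)⟧) ≪≫ biprod.mapIso (Iso.refl _) (((resD kU).commShiftIso (1 : ℤ)).app P) ≪≫
      eG.symm
  obtain ⟨K, ⟨eU⟩, ⟨eV⟩⟩ := exists_glue kU U'.ι hk (by
    rw [hk]
    ext x
    constructor
    · rintro ⟨y, rfl⟩
      exact ⟨y.2, y.1.2⟩
    · rintro ⟨hxU, hxV⟩
      exact ⟨⟨⟨x, hxV⟩, hxU⟩, rfl⟩) φ
  refine ⟨K, isPerfect_of_local fun x => (hcov x).elim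
    (fun h => ⟨_, U.ι, inferInstance, ⟨⟨x, h⟩, rfl⟩,
      isPerfect_of_iso (isPerfect_biprod hP (isPerfect_shift hP 1)) eU.symm⟩)
    (fun h => ⟨_, V.ι, inferInstance, ⟨⟨x, h⟩, rfl⟩, isPerfect_of_iso hG eV.symm⟩), ⟨?_⟩⟩
  exact { i := biprod.inl ≫ eU.inv, r := eU.hom ≫ biprod.fst }

/-- Near the end `l` of `ℤ` the cohomology sheaves vanish. -/
def EvHD (l : Filter ℤ) (E : DCoh.D X) : Prop := ∀ᶠ i in l, IsZero (DCoh.HD E i)

/-- Near the end `l` of `ℤ` there are no maps from shifts of `P`. -/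
def EvHom (l : Filter ℤ) (E P : DCoh.D X) : Prop := ∀ᶠ i in l, ∀ φ : P⟦-i⟧ ⟶ E, φ = 0

variable {l : Filter ℤ}

theorem thick_evHom (htr : ∀ c : ℤ, Filter.Tendsto (fun i : ℤ => i + c) l l) (E : DCoh.D X) :
    TriCat.Thick (EvHom l E) where
  zero h := Filter.Eventually.of_forall fun i φ => ((shiftFunctor _ (-i)).map_isZero h).eq_of_src _ _
  shift {A} n hA := ((htr (-n)).eventually hA).mono fun i hi φ => by
    let e := (shiftFunctorAdd' (DCoh.D X) n (-i) (-(i + -n)) (by omega)).app A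
    exact (cancel_epi e.hom).1 ((hi (e.hom ≫ φ)).trans comp_zero.symm)
  total {A B C} i₁ p₁ i₂ p₂ h hA hB := (hA.and hB).mono fun i hi φ => by
    have hid : p₁⟦-i⟧' ≫ i₁⟦-i⟧' + p₂⟦-i⟧' ≫ i₂⟦-i⟧' = 𝟙 _ := by
      rw [← Functor.map_comp, ← Functor.map_comp, ← Functor.map_add, h, CategoryTheory.Functor.map_id]
    rw [← Category.id_comp φ, ← hid, Preadditive.add_comp, Category.assoc, Category.assoc,
      hi.1 (i₁⟦-i⟧' ≫ φ), hi.2 (i₂⟦-i⟧' ≫ φ), comp_zero, comp_zero, add_zero]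
  cone T hT hA hB := (((htr (-1)).eventually hA).and hB).mono fun i hi φ => by
    let S := (Triangle.shiftFunctor (DCoh.D X) (-i)).obj T
    let φ' : S.obj₃ ⟶ E := φ
    obtain ⟨ψ, hψ⟩ := Triangle.yoneda_exact₃ S (Triangle.shift_distinguished _ hT (-i)) φ' (hi.2 _)
    have h0 : ψ = 0 := by
      let e := (shiftFunctorAdd' (DCoh.D X) (-i) 1 (-(i + -1)) (by omega)).app T.obj₁
      exact (cancel_epi e.hom).1 ((hi.1 (e.hom ≫ ψ)).trans comp_zero.symm)
    exact hψ.trans ((congrArg (fun χ => S.mor₃ ≫ χ) h0).trans comp_zero)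

theorem EvHD.evHom [CompactSpace X] [QuasiSeparatedSpace X] (htr : ∀ c : ℤ, Filter.Tendsto (fun i : ℤ => i + c) l l)
    {E P : DCoh.D X} (h : EvHD l E) (hE : DCoh.IsQCohD E) (hP : DCoh.IsPerfect P) : EvHom l E P := by
  obtain ⟨a, b, hab⟩ := vanRange_of_isPerfect hP
  refine ((Finset.Icc a b).eventually_all.2 fun c _ => (htr c).eventually h).mono fun i hi φ =>
    hom_shift_eq_zero hab hE i (fun q h1 h2 => ?_) φ
  have := hi (q - i) (Finset.mem_Icc.2 ⟨by omega, by omega⟩)
  rwa [show i + (q - i) = q by omega] at this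

theorem EvHD.ext₁ (htr : ∀ c : ℤ, Filter.Tendsto (fun i : ℤ => i + c) l l) {T : Triangle (DCoh.D X)}
    (hT : T ∈ distTriang _) (h₂ : EvHD l T.obj₂) (h₃ : EvHD l T.obj₃) : EvHD l T.obj₁ :=
  (h₂.and ((htr (-1)).eventually h₃)).mono fun i hi =>
    (DerivedCategory.HomologySequence.exact₁ T hT (i + -1) i (by omega)).isZero_of_both_zeros
      (hi.2.eq_of_src _ _) (hi.1.eq_of_tgt _ _)

/-- Direct images along quasi-compact quasi-separated morphisms respect the bounds. -/
theorem evHD_RR {U : Scheme.{u}} (f : U ⟶ X) [IsOpenImmersion f] [QuasiCompact f] [CompactSpace X]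
    (hl : l = Filter.atBot ∨ l = Filter.atTop) {F : DCoh.D U} (hF : DCoh.IsQCohD F) (h : EvHD l F) :
    EvHD l ((RR f).obj F) := by
  rcases hl with rfl | rfl
  · obtain ⟨N, hN⟩ := Filter.eventually_atBot.1 h
    have : F.IsGE (N + 1) := (DerivedCategory.isGE_iff F _).2 fun i hi => hN i (by omega)
    have h' : ((RR f).obj F).IsGE (N + 1) := @SiteDer.isGE_Rres _ _ _ _ _ _ _ _ (rmor f) F (N + 1) this
    exact Filter.eventually_atBot.2 ⟨N, fun i hi => DerivedCategory.isZero_of_isGE ((RR f).obj F) (N + 1) i (by omega)⟩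
  · letI : (RR f).CommShift ℤ := (resDAdj f).rightAdjointCommShift ℤ
    obtain ⟨N, hN⟩ := Filter.eventually_atTop.1 h
    obtain ⟨M, hM⟩ := exists_bound_Rres f
    have hle : (F⟦N⟧).IsLE 0 := (DerivedCategory.isLE_iff _ _).2 fun i hi =>
      (hN (N + i) (by omega)).of_iso (HDShiftIso F N i _ rfl)
    refine Filter.eventually_atTop.2 ⟨N + M, fun i hi => ?_⟩
    refine (hM _ (isQCohD_shift hF N) hle (i - N) (by omega)).of_iso ?_
    exact (HDShiftIso ((RR f).obj F) N (i - N) i (by omega)).symm ≪≫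
      (DerivedCategory.homologyFunctor X.Modules (i - N)).mapIso (((RR f).commShiftIso N).app F).symm

theorem evHD_of_union [CompactSpace X] [QuasiSeparatedSpace X] (U V : X.Opens) (hU : IsCompact (U : Set X))
    (hV : IsAffineOpen V) (hcov : ∀ x : X, x ∈ (U : Set X) ∪ (V : Set X))
    (hl : l = Filter.atBot ∨ l = Filter.atTop)
    (ih : ∀ F : DCoh.D (U : Scheme.{u}), DCoh.IsQCohD F → (∀ P, DCoh.IsPerfect P → EvHom l F P) → EvHD l F)
    {E : DCoh.D X} (hE : DCoh.IsQCohD E) (h : ∀ P, DCoh.IsPerfect P → EvHom l E P) : EvHD l E := by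
  have htr : ∀ c : ℤ, Filter.Tendsto (fun i : ℤ => i + c) l l := by
    rcases hl with rfl | rfl
    · exact fun c => Filter.tendsto_atBot_add_const_right _ c Filter.tendsto_id
    · exact fun c => Filter.tendsto_atTop_add_const_right _ c Filter.tendsto_id
  have := quasiCompact_of_isCompact_range U.ι (by rwa [Scheme.Opens.range_ι])
  have : QuasiCompact V.ι := quasiCompact_of_isCompact_range V.ι (by rw [Scheme.Opens.range_ι]; exact hV.isCompact)
  have : IsAffine (V : Scheme.{u}) := hV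
  have : CompactSpace (U : Scheme.{u}) := isCompact_iff_compactSpace.1 hU
  let U' : (V : Scheme.{u}).Opens := V.ι ⁻¹ᵁ U
  have hU' : IsCompact (U' : Set (V : Scheme.{u})) := QuasiCompact.isCompact_preimage (f := V.ι) (U : Set X) U.2 hU
  let adj := resDAdj U.ι
  let EU := (resD U.ι).obj E
  have hEU : DCoh.IsQCohD EU := isQCohD_resD U.ι hE
  obtain ⟨C, p, d, hT⟩ := distinguished_cocone_triangle (adj.unit.app E)
  have hC : DCoh.IsQCohD C := isQCohD_obj₃ hT hE (isQCohD_Rres U.ι EU hEU)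
  have hCU : IsZero ((resD U.ι).obj C) :=
    (Triangle.isZero₃_iff_isIso₁ _ ((resD U.ι).map_distinguished _ hT)).2 (isIso_resD_unit U.ι E)
  -- a detector of what vanishes on `U`
  obtain ⟨L, hL, hLU, hdet⟩ := exists_detector (X := (V : Scheme.{u})) U' hU'
  let J := (CxOX.extZeroD V.ι).obj L
  let eJ : L ≅ (resD V.ι).obj J := (resDExtZeroIso V.ι).app L
  have hJU : IsZero ((resD U.ι).obj J) := (isZero_resD_iff_support U.ι J).2 fun q x hx hxU => by
    obtain ⟨y, rfl⟩ := support_HD_extZeroD V.ι L q hx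
    have hz : IsZero ((resD (U'.ι ≫ V.ι)).obj J) :=
      (isZero_resD_comp _ _).1 (hLU.of_iso ((resD U'.ι).mapIso eJ.symm))
    rw [Scheme.Opens.range_ι] at hxU
    exact (isZero_resD_iff_support _ J).1 hz q hx ⟨⟨y, hxU⟩, rfl⟩
  have hJ : DCoh.IsPerfect J := isPerfect_of_local fun x => (hcov x).elim
    (fun h => ⟨_, U.ι, inferInstance, ⟨⟨x, h⟩, rfl⟩, isPerfect_of_isZero_obj hJU⟩)
    (fun h => ⟨_, V.ι, inferInstance, ⟨⟨x, h⟩, rfl⟩, isPerfect_of_iso hL eJ⟩)
  have hJC : EvHom l C J := ((htr 1).eventually (h J hJ)).mono fun i hi φ => by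
    have h1 : φ ≫ d = 0 := by
      obtain ⟨g, hg⟩ : ∃ g : J⟦-(i + 1)⟧ ⟶ E,
          g⟦(1 : ℤ)⟧' = (shiftFunctorAdd' (DCoh.D X) (-(i + 1)) 1 (-i) (by omega)).inv.app J ≫ φ ≫ d :=
        ⟨_, (shiftFunctor (DCoh.D X) (1 : ℤ)).map_preimage _⟩
      rw [hi g, Functor.map_zero] at hg
      rw [← cancel_epi ((shiftFunctorAdd' (DCoh.D X) (-(i + 1)) 1 (-i) (by omega)).inv.app J), comp_zero]
      exact hg.symm
    obtain ⟨ψ, hψ⟩ := Triangle.coyoneda_exact₃ _ hT φ h1
    have hψ0 : ψ = 0 := (adj.homEquiv _ _).symm.injective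
      ((((shiftFunctor _ (-i)).map_isZero hJU).of_iso (((resD U.ι).commShiftIso (-i)).app J)).eq_of_src _ _)
    rw [hψ, hψ0]
    exact zero_comp
  have hCev : EvHD l C := hJC.mono fun i hi => isZero_of_subsingleton_stalks _ fun x => by
    by_contra hx
    rcases hcov x with hxU | hxV
    · exact (isZero_resD_iff_support U.ι C).1 hCU i hx ⟨⟨x, hxU⟩, rfl⟩
    · have hCV : IsZero (DCoh.HD ((resD V.ι).obj C) i) := by
        have := hdet _ (isQCohD_resD V.ι hC) ((isZero_resD_comp _ _).2 (isZero_resD_of_le _ _ (by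
          rintro _ ⟨y, rfl⟩
          rw [Scheme.Opens.range_ι]
          exact y.2) hCU)) (-i) fun φ => by
            apply ((extZeroDAdj V.ι).homEquiv _ _).symm.injective
            rw [← cancel_epi (((CxOX.extZeroD V.ι).commShiftIso (-i)).app L).inv]
            exact (hi _).trans (hi _).symm
        rwa [neg_neg] at this
      exact support_subset_of_isZero_restrict V.ι
        (hCV.of_iso ((DerTrunc.homologyMapIso (Scheme.Modules.restrictFunctor V.ι) i).app C).symm) hx ⟨⟨x, hxV⟩, rfl⟩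
  have hRR : ∀ P, DCoh.IsPerfect P → EvHom l ((RR U.ι).obj EU) P := fun P hP =>
    ((h P hP).and (hCev.evHom htr hC hP)).mono fun i hi φ => by
      obtain ⟨ψ, hψ⟩ := Triangle.coyoneda_exact₂ _ hT φ (hi.2 _)
      rw [hψ, hi.1 ψ]
      exact zero_comp
  have hEUev : EvHD l EU := ih EU hEU fun Q hQ => by
    obtain ⟨K, hK, ⟨r⟩⟩ := exists_extend_summand U V hU hV hcov hQ
    exact (hRR K hK).mono fun i hi φ => by
      have hz : r.r⟦-i⟧' ≫ φ = 0 := by
        rw [← cancel_epi (((resD U.ι).commShiftIso (-i)).app K).hom, comp_zero]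
        apply (adj.homEquiv _ _).injective
        exact (hi _).trans (hi _).symm
      rw [← Category.id_comp φ, ← CategoryTheory.Functor.map_id, ← r.retract, Functor.map_comp, Category.assoc, hz,
        comp_zero]
  exact EvHD.ext₁ htr hT (evHD_RR U.ι hl hEU hEUev) hCev

theorem evHD_of_evHom_cover (hl : l = Filter.atBot ∨ l = Filter.atTop) :
    ∀ (n : ℕ) (X : Scheme.{u}) [CompactSpace X] [QuasiSeparatedSpace X] (B : Fin n → X.Opens),
    (∀ k, IsAffineOpen (B k)) → (∀ x : X, ∃ k, x ∈ B k) →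
      ∀ {E : DCoh.D X}, DCoh.IsQCohD E → (∀ P, DCoh.IsPerfect P → EvHom l E P) → EvHD l E
  | 0, X, _, _, B, _, hB, E, _, _ => Filter.Eventually.of_forall fun i =>
      isZero_of_subsingleton_stalks _ fun x => (hB x).elim fun k => k.elim0
  | n + 1, X, _, _, B, hB, hcov, E, hE, h => by
    let U : X.Opens := ⨆ k : Fin n, B k.castSucc
    have hU : IsCompact (U : Set X) := by
      rw [Opens.coe_iSup]; exact isCompact_iUnion fun k => (hB _).isCompact
    have : CompactSpace (U : Scheme.{u}) := isCompact_iff_compactSpace.1 hU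
    refine evHD_of_union U (B (Fin.last n)) hU (hB _) (fun x => ?_) hl (fun F hF hF' =>
      evHD_of_evHom_cover hl n U (fun k => U.ι ⁻¹ᵁ B k.castSucc) (fun k => ?_) (fun x => ?_) hF hF') hE h
    · obtain ⟨k, hk⟩ := hcov x
      cases k using Fin.lastCases with
      | last => exact Or.inr hk
      | cast k => exact Or.inl (le_iSup (fun k : Fin n => B k.castSucc) k hk)
    · rw [← Scheme.Hom.isAffineOpen_iff_of_isOpenImmersion U.ι,
        image_preimage_of_le U.ι (by rw [Scheme.Opens.opensRange_ι]; exact le_iSup (fun k : Fin n => B k.castSucc) k)]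
      exact hB _
    · obtain ⟨k, hk⟩ := Opens.mem_iSup.1 x.2
      exact ⟨k, hk⟩

/-- Vanishing of maps from a generator near an end of `ℤ` is vanishing of cohomology there. -/
theorem evHom_iff_evHD [CompactSpace X] [QuasiSeparatedSpace X] (hl : l = Filter.atBot ∨ l = Filter.atTop)
    {G : DCoh.D X} (hG : DCoh.IsPerfect G)
    (hgen : ∀ E : DCoh.D X, DCoh.IsQCohD E → (∀ (n : ℤ) (φ : G⟦n⟧ ⟶ E), φ = 0) → IsZero E)
    {E : DCoh.D X} (hE : DCoh.IsQCohD E) : EvHom l E G ↔ EvHD l E := by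
  have htr : ∀ c : ℤ, Filter.Tendsto (fun i : ℤ => i + c) l l := by
    rcases hl with rfl | rfl
    · exact fun c => Filter.tendsto_atBot_add_const_right _ c Filter.tendsto_id
    · exact fun c => Filter.tendsto_atTop_add_const_right _ c Filter.tendsto_id
  refine ⟨fun h => ?_, fun h => h.evHom htr hE hG⟩
  obtain ⟨ι, _, B, hB, -, hcov⟩ := QCoh.exists_finite_affine_cover (X := X) (U := ⊤) isCompact_univ
  let e := (Fintype.equivFin ι).symm
  refine evHD_of_evHom_cover hl _ X (B ∘ e) (fun k => hB _) (fun x => ?_) hE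
    fun P hP => prop_of_generator hG hgen (thick_evHom htr E) h hP
  obtain ⟨k, hk⟩ := Opens.mem_iSup.1 (hcov (show x ∈ (⊤ : X.Opens) from trivial))
  exact ⟨e.symm k, by simpa using hk⟩

end GrothLib.OX
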