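import Groth.Agent.Lib.OX.LocalHomotopy
import Groth.Agent.Lib.OX.StupidGE
import Groth.Agent.Lib.DerCat.Truncation
import Groth.Prelude.Def_DCoh3

/-! # Local approximations by strictly perfect complexes -/

set_option autoImplicit false
set_option maxHeartbeats 800000
universe v u

open CategoryTheory CategoryTheory.Limits AlgebraicGeometry HomologicalComplex CategoryTheory.Pretriangulated

attribute [local instance] HasDerivedCategory.standard

namespace GrothLib.DerCat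

variable {C : Type u} [Category.{v} C] [Abelian C] [HasDerivedCategory C]

/-- An isomorphism above `m` and an epimorphism at `m` on cohomology. -/
def Good {A B : DerivedCategory C} (f : A ⟶ B) (m : ℤ) : Prop :=
  (∀ i, m < i → IsIso ((DerivedCategory.homologyFunctor C i).map f)) ∧
    Epi ((DerivedCategory.homologyFunctor C m).map f)

theorem good_of_isIso {A B : DerivedCategory C} (f : A ⟶ B) [IsIso f] (m : ℤ) : Good f m :=
  ⟨fun _ _ => inferInstance, inferInstance⟩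

theorem Good.comp {A B D : DerivedCategory C} {f : A ⟶ B} {g : B ⟶ D} {m : ℤ} (hf : Good f m) (hg : Good g m) :
    Good (f ≫ g) m := by
  refine ⟨fun i hi => ?_, ?_⟩ <;> rw [Functor.map_comp]
  · have := hf.1 i hi
    have := hg.1 i hi
    infer_instance
  · have := hf.2
    have := hg.2
    exact epi_comp _ _

theorem Good.mono {A B : DerivedCategory C} {f : A ⟶ B} {m n : ℤ} (hf : Good f m) (h : m ≤ n) : Good f n := by
  refine ⟨fun i hi => hf.1 i (by omega), ?_⟩
  rcases lt_or_eq_of_le h with h | rfl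
  · have := hf.1 n h
    infer_instance
  · exact hf.2

theorem good_iff_isLE {T : Triangle (DerivedCategory C)} (hT : T ∈ distTriang _) (m : ℤ) :
    Good T.mor₁ m ↔ T.obj₃.IsLE (m - 1) := by
  rw [Good, ← cone_vanish_iff T hT m, DerivedCategory.isLE_iff]
  exact ⟨fun h i hi => h i (by omega), fun h i hi => h i (by omega)⟩

theorem exists_triangle_of_good {A B : DerivedCategory C} {f : A ⟶ B} {m : ℤ} (hf : Good f m) :
    ∃ (Z : DerivedCategory C) (v : B ⟶ Z) (w : Z ⟶ A⟦(1 : ℤ)⟧),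
      Triangle.mk f v w ∈ distTriang _ ∧ Z.IsLE (m - 1) := by
  obtain ⟨Z, v, w, h⟩ := distinguished_cocone_triangle f
  exact ⟨Z, v, w, h, (good_iff_isLE h m).1 hf⟩

theorem good_congr {A B A' B' : DerivedCategory C} {f : A ⟶ B} {f' : A' ⟶ B'} (e₁ : A ≅ A') (e₂ : B ≅ B')
    (h : f ≫ e₂.hom = e₁.hom ≫ f') {m : ℤ} (hf : Good f m) : Good f' m := by
  have : f' = e₁.inv ≫ f ≫ e₂.hom := by simp [h]
  rw [this]
  exact (good_of_isIso _ m).comp (hf.comp (good_of_isIso _ m))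

theorem Good.map {D : Type u} [Category.{v} D] [Abelian D] [HasDerivedCategory D] (F : C ⥤ D) [F.Additive]
    [PreservesFiniteLimits F] [PreservesFiniteColimits F] {A B : DerivedCategory C} {f : A ⟶ B} {m : ℤ}
    (hf : Good f m) : Good (F.mapDerivedCategory.map f) m := by
  obtain ⟨Z, v, w, h, hZ⟩ := exists_triangle_of_good hf
  exact (good_iff_isLE (F.mapDerivedCategory.map_distinguished _ h) m).2 (DerTrunc.isLE_mapDerivedCategory F Z _)

theorem Good.shift {A B : DerivedCategory C} {f : A ⟶ B} {m : ℤ} (hf : Good f m) (k n : ℤ) (h : k + n = m) :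
    Good (f⟦k⟧') n := by
  let e := fun i => (DerivedCategory.homologyFunctor C 0).shiftIso k i (k + i) rfl
  refine ⟨fun i hi => ?_, ?_⟩
  · exact ((MorphismProperty.isomorphisms _).arrow_mk_iso_iff
      (Arrow.isoMk ((e i).app A) ((e i).app B) ((e i).hom.naturality f).symm)).2 (hf.1 (k + i) (by omega))
  · exact ((MorphismProperty.epimorphisms _).arrow_mk_iso_iff
      (Arrow.isoMk ((e n).app A) ((e n).app B) ((e n).hom.naturality f).symm)).2
        (show Epi ((DerivedCategory.homologyFunctor C (k + n)).map f) by rw [h]; exact hf.2)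

/-- The map of cones of a commutative square, built from two octahedra. -/
theorem exists_good_cone {A B : DerivedCategory C} {T : Triangle (DerivedCategory C)} (hT : T ∈ distTriang _)
    (a : A ⟶ T.obj₁) (b : B ⟶ T.obj₂) (g : A ⟶ B) (comm : g ≫ b = a ≫ T.mor₁) {m : ℤ}
    (ha : Good a (m + 1)) (hb : Good b m) {Z : DerivedCategory C} {v : B ⟶ Z} {w : Z ⟶ A⟦(1 : ℤ)⟧}
    (hg : Triangle.mk g v w ∈ distTriang _) : ∃ c : Z ⟶ T.obj₃, Good c m := by
  obtain ⟨Zb, vb, wb, hb', hZb⟩ := exists_triangle_of_good hb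
  obtain ⟨Za, va, wa, ha', hZa⟩ := exists_triangle_of_good ha
  obtain ⟨H, vH, wH, hH⟩ := distinguished_cocone_triangle (g ≫ b)
  let o₁ := Triangulated.someOctahedron rfl hg hb' hH
  let o₂ := Triangulated.someOctahedron comm.symm ha' (show Triangle.mk T.mor₁ T.mor₂ T.mor₃ ∈ distTriang _ from hT) hH
  refine ⟨o₁.m₁ ≫ o₂.m₃, ((good_iff_isLE o₁.mem m).2 hZb).comp
    ((good_iff_isLE (rot_of_distTriang _ o₂.mem) m).2 ?_)⟩
  have hZ : Za.IsLE m := by
    rw [show m = m + 1 - 1 by omega]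
    exact hZa
  exact DerivedCategory.TStructure.t.isLE_shift Za m 1 (m - 1)

end GrothLib.DerCat

namespace GrothLib.OX

variable {X : Scheme.{u}}

/-- Restriction of derived categories along an open immersion. -/
noncomputable abbrev resD {U : Scheme.{u}} (j : U ⟶ X) [IsOpenImmersion j] : DCoh.D X ⥤ DCoh.D U :=
  (Scheme.Modules.restrictFunctor j).mapDerivedCategory

noncomputable abbrev resDFac {U : Scheme.{u}} (j : U ⟶ X) [IsOpenImmersion j] :
    DerivedCategory.Q ⋙ resD j ≅ resCx j ⋙ DerivedCategory.Q :=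
  (Scheme.Modules.restrictFunctor j).mapDerivedCategoryFactors

theorem nonempty_resD_congr {U : Scheme.{u}} {j j' : U ⟶ X} [IsOpenImmersion j] [IsOpenImmersion j'] (h : j = j')
    (K : DCoh.D X) : Nonempty ((resD j).obj K ≅ (resD j').obj K) := by
  subst h
  exact ⟨Iso.refl _⟩

theorem nonempty_resD_comp {U W : Scheme.{u}} (j' : W ⟶ U) (j : U ⟶ X) [IsOpenImmersion j] [IsOpenImmersion j']
    (K : DCoh.D X) : Nonempty ((resD (j' ≫ j)).obj K ≅ (resD j').obj ((resD j).obj K)) := by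
  let P := DerivedCategory.Q.objPreimage K
  let e : DerivedCategory.Q.obj P ≅ K := DerivedCategory.Q.objObjPreimageIso K
  exact ⟨(resD (j' ≫ j)).mapIso e.symm ≪≫ (resDFac (j' ≫ j)).app P ≪≫
    DerivedCategory.Q.mapIso ((resCxCompIso j' j).app P) ≪≫ ((resDFac j').app _).symm ≪≫
    (resD j').mapIso ((resDFac j).app P).symm ≪≫ (resD j').mapIso ((resD j).mapIso e)⟩

/-- A strictly perfect approximation down to degree `m`. -/
def Approx (m : ℤ) (K : DCoh.D X) : Prop :=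
  ∃ (E : CochainComplex X.Modules ℤ) (a : DerivedCategory.Q.obj E ⟶ K), DCoh.IsStrictlyPerfect E ∧ DerCat.Good a m

/-- Isomorphic to a strictly perfect complex. -/
def Strict (K : DCoh.D X) : Prop :=
  ∃ E : CochainComplex X.Modules ℤ, DCoh.IsStrictlyPerfect E ∧ Nonempty (DerivedCategory.Q.obj E ≅ K)

theorem strictlyPerfect_resCx {U : Scheme.{u}} (j : U ⟶ X) [IsOpenImmersion j] {E : CochainComplex X.Modules ℤ}
    (h : DCoh.IsStrictlyPerfect E) : DCoh.IsStrictlyPerfect ((resCx j).obj E) := by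
  obtain ⟨⟨a, b, hab⟩, hE⟩ := h
  exact ⟨⟨a, b, fun i hi => (Scheme.Modules.restrictFunctor j).map_isZero (hab i hi)⟩,
    fun i => isFinLocFree_restrict j (hE i)⟩

theorem Approx.of_iso {m : ℤ} {K L : DCoh.D X} (h : Approx m K) (e : K ≅ L) : Approx m L := by
  obtain ⟨E, a, hE, ha⟩ := h
  exact ⟨E, a ≫ e.hom, hE, ha.comp (DerCat.good_of_isIso _ m)⟩

theorem Approx.mono {m n : ℤ} {K : DCoh.D X} (h : Approx m K) (hn : m ≤ n) : Approx n K := by
  obtain ⟨E, a, hE, ha⟩ := h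
  exact ⟨E, a, hE, ha.mono hn⟩

theorem Approx.restrict {m : ℤ} {K : DCoh.D X} (h : Approx m K) {U : Scheme.{u}} (j : U ⟶ X) [IsOpenImmersion j] :
    Approx m ((resD j).obj K) := by
  obtain ⟨E, a, hE, ha⟩ := h
  exact ⟨(resCx j).obj E, (resDFac j).inv.app E ≫ (resD j).map a, strictlyPerfect_resCx j hE,
    (DerCat.good_of_isIso _ m).comp (ha.map _)⟩

theorem Approx.shift {m : ℤ} {K : DCoh.D X} (h : Approx m K) (k n : ℤ) (hn : k + n = m) : Approx n (K⟦k⟧) := by
  obtain ⟨E, a, ⟨⟨p, q, hpq⟩, hE⟩, ha⟩ := h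
  exact ⟨E⟦k⟧, (DerivedCategory.Q.commShiftIso k).hom.app E ≫ a⟦k⟧',
    ⟨⟨p - k, q - k, fun i hi => hpq (i + k) (by omega)⟩, fun i => hE (i + k)⟩,
    (DerCat.good_of_isIso _ n).comp (ha.shift k n hn)⟩

theorem Strict.of_iso {K L : DCoh.D X} (h : Strict K) (e : K ≅ L) : Strict L := by
  obtain ⟨E, hE, ⟨i⟩⟩ := h
  exact ⟨E, hE, ⟨i ≪≫ e⟩⟩

theorem Strict.restrict {K : DCoh.D X} (h : Strict K) {U : Scheme.{u}} (j : U ⟶ X) [IsOpenImmersion j] :
    Strict ((resD j).obj K) := by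
  obtain ⟨E, hE, ⟨i⟩⟩ := h
  exact ⟨(resCx j).obj E, strictlyPerfect_resCx j hE, ⟨((resDFac j).app E).symm ≪≫ (resD j).mapIso i⟩⟩

theorem Strict.shift {K : DCoh.D X} (h : Strict K) (k : ℤ) : Strict (K⟦k⟧) := by
  obtain ⟨E, ⟨⟨p, q, hpq⟩, hE⟩, ⟨i⟩⟩ := h
  exact ⟨E⟦k⟧, ⟨⟨p - k, q - k, fun i hi => hpq (i + k) (by omega)⟩, fun i => hE (i + k)⟩,
    ⟨(DerivedCategory.Q.commShiftIso k).app E ≪≫ (shiftFunctor _ k).mapIso i⟩⟩

theorem strictlyPerfect_mappingCone {E F : CochainComplex X.Modules ℤ} (φ : E ⟶ F) (hE : DCoh.IsStrictlyPerfect E)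
    (hF : DCoh.IsStrictlyPerfect F) : DCoh.IsStrictlyPerfect (CochainComplex.mappingCone φ) := by
  obtain ⟨⟨a, b, hab⟩, hE⟩ := hE
  obtain ⟨⟨a', b', hab'⟩, hF⟩ := hF
  let e := fun i : ℤ => HomologicalComplex.homotopyCofiber.XIsoBiprod φ i (i + 1) rfl
  refine ⟨⟨min (a - 1) a', max (b - 1) b', fun i hi => ?_⟩, fun i =>
    DCoh.isFinLocFree_of_iso (e i).symm (DCoh.isFinLocFree_biprod (hE _) (hF _))⟩
  exact (biprod_isZero_iff _ _).2 ⟨hab (i + 1) (by omega), hab' i (by omega)⟩ |>.of_iso (e i)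

/-- A morphism into an object without cohomology in the range of the source is locally zero. -/
theorem exists_resD_zero {E : CochainComplex X.Modules ℤ} (hE : DCoh.IsStrictlyPerfect E) (a : ℤ)
    (hEa : ∀ i, i < a → IsZero (E.X i)) {Z : DCoh.D X} [hZ : Z.IsLE (a - 1)] (u : DerivedCategory.Q.obj E ⟶ Z)
    (x : X) : ∃ V : X.Opens, x ∈ V ∧ (resD V.ι).map u = 0 := by
  let C := DerivedCategory.Q.objPreimage Z
  let e : DerivedCategory.Q.obj C ≅ Z := DerivedCategory.Q.objObjPreimageIso Z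
  obtain ⟨C', g, s, hs, hg⟩ := DerivedCategory.left_fac (u ≫ e.inv)
  have hC' : ∀ i, a ≤ i → IsZero (C'.homology i) := fun i hi =>
    (DerivedCategory.isZero_of_isLE Z (a - 1) i (by omega)).of_iso
      ((hdIso C' i).symm ≪≫ (DerivedCategory.homologyFunctor _ i).mapIso
        ((asIso (DerivedCategory.Q.map s)).symm ≪≫ e))
  obtain ⟨V, hx, ⟨h⟩⟩ := exists_open_null g hE a hEa hC' x
  refine ⟨V, hx, ?_⟩
  have h0 : (resD V.ι).map (DerivedCategory.Q.map g) = 0 := by
    refine (NatIso.naturality_2 (resDFac V.ι) g).symm.trans ?_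
    have : DerivedCategory.Q.map ((resCx V.ι).map g) = 0 := by
      rw [DerivedCategory.Q_map_eq_of_homotopy _ h, DerivedCategory.Q.map_zero]
    change _ ≫ DerivedCategory.Q.map ((resCx V.ι).map g) ≫ _ = 0
    rw [this, zero_comp, comp_zero]
  rw [show u = DerivedCategory.Q.map g ≫ inv (DerivedCategory.Q.map s) ≫ e.hom by
    rw [← Category.assoc, ← hg, Category.assoc, e.inv_hom_id, Category.comp_id],
    Functor.map_comp, h0, zero_comp]

/-- A morphism out of a strictly perfect complex is locally a morphism of complexes. -/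
theorem exists_resD_chain {E F : CochainComplex X.Modules ℤ} (hE : DCoh.IsStrictlyPerfect E)
    (α : DerivedCategory.Q.obj E ⟶ DerivedCategory.Q.obj F) (x : X) :
    ∃ (V : X.Opens) (β : (resCx V.ι).obj E ⟶ (resCx V.ι).obj F), x ∈ V ∧
      (resD V.ι).map α = (resDFac V.ι).hom.app E ≫ DerivedCategory.Q.map β ≫ (resDFac V.ι).inv.app F := by
  obtain ⟨G, s, hs, g, rfl⟩ := DerivedCategory.right_fac α
  have : QuasiIso s := (DerivedCategory.isIso_Q_map_iff_quasiIso _ s).1 hs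
  obtain ⟨⟨a, b, hab⟩, hfl⟩ := hE
  obtain ⟨V, β, hx, ⟨hβ⟩⟩ := exists_open_lift (𝟙 E) s ⟨⟨a, b, hab⟩, hfl⟩ a
    (fun j hj => hab j (Or.inl hj)) (fun j _ => inferInstance) inferInstance x
  refine ⟨V, β ≫ (resCx V.ι).map g, hx, ?_⟩
  have hn : ∀ {A B : CochainComplex X.Modules ℤ} (f : A ⟶ B), (resD V.ι).map (DerivedCategory.Q.map f) =
      (resDFac V.ι).hom.app A ≫ DerivedCategory.Q.map ((resCx V.ι).map f) ≫ (resDFac V.ι).inv.app B := fun f =>
    (NatIso.naturality_2 (resDFac V.ι) f).symm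
  have h1 : (resD V.ι).map (inv (DerivedCategory.Q.map s)) =
      (resDFac V.ι).hom.app E ≫ DerivedCategory.Q.map β ≫ (resDFac V.ι).inv.app G := by
    rw [Functor.map_inv]
    apply IsIso.inv_eq_of_inv_hom_id
    rw [hn s, Category.assoc, Category.assoc, Iso.inv_hom_id_app_assoc, ← Functor.map_comp_assoc,
      DerivedCategory.Q_map_eq_of_homotopy _ hβ, CategoryTheory.Functor.map_id, CategoryTheory.Functor.map_id,
      Category.id_comp, Iso.hom_inv_id_app]
    rfl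
  refine ((resD V.ι).map_comp _ _).trans ?_
  rw [h1, hn g, Category.assoc, Category.assoc, Iso.inv_hom_id_app_assoc, ← Functor.map_comp_assoc]

theorem resD_square {U : Scheme.{u}} (j : U ⟶ X) [IsOpenImmersion j] {A B : DCoh.D X}
    {E F : CochainComplex X.Modules ℤ} (f : A ⟶ B) (a : DerivedCategory.Q.obj E ⟶ A) (b : DerivedCategory.Q.obj F ⟶ B)
    (g : (resD j).obj (DerivedCategory.Q.obj E) ⟶ (resD j).obj (DerivedCategory.Q.obj F))
    (comm : g ≫ (resD j).map b = (resD j).map (a ≫ f)) :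
    ((resDFac j).inv.app E ≫ g ≫ (resDFac j).hom.app F) ≫ (resDFac j).inv.app F ≫ (resD j).map b =
      ((resDFac j).inv.app E ≫ (resD j).map a) ≫ (resD j).map f := by
  simp [comm]

theorem exists_open_approx_of_square {T : Triangle (DCoh.D X)} (hT : T ∈ distTriang _)
    {E F : CochainComplex X.Modules ℤ} (hE : DCoh.IsStrictlyPerfect E) (hF : DCoh.IsStrictlyPerfect F)
    (a : DerivedCategory.Q.obj E ⟶ T.obj₁) (b : DerivedCategory.Q.obj F ⟶ T.obj₂)
    (g : DerivedCategory.Q.obj E ⟶ DerivedCategory.Q.obj F) (comm : g ≫ b = a ≫ T.mor₁) {m : ℤ}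
    (ha : DerCat.Good a (m + 1)) (hb : DerCat.Good b m) (x : X) :
    ∃ V : X.Opens, x ∈ V ∧ Approx m ((resD V.ι).obj T.obj₃) := by
  obtain ⟨V, β, hx, hβ⟩ := exists_resD_chain hE g x
  let j := V.ι
  have hsq := resD_square j T.mor₁ a b _ (show (resD j).map g ≫ (resD j).map b = _ by rw [← Functor.map_comp, comm])
  have hg : (resDFac j).inv.app E ≫ (resD j).map g ≫ (resDFac j).hom.app F = DerivedCategory.Q.map β := by
    simp [j, hβ]
  rw [hg] at hsq
  obtain ⟨c, hc⟩ := DerCat.exists_good_cone ((resD j).map_distinguished T hT)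
    ((resDFac j).inv.app E ≫ (resD j).map a) ((resDFac j).inv.app F ≫ (resD j).map b) _ hsq
    ((DerCat.good_of_isIso _ _).comp (ha.map _)) ((DerCat.good_of_isIso _ _).comp (hb.map _))
    (show Triangle.mk (DerivedCategory.Q.map β) _ _ ∈ distTriang _ from
      DerivedCategory.mappingCone_triangle_distinguished β)
  exact ⟨V, hx, _, c, strictlyPerfect_mappingCone β (strictlyPerfect_resCx j hE) (strictlyPerfect_resCx j hF), hc⟩

theorem exists_open_approx_cone {T : Triangle (DCoh.D X)} (hT : T ∈ distTriang _) {m : ℤ}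
    (h₁ : Approx (m + 1) T.obj₁) (h₂ : Approx m T.obj₂) (x : X) :
    ∃ (U : Scheme.{u}) (j : U ⟶ X) (_ : IsOpenImmersion j), x ∈ Set.range j ∧ Approx m ((resD j).obj T.obj₃) := by
  obtain ⟨E, a, ⟨⟨p, q, hpq⟩, hE⟩, ha⟩ := h₁
  obtain ⟨F, b, hF, hb⟩ := h₂
  let E' := StupidGE.trunc E (m + 1)
  have hE' : DCoh.IsStrictlyPerfect E' := ⟨⟨p, q, fun i hi => StupidGE.isZero_trunc_of_isZero E _ (hpq i hi)⟩,
    fun i => by
      by_cases hi : m + 1 ≤ i
      · have := StupidGE.isIso_ι_f E (m + 1) hi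
        exact DCoh.isFinLocFree_of_iso (asIso ((StupidGE.ι E (m + 1)).f i)).symm (hE i)
      · exact DCoh.isFinLocFree_of_isZero (StupidGE.isZero_trunc E _ (by omega))⟩
  have hι : DerCat.Good (DerivedCategory.Q.map (StupidGE.ι E (m + 1))) (m + 1) := by
    let F₀ := fun i => DerivedCategory.homologyFunctorFactors X.Modules i
    exact ⟨fun i hi => ((MorphismProperty.isomorphisms _).arrow_mk_iso_iff
        (Arrow.isoMk ((F₀ i).app E') ((F₀ i).app E) ((F₀ i).hom.naturality _).symm)).2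
          (StupidGE.isIso_homologyMap_ι E _ hi),
      ((MorphismProperty.epimorphisms _).arrow_mk_iso_iff
        (Arrow.isoMk ((F₀ (m + 1)).app E') ((F₀ (m + 1)).app E) ((F₀ (m + 1)).hom.naturality _).symm)).2
          (StupidGE.epi_homologyMap_ι E _)⟩
  let a' := DerivedCategory.Q.map (StupidGE.ι E (m + 1)) ≫ a
  obtain ⟨Z, v, w, hb', hZ⟩ := DerCat.exists_triangle_of_good hb
  have : Z.IsLE (m + 1 - 1) := DerivedCategory.TStructure.t.isLE_of_le Z (m - 1) (m + 1 - 1) (by omega)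
  obtain ⟨V, hx, hV⟩ := exists_resD_zero hE' (m + 1) (fun i hi => StupidGE.isZero_trunc E _ hi)
    ((a' ≫ T.mor₁) ≫ v) x
  let j := V.ι
  obtain ⟨g, hg⟩ := Triangle.coyoneda_exact₂ _ ((resD j).map_distinguished _ hb') ((resD j).map (a' ≫ T.mor₁))
    (by rw [Functor.map_comp] at hV; exact hV)
  have hsq := resD_square j T.mor₁ a' b g hg.symm
  obtain ⟨W, hW, hA⟩ := exists_open_approx_of_square ((resD j).map_distinguished T hT) (strictlyPerfect_resCx j hE')
    (strictlyPerfect_resCx j hF) _ _ _ hsq ((DerCat.good_of_isIso _ _).comp ((hι.comp ha).map _))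
    ((DerCat.good_of_isIso _ _).comp (hb.map _)) ⟨x, hx⟩
  obtain ⟨e⟩ := nonempty_resD_comp W.ι j T.obj₃
  exact ⟨W.toScheme, W.ι ≫ j, inferInstance, ⟨⟨⟨x, hx⟩, hW⟩, rfl⟩, hA.of_iso e.symm⟩

theorem exists_open_strict_cone {T : Triangle (DCoh.D X)} (hT : T ∈ distTriang _)
    (h₁ : Strict T.obj₁) (h₂ : Strict T.obj₂) (x : X) :
    ∃ V : X.Opens, x ∈ V ∧ Strict ((resD V.ι).obj T.obj₃) := by
  obtain ⟨E, hE, ⟨a⟩⟩ := h₁
  obtain ⟨F, hF, ⟨b⟩⟩ := h₂
  obtain ⟨V, β, hx, hβ⟩ := exists_resD_chain hE (a.hom ≫ T.mor₁ ≫ b.inv) x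
  let j := V.ι
  refine ⟨V, hx, _, strictlyPerfect_mappingCone β (strictlyPerfect_resCx j hE) (strictlyPerfect_resCx j hF),
    ⟨Triangle.π₃.mapIso (Pretriangulated.isoTriangleOfIso₁₂ _ ((resD j).mapTriangle.obj T)
      (DerivedCategory.mappingCone_triangle_distinguished β) ((resD j).map_distinguished T hT)
      (((resDFac j).app E).symm ≪≫ (resD j).mapIso a) (((resDFac j).app F).symm ≪≫ (resD j).mapIso b) ?_)⟩⟩
  have h : (resD j).map (a.hom ≫ T.mor₁ ≫ b.inv) ≫ (resD j).map b.hom = (resD j).map (a.hom ≫ T.mor₁) := by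
    rw [← Functor.map_comp]
    simp
  have hsq := resD_square j T.mor₁ a.hom b.hom _ h
  rw [show (resDFac j).inv.app E ≫ (resD j).map (a.hom ≫ T.mor₁ ≫ b.inv) ≫ (resDFac j).hom.app F =
    DerivedCategory.Q.map β by rw [hβ]; simp [j]] at hsq
  exact hsq

/-- Everywhere locally. -/
def Locally (P : ∀ (U : Scheme.{u}), DCoh.D U → Prop) (K : DCoh.D X) : Prop :=
  ∀ x : X, ∃ (U : Scheme.{u}) (j : U ⟶ X) (_ : IsOpenImmersion j), x ∈ Set.range j ∧ P U ((resD j).obj K)

theorem locally_comp {P : ∀ (U : Scheme.{u}), DCoh.D U → Prop} (hiso : ∀ {U} {A B : DCoh.D U}, P U A → (A ≅ B) → P U B)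
    {K : DCoh.D X}
    (h : ∀ x : X, ∃ (U : Scheme.{u}) (j : U ⟶ X) (_ : IsOpenImmersion j) (y : U), j y = x ∧
      ∃ (W : Scheme.{u}) (j' : W ⟶ U) (_ : IsOpenImmersion j'), y ∈ Set.range j' ∧ P W ((resD j').obj ((resD j).obj K))) :
    Locally P K := fun x => by
  obtain ⟨U, j, _, y, rfl, W, j', _, ⟨z, rfl⟩, hP⟩ := h x
  exact ⟨W, j' ≫ j, inferInstance, ⟨z, rfl⟩, hiso hP (nonempty_resD_comp j' j K).some.symm⟩

theorem Locally.restrict {P : ∀ (U : Scheme.{u}), DCoh.D U → Prop} (hiso : ∀ {U} {A B : DCoh.D U}, P U A → (A ≅ B) → P U B)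
    (hres : ∀ {U} {A : DCoh.D U}, P U A → ∀ {W : Scheme.{u}} (j : W ⟶ U) [IsOpenImmersion j], P W ((resD j).obj A))
    {K : DCoh.D X} (h : Locally P K) {U : Scheme.{u}} (j : U ⟶ X) [IsOpenImmersion j] :
    Locally P ((resD j).obj K) := fun y => by
  obtain ⟨W, i, _, hy, hP⟩ := h (j y)
  refine ⟨(j ⁻¹ᵁ i.opensRange).toScheme, (j ⁻¹ᵁ i.opensRange).ι, inferInstance, ⟨⟨y, hy⟩, rfl⟩, ?_⟩
  let k := (j ∣_ i.opensRange) ≫ i.isoOpensRange.inv
  have hk : k ≫ i = (j ⁻¹ᵁ i.opensRange).ι ≫ j := by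
    rw [← morphismRestrict_ι, Category.assoc]
    congr 1
    rw [Iso.inv_comp_eq, Scheme.Hom.isoOpensRange_hom_ι]
  exact hiso (hres hP k) ((nonempty_resD_comp k i K).some.symm ≪≫ (nonempty_resD_congr hk K).some ≪≫
    (nonempty_resD_comp _ j K).some)

end GrothLib.OX
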