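import Groth.Agent.Lib.OX.ExtZeroMV
import Groth.Agent.Lib.OX.PCoh
import Groth.Agent.Lib.DerCat.MapAdj
import Groth.Agent.Lib.TriCat.ThickProp

/-! # Extension by zero on derived categories and the Mayer-Vietoris triangle -/

set_option autoImplicit false
set_option maxHeartbeats 400000
universe u

open CategoryTheory CategoryTheory.Limits AlgebraicGeometry Pretriangulated

attribute [local instance] HasDerivedCategory.standard

namespace GrothLib.OX

variable {X : Scheme.{u}}

/-- `K ↦ j_! (K|_U)` on `D(O_X)`. -/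
noncomputable abbrev extZD {U : Scheme.{u}} (j : U ⟶ X) [IsOpenImmersion j] : DCoh.D X ⥤ DCoh.D X :=
  (extZ j).mapDerivedCategory

/-- `j_!(K|_U)` as a composite. -/
noncomputable def extZDCompIso {U : Scheme.{u}} (j : U ⟶ X) [IsOpenImmersion j] :
    resD j ⋙ CxOX.extZeroD j ≅ extZD j :=
  DerCat.mapDerivedCompIso (Scheme.Modules.restrictFunctor j) (CxOX.extZero j) (extZ j) (Iso.refl _)

/-- The derived adjunction `j_! ⊣ restriction`. -/
noncomputable def extZeroDAdj {U : Scheme.{u}} (j : U ⟶ X) [IsOpenImmersion j] : CxOX.extZeroD j ⊣ resD j :=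
  DerCat.mapDerivedAdj (CxOX.extZeroAdj j)

/-- `j_!(K|_U)` is `K` for surjective `j`. -/
noncomputable def extZDIdIso {U : Scheme.{u}} (j : U ⟶ X) [IsOpenImmersion j] (h : Set.range j = Set.univ)
    (K : CochainComplex X.Modules ℤ) :
    ((extZ j).mapHomologicalComplex (ComplexShape.up ℤ)).obj K ≅ K :=
  HomologicalComplex.Hom.isoOfComponents
    (fun n => @asIso _ _ _ _ (inclZ j (K.X n)) (isIso_inclZ j (K.X n) h))
    (fun a b _ => (inclZ_naturality j (K.d a b)).symm)

/-- Open immersions with the same image. -/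
noncomputable def extZDCongr {U V : Scheme.{u}} (i : U ⟶ X) (j : V ⟶ X) [IsOpenImmersion i] [IsOpenImmersion j]
    (h : Set.range i = Set.range j) (K : CochainComplex X.Modules ℤ) :
    (extZD i).obj (DerivedCategory.Q.obj K) ≅ (extZD j).obj (DerivedCategory.Q.obj K) :=
  (extZ i).mapDerivedCategoryFactors.app K ≪≫
    DerivedCategory.Q.mapIso (HomologicalComplex.Hom.isoOfComponents
      (C₂ := ((extZ j).mapHomologicalComplex (ComplexShape.up ℤ)).obj K) (fun n => (extZCongr i j h).app (K.X n))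
      (fun a b _ => ((extZCongr i j h).hom.naturality (K.d a b)).symm)) ≪≫
    ((extZ j).mapDerivedCategoryFactors.app K).symm

/-- Degreewise exactness of `M → A ⊕ B → N`. -/
theorem shortExact_cx_lift_desc {C : Type*} [Category C] [Abelian C] {ι : Type*} {c : ComplexShape ι}
    {M A B N : HomologicalComplex C c} (a : M ⟶ A) (b : M ⟶ B) (e : A ⟶ N) (d : B ⟶ N)
    (w : biprod.lift a (-b) ≫ biprod.desc e d = 0)
    (h : ∀ n, ∃ w', (ShortComplex.mk (biprod.lift (a.f n) (-b.f n)) (biprod.desc (e.f n) (d.f n)) w').ShortExact) :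
    (ShortComplex.mk (biprod.lift a (-b)) (biprod.desc e d) w).ShortExact := by
  refine HomologicalComplex.shortExact_of_degreewise_shortExact _ fun n => ?_
  obtain ⟨w', hw⟩ := h n
  refine ShortComplex.shortExact_of_iso (S₁ := ShortComplex.mk (biprod.lift (a.f n) (-b.f n)) (biprod.desc (e.f n) (d.f n)) w')
    (ShortComplex.isoMk (Iso.refl _) (HomologicalComplex.biprodXIso A B n).symm (Iso.refl _) ?_ ?_) hw
  · refine (Category.id_comp _).trans ((Iso.eq_comp_inv _).2 ?_)
    change (biprod.lift a (-b)).f n ≫ (HomologicalComplex.biprodXIso A B n).hom = biprod.lift (a.f n) (-b.f n)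
    apply biprod.hom_ext
    · rw [Category.assoc, HomologicalComplex.biprodXIso_hom_fst, ← HomologicalComplex.comp_f, biprod.lift_fst, biprod.lift_fst]
    · rw [Category.assoc, HomologicalComplex.biprodXIso_hom_snd, ← HomologicalComplex.comp_f, biprod.lift_snd, biprod.lift_snd,
        HomologicalComplex.neg_f_apply]
  · refine Eq.trans ?_ (Category.comp_id _).symm
    change (HomologicalComplex.biprodXIso A B n).inv ≫ (biprod.desc e d).f n = biprod.desc (e.f n) (d.f n)
    apply biprod.hom_ext'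
    · simp [HomologicalComplex.biprod_inl_desc_f]
    · simp [HomologicalComplex.biprod_inr_desc_f]

/-- A distinguished triangle with isomorphic objects. -/
theorem exists_triangle_of_isos {D : Type*} [Category D] [Preadditive D] [HasZeroObject D] [HasShift D ℤ]
    [∀ n : ℤ, (shiftFunctor D n).Additive] [Pretriangulated D] {T : Triangle D} (hT : T ∈ distTriang D)
    {A B C : D} (e₁ : T.obj₁ ≅ A) (e₂ : T.obj₂ ≅ B) (e₃ : T.obj₃ ≅ C) :
    ∃ (a : A ⟶ B) (b : B ⟶ C) (c : C ⟶ A⟦(1 : ℤ)⟧), Triangle.mk a b c ∈ distTriang D :=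
  ⟨e₁.inv ≫ T.mor₁ ≫ e₂.hom, e₂.inv ≫ T.mor₂ ≫ e₃.hom, e₃.inv ≫ T.mor₃ ≫ e₁.hom⟦1⟧',
    isomorphic_distinguished _ hT _ (Triangle.isoMk _ _ e₁.symm e₂.symm e₃.symm
      ((Iso.comp_inv_eq e₂).2 (Category.assoc _ _ _).symm) ((Iso.comp_inv_eq e₃).2 (Category.assoc _ _ _).symm)
      ((Iso.comp_inv_eq ((shiftFunctor D (1 : ℤ)).mapIso e₁)).2 (Category.assoc _ _ _).symm))⟩

/-- `Q` and binary sums. -/
noncomputable def QBiprodIso (A B : CochainComplex X.Modules ℤ) :
    DerivedCategory.Q.obj (A ⊞ B) ≅ DerivedCategory.Q.obj A ⊞ DerivedCategory.Q.obj B :=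
  have := preservesBinaryBiproducts_of_preservesBiproducts (DerivedCategory.Q (C := X.Modules))
  DerivedCategory.Q.mapBiprod A B

section MV

variable {W U V Y : Scheme.{u}} (iW : W ⟶ X) (iU : U ⟶ X) (iV : V ⟶ X) (iY : Y ⟶ X)
  [IsOpenImmersion iW] [IsOpenImmersion iU] [IsOpenImmersion iV] [IsOpenImmersion iY]
  (hW : Set.range iW = Set.range iU ∩ Set.range iV) (hY : Set.range iY = Set.range iU ∪ Set.range iV)

/-- A natural transformation, on complexes. -/
noncomputable abbrev liftZCx {U V : Scheme.{u}} (i : U ⟶ X) (j : V ⟶ X) [IsOpenImmersion i] [IsOpenImmersion j]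
    (h : Set.range i ⊆ Set.range j) (K : CochainComplex X.Modules ℤ) :
    ((extZ i).mapHomologicalComplex (ComplexShape.up ℤ)).obj K ⟶
      ((extZ j).mapHomologicalComplex (ComplexShape.up ℤ)).obj K :=
  (NatTrans.mapHomologicalComplex (liftZ i j h) (ComplexShape.up ℤ)).app K

/-- The sequence on complexes. -/
noncomputable def mvZCx (K : CochainComplex X.Modules ℤ) : ShortComplex (CochainComplex X.Modules ℤ) :=
  ShortComplex.mk
    (biprod.lift (liftZCx iW iU (hW.le.trans Set.inter_subset_left) K)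
      (-liftZCx iW iV (hW.le.trans Set.inter_subset_right) K))
    (biprod.desc (liftZCx iU iY (Set.subset_union_left.trans hY.ge) K)
      (liftZCx iV iY (Set.subset_union_right.trans hY.ge) K))
    (by
      rw [biprod.lift_desc]
      refine HomologicalComplex.hom_ext _ _ fun n => ?_
      exact biprod.lift_desc.symm.trans (mvZ iW iU iV iY hW hY (K.X n)).zero)

theorem mvZCx_shortExact (K : CochainComplex X.Modules ℤ) : (mvZCx iW iU iV iY hW hY K).ShortExact :=
  shortExact_cx_lift_desc _ _ _ _ _ fun n => ⟨_, mvZ_shortExact iW iU iV iY hW hY (K.X n)⟩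

/-- Mayer-Vietoris, for thick predicates. -/
theorem prop_extZD_union {P : DCoh.D X → Prop} (hP : TriCat.Thick P) (K : DCoh.D X)
    (hUV : P ((extZD iW).obj K)) (hU : P ((extZD iU).obj K)) (hV : P ((extZD iV).obj K))
    (hW : Set.range iW = Set.range iU ∩ Set.range iV) (hY : Set.range iY = Set.range iU ∪ Set.range iV) :
    P ((extZD iY).obj K) := by
  let F := DerivedCategory.Q.objPreimage K
  let e : DerivedCategory.Q.obj F ≅ K := DerivedCategory.Q.objObjPreimageIso K
  let c : ∀ {Z : Scheme.{u}} (i : Z ⟶ X) [IsOpenImmersion i],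
      DerivedCategory.Q.obj (((extZ i).mapHomologicalComplex (ComplexShape.up ℤ)).obj F) ≅ (extZD i).obj K :=
    fun i _ => ((extZ i).mapDerivedCategoryFactors.app F).symm ≪≫ (extZD i).mapIso e
  let A := ((extZ iU).mapHomologicalComplex (ComplexShape.up ℤ)).obj F
  let B := ((extZ iV).mapHomologicalComplex (ComplexShape.up ℤ)).obj F
  let Q := DerivedCategory.Q (C := X.Modules)
  refine hP.of_iso (c iY) (hP.cone _ (DerivedCategory.triangleOfSES_distinguished
    (mvZCx_shortExact iW iU iV iY hW hY F)) (hP.of_iso (c iW).symm hUV)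
    (hP.total (Q.map (biprod.inl : A ⟶ A ⊞ B)) (Q.map biprod.fst) (Q.map biprod.inr) (Q.map biprod.snd) ?_
      (hP.of_iso (c iU).symm hU) (hP.of_iso (c iV).symm hV)))
  have ht : Q.map (biprod.fst : A ⊞ B ⟶ A) ≫ Q.map biprod.inl + Q.map (biprod.snd : A ⊞ B ⟶ B) ≫ Q.map biprod.inr =
      𝟙 (Q.obj (A ⊞ B)) := by
    rw [← Q.map_comp, ← Q.map_comp, ← Q.map_add, biprod.total, Q.map_id]
  exact ht

/-- The Mayer-Vietoris triangle, with prescribed objects. -/
theorem exists_mvZ_triangle (F : CochainComplex X.Modules ℤ) {A₁ A₂ B₂ A₃ : DCoh.D X}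
    (e₁ : DerivedCategory.Q.obj (((extZ iW).mapHomologicalComplex (ComplexShape.up ℤ)).obj F) ≅ A₁)
    (eU : DerivedCategory.Q.obj (((extZ iU).mapHomologicalComplex (ComplexShape.up ℤ)).obj F) ≅ A₂)
    (eV : DerivedCategory.Q.obj (((extZ iV).mapHomologicalComplex (ComplexShape.up ℤ)).obj F) ≅ B₂)
    (e₃ : DerivedCategory.Q.obj (((extZ iY).mapHomologicalComplex (ComplexShape.up ℤ)).obj F) ≅ A₃)
    (hW : Set.range iW = Set.range iU ∩ Set.range iV) (hY : Set.range iY = Set.range iU ∪ Set.range iV) :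
    ∃ (a : A₁ ⟶ A₂ ⊞ B₂) (b : A₂ ⊞ B₂ ⟶ A₃) (c : A₃ ⟶ A₁⟦(1 : ℤ)⟧),
      Triangle.mk a b c ∈ distTriang (DCoh.D X) :=
  exists_triangle_of_isos (DerivedCategory.triangleOfSES_distinguished (mvZCx_shortExact iW iU iV iY hW hY F)) e₁
    (QBiprodIso _ _ ≪≫ biprod.mapIso eU eV) e₃

end MV

end GrothLib.OX
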