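import Groth.Agent.Lib.ProjFormula.Map
import Groth.Agent.Lib.OX.TotalMap
import Groth.Agent.Lib.OX.TensorCx
import Groth.Agent.Lib.OX.PerfectLemmas

/-! # The projection map for complexes -/

set_option autoImplicit false
set_option maxHeartbeats 1000000
universe u

open CategoryTheory CategoryTheory.Limits AlgebraicGeometry HomologicalComplex

namespace GrothLib.TotalMap

universe v v' w w'

variable {C : Type w} [Category.{v} C] [Preadditive C] {D : Type w'} [Category.{v'} D] [Preadditive D]
  (G : C ⥤ D) [G.Additive]
  [∀ J : Type, HasColimitsOfShape (Discrete J) C] [∀ J : Type, HasColimitsOfShape (Discrete J) D]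

theorem totalMap_natural {B B' : HomologicalComplex₂ C (ComplexShape.up ℤ) (ComplexShape.up ℤ)} (φ : B ⟶ B') :
    HomologicalComplex₂.total.map
      (((G.mapHomologicalComplex (ComplexShape.up ℤ)).mapHomologicalComplex (ComplexShape.up ℤ)).map φ)
      (ComplexShape.up ℤ) ≫ totalMap G B' =
    totalMap G B ≫ (G.mapHomologicalComplex (ComplexShape.up ℤ)).map
      (HomologicalComplex₂.total.map φ (ComplexShape.up ℤ)) := by
  refine HomologicalComplex.hom_ext _ _ fun n => HomologicalComplex₂.total.hom_ext _ fun p q h => ?_
  simp only [HomologicalComplex.comp_f, Functor.mapHomologicalComplex_map_f]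
  rw [HomologicalComplex₂.ιTotal_map_assoc]
  simp only [totalMap]
  erw [HomologicalComplex₂.ι_totalDesc, HomologicalComplex₂.ι_totalDesc_assoc]
  exact (G.map_comp _ _).symm.trans ((congrArg G.map (by simp)).trans
    (G.map_comp _ _))

open scoped Classical in
/-- An additive functor commutes with totals of bicomplexes with finitely many rows. -/
theorem isIso_totalMap_of_rows (B : HomologicalComplex₂ C (ComplexShape.up ℤ) (ComplexShape.up ℤ)) (s : Finset ℤ)
    (hs : ∀ p, p ∉ s → ∀ q, IsZero ((B.X p).X q)) : IsIso (totalMap G B) := by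
  have : ∀ n, IsIso ((totalMap G B).f n) := fun n => by
    let π : ∀ p, (B.total (ComplexShape.up ℤ)).X n ⟶ (B.X p).X (n - p) := fun p =>
      B.totalDesc fun p' q h => if hp : p' = p then eqToHom (by
        subst hp
        have h' : p' + q = n := h
        rw [show q = n - p' by omega]) else 0
    let r : G.obj ((B.total (ComplexShape.up ℤ)).X n) ⟶ ((mapBicx G B).total (ComplexShape.up ℤ)).X n :=
      ∑ p ∈ s, G.map (π p) ≫ (mapBicx G B).ιTotal (ComplexShape.up ℤ) p (n - p) n (show p + (n - p) = n by omega)
    have hπ : ∑ p ∈ s, π p ≫ B.ιTotal (ComplexShape.up ℤ) p (n - p) n (show p + (n - p) = n by omega) =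
        𝟙 ((B.total (ComplexShape.up ℤ)).X n) := by
      refine HomologicalComplex₂.total.hom_ext _ fun p q h => ?_
      have h' : p + q = n := h
      obtain rfl : q = n - p := by omega
      by_cases hp : p ∈ s
      · rw [Preadditive.comp_sum, Finset.sum_eq_single_of_mem p hp]
        · simp [π]
        · intro b _ hb
          simp [π, Ne.symm hb]
          try rfl
      · exact (hs p hp (n - p)).eq_of_src _ _
    refine ⟨r, HomologicalComplex₂.total.hom_ext _ fun p q h => ?_, ?_⟩
    · have h' : p + q = n := h
      obtain rfl : q = n - p := by omega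
      simp only [totalMap]
      erw [HomologicalComplex₂.ι_totalDesc_assoc, Category.comp_id]
      by_cases hp : p ∈ s
      · simp only [r]
        refine (Preadditive.comp_sum _ _ _).trans ((Finset.sum_eq_single_of_mem p hp ?_).trans ?_)
        · intro b _ hb
          erw [← G.map_comp_assoc]
          simp [π, Ne.symm hb]
          try rfl
        · erw [← G.map_comp_assoc]
          simp [π]
      · exact (G.map_isZero (hs p hp (n - p))).eq_of_src _ _
    · simp only [totalMap, r]
      refine ((Preadditive.sum_comp _ _ _).trans ((Finset.sum_congr rfl fun p _ => ?_).trans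
        (G.map_sum _ s).symm)).trans ((congrArg G.map hπ).trans (G.map_id _))
      refine (Category.assoc _ _ _).trans ((congrArg (G.map (π p) ≫ ·) ?_).trans (G.map_comp _ _).symm)
      exact (mapBicx G B).ι_totalDesc (fun p q h => G.map (B.ιTotal (ComplexShape.up ℤ) p q n h)) p (n - p)
        (show p + (n - p) = n by omega)
  exact HomologicalComplex.Hom.isIso_of_components _

end GrothLib.TotalMap

namespace GrothLib.OX

open GrothLib.ProjFormula

variable {X Y : Scheme.{u}} (f : X ⟶ Y)

instance additive_pushforward : (Scheme.Modules.pushforward f).Additive :=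
  (Scheme.Modules.pullbackPushforwardAdjunction f).right_adjoint_additive

/-- `f_*` on complexes. -/
noncomputable abbrev pushCxF : CochainComplex X.Modules ℤ ⥤ CochainComplex Y.Modules ℤ :=
  (Scheme.Modules.pushforward f).mapHomologicalComplex (ComplexShape.up ℤ)

/-- The bicomplex computing a tensor product of complexes. -/
noncomputable abbrev tensorBicx {Z : Scheme.{u}} (K L : CochainComplex Z.Modules ℤ) :
    HomologicalComplex₂ Z.Modules (ComplexShape.up ℤ) (ComplexShape.up ℤ) :=
  (((DCoh.tensorBi (X := Z)).mapBifunctorHomologicalComplex (ComplexShape.up ℤ) (ComplexShape.up ℤ)).obj K).obj L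

/-- The projection maps, on bicomplexes. -/
noncomputable def projBicx (P : CochainComplex Y.Modules ℤ) (A : CochainComplex X.Modules ℤ) :
    tensorBicx P ((pushCxF f).obj A) ⟶
      TotalMap.mapBicx (Scheme.Modules.pushforward f) (tensorBicx ((pullCxF f).obj P) A) where
  f p :=
    { f := fun q => projHom f (P.X p) (A.X q)
      comm' := fun q q' _ => ((projNat f (P.X p)).naturality (A.d q q')).symm }
  comm' p p' _ := HomologicalComplex.hom_ext _ _ fun q => (projHom_natural f (P.d p p') (A.X q)).symm

/-- The projection map for complexes. -/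
noncomputable def projCx (P : CochainComplex Y.Modules ℤ) (A : CochainComplex X.Modules ℤ) :
    ((DCoh.tensorCx (X := Y)).obj P).obj ((pushCxF f).obj A) ⟶
      (pushCxF f).obj (((DCoh.tensorCx (X := X)).obj ((pullCxF f).obj P)).obj A) :=
  HomologicalComplex₂.total.map (projBicx f P A) (ComplexShape.up ℤ) ≫ TotalMap.totalMap _ _

theorem projCx_natural {P P' : CochainComplex Y.Modules ℤ} (q : P ⟶ P') (A : CochainComplex X.Modules ℤ) :
    ((DCoh.tensorCx (X := Y)).map q).app ((pushCxF f).obj A) ≫ projCx f P' A =
      projCx f P A ≫ (pushCxF f).map (((DCoh.tensorCx (X := X)).map ((pullCxF f).map q)).app A) := by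
  let m := (((DCoh.tensorBi (X := Y)).mapBifunctorHomologicalComplex (ComplexShape.up ℤ) (ComplexShape.up ℤ)).map q).app
    ((pushCxF f).obj A)
  let m' := (((DCoh.tensorBi (X := X)).mapBifunctorHomologicalComplex (ComplexShape.up ℤ) (ComplexShape.up ℤ)).map
    ((pullCxF f).map q)).app A
  have h1 : ((DCoh.tensorCx (X := Y)).map q).app ((pushCxF f).obj A) =
      HomologicalComplex₂.total.map m (ComplexShape.up ℤ) :=
    congrArg (fun t => HomologicalComplex₂.total.map t (ComplexShape.up ℤ))
      (show m ≫ (((DCoh.tensorBi (X := Y)).mapBifunctorHomologicalComplex _ _).obj P').map (𝟙 _) = m by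
        rw [CategoryTheory.Functor.map_id]; exact Category.comp_id _)
  have h2 : ((DCoh.tensorCx (X := X)).map ((pullCxF f).map q)).app A =
      HomologicalComplex₂.total.map m' (ComplexShape.up ℤ) :=
    congrArg (fun t => HomologicalComplex₂.total.map t (ComplexShape.up ℤ))
      (show m' ≫ (((DCoh.tensorBi (X := X)).mapBifunctorHomologicalComplex _ _).obj _).map (𝟙 _) = m' by
        rw [CategoryTheory.Functor.map_id]; exact Category.comp_id _)
  have hm : m ≫ projBicx f P' A = projBicx f P A ≫
      (((Scheme.Modules.pushforward f).mapHomologicalComplex (ComplexShape.up ℤ)).mapHomologicalComplex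
        (ComplexShape.up ℤ)).map m' :=
    HomologicalComplex.hom_ext _ _ fun p => HomologicalComplex.hom_ext _ _ fun r =>
      projHom_natural f (q.f p) (A.X r)
  let e := fun {B B' : HomologicalComplex₂ Y.Modules (ComplexShape.up ℤ) (ComplexShape.up ℤ)} (t : B ⟶ B') =>
    HomologicalComplex₂.total.map t (ComplexShape.up ℤ)
  have h3 : e m ≫ e (projBicx f P' A) = e (projBicx f P A) ≫ e
      ((((Scheme.Modules.pushforward f).mapHomologicalComplex (ComplexShape.up ℤ)).mapHomologicalComplex
        (ComplexShape.up ℤ)).map m') :=
    (HomologicalComplex₂.total.map_comp _ _ _).symm.trans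
      ((congrArg e hm).trans (HomologicalComplex₂.total.map_comp _ _ _))
  rw [h1, h2]
  exact (Category.assoc _ _ _).symm.trans ((congrArg (· ≫ _) h3).trans ((Category.assoc _ _ _).trans
    ((congrArg (_ ≫ ·) (TotalMap.totalMap_natural (Scheme.Modules.pushforward f) m')).trans
      (Category.assoc _ _ _).symm)))

end GrothLib.OX
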