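import Groth.Agent.Lib.OX.HomTri
import Groth.Agent.Lib.OX.ProjCx
import Groth.Agent.Lib.OX.LocalTensor
import Groth.Agent.Lib.OX.ExtZeroD

/-! # `RHom` commutes with restriction to an open -/

set_option autoImplicit false
set_option maxHeartbeats 1000000
universe u

open CategoryTheory CategoryTheory.Limits AlgebraicGeometry HomologicalComplex

attribute [local instance] HasDerivedCategory.standard

namespace GrothLib.OX

variable {X Y U : Scheme.{u}}

/-- The comparison of bicomplexes is natural in the first variable. -/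
theorem bicxPullTensorIso_natural₁ (f : X ⟶ Y) {K K' : CochainComplex Y.Modules ℤ} (φ : K ⟶ K')
    (L : CochainComplex Y.Modules ℤ) :
    (((Scheme.Modules.pullback f).mapHomologicalComplex (ComplexShape.up ℤ)).mapHomologicalComplex (ComplexShape.up ℤ)).map
        ((((DCoh.tensorBi (X := Y)).mapBifunctorHomologicalComplex (ComplexShape.up ℤ) (ComplexShape.up ℤ)).map φ).app L) ≫
        (bicxPullTensorIso f K' L).hom =
      (bicxPullTensorIso f K L).hom ≫
        (((DCoh.tensorBi (X := X)).mapBifunctorHomologicalComplex (ComplexShape.up ℤ) (ComplexShape.up ℤ)).map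
          (((Scheme.Modules.pullback f).mapHomologicalComplex (ComplexShape.up ℤ)).map φ)).app
            (((Scheme.Modules.pullback f).mapHomologicalComplex (ComplexShape.up ℤ)).obj L) :=
  HomologicalComplex.hom_ext _ _ fun i => HomologicalComplex.hom_ext _ _ fun j =>
    pullTensorIso_natural₁ f (φ.f i) (L.X j)

theorem tensR_map_eq_totalMap {K K' : CochainComplex X.Modules ℤ} (φ : K ⟶ K') (L : CochainComplex X.Modules ℤ) :
    (tensR L).map φ = HomologicalComplex₂.total.map
      ((((DCoh.tensorBi (X := X)).mapBifunctorHomologicalComplex (ComplexShape.up ℤ) (ComplexShape.up ℤ)).map φ).app L)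
      (ComplexShape.up ℤ) :=
  HomologicalComplex.hom_ext _ _ fun n => mapBifunctor.hom_ext fun p q h => by
    change ιMapBifunctor K L (DCoh.tensorBi (X := X)) (ComplexShape.up ℤ) p q n h ≫
      (mapBifunctorMap φ (𝟙 L) (DCoh.tensorBi (X := X)) (ComplexShape.up ℤ)).f n = _
    rw [ι_mapBifunctorMap, HomologicalComplex.id_f, CategoryTheory.Functor.map_id]
    simp [ιMapBifunctor]
    erw [HomologicalComplex₂.ιTotal_map]
    rfl

theorem sq_trans {C : Type*} [Category C] {A A' B B' D D' : C} (t : A ⟶ A') (a : A ≅ B) (a' : A' ≅ B')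
    (s : B ⟶ B') (b : B ≅ D) (b' : B' ≅ D') (r : D ⟶ D') (h : t ≫ a'.hom = a.hom ≫ s) (h' : s ≫ b'.hom = b.hom ≫ r) :
    t ≫ (a' ≪≫ b').hom = (a ≪≫ b).hom ≫ r := by
  simp [reassoc_of% h, h']

theorem pullTensorCxIso_natural₁ (f : X ⟶ Y) {K K' : CochainComplex Y.Modules ℤ} (φ : K ⟶ K')
    (L : CochainComplex Y.Modules ℤ) :
    (pullCxF f).map ((tensR L).map φ) ≫ (pullTensorCxIso f K' L).hom =
      (pullTensorCxIso f K L).hom ≫ (tensR ((pullCxF f).obj L)).map ((pullCxF f).map φ) := by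
  refine sq_trans _ (TotalMap.totalMapIso (Scheme.Modules.pullback f) _).symm
    (TotalMap.totalMapIso (Scheme.Modules.pullback f) _).symm
    (HomologicalComplex₂.total.map
      ((((Scheme.Modules.pullback f).mapHomologicalComplex (ComplexShape.up ℤ)).mapHomologicalComplex (ComplexShape.up ℤ)).map
        ((((DCoh.tensorBi (X := Y)).mapBifunctorHomologicalComplex (ComplexShape.up ℤ) (ComplexShape.up ℤ)).map φ).app L))
      (ComplexShape.up ℤ))
    (HomologicalComplex₂.total.mapIso (bicxPullTensorIso f K L) (ComplexShape.up ℤ))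
    (HomologicalComplex₂.total.mapIso (bicxPullTensorIso f K' L) (ComplexShape.up ℤ)) _ ?_ ?_
  · rw [Iso.symm_hom, Iso.symm_hom, ← cancel_epi (TotalMap.totalMapIso (Scheme.Modules.pullback f) _).hom,
      Iso.hom_inv_id_assoc, ← Category.assoc, Iso.comp_inv_eq]
    exact ((congrArg (fun t => _ ≫ (pullCxF f).map t) (tensR_map_eq_totalMap φ L)).trans
      (TotalMap.totalMap_natural (Scheme.Modules.pullback f) _).symm)
  · refine (HomologicalComplex₂.total.map_comp _ _ _).symm.trans ((congrArg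
      (fun t => HomologicalComplex₂.total.map t (ComplexShape.up ℤ)) (bicxPullTensorIso_natural₁ f φ L)).trans
        ((HomologicalComplex₂.total.map_comp _ _ _).trans (congrArg (_ ≫ ·) (tensR_map_eq_totalMap _ _).symm)))

variable (j : U ⟶ X) [IsOpenImmersion j] (K : CochainComplex X.Modules ℤ)

/-- Restriction commutes with tensoring, naturally. -/
noncomputable def resTensNatIso : tensR K ⋙ resCx j ≅ resCx j ⋙ tensR ((resCx j).obj K) :=
  Functor.isoWhiskerLeft _ (resPullCxIso j) ≪≫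
    NatIso.ofComponents (F := tensR K ⋙ pullCxF j) (G := pullCxF j ⋙ tensR ((pullCxF j).obj K))
      (fun A => pullTensorCxIso j A K) (fun φ => pullTensorCxIso_natural₁ j φ K) ≪≫
    Functor.isoWhiskerRight (resPullCxIso j).symm _ ≪≫
    Functor.isoWhiskerLeft _ ((DCoh.tensorCx (X := U)).flip.mapIso ((resPullCxIso j).app K).symm)

/-- `j_!` on complexes. -/
noncomputable abbrev jzCx : CochainComplex U.Modules ℤ ⥤ CochainComplex X.Modules ℤ :=
  (CxOX.extZero j).mapHomologicalComplex (ComplexShape.up ℤ)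

theorem isZero_stalk_extZero_tensor (P : CochainComplex U.Modules ℤ) (n : ℤ) (x : X) (hx : x ∉ Set.range j) :
    IsZero ((stalk x).obj (((tensR K).obj ((jzCx j).obj P)).X n)) := by
  let B := (((DCoh.tensorBi (X := X)).mapBifunctorHomologicalComplex (ComplexShape.up ℤ) (ComplexShape.up ℤ)).obj
    ((jzCx j).obj P)).obj K
  refine IsZero.of_iso ?_ ((HomologicalComplex.eval _ _ n).mapIso (TotalMap.totalMapIso (stalk x) B)).symm
  refine (IsZero.iff_id_eq_zero _).2 (HomologicalComplex₂.total.hom_ext _ fun p q h => ?_)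
  refine IsZero.eq_of_src ?_ _ _
  refine IsZero.of_iso ?_ (stalkTensorBiIso x (((jzCx j).obj P).X p) (K.X q))
  exact (MonoidalCategory.tensorRight ((stalk x).obj (K.X q))).map_isZero (isZero_stalk_extZero j (P.X p) x hx)

theorem isIso_counit_tensor (P : CochainComplex U.Modules ℤ) :
    IsIso ((KInj.mapComplexAdj (CxOX.extZeroAdj j) (ComplexShape.up ℤ)).counit.app ((tensR K).obj ((jzCx j).obj P))) := by
  let T := (tensR K).obj ((jzCx j).obj P)
  have : ∀ n, IsIso (((KInj.mapComplexAdj (CxOX.extZeroAdj j) (ComplexShape.up ℤ)).counit.app T).f n) := fun n => by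
    change IsIso (epsZ j (T.X n))
    refine (isIso_iff _).2 fun x => ?_
    by_cases hx : x ∈ Set.range j
    · obtain ⟨y, rfl⟩ := hx
      exact isIso_stalk_epsZ j _ y
    · exact ⟨0, (isZero_stalk_extZero j _ x hx).eq_of_src _ _,
        (isZero_stalk_extZero_tensor j K P n x hx).eq_of_src _ _⟩
  exact HomologicalComplex.Hom.isIso_of_components _

theorem isIso_unit_cx (P : CochainComplex U.Modules ℤ) :
    IsIso ((KInj.mapComplexAdj (CxOX.extZeroAdj j) (ComplexShape.up ℤ)).unit.app P) := by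
  have : ∀ n, IsIso (((KInj.mapComplexAdj (CxOX.extZeroAdj j) (ComplexShape.up ℤ)).unit.app P).f n) := fun n => by
    change IsIso ((CxOX.extZeroAdj j).unit.app (P.X n))
    infer_instance
  exact HomologicalComplex.Hom.isIso_of_components _

/-- `j_!` satisfies the projection formula, naturally. -/
noncomputable def extTensNatIso : jzCx j ⋙ tensR K ≅ tensR ((resCx j).obj K) ⋙ jzCx j :=
  let adj := KInj.mapComplexAdj (CxOX.extZeroAdj j) (ComplexShape.up ℤ)
  haveI : IsIso adj.unit := @NatIso.isIso_of_isIso_app _ _ _ _ _ _ adj.unit (isIso_unit_cx j)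
  haveI : IsIso (Functor.whiskerLeft (jzCx j ⋙ tensR K) adj.counit) :=
    @NatIso.isIso_of_isIso_app _ _ _ _ _ _ _ (isIso_counit_tensor j K)
  ((asIso (Functor.whiskerLeft (jzCx j ⋙ tensR K) adj.counit)).symm :
      jzCx j ⋙ tensR K ≅ (jzCx j ⋙ tensR K) ⋙ resCx j ⋙ jzCx j) ≪≫
    (Functor.isoWhiskerLeft (jzCx j) (Functor.isoWhiskerRight (resTensNatIso j K) (jzCx j)) :
      (jzCx j ⋙ tensR K) ⋙ resCx j ⋙ jzCx j ≅ jzCx j ⋙ (resCx j ⋙ tensR ((resCx j).obj K)) ⋙ jzCx j) ≪≫
    (Functor.isoWhiskerRight (asIso adj.unit).symm (tensR ((resCx j).obj K) ⋙ jzCx j) :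
      (jzCx j ⋙ resCx j) ⋙ tensR ((resCx j).obj K) ⋙ jzCx j ≅ 𝟭 _ ⋙ tensR ((resCx j).obj K) ⋙ jzCx j)

/-- The derived tensor product with a K-flat complex is the one on complexes. -/
noncomputable def ltensorFac {Z : Scheme.{u}} (E : CochainComplex Z.Modules ℤ) [DCoh.HasLTensorCx E]
    (hE : DCoh.IsKFlat E) : DerivedCategory.Q ⋙ DCoh.LTensorCx E ≅ tensR E ⋙ DerivedCategory.Q :=
  @asIso _ _ _ _ _ (@NatIso.isIso_of_isIso_app _ _ _ _ _ _
    ((DCoh.tensorCxQ E).totalLeftDerivedCounit DerivedCategory.Q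
      (HomologicalComplex.quasiIso Z.Modules (ComplexShape.up ℤ))) (isIso_counit_of_isKFlat E hE))

/-- `j_!(A ⊗^L K|_U) = j_!A ⊗^L K`. -/
theorem nonempty_extLTensorIso [DCoh.HasLTensorCx K] [DCoh.HasLTensorCx ((resCx j).obj K)] :
    Nonempty (CxOX.extZeroD j ⋙ DCoh.LTensorCx K ≅ DCoh.LTensorCx ((resCx j).obj K) ⋙ CxOX.extZeroD j) := by
  obtain ⟨P, q, hP, -, hq, -⟩ := exists_kflat_resolution K
  have := hasLTensorCx P
  have := hasLTensorCx ((resCx j).obj P)
  obtain ⟨a⟩ := nonempty_ltensorCx_congr q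
  have hq' : IsIso ((resD j).map (DerivedCategory.Q.map q)) := inferInstance
  obtain ⟨b⟩ := nonempty_ltensorCx_congr_of_iso (E := (resCx j).obj P) (E' := (resCx j).obj K)
    (((resDFac j).app P).symm ≪≫ (resD j).mapIso (asIso (DerivedCategory.Q.map q)) ≪≫ (resDFac j).app K)
  let F : CochainComplex U.Modules ℤ ⥤ DCoh.D X := tensR ((resCx j).obj P) ⋙ jzCx j ⋙ DerivedCategory.Q
  let f := (CxOX.extZero j).mapDerivedCategoryFactors
  letI : Localization.Lifting DerivedCategory.Q (HomologicalComplex.quasiIso U.Modules (ComplexShape.up ℤ)) F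
      (CxOX.extZeroD j ⋙ DCoh.LTensorCx P) :=
    ⟨(Functor.isoWhiskerRight f (DCoh.LTensorCx P) :) ≪≫ (Functor.isoWhiskerLeft (jzCx j) (ltensorFac P hP) :) ≪≫
      (Functor.isoWhiskerRight (extTensNatIso j P) DerivedCategory.Q :)⟩
  letI : Localization.Lifting DerivedCategory.Q (HomologicalComplex.quasiIso U.Modules (ComplexShape.up ℤ)) F
      (DCoh.LTensorCx ((resCx j).obj P) ⋙ CxOX.extZeroD j) :=
    ⟨(Functor.isoWhiskerRight (ltensorFac _ (isKFlat_resCx j hP)) (CxOX.extZeroD j) :) ≪≫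
      (Functor.isoWhiskerLeft (tensR ((resCx j).obj P)) f :)⟩
  exact ⟨Functor.isoWhiskerLeft _ a.symm ≪≫
    Localization.liftNatIso DerivedCategory.Q (HomologicalComplex.quasiIso U.Modules (ComplexShape.up ℤ)) F F
      (CxOX.extZeroD j ⋙ DCoh.LTensorCx P) (DCoh.LTensorCx ((resCx j).obj P) ⋙ CxOX.extZeroD j) (Iso.refl _) ≪≫
    Functor.isoWhiskerRight b _⟩

/-- **`RHom` commutes with restriction to an open.** -/
theorem nonempty_resD_RSheafHom [DCoh.HasLTensorCx K] [DCoh.HasRSheafHom K]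
    [DCoh.HasLTensorCx ((resCx j).obj K)] [DCoh.HasRSheafHom ((resCx j).obj K)] :
    Nonempty (DCoh.RSheafHom K ⋙ resD j ≅ resD j ⋙ DCoh.RSheafHom ((resCx j).obj K)) := by
  obtain ⟨e⟩ := nonempty_extLTensorIso j K
  exact ⟨((((extZeroDAdj j).comp (DCoh.RSheafHomAdj K)).ofNatIsoLeft e).rightAdjointUniq
    ((DCoh.RSheafHomAdj ((resCx j).obj K)).comp (extZeroDAdj j)))⟩

end GrothLib.OX
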