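import Groth.Agent.Lib.OX.HomAmplitude
import Groth.Agent.Lib.OX.CohClass
import Groth.Agent.Lib.OX.AffineLocal

/-! # `RHom` between coherent complexes -/

set_option autoImplicit false
set_option maxHeartbeats 1000000
universe u

open CategoryTheory CategoryTheory.Limits CategoryTheory.Pretriangulated AlgebraicGeometry HomologicalComplex

attribute [local instance] HasDerivedCategory.standard

namespace GrothLib.OX

variable {X : Scheme.{u}} [IsLocallyNoetherian X]

theorem isPseudoCoherentD_of_isCohD {K : DCoh.D X} (hK : DCoh.IsCohD K) (b : ℤ) [K.IsLE b] (m : ℤ) :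
    DCoh.IsPseudoCoherentD m K :=
  isPseudoCoherentD_of_local fun x => by
    obtain ⟨U, hU, hx, -⟩ := exists_isAffineOpen_mem_and_subset (x := x) (U := ⊤) trivial
    exact ⟨_, hU.fromSpec, inferInstance, mem_range_fromSpec hU hx,
      (isPseudoCoherentD_fromSpec_iff (fun i => (hK i).1) hU m).2
        ⟨⟨b, (DerivedCategory.isLE_iff _ b).2 fun i hi =>
          ((Scheme.Modules.restrictFunctor hU.fromSpec).map_isZero
            (DerivedCategory.isZero_of_isLE K b i hi)).of_iso (HDResIso hU.fromSpec K i)⟩,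
          fun i _ => Cohom.isCoh_restrict _ (hK i) hU.fromSpec⟩⟩

theorem isCohD_RSheafHom (K : CochainComplex X.Modules ℤ) (b : ℤ) [(DerivedCategory.Q.obj K).IsLE b]
    (hK : DCoh.IsCohD (DerivedCategory.Q.obj K)) [DCoh.HasLTensorCx K] [DCoh.HasRSheafHom K] {L : DCoh.D X} (a : ℤ)
    [L.IsGE a] (hL : DCoh.IsCohD L) : DCoh.IsCohD ((DCoh.RSheafHom K).obj L) := fun j => by
  refine Euler.isCoh_of_restrict fun x => ?_
  obtain ⟨U, j', _, E', α', hx, hEK, ⟨a₀, m, hb⟩, hf, hiso', hepi'⟩ :=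
    exists_free_approx_open K (a - j - 1) (isPseudoCoherentD_of_isCohD hK b _) x
  have : IsLocallyNoetherian U := isLocallyNoetherian_of_isOpenImmersion j'
  have := hasLTensorCx ((resCx j').obj K)
  have := hasRSheafHom ((resCx j').obj K)
  have : ((resD j').obj L).IsGE a := (DerivedCategory.isGE_iff _ a).2 fun k hk =>
    ((Scheme.Modules.restrictFunctor j').map_isZero (DerivedCategory.isZero_of_isGE L a k hk)).of_iso (HDResIso j' L k)
  obtain ⟨e⟩ := nonempty_resD_RSheafHom j' K
  have hL' : DCoh.IsCohD ((resD j').obj L) := fun i =>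
    QCoh.isCoh_of_iso (HDResIso j' L i).symm (Cohom.isCoh_restrict _ (hL i) j')
  obtain ⟨H, hH, ⟨eH⟩⟩ := exists_prop_iso_HD_RSheafHom_of_approx (X := U) DCoh.IsCohD _ E' hEK a₀ m hb hf α' (a - j - 1)
    hiso' hepi' hL' a j (by omega)
  have hq : Coh.IsCoh ((Scheme.Modules.restrictFunctor j').obj (DCoh.HD ((DCoh.RSheafHom K).obj L) j)) :=
    QCoh.isCoh_of_iso (eH.symm ≪≫ (DerivedCategory.homologyFunctor _ j).mapIso (e.app L).symm ≪≫ HDResIso j' _ j) (hH j)
  refine ⟨j'.opensRange, hx, ?_⟩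
  have hι : j'.isoOpensRange.inv ≫ j' = j'.opensRange.ι := by
    rw [Iso.inv_comp_eq, Scheme.Hom.isoOpensRange_hom_ι]
  exact QCoh.isCoh_of_iso (((Scheme.Modules.restrictFunctorComp j'.isoOpensRange.inv j').app _).symm ≪≫
      (Scheme.Modules.restrictFunctorCongr hι).app _) (Cohom.isCoh_restrict _ hq j'.isoOpensRange.inv)

theorem isGE_RSheafHom (K : CochainComplex X.Modules ℤ) (b : ℤ) [(DerivedCategory.Q.obj K).IsLE b]
    [DCoh.HasLTensorCx K] [DCoh.HasRSheafHom K] (L : DCoh.D X) (a : ℤ) [L.IsGE a] :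
    ((DCoh.RSheafHom K).obj L).IsGE (a - b) :=
  (DerivedCategory.isGE_iff _ _).2 fun i hi => isZero_HD_RSheafHom_of_lt K (fun k hk =>
    (DerivedCategory.isZero_of_isLE (DerivedCategory.Q.obj K) b k hk).of_iso
      ((DerivedCategory.homologyFunctorFactors X.Modules k).app K).symm) L a i hi

end GrothLib.OX
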