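import Mathlib.Algebra.Homology.ShortComplex.ModuleCat
import Mathlib.Algebra.Homology.HomologicalComplex
import Mathlib.Algebra.Homology.ShortComplex.HomologicalComplex
import Mathlib.Algebra.Category.ModuleCat.ChangeOfRings
import Mathlib.RingTheory.LocalRing.Module
import Mathlib.LinearAlgebra.Dimension.RankNullity
import Mathlib.LinearAlgebra.FiniteDimensional.Lemmas
import Mathlib.Algebra.Ring.NegOnePow
import Mathlib.Algebra.BigOperators.Finprod
import Mathlib.Order.Interval.Finset.Basic
import Mathlib.Data.Int.Interval
import Mathlib.Tactic.LinearCombination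
import Mathlib.RingTheory.TensorProduct.Basic

/-! # Dimension counts for complexes over a field; Nakayama for fibres -/

set_option autoImplicit false
universe u

open CategoryTheory CategoryTheory.Limits

namespace GrothLib.ModFibre

variable {K : Type u} [CommRing K]

/-- The rank of a linear map. -/
noncomputable def rank {M N : ModuleCat.{u} K} (f : M ⟶ N) : ℕ := Module.finrank K (LinearMap.range f.hom)

theorem finrank_eq_of_iso {M N : ModuleCat.{u} K} (e : M ≅ N) : Module.finrank K M = Module.finrank K N :=
  LinearEquiv.finrank_eq e.toLinearEquiv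

theorem finrank_of_isZero [Nontrivial K] {M : ModuleCat.{u} K} (h : IsZero M) : Module.finrank K M = 0 := by
  have := ModuleCat.subsingleton_of_isZero h
  exact Module.finrank_zero_of_subsingleton

theorem finrank_homology (hK : IsField K) (S : ShortComplex (ModuleCat.{u} K)) [Module.Finite K S.X₂] :
    Module.finrank K S.homology + rank S.f + rank S.g = Module.finrank K S.X₂ := by
  let := hK.toField
  rw [LinearEquiv.finrank_eq S.moduleCatHomologyIso.toLinearEquiv]
  have h1 := Submodule.finrank_quotient_add_finrank (LinearMap.range S.moduleCatToCycles)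
  have h2 := LinearMap.finrank_range_add_finrank_ker S.g.hom
  have h3 : Module.finrank K (LinearMap.range S.moduleCatToCycles) = rank S.f := by
    refine (LinearEquiv.finrank_eq (Submodule.equivMapOfInjective _ (Submodule.subtype_injective (LinearMap.ker S.g.hom))
      (LinearMap.range S.moduleCatToCycles))).trans ?_
    erw [← LinearMap.range_comp]
    rfl
  rw [h3] at h1
  change Module.finrank K (_ ⧸ LinearMap.range S.moduleCatToCycles) + rank S.f + Module.finrank K _ = _
  omega

theorem finrank_exact (hK : IsField K) {S : ShortComplex (ModuleCat.{u} K)} [Module.Finite K S.X₂] (h : S.Exact)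
    (hg : Function.Surjective S.g) : Module.finrank K S.X₃ + rank S.f = Module.finrank K S.X₂ := by
  let := hK.toField
  have h1 := finrank_homology hK S
  have h3 : rank S.g = Module.finrank K S.X₃ := by
    rw [rank, LinearMap.range_eq_top.2 hg, finrank_top]
  rw [finrank_of_isZero ((ShortComplex.exact_iff_isZero_homology S).1 h), h3] at h1
  omega

/-- A map hitting a basis on a generating family is invertible. -/
theorem isIso_of_basis {F Q : ModuleCat.{u} K} (φ : F ⟶ Q) {r : ℕ}
    (w : Fin r → F) (b : Module.Basis (Fin r) K Q) (hφ : ∀ i, φ (w i) = b i)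
    (hext : ∀ g g' : F ⟶ F, (∀ i, g (w i) = g' (w i)) → g = g') : IsIso φ := by
  refine ⟨ModuleCat.ofHom (b.constr K w), hext _ _ fun i => ?_, ModuleCat.hom_ext (b.ext fun i => ?_)⟩
  · change b.constr K w (φ (w i)) = w i
    rw [hφ, Module.Basis.constr_basis]
  · change φ (b.constr K w (b i)) = b i
    rw [Module.Basis.constr_basis, hφ]

variable (hK : IsField K) (D : CochainComplex (ModuleCat.{u} K) ℤ) [∀ i, Module.Finite K (D.X i)]

include hK

theorem finrank_homology_cx (i : ℤ) :
    Module.finrank K (D.homology i) + rank (D.d (i - 1) i) + rank (D.d i (i + 1)) = Module.finrank K (D.X i) := by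
  have : Module.Finite K (D.sc' (i - 1) i (i + 1)).X₂ := inferInstanceAs (Module.Finite K (D.X i))
  rw [finrank_eq_of_iso (D.homologyIsoSc' (i - 1) i (i + 1) (by simp) (by simp))]
  exact finrank_homology hK (D.sc' (i - 1) i (i + 1))

/-- The Euler characteristic of cohomology is that of the terms. -/
theorem finsum_homology (a b : ℤ) (h : ∀ i, i < a ∨ b < i → IsZero (D.X i)) :
    finsum (fun i : ℤ => (i.negOnePow : ℤ) * (Module.finrank K (D.homology i) : ℤ)) =
      ∑ i ∈ Finset.Icc a b, (i.negOnePow : ℤ) * (Module.finrank K (D.X i) : ℤ) := by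
  let := hK.toField
  let g : ℤ → ℤ := fun i => ((i + 1).negOnePow : ℤ) * (rank (D.d i (i + 1)) : ℤ)
  have hg : ∀ i, i < a ∨ b < i + 1 → g i = 0 := fun i hi => by
    have : rank (D.d i (i + 1)) = 0 := by
      have h0 : D.d i (i + 1) = 0 := by
        rcases hi with hi | hi
        · exact (h i (Or.inl hi)).eq_of_src _ _
        · exact (h (i + 1) (Or.inr hi)).eq_of_tgt _ _
      rw [rank, h0, show (0 : D.X i ⟶ D.X (i + 1)).hom = 0 from rfl, LinearMap.range_zero, finrank_bot]
    simp [g, this]
  let f : ℤ → ℤ := fun i => (i.negOnePow : ℤ) * (Module.finrank K (D.X i) : ℤ)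
  have hi : ∀ i : ℤ, (i.negOnePow : ℤ) * (Module.finrank K (D.homology i) : ℤ) = f i + g i - g (i - 1) := fun i => by
    have h1 := congrArg (fun n : ℕ => (i.negOnePow : ℤ) * (n : ℤ)) (finrank_homology_cx hK D i)
    simp only [Nat.cast_add] at h1
    have h2 : g (i - 1) = (i.negOnePow : ℤ) * (rank (D.d (i - 1) i) : ℤ) := by
      simp only [g]
      rw [Int.sub_add_cancel]
    have h3 : g i = -(i.negOnePow : ℤ) * (rank (D.d i (i + 1)) : ℤ) := by
      simp only [g, Int.negOnePow_succ, Units.val_neg]
    rw [h2, h3]
    simp only [f]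
    linear_combination h1
  have hf : Function.support f ⊆ (Finset.Icc a b : Finset ℤ) := fun i hi' => by
    simp only [Finset.coe_Icc, Set.mem_Icc]
    by_contra hc
    exact hi' (by simp [f, finrank_of_isZero (h i (by omega))])
  have hsg : Function.support g ⊆ (Finset.Icc a b : Finset ℤ) := fun i hi' => by
    simp only [Finset.coe_Icc, Set.mem_Icc]
    by_contra hc
    exact hi' (hg i (by omega))
  have hfg : (Function.support fun i => f i + g i).Finite :=
    (Finset.Icc a b).finite_toSet.subset ((Function.support_add _ _).trans (Set.union_subset hf hsg))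
  have hg' : (Function.support fun i => g (i - 1)).Finite :=
    ((Finset.Icc (a + 1) (b + 1)).finite_toSet).subset fun i hi' => by
      simp only [Finset.coe_Icc, Set.mem_Icc]
      by_contra hc
      exact hi' (hg (i - 1) (by omega))
  rw [finsum_congr hi, finsum_sub_distrib hfg hg',
    finsum_add_distrib ((Finset.Icc a b).finite_toSet.subset hf) ((Finset.Icc a b).finite_toSet.subset hsg),
    finsum_eq_sum_of_support_subset f hf]
  have : finsum (fun i => g (i - 1)) = finsum g := finsum_comp_equiv (Equiv.subRight (1 : ℤ))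
  rw [this]
  exact add_sub_cancel_right _ _

omit hK [∀ i, Module.Finite K (D.X i)]

/-- Nakayama: a finite module with zero fibre along a surjection to a field is zero. -/
theorem subsingleton_of_extendScalars {R S : Type u} [CommRing R] [IsLocalRing R] [CommRing S] (hS : IsField S)
    (φ : R →+* S) (hφ : Function.Surjective φ) (M : ModuleCat.{u} R) [Module.Finite R M]
    (h : IsZero ((ModuleCat.extendScalars φ).obj M)) : Subsingleton M := by
  have h' : Subsingleton (TensorProduct R (R ⧸ IsLocalRing.maximalIdeal R) M) := by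
    let := φ.toAlgebra
    have hker : RingHom.ker φ = IsLocalRing.maximalIdeal R :=
      IsLocalRing.eq_maximalIdeal (by
        let := hS.toField
        exact RingHom.ker_isMaximal_of_surjective φ hφ)
    let e : (R ⧸ IsLocalRing.maximalIdeal R) ≃ₐ[R] S :=
      (Ideal.quotientEquivAlgOfEq R hker.symm).trans
        (Ideal.quotientKerAlgEquivOfSurjective (f := Algebra.ofId R S) hφ)
    have : Subsingleton (TensorProduct R S M) := ModuleCat.subsingleton_of_isZero h
    exact (TensorProduct.congr e.toLinearEquiv (LinearEquiv.refl R M)).toEquiv.subsingleton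
  exact IsLocalRing.subsingleton_tensorProduct.1 h'

section LocalHom

variable {R S : Type u} [CommRing R] [IsLocalRing R] [CommRing S] (φ : R →+* S)

/-- The residue field is a direct summand of any field receiving a local homomorphism. -/
theorem exists_residue_retract (hS : IsField S) [IsLocalHom φ] :
    letI := φ.toAlgebra
    ∃ (ι : (R ⧸ IsLocalRing.maximalIdeal R) →ₗ[R] S) (ρ : S →ₗ[R] (R ⧸ IsLocalRing.maximalIdeal R)),
      ρ.comp ι = LinearMap.id := by
  letI := φ.toAlgebra
  let := hS.toField
  have : Nontrivial S := inferInstance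
  have hker : ∀ r ∈ IsLocalRing.maximalIdeal R, φ r = 0 := fun r hr => by
    by_contra h
    exact (IsLocalRing.mem_maximalIdeal r).1 hr ((isUnit_map_iff φ r).1 (Ne.isUnit h))
  let ψ : (R ⧸ IsLocalRing.maximalIdeal R) →ₐ[R] S := Ideal.Quotient.liftₐ _ (Algebra.ofId R S) hker
  let := ψ.toRingHom.toAlgebra
  let _ : Field (R ⧸ IsLocalRing.maximalIdeal R) := Ideal.Quotient.field _
  have : IsScalarTower R (R ⧸ IsLocalRing.maximalIdeal R) S := IsScalarTower.of_algebraMap_eq fun r => (ψ.commutes r).symm
  let ι := Algebra.linearMap (R ⧸ IsLocalRing.maximalIdeal R) S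
  obtain ⟨ρ, hρ⟩ := ι.exists_leftInverse_of_injective
    (LinearMap.ker_eq_bot.2 (algebraMap (R ⧸ IsLocalRing.maximalIdeal R) S).injective)
  exact ⟨ι.restrictScalars R, ρ.restrictScalars R, LinearMap.ext fun x => LinearMap.congr_fun hρ x⟩

theorem subsingleton_of_extendScalars' (hS : IsField S) [IsLocalHom φ] (M : ModuleCat.{u} R) [Module.Finite R M]
    (h : IsZero ((ModuleCat.extendScalars φ).obj M)) : Subsingleton M := by
  letI := φ.toAlgebra
  obtain ⟨ι, ρ, hρ⟩ := exists_residue_retract φ hS
  have : Subsingleton (TensorProduct R S M) := ModuleCat.subsingleton_of_isZero h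
  have : Subsingleton (TensorProduct R (R ⧸ IsLocalRing.maximalIdeal R) M) :=
    Function.Injective.subsingleton (f := ι.rTensor M) (Function.LeftInverse.injective
      (g := ρ.rTensor M) fun x => by
        rw [← LinearMap.comp_apply, ← LinearMap.rTensor_comp, hρ, LinearMap.rTensor_id, LinearMap.id_apply])
  exact IsLocalRing.subsingleton_tensorProduct.1 this

theorem split_of_extendScalars_injective (hS : IsField S) [IsLocalHom φ] {M N : ModuleCat.{u} R}
    [Module.Finite R M] [Module.Finite R N] [Module.Free R N] (f : M ⟶ N)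
    (h : Function.Injective ((ModuleCat.extendScalars φ).map f)) :
    ∃ l : N →ₗ[R] M, l.comp f.hom = LinearMap.id := by
  letI := φ.toAlgebra
  obtain ⟨ι, ρ, hρ⟩ := exists_residue_retract φ hS
  refine (IsLocalRing.split_injective_iff_lTensor_residueField_injective f.hom).2 fun a b hab => ?_
  have hinj : Function.Injective (ι.rTensor M) := Function.LeftInverse.injective (g := ρ.rTensor M) fun x => by
    rw [← LinearMap.comp_apply, ← LinearMap.rTensor_comp, hρ, LinearMap.rTensor_id, LinearMap.id_apply]
  have h' : Function.Injective (f.hom.lTensor S) := fun x y hxy => h (show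
    (ModuleCat.extendScalars φ).map f x = (ModuleCat.extendScalars φ).map f y from hxy)
  refine hinj (h' ?_)
  have hc : ∀ x, f.hom.lTensor S (ι.rTensor M x) = ι.rTensor N (f.hom.lTensor _ x) := fun x => by
    rw [← LinearMap.comp_apply, LinearMap.lTensor_comp_rTensor, ← LinearMap.rTensor_comp_lTensor]
    rfl
  rw [hc, hc]
  exact congrArg (ι.rTensor N) hab

/-- The cokernel of a split injection into a free module is flat. -/
theorem flat_of_exact_of_split {A : Type u} [CommRing A] {S : ShortComplex (ModuleCat.{u} A)} (hS : S.Exact)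
    (hg : Function.Surjective S.g) [Module.Free A S.X₂] (l : S.X₂ →ₗ[A] S.X₁)
    (hl : l.comp S.f.hom = LinearMap.id) : Module.Flat A S.X₃ := by
  let p : S.X₂ →ₗ[A] S.X₂ := LinearMap.id - S.f.hom.comp l
  have hk : LinearMap.ker S.g.hom ≤ LinearMap.ker p := fun x hx => by
    obtain ⟨y, rfl⟩ := (S.moduleCat_exact_iff_range_eq_ker.1 hS).ge hx
    change S.f y - S.f (l (S.f y)) = 0
    rw [show l (S.f y) = y from LinearMap.congr_fun hl y, sub_self]
  let e := LinearMap.quotKerEquivOfSurjective S.g.hom hg
  let s : S.X₃ →ₗ[A] S.X₂ := ((LinearMap.ker S.g.hom).liftQ p hk).comp e.symm.toLinearMap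
  refine Module.Flat.of_retract s S.g.hom (LinearMap.ext fun z => ?_)
  obtain ⟨x, rfl⟩ := hg z
  change S.g (((LinearMap.ker S.g.hom).liftQ p hk) (e.symm (S.g x))) = S.g x
  rw [show e.symm (S.g x) = Submodule.Quotient.mk x from e.symm_apply_eq.2 rfl, Submodule.liftQ_apply]
  change S.g (x - S.f (l x)) = S.g x
  rw [map_sub, show S.g (S.f (l x)) = 0 from ConcreteCategory.congr_hom S.zero (l x), sub_zero]

end LocalHom

end GrothLib.ModFibre
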