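import Groth.Agent.Lib.OX.PCohTriangle
import Groth.Agent.Lib.OX.FlatLocFree
import Groth.Agent.Lib.OX.ModFibre
import Groth.Prelude.Def_PerfD

/-! # Fibre dimensions of perfect and pseudo-coherent objects -/

set_option autoImplicit false
set_option maxHeartbeats 800000
universe u

open CategoryTheory CategoryTheory.Limits AlgebraicGeometry Opposite TopologicalSpace

attribute [local instance] HasDerivedCategory.standard

namespace GrothLib.OX

variable {X T : Scheme.{u}}

theorem eq_top_of_mem {A : Type u} [TopologicalSpace A] [Subsingleton A] {U : Opens A} {t : A} (h : t ∈ U) :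
    U = ⊤ := eq_top_iff.2 fun y _ => by rwa [Subsingleton.elim y t]

theorem germ_top_bijective [Subsingleton T] (P : CohB1.PMod T) (t : T) :
    Function.Bijective (germ P ⊤ (show t ∈ (⊤ : T.Opens) from trivial)) := by
  refine ⟨fun a b hab => ?_, fun e => ?_⟩
  · obtain ⟨W, hW, i₁, i₂, h⟩ := TopCat.Presheaf.germ_eq (prs P) t (show t ∈ (⊤ : T.Opens) from trivial)
      (show t ∈ (⊤ : T.Opens) from trivial) a b hab
    obtain rfl : W = ⊤ := eq_top_of_mem hW
    rw [Subsingleton.elim i₁ (𝟙 _), Subsingleton.elim i₂ (𝟙 _), op_id, CategoryTheory.Functor.map_id] at h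
    exact h
  · obtain ⟨U, hU, m, rfl⟩ := germ_exists P e
    obtain rfl : U = ⊤ := eq_top_of_mem hU
    exact ⟨m, rfl⟩

theorem ring_germ_top_bijective [Subsingleton T] (t : T) :
    Function.Bijective (T.presheaf.germ ⊤ t trivial) := by
  refine ⟨fun a b hab => ?_, fun e => ?_⟩
  · obtain ⟨W, hW, i₁, i₂, h⟩ := TopCat.Presheaf.germ_eq T.presheaf t (show t ∈ (⊤ : T.Opens) from trivial)
      (show t ∈ (⊤ : T.Opens) from trivial) a b hab
    obtain rfl : W = ⊤ := eq_top_of_mem hW
    rw [Subsingleton.elim i₁ (𝟙 _), Subsingleton.elim i₂ (𝟙 _), op_id, CategoryTheory.Functor.map_id] at h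
    exact h
  · obtain ⟨U, hU, m, rfl⟩ := T.presheaf.exists_germ_eq e
    obtain rfl : U = ⊤ := eq_top_of_mem hU
    exact ⟨m, rfl⟩

theorem finrank_top_eq [Subsingleton T] (M : T.Modules) (t : T) :
    Module.finrank (Coh.Γtop T) (M.val.obj (op ⊤)) = Module.finrank (T.presheaf.stalk t) ((stalk t).obj M) :=
  congrArg Cardinal.toNat (rank_eq_of_equiv_equiv (R := Coh.Γtop T) (R' := T.presheaf.stalk t)
    (fun r => T.presheaf.germ ⊤ t trivial r)
    (AddEquiv.ofBijective (germ (DCoh.toP.obj M) ⊤ (show t ∈ (⊤ : T.Opens) from trivial))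
      (germ_top_bijective _ t))
    (ring_germ_top_bijective t) fun r m => germ_smul' (DCoh.toP.obj M) _ _ r m)

theorem isField_stalk_spec (k : CommRingCat.{u}) (hk : IsField k) (t : (Spec k : Scheme.{u})) :
    IsField ((Spec k).presheaf.stalk t) := by
  let := hk.toField
  have : Subsingleton (Spec k : Scheme.{u}) := inferInstanceAs (Subsingleton (PrimeSpectrum k))
  exact MulEquiv.isField hk
    ((RingEquiv.ofBijective ((Spec k).presheaf.germ ⊤ t trivial).hom (ring_germ_top_bijective t)).symm.trans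
      (Scheme.ΓSpecIso k).commRingCatIsoToRingEquiv).toMulEquiv

/-- The fibre functor of a point `g : T ⟶ X` of `X`. -/
noncomputable abbrev fib (g : T ⟶ X) (t : T) : X.Modules ⥤ ModuleCat.{u} (T.presheaf.stalk t) :=
  Scheme.Modules.pullback g ⋙ stalk t

/-- The fibre dimension of a module. -/
noncomputable def fibDim (g : T ⟶ X) (t : T) (M : X.Modules) : ℕ :=
  Module.finrank (T.presheaf.stalk t) ((fib g t).obj M)

theorem isLeftAdjoint_fib (g : T ⟶ X) (t : T) : (fib g t).IsLeftAdjoint :=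
  ((Scheme.Modules.pullbackPushforwardAdjunction g).comp (stalkSkyAdj t)).isLeftAdjoint

theorem fib_free_ext (g : T ⟶ X) (t : T) (n : ℕ) (o : (fib g t).obj (Coh.structureModule X))
    (ho : Submodule.span (T.presheaf.stalk t) {o} = ⊤) {P : ModuleCat.{u} (T.presheaf.stalk t)}
    (a a' : (fib g t).obj (FlatMod.freeMod X n) ⟶ P)
    (h : ∀ i, a ((fib g t).map (Sigma.ι (fun _ : Fin n => Coh.structureModule X) i) o) =
      a' ((fib g t).map (Sigma.ι (fun _ : Fin n => Coh.structureModule X) i) o)) : a = a' := by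
  have := isLeftAdjoint_fib g t
  have : PreservesColimitsOfSize.{0, 0} (fib g t) :=
    (Adjunction.ofIsLeftAdjoint (fib g t)).leftAdjoint_preservesColimits
  refine (isColimitOfPreserves (fib g t) (colimit.isColimit
    (Discrete.functor fun _ : Fin n => Coh.structureModule X))).hom_ext fun i => ?_
  refine ModuleCat.hom_ext (LinearMap.ext_on ho fun z hz => ?_)
  rw [Set.mem_singleton_iff] at hz
  subst hz
  exact h i.as

theorem exists_fib_one (g : T ⟶ X) (t : T) : ∃ o : (fib g t).obj (Coh.structureModule X),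
    Submodule.span (T.presheaf.stalk t) {o} = ⊤ := by
  obtain ⟨o, ho⟩ := exists_stalk_one t
  let e := ((stalk t).mapIso (pullUnitIso g)).symm.toLinearEquiv
  refine ⟨e o, ?_⟩
  have := Submodule.map_span e.toLinearMap {o}
  rw [ho, Submodule.map_top, LinearEquiv.range, Set.image_singleton] at this
  exact this.symm

theorem fib_free_iso (g : T ⟶ X) (t : T) (n : ℕ) :
    Nonempty ((fib g t).obj (FlatMod.freeMod X n) ≅ ModuleCat.of (T.presheaf.stalk t) (Fin n → T.presheaf.stalk t)) := by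
  obtain ⟨o, ho⟩ := exists_stalk_one t
  obtain ⟨e⟩ := AssPts.exists_stalk_unit_equiv t
  have : PreservesColimitsOfSize.{0, 0} (stalk t) := (stalkSkyAdj t).leftAdjoint_preservesColimits
  let R := T.presheaf.stalk t
  let o' : (stalk t).obj (Coh.structureModule T) := e 1
  have ho' : Submodule.span R {o'} = ⊤ := eq_top_iff.2 fun m _ => Submodule.mem_span_singleton.2 ⟨e.symm m,
    ((e.map_smul (e.symm m) 1).symm.trans (congrArg e (mul_one _))).trans (e.apply_symm_apply m)⟩
  let hc := isColimitOfPreserves (stalk t) (colimit.isColimit (Discrete.functor fun _ : Fin n => Coh.structureModule T))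
  let φ : (stalk t).obj (FlatMod.freeMod T n) ⟶ ModuleCat.of R (Fin n → R) :=
    hc.desc { pt := ModuleCat.of R (Fin n → R)
              ι := Discrete.natTrans fun i => ModuleCat.ofHom (X := (stalk t).obj (Coh.structureModule T))
                ((LinearMap.single R (fun _ : Fin n => R) i.as).comp e.symm.toLinearMap) }
  have : IsIso φ := ModFibre.isIso_of_basis φ
    (fun i => (stalk t).map (Sigma.ι (fun _ : Fin n => Coh.structureModule T) i) o') (Pi.basisFun R (Fin n))
    (fun i => by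
      refine (ConcreteCategory.congr_hom (hc.fac _ ⟨i⟩) o').trans ?_
      change LinearMap.single R (fun _ : Fin n => R) i (e.symm (e 1)) = _
      rw [e.symm_apply_apply, Pi.basisFun_apply]
      rfl)
    fun a a' h => free_stalk_span t n o' ho' a a' h
  exact ⟨(stalk t).mapIso (pullFreeModIso g n) ≪≫ asIso φ⟩

theorem fibDim_free (g : T ⟶ X) (t : T) (n : ℕ) (hT : IsField (T.presheaf.stalk t)) :
    fibDim g t (FlatMod.freeMod X n) = n := by
  obtain ⟨e⟩ := fib_free_iso g t n
  let := hT.toField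
  exact (ModFibre.finrank_eq_of_iso e).trans (Module.finrank_fin_fun _)

theorem finite_fib_free (g : T ⟶ X) (t : T) {M : X.Modules} {n : ℕ} (i : M ≅ FlatMod.freeMod X n) :
    Module.Finite (T.presheaf.stalk t) ((fib g t).obj M) := by
  obtain ⟨e⟩ := fib_free_iso g t n
  exact Module.Finite.equiv ((fib g t).mapIso i ≪≫ e).symm.toLinearEquiv

theorem fibDim_cokernel_add_rank (g : T ⟶ X) (t : T) (hT : IsField (T.presheaf.stalk t)) {P M : X.Modules}
    (d : P ⟶ M) {n : ℕ} (i : M ≅ FlatMod.freeMod X n) :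
    fibDim g t (cokernel d) + ModFibre.rank ((fib g t).map d) = n := by
  have := isLeftAdjoint_fib g t
  have : PreservesColimitsOfSize.{0, 0} (fib g t) :=
    (Adjunction.ofIsLeftAdjoint (fib g t)).leftAdjoint_preservesColimits
  let S := ShortComplex.mk ((fib g t).map d) (cokernel.π ((fib g t).map d)) (cokernel.condition _)
  have : Module.Finite (T.presheaf.stalk t) S.X₂ := finite_fib_free g t i
  have h := ModFibre.finrank_exact hT
    (ShortComplex.exact_of_g_is_cokernel S (cokernelIsCokernel ((fib g t).map d)))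
    ((ModuleCat.epi_iff_surjective (cokernel.π ((fib g t).map d))).1 inferInstance)
  rw [fibDim, ModFibre.finrank_eq_of_iso (PreservesCokernel.iso (fib g t) d)]
  refine h.trans ?_
  exact (ModFibre.finrank_eq_of_iso ((fib g t).mapIso i)).trans (fibDim_free g t n hT)

theorem stalk_map_eq_zero_of_restrict {U : Scheme.{u}} (j : U ⟶ X) [IsOpenImmersion j] (z : U) {M N : X.Modules}
    (f : M ⟶ N) (h : (Scheme.Modules.restrictFunctor j).map f = 0) : (stalk (j z)).map f = 0 := by
  let c := Scheme.Modules.restrictStalkNatIso j z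
  refine ModuleCat.hom_ext (LinearMap.ext fun m => ?_)
  let G := Scheme.Modules.toPresheaf U ⋙ TopCat.Presheaf.stalkFunctor Ab.{u} z
  change ((Scheme.Modules.toPresheaf X ⋙ TopCat.Presheaf.stalkFunctor Ab.{u} (j z)).map f) m = 0
  obtain ⟨m', hm'⟩ : ∃ m', (c.hom.app M) m' = m := ⟨(c.inv.app M) m, Iso.inv_hom_id_apply (c.app M) m⟩
  rw [← hm']
  refine (ConcreteCategory.congr_hom (c.hom.naturality f) m').symm.trans ?_
  have h0 : (G.map ((Scheme.Modules.restrictFunctor j).map f)) m' = 0 := by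
    rw [h]
    obtain ⟨W, hW, s, rfl⟩ := TopCat.Presheaf.exists_germ_eq
      ((Scheme.Modules.toPresheaf U).obj ((Scheme.Modules.restrictFunctor j).obj M)) m'
    exact (TopCat.Presheaf.stalkFunctor_map_germ_apply W z hW _ s).trans (map_zero _)
  exact (congrArg (fun e => (c.hom.app N) e) h0).trans (map_zero _)

/-- The fibre dimension of a module of finite type is upper semicontinuous. -/
theorem exists_open_fibDim_le {n : ℕ} {Q : X.Modules} (π : FlatMod.freeMod X n ⟶ Q) [Epi π]
    {T₀ : Scheme.{u}} (g₀ : T₀ ⟶ X) (t₀ : T₀) (hT₀ : IsField (T₀.presheaf.stalk t₀))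
    (hφ : Function.Surjective (g₀.stalkMap t₀).hom) :
    ∃ U : X.Opens, g₀ t₀ ∈ U ∧ ∀ (T : Scheme.{u}) (g : T ⟶ X) (t : T), IsField (T.presheaf.stalk t) → g t ∈ U →
      fibDim g t Q ≤ fibDim g₀ t₀ Q := by
  let := hT₀.toField
  let S := T₀.presheaf.stalk t₀
  have := isLeftAdjoint_fib g₀ t₀
  obtain ⟨o, ho⟩ := exists_fib_one g₀ t₀
  let v : Fin n → (fib g₀ t₀).obj Q := fun i =>
    (fib g₀ t₀).map (Sigma.ι (fun _ : Fin n => Coh.structureModule X) i ≫ π) o
  have hv : Submodule.span S (Set.range v) = ⊤ := by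
    let V := Submodule.span S (Set.range v)
    have hq : (fib g₀ t₀).map π ≫ ModuleCat.ofHom V.mkQ = 0 := fib_free_ext g₀ t₀ n o ho _ _ fun i =>
      (Submodule.Quotient.mk_eq_zero V).2 (Submodule.subset_span ⟨i, by
        simp only [v, Functor.map_comp]
        rfl⟩)
    refine eq_top_iff.2 fun m _ => ?_
    have : Epi ((fib g₀ t₀).map π) := inferInstance
    obtain ⟨m', rfl⟩ := (ModuleCat.epi_iff_surjective ((fib g₀ t₀).map π)).1 inferInstance m
    exact (Submodule.Quotient.mk_eq_zero V).1 (congrArg (fun g : _ ⟶ ModuleCat.of _ (_ ⧸ V) => g m') hq)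
  obtain ⟨r, α, b, hb⟩ := exists_basis_sub ((fib g₀ t₀).obj Q) (Module.Flat.of_free) v hv
  have hr : fibDim g₀ t₀ Q = r := (Module.finrank_eq_card_basis b).trans (Fintype.card_fin r)
  let s : FlatMod.freeMod X r ⟶ FlatMod.freeMod X n :=
    Sigma.desc fun i => Sigma.ι (fun _ : Fin n => Coh.structureModule X) (α i)
  let c := cokernel.π (s ≫ π)
  have hc0 : (fib g₀ t₀).map c = 0 := by
    refine ModuleCat.hom_ext (b.ext fun i => ?_)
    have h1 : b i = (fib g₀ t₀).map (s ≫ π) ((fib g₀ t₀).map (Sigma.ι (fun _ : Fin r => Coh.structureModule X) i) o) := by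
      rw [hb i]
      change (fib g₀ t₀).map (Sigma.ι (fun _ : Fin n => Coh.structureModule X) (α i) ≫ π) o = _
      rw [← Sigma.ι_desc (fun i => Sigma.ι (fun _ : Fin n => Coh.structureModule X) (α i)) i, Category.assoc,
        Functor.map_comp]
      rfl
    rw [h1]
    change ((fib g₀ t₀).map (s ≫ π) ≫ (fib g₀ t₀).map c) _ = 0
    rw [← Functor.map_comp, cokernel.condition, Functor.map_zero]
    rfl
  have hz : IsZero ((stalk (g₀ t₀)).obj (cokernel (s ≫ π))) := by
    have : Module.Finite (X.presheaf.stalk (g₀ t₀)) ((stalk (g₀ t₀)).obj (cokernel (s ≫ π))) := by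
      obtain ⟨o', ho'⟩ := exists_stalk_one (g₀ t₀)
      have := span_stalk_epi (π ≫ c) (g₀ t₀) o' ho'
      exact ⟨⟨(Set.finite_range fun i => (stalk (g₀ t₀)).map
        (Sigma.ι (fun _ : Fin n => Coh.structureModule X) i ≫ π ≫ c) o').toFinset, by
          rw [Set.Finite.coe_toFinset]; exact this⟩⟩
    have hz' : IsZero ((fib g₀ t₀).obj (cokernel (s ≫ π))) := IsZero.of_epi_eq_zero _ hc0
    have := ModFibre.subsingleton_of_extendScalars hT₀ _ hφ _
      (hz'.of_iso ((pullStalkIso g₀ t₀).app (cokernel (s ≫ π))).symm)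
    exact ModuleCat.isZero_of_subsingleton _
  obtain ⟨U, j, hj, ⟨z, hz₀⟩, hU⟩ := exists_restrict_hom_eq_zero (isFinLocFree_freeMod X n) (π ≫ c) (g₀ t₀)
    (hz.eq_of_tgt _ _)
  refine ⟨j.opensRange, ⟨z, hz₀⟩, fun T g t hT hgt => ?_⟩
  obtain ⟨w, hw⟩ := hgt
  have h0 : (stalk (g t)).map (π ≫ c) = 0 := by
    rw [← hw]
    exact stalk_map_eq_zero_of_restrict j w _ hU
  have := isLeftAdjoint_fib g t
  have hF : (fib g t).map (π ≫ c) = 0 := by
    refine (NatIso.naturality_2 (pullStalkIso g t) (π ≫ c)).symm.trans ?_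
    rw [show (stalk (g t) ⋙ ModuleCat.extendScalars (g.stalkMap t).hom).map (π ≫ c) = 0 from
      (congrArg (ModuleCat.extendScalars (g.stalkMap t).hom).map h0).trans
        ((ModuleCat.extendScalars (g.stalkMap t).hom).map_zero _ _), zero_comp, comp_zero]
  have hFc : (fib g t).map c = 0 := by
    rw [← cancel_epi ((fib g t).map π), comp_zero, ← Functor.map_comp, hF]
  have hcoim : fibDim g t (cokernel (s ≫ π)) = 0 := by
    let := hT.toField
    exact ModFibre.finrank_of_isZero (IsZero.of_epi_eq_zero _ hFc)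
  have : PreservesColimitsOfSize.{0, 0} (fib g t) :=
    (Adjunction.ofIsLeftAdjoint (fib g t)).leftAdjoint_preservesColimits
  have hepi : Epi ((fib g t).map (s ≫ π)) := by
    refine Abelian.epi_of_cokernel_π_eq_zero _ ?_
    rw [← PreservesCokernel.π_iso_hom (fib g t) (s ≫ π), hFc, zero_comp]
  rw [hr]
  let := hT.toField
  have : Module.Finite (T.presheaf.stalk t) ((fib g t).obj (FlatMod.freeMod X r)) := finite_fib_free g t (Iso.refl _)
  exact (LinearMap.finrank_le_finrank_of_surjective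
    ((ModuleCat.epi_iff_surjective ((fib g t).map (s ≫ π))).1 hepi)).trans (fibDim_free g t r hT).le

/-- The fibre complex. -/
noncomputable abbrev fibCx (g : T ⟶ X) (t : T) (P : CochainComplex X.Modules ℤ) :
    CochainComplex (ModuleCat.{u} (T.presheaf.stalk t)) ℤ :=
  ((stalk t).mapHomologicalComplex (ComplexShape.up ℤ)).obj ((pullCxF g).obj P)

theorem finrank_HD_top [Subsingleton T] (t : T) {D : CochainComplex T.Modules ℤ} {K : DCoh.D T} {i : ℤ}
    (e : DCoh.HD K i ≅ D.homology i) :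
    Module.finrank (Coh.Γtop T) ((DCoh.HD K i).val.obj (op ⊤)) =
      Module.finrank (T.presheaf.stalk t)
        ((((stalk t).mapHomologicalComplex (ComplexShape.up ℤ)).obj D).homology i) :=
  (finrank_top_eq _ t).trans (ModFibre.finrank_eq_of_iso
    ((stalk t).mapIso e ≪≫ ((D.sc i).mapHomologyIso (stalk t)).symm))

theorem subsingleton_residue (x : X) : Subsingleton (Spec (X.residueField x) : Scheme.{u}) :=
  inferInstanceAs (Subsingleton (PrimeSpectrum (X.residueField x)))

theorem isField_residue (x : X) (t : (Spec (X.residueField x) : Scheme.{u})) :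
    IsField ((Spec (X.residueField x)).presheaf.stalk t) :=
  isField_stalk_spec _ (Field.toIsField _) t

theorem stalkMap_residue_surjective (x : X) (t : (Spec (X.residueField x) : Scheme.{u})) :
    Function.Surjective ((X.fromSpecResidueField x).stalkMap t).hom :=
  (X.fromSpecResidueField x).stalkMap_surjective t

/-- A point of an open subscheme. -/
noncomputable def ptLift {U : Scheme.{u}} (j : U ⟶ X) [IsOpenImmersion j] (x : X) (hx : x ∈ Set.range j) :
    Spec (X.residueField x) ⟶ U :=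
  IsOpenImmersion.lift j (X.fromSpecResidueField x) (by
    rw [Scheme.range_fromSpecResidueField]
    exact Set.singleton_subset_iff.2 hx)

theorem ptLift_fac {U : Scheme.{u}} (j : U ⟶ X) [IsOpenImmersion j] (x : X) (hx : x ∈ Set.range j) :
    ptLift j x hx ≫ j = X.fromSpecResidueField x := IsOpenImmersion.lift_fac _ _ _

theorem ptLift_apply {U : Scheme.{u}} (j : U ⟶ X) [IsOpenImmersion j] (x : X) (hx : x ∈ Set.range j)
    (t : (Spec (X.residueField x) : Scheme.{u})) : j (ptLift j x hx t) = x := by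
  rw [← Scheme.Hom.comp_apply, ptLift_fac, Scheme.fromSpecResidueField_apply]

theorem stalkMap_ptLift_surjective {U : Scheme.{u}} (j : U ⟶ X) [IsOpenImmersion j] (x : X) (hx : x ∈ Set.range j)
    (t : (Spec (X.residueField x) : Scheme.{u})) : Function.Surjective ((ptLift j x hx).stalkMap t).hom := by
  have : IsPreimmersion (ptLift j x hx ≫ j) := by rw [ptLift_fac]; infer_instance
  have := IsPreimmersion.of_comp (ptLift j x hx) j
  exact (ptLift j x hx).stalkMap_surjective t

theorem betti_eq (E : DCoh.D X) [∀ x : X, DCoh.HasLpull (X.fromSpecResidueField x)]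
    {F : CochainComplex X.Modules ℤ} (hF : DCoh.IsKFlat F) (e : DerivedCategory.Q.obj F ≅ E)
    {U : Scheme.{u}} (j : U ⟶ X) [IsOpenImmersion j] {P : CochainComplex U.Modules ℤ}
    (hP : DCoh.IsStrictlyPerfect P) (α : DerivedCategory.Q.obj P ⟶ DerivedCategory.Q.obj ((resCx j).obj F))
    {m : ℤ} (hα : DerCat.Good α m) (x : X) (hx : x ∈ Set.range j) (t : (Spec (X.residueField x) : Scheme.{u}))
    {i : ℤ} (hi : m < i) :
    PerfD.betti E x i = Module.finrank ((Spec (X.residueField x)).presheaf.stalk t)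
      ((fibCx (ptLift j x hx) t P).homology i) := by
  let f := X.fromSpecResidueField x
  let g := ptLift j x hx
  have := subsingleton_residue x
  obtain ⟨v⟩ := lpull_value f F hF
  let c : pullCxF f ≅ resCx j ⋙ pullCxF g :=
    NatIso.mapHomologicalComplex (Scheme.Modules.pullbackCongr (ptLift_fac j x hx).symm ≪≫
      (Scheme.Modules.pullbackComp g j).symm ≪≫
      Functor.isoWhiskerRight (Scheme.Modules.restrictFunctorIsoPullback j).symm _) _
  have hF' : DCoh.IsKFlat ((resCx j).obj F) :=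
    isKFlat_of_iso ((NatIso.mapHomologicalComplex (Scheme.Modules.restrictFunctorIsoPullback j) _).app F).symm
      (isKFlat_pullback j hF)
  obtain ⟨β, hβ, -⟩ := pseudo_pullCx g (isKFlat_of_strictlyPerfect hP) hF' α m hα.1 hα.2
  have := hβ i hi
  exact finrank_HD_top t
    ((DerivedCategory.homologyFunctor _ i).mapIso ((DCoh.Lpull f).mapIso e.symm ≪≫ v ≪≫
      DerivedCategory.Q.mapIso (c.app F)) ≪≫
      (asIso ((DerivedCategory.homologyFunctor _ i).map β)).symm ≪≫ hdIso _ i)

theorem rank_fib_d (g : T ⟶ X) (t : T) (P : CochainComplex X.Modules ℤ) (i j : ℤ) :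
    ModFibre.rank ((fibCx g t P).d i j) = ModFibre.rank ((fib g t).map (P.d i j)) := rfl

theorem betti_formula (g : T ⟶ X) (t : T) (hT : IsField (T.presheaf.stalk t)) (P : CochainComplex X.Modules ℤ)
    (i : ℤ) {n n' : ℕ} (e : P.X i ≅ FlatMod.freeMod X n) (e' : P.X (i + 1) ≅ FlatMod.freeMod X n') :
    Module.finrank (T.presheaf.stalk t) ((fibCx g t P).homology i) + n' =
      fibDim g t (cokernel (P.d (i - 1) i)) + fibDim g t (cokernel (P.d i (i + 1))) := by
  have h1 := fibDim_cokernel_add_rank g t hT (P.d (i - 1) i) e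
  have h2 := fibDim_cokernel_add_rank g t hT (P.d i (i + 1)) e'
  have : Module.Finite (T.presheaf.stalk t) ((fibCx g t P).X i) := finite_fib_free g t e
  have : Module.Finite (T.presheaf.stalk t) ((fibCx g t P).sc' (i - 1) i (i + 1)).X₂ :=
    inferInstanceAs (Module.Finite _ ((fibCx g t P).X i))
  have h3 := ModFibre.finrank_homology hT ((fibCx g t P).sc' (i - 1) i (i + 1))
  have h4 : Module.finrank (T.presheaf.stalk t) ((fibCx g t P).X i) = n :=
    (ModFibre.finrank_eq_of_iso ((fib g t).mapIso e)).trans (fibDim_free g t n hT)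
  rw [ModFibre.finrank_eq_of_iso ((fibCx g t P).homologyIsoSc' (i - 1) i (i + 1) (by simp) (by simp))]
  change _ + ModFibre.rank ((fibCx g t P).d (i - 1) i) + ModFibre.rank ((fibCx g t P).d i (i + 1)) =
    Module.finrank _ ((fibCx g t P).X i) at h3
  rw [rank_fib_d, rank_fib_d] at h3
  have h5 := h3.trans h4
  omega

theorem isLocallyConstant_eulerChar [∀ x : X, DCoh.HasLpull (X.fromSpecResidueField x)] {E : DCoh.D X}
    (hE : ∀ x : X, ∃ V : X.Opens, x ∈ V ∧ ∀ F : CochainComplex X.Modules ℤ, Nonempty (DCoh.toD X F ≅ E) →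
        ∃ (P : CochainComplex (V : Scheme.{u}).Modules ℤ) (a b : ℤ), DCoh.VanishesOutside P a b ∧
          (∀ i : ℤ, ∃ n : ℕ, Nonempty (P.X i ≅ FlatMod.freeMod (V : Scheme.{u}) n)) ∧
          Nonempty (DerivedCategory.Q.obj ((DCoh.restrictCx V).obj F) ≅ DerivedCategory.Q.obj P)) :
    IsLocallyConstant fun x : X => PerfD.eulerChar E x := by
  refine (IsLocallyConstant.iff_exists_open _).2 fun x => ?_
  obtain ⟨V, hxV, hV⟩ := hE x
  obtain ⟨F, hF, ⟨e⟩⟩ := exists_kflat_rep E
  obtain ⟨P, a, b, hab, hfree, ⟨q⟩⟩ := hV F ⟨e⟩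
  choose n hn using hfree
  have hP : DCoh.IsStrictlyPerfect P := ⟨⟨a, b, hab⟩, fun i =>
    DCoh.isFinLocFree_of_iso (hn i).some.symm (isFinLocFree_freeMod _ _)⟩
  suffices h : ∀ y, y ∈ V → PerfD.eulerChar E y = ∑ i ∈ Finset.Icc a b, (i.negOnePow : ℤ) * (n i : ℤ) from
    ⟨V, V.2, hxV, fun y hy => (h y hy).trans (h x hxV).symm⟩
  intro y hy
  have := subsingleton_residue y
  let t : (Spec (X.residueField y) : Scheme.{u}) := IsLocalRing.closedPoint (X.residueField y)
  let g := ptLift V.ι y ⟨⟨y, hy⟩, rfl⟩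
  have hK := isField_residue y t
  have : ∀ i, Module.Finite ((Spec (X.residueField y)).presheaf.stalk t) ((fibCx g t P).X i) :=
    fun i => finite_fib_free g t (hn i).some
  refine ((finsum_congr fun i => ?_).trans (ModFibre.finsum_homology hK (fibCx g t P) a b
    fun i hi => (fib g t).map_isZero (hab i hi))).trans (Finset.sum_congr rfl fun i _ => ?_)
  · rw [betti_eq E hF e V.ι hP q.inv (DerCat.good_of_isIso _ (i - 1)) y ⟨⟨y, hy⟩, rfl⟩ t (by omega : i - 1 < i)]
  · exact congrArg (fun k : ℕ => (i.negOnePow : ℤ) * (k : ℤ))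
      ((ModFibre.finrank_eq_of_iso ((fib g t).mapIso (hn i).some)).trans (fibDim_free g t (n i) hK))

theorem isOpen_betti_lt [∀ x : X, DCoh.HasLpull (X.fromSpecResidueField x)] {E : DCoh.D X} {i : ℤ}
    (hE : DCoh.IsPseudoCoherentD (i - 1) E) (N : ℕ) : IsOpen {x : X | PerfD.betti E x i < N} := by
  rw [isOpen_iff_forall_mem_open]
  intro x hx
  obtain ⟨F, hF, ⟨e⟩⟩ := exists_kflat_rep E
  obtain ⟨U₁, j₁, hj₁, ⟨y, hy⟩, hA⟩ := isPseudoCoherentD_iff.1 hE x
  obtain ⟨P₁, α₁, hP₁, hα₁⟩ := hA.of_iso ((resD j₁).mapIso e.symm ≪≫ (resDFac j₁).app F)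
  obtain ⟨A, n, hyA, ⟨a⟩⟩ := hP₁.2 i y
  obtain ⟨B, n', hyB, ⟨b⟩⟩ := hP₁.2 (i + 1) y
  let W := A ⊓ B
  obtain ⟨a'⟩ := DCoh.exists_free_restrict_le (inf_le_left : W ≤ A) a
  obtain ⟨b'⟩ := DCoh.exists_free_restrict_le (inf_le_right : W ≤ B) b
  let j := W.ι ≫ j₁
  let P := (resCx W.ι).obj P₁
  let α : DerivedCategory.Q.obj P ⟶ DerivedCategory.Q.obj ((resCx j).obj F) :=
    (resDFac W.ι).inv.app P₁ ≫ (resD W.ι).map α₁ ≫ (resDFac W.ι).hom.app _ ≫
      DerivedCategory.Q.map ((resCxCompIso W.ι j₁).inv.app F)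
  have hα : DerCat.Good α (i - 1) :=
    (DerCat.good_of_isIso _ _).comp ((hα₁.map _).comp
      ((DerCat.good_of_isIso _ _).comp (DerCat.good_of_isIso _ _)))
  have hxj : x ∈ Set.range j := ⟨⟨y, hyA, hyB⟩, hy⟩
  let t₀ : (Spec (X.residueField x) : Scheme.{u}) := IsLocalRing.closedPoint (X.residueField x)
  let g₀ := ptLift j x hxj
  have hP := strictlyPerfect_resCx W.ι hP₁
  have : Epi (a'.inv ≫ cokernel.π (P.d (i - 1) i)) := @epi_comp _ _ _ _ _ a'.inv inferInstance (cokernel.π (P.d (i - 1) i)) coequalizer.π_epi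
  have : Epi (b'.inv ≫ cokernel.π (P.d i (i + 1))) := @epi_comp _ _ _ _ _ b'.inv inferInstance (cokernel.π (P.d i (i + 1))) coequalizer.π_epi
  obtain ⟨O₁, hO₁, hO₁'⟩ := exists_open_fibDim_le (a'.inv ≫ cokernel.π (P.d (i - 1) i)) g₀ t₀ (isField_residue x t₀)
    (stalkMap_ptLift_surjective j x hxj t₀)
  obtain ⟨O₂, hO₂, hO₂'⟩ := exists_open_fibDim_le (b'.inv ≫ cokernel.π (P.d i (i + 1))) g₀ t₀ (isField_residue x t₀)
    (stalkMap_ptLift_surjective j x hxj t₀)
  refine ⟨(j ''ᵁ (O₁ ⊓ O₂) : X.Opens), fun z hz => ?_, (j ''ᵁ (O₁ ⊓ O₂)).2, ⟨g₀ t₀, ⟨hO₁, hO₂⟩, ptLift_apply j x hxj t₀⟩⟩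
  obtain ⟨w, ⟨hw₁, hw₂⟩, rfl⟩ := hz
  let t : (Spec (X.residueField (j w)) : Scheme.{u}) := IsLocalRing.closedPoint (X.residueField (j w))
  let g := ptLift j (j w) ⟨w, rfl⟩
  have hgt : g t = w := j.isOpenEmbedding.injective (ptLift_apply j (j w) ⟨w, rfl⟩ t)
  have e₁ := betti_formula g t (isField_residue (j w) t) P i a' b'
  have e₀ := betti_formula g₀ t₀ (isField_residue x t₀) P i a' b'
  have hb := betti_eq E hF e j hP α hα (j w) ⟨w, rfl⟩ t (by omega : i - 1 < i)
  have hb₀ := betti_eq E hF e j hP α hα x hxj t₀ (by omega : i - 1 < i)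
  have l₁ := hO₁' _ g t (isField_residue (j w) t) (by rw [hgt]; exact hw₁)
  have l₂ := hO₂' _ g t (isField_residue (j w) t) (by rw [hgt]; exact hw₂)
  change PerfD.betti E (j w) i < N
  change PerfD.betti E x i < N at hx
  have k₁ := (congrArg (· + n') hb).trans e₁
  have k₀ := (congrArg (· + n') hb₀).trans e₀
  omega

end GrothLib.OX
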