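import Groth.Agent.Lib.OX.Resolution
import Mathlib.Algebra.Homology.BifunctorFlip

/-! # Symmetry of the tensor product of complexes, and acyclic K-flat complexes -/

set_option autoImplicit false
set_option maxHeartbeats 800000
universe u

open CategoryTheory CategoryTheory.Limits AlgebraicGeometry HomologicalComplex

namespace GrothLib.OX

variable {X : Scheme.{u}}

/-- The bicomplexes of the flipped and of the plain tensor product agree. -/
noncomputable def bicxBraiding (L K : CochainComplex X.Modules ℤ) :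
    (((DCoh.tensorBi (X := X)).flip.mapBifunctorHomologicalComplex (ComplexShape.up ℤ) (ComplexShape.up ℤ)).obj L).obj K ≅
      (((DCoh.tensorBi (X := X)).mapBifunctorHomologicalComplex (ComplexShape.up ℤ) (ComplexShape.up ℤ)).obj L).obj K :=
  HomologicalComplex.Hom.isoOfComponents
    (fun i => HomologicalComplex.Hom.isoOfComponents
      (fun j => (tensorBraiding.app (L.X i)).app (K.X j))
      (fun j j' _ => ((tensorBraiding (X := X)).hom.app (L.X i)).naturality (K.d j j') |>.symm))
    (fun i i' _ => HomologicalComplex.hom_ext _ _ fun j =>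
      (NatTrans.congr_app ((tensorBraiding (X := X)).hom.naturality (L.d i i')) (K.X j)).symm)

/-- The tensor product of complexes is symmetric. -/
noncomputable def tensorCxSymm (K L : CochainComplex X.Modules ℤ) :
    ((DCoh.tensorCx (X := X)).obj L).obj K ≅ ((DCoh.tensorCx (X := X)).obj K).obj L :=
  (HomologicalComplex₂.total.mapIso (bicxBraiding L K) (ComplexShape.up ℤ)).symm ≪≫
    HomologicalComplex.mapBifunctorFlipIso K L (DCoh.tensorBi (X := X)) (ComplexShape.up ℤ)

/-- An acyclic K-flat complex is killed by every tensor product. -/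
theorem acyclic_tensor_of_acyclic_isKFlat {C : CochainComplex X.Modules ℤ} (hC : C.Acyclic)
    (hK : DCoh.IsKFlat C) (F : CochainComplex X.Modules ℤ) :
    (((DCoh.tensorCx (X := X)).obj F).obj C).Acyclic := by
  obtain ⟨M, q, hM, -, hq, -⟩ := exists_kflat_resolution F
  have h₁ : (((DCoh.tensorCx (X := X)).obj C).obj (CochainComplex.mappingCone q)).Acyclic :=
    DerCat.acyclic_of_iso (tensorCxSymm C _)
      ((isKFlat_iff C).1 hK _ ((DerCat.quasiIso_iff_acyclic_mappingCone q).1 hq))
  have h₂ : (((DCoh.tensorCx (X := X)).obj C).obj (M⟦(1 : ℤ)⟧)).Acyclic :=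
    (isKFlat_iff _).1 (isKFlat_shift hM 1) C hC
  exact DerCat.acyclic_of_iso (tensorCxSymm C F).symm
    (DerCat.acyclic_X₁ (tensorCx_shortExact_of_splitting (coneSplitting q) C) h₁ h₂)

end GrothLib.OX

namespace GrothLib.DerCat

variable {A : Type*} [Category A] [Abelian A] {S : ShortComplex (CochainComplex A ℤ)} (hS : S.ShortExact)

include hS

/-- With acyclic quotient, the inclusion is a quasi-isomorphism. -/
theorem quasiIso_f_of_acyclic (h : S.X₃.Acyclic) : QuasiIso S.f := by
  rw [acyclic_iff] at h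
  refine (quasiIso_iff _).2 fun i => (quasiIsoAt_iff_isIso_homologyMap _ i).2 ?_
  have : Mono (homologyMap S.f i) :=
    (hS.homology_exact₁ (i - 1) i (show i - 1 + 1 = i by omega)).mono_g ((h (i - 1)).eq_of_src _ _)
  have : Epi (homologyMap S.f i) := (hS.homology_exact₂ i).epi_f ((h i).eq_of_tgt _ _)
  exact isIso_of_mono_of_epi _

/-- With acyclic kernel, the projection is a quasi-isomorphism. -/
theorem quasiIso_g_of_acyclic (h : S.X₁.Acyclic) : QuasiIso S.g := by
  rw [acyclic_iff] at h
  refine (quasiIso_iff _).2 fun i => (quasiIsoAt_iff_isIso_homologyMap _ i).2 ?_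
  have : Mono (homologyMap S.g i) := (hS.homology_exact₂ i).mono_g ((h i).eq_of_src _ _)
  have : Epi (homologyMap S.g i) := (hS.homology_exact₃ i (i + 1) rfl).epi_f ((h (i + 1)).eq_of_tgt _ _)
  exact isIso_of_mono_of_epi _

/-- Conversely. -/
theorem acyclic_X₃_of_quasiIso [QuasiIso S.f] : S.X₃.Acyclic := by
  refine (acyclic_iff _).2 fun i => (hS.homology_exact₃ i (i + 1) rfl).isZero_of_both_zeros ?_ ?_
  · have h := (S.map (homologyFunctor A (ComplexShape.up ℤ) i)).zero
    exact (cancel_epi (homologyMap S.f i)).1 (h.trans comp_zero.symm)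
  · exact (cancel_mono (homologyMap S.f (i + 1))).1 ((hS.δ_comp i (i + 1) rfl).trans zero_comp.symm)

end GrothLib.DerCat

namespace GrothLib.OX

variable {X : Scheme.{u}}

/-- Tensoring a quasi-isomorphism of K-flat complexes gives a quasi-isomorphism. -/
theorem quasiIso_tensor_map {P Q : CochainComplex X.Modules ℤ} (α : P ⟶ Q) [QuasiIso α] (hP : DCoh.IsKFlat P)
    (hQ : DCoh.IsKFlat Q) (F : CochainComplex X.Modules ℤ) :
    QuasiIso (((DCoh.tensorCx (X := X)).obj F).map α) := by
  have hC : (CochainComplex.mappingCone (𝟙 P)).Acyclic :=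
    (DerCat.quasiIso_iff_acyclic_mappingCone (𝟙 P)).1 inferInstance
  have hCK : DCoh.IsKFlat (CochainComplex.mappingCone (𝟙 P)) := isKFlat_mappingCone _ hP hP
  let j : P ⟶ Q ⊞ CochainComplex.mappingCone (𝟙 P) := biprod.lift α (CochainComplex.mappingCone.inr (𝟙 P))
  let σ : (ShortComplex.mk (biprod.inr : CochainComplex.mappingCone (𝟙 P) ⟶ Q ⊞ _) biprod.fst
      biprod.inr_fst).Splitting :=
    { r := biprod.snd, s := biprod.inl, f_r := biprod.inr_snd, s_g := biprod.inl_fst
      id := (add_comm _ _).trans biprod.total }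
  have hfst : QuasiIso (biprod.fst : Q ⊞ CochainComplex.mappingCone (𝟙 P) ⟶ Q) :=
    DerCat.quasiIso_g_of_acyclic σ.shortExact hC
  have hj : QuasiIso j :=
    have : QuasiIso (j ≫ biprod.fst) := by rw [biprod.lift_fst]; infer_instance
    quasiIso_of_comp_right j biprod.fst
  have hr : ∀ n, j.f n ≫ (biprod.snd : Q ⊞ CochainComplex.mappingCone (𝟙 P) ⟶ _).f n ≫
      (CochainComplex.mappingCone.snd (𝟙 P)).v n n (add_zero n) = 𝟙 (P.X n) := fun n => by
    rw [← Category.assoc, ← HomologicalComplex.comp_f, biprod.lift_snd, CochainComplex.mappingCone.inr_f_snd_v]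
  have : Mono j :=
    HomologicalComplex.mono_of_mono_f j fun n => (SplitMono.mk _ (hr n)).mono
  let S : ShortComplex (CochainComplex X.Modules ℤ) := ShortComplex.mk j (cokernel.π j) (cokernel.condition j)
  have hS : S.ShortExact := { exact := ShortComplex.exact_of_g_is_cokernel _ (cokernelIsCokernel j) }
  have hsp : ∀ n, (S.map (HomologicalComplex.eval X.Modules (ComplexShape.up ℤ) n)).Splitting := fun n =>
    have := (hS.map_of_exact (HomologicalComplex.eval X.Modules (ComplexShape.up ℤ) n)).epi_g
    ShortComplex.Splitting.ofExactOfRetraction _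
      (hS.map_of_exact (HomologicalComplex.eval X.Modules (ComplexShape.up ℤ) n)).exact _ (hr n) this
  have hFS := tensorCx_shortExact_of_splitting hsp
  have hK₃ : DCoh.IsKFlat S.X₃ := isKFlat_X₃ hFS hP (isKFlat_biprod hQ hCK)
  have : QuasiIso S.f := hj
  have hA₃ := acyclic_tensor_of_acyclic_isKFlat (DerCat.acyclic_X₃_of_quasiIso hS) hK₃ F
  have hT₁ : QuasiIso (((DCoh.tensorCx (X := X)).obj F).map j) := DerCat.quasiIso_f_of_acyclic (hFS F) hA₃
  have hT₂ : QuasiIso (((DCoh.tensorCx (X := X)).obj F).map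
      (biprod.fst : Q ⊞ CochainComplex.mappingCone (𝟙 P) ⟶ Q)) :=
    DerCat.quasiIso_g_of_acyclic (σ.map ((DCoh.tensorCx (X := X)).obj F)).shortExact
      (acyclic_tensor_of_acyclic_isKFlat hC hCK F)
  rw [show α = j ≫ biprod.fst from (biprod.lift_fst _ _).symm, Functor.map_comp]
  exact quasiIso_comp _ _

end GrothLib.OX
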