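import Groth.Agent.Lib.OX.PullbackStalk
import Groth.Agent.Lib.OX.TotalMap
import Groth.Agent.Lib.OX.TensorSymm

/-! # Pullback of K-flat complexes -/

set_option autoImplicit false
set_option maxHeartbeats 400000
universe u

open CategoryTheory CategoryTheory.Limits AlgebraicGeometry HomologicalComplex

namespace GrothLib.OX

theorem acyclic_map {A B : Type*} [Category A] [Category B] [Abelian A] [Abelian B] (F : A ⥤ B)
    [F.PreservesZeroMorphisms] (h : ∀ S : ShortComplex A, S.Exact → (S.map F).Exact) (L : CochainComplex A ℤ)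
    (hL : L.Acyclic) : ((F.mapHomologicalComplex (ComplexShape.up ℤ)).obj L).Acyclic := fun i => h _ (hL i)

variable {X Y : Scheme.{u}}

instance preservesSmallCoproducts_stalkAb (x : X) (J : Type) :
    PreservesColimitsOfShape (Discrete J) (stalkAb x) :=
  have h₁ : PreservesColimitsOfSize.{u, u} (stalk x) := inferInstance
  have h₂ : PreservesColimitsOfSize.{u, u} (forget₂ (ModuleCat.{u} (X.presheaf.stalk x)) Ab.{u}) := inferInstance
  have : PreservesColimitsOfSize.{0, 0} (stalk x) := @preservesSmallestColimits_of_preservesColimits _ _ _ _ _ h₁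
  have : PreservesColimitsOfSize.{0, 0} (forget₂ (ModuleCat.{u} (X.presheaf.stalk x)) Ab.{u}) :=
    @preservesSmallestColimits_of_preservesColimits _ _ _ _ _ h₂
  comp_preservesColimitsOfShape _ _

/-- Acyclicity is detected on stalks. -/
theorem acyclic_iff_stalkAb (L : CochainComplex X.Modules ℤ) :
    L.Acyclic ↔ ∀ x : X, (((stalkAb x).mapHomologicalComplex (ComplexShape.up ℤ)).obj L).Acyclic := by
  simp only [HomologicalComplex.Acyclic, HomologicalComplex.exactAt_iff]
  refine ⟨fun h x i => (h i).map (stalkAb x), fun h i => (exact_iff _).2 fun x => ?_⟩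
  exact (ShortComplex.exact_iff_exact_map_forget₂ _).2 (h x i)

theorem skyEpi (y : Y) {N N' : ModuleCat.{u} (Y.presheaf.stalk y)} (g : N ⟶ N') [Epi g] : Epi ((sky y).map g) := by
  refine (epi_iff _).2 fun z => (ModuleCat.epi_iff_surjective _).2 fun e => ?_
  obtain ⟨U, hz, m, rfl⟩ := germ_exists (skyPreObj y N') e
  choose n hn using fun h : PLift (y ∈ U) => (ModuleCat.epi_iff_surjective g).1 inferInstance (m h)
  exact ⟨germ (skyPreObj y N) U hz n,
    (stalkPre_map_germ ((skyPre y).map g) U hz n).trans (congrArg (germ (skyPreObj y N') U hz) (funext hn))⟩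

instance sky_isRightAdjoint (y : Y) : (sky y).IsRightAdjoint := (stalkSkyAdj y).isRightAdjoint

attribute [local instance] preservesBinaryBiproducts_of_preservesBinaryProducts in
instance additive_sky (y : Y) : (sky y).Additive := Functor.additive_of_preservesBinaryBiproducts _

instance preservesFiniteColimits_sky (y : Y) : PreservesFiniteColimits (sky y) := by
  have : (sky y).PreservesEpimorphisms := ⟨fun g _ => skyEpi y g⟩
  have : PreservesFiniteLimits (sky y) := PreservesLimits.preservesFiniteLimits (sky y)
  have : (sky y).PreservesHomology := (sky y).preservesHomology_of_preservesEpis_and_kernels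
  exact (sky y).preservesFiniteColimits_of_preservesHomology

theorem exact_skyRes (f : X ⟶ Y) (x : X) {S : ShortComplex X.Modules} (hS : S.Exact) :
    (S.map (skyRes f x)).Exact :=
  have : (sky (f x)).PreservesEpimorphisms := ⟨fun g _ => skyEpi (f x) g⟩
  have : PreservesFiniteLimits (sky (f x)) := PreservesLimits.preservesFiniteLimits (sky (f x))
  have : (sky (f x)).PreservesHomology := (sky (f x)).preservesHomology_of_preservesEpis_and_kernels
  ((hS.map (stalk x)).map (ModuleCat.restrictScalars (f.stalkMap x).hom)).map (sky (f x))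

variable (f : X ⟶ Y)

/-- The stalk of a tensor product with a pullback, for complexes: the bicomplexes. -/
noncomputable def bicxPullIso (x : X) (L : CochainComplex X.Modules ℤ) (K : CochainComplex Y.Modules ℤ) :
    TotalMap.mapBicx (stalkAb x)
      ((((DCoh.tensorBi (X := X)).mapBifunctorHomologicalComplex (ComplexShape.up ℤ) (ComplexShape.up ℤ)).obj L).obj
        (((Scheme.Modules.pullback f).mapHomologicalComplex (ComplexShape.up ℤ)).obj K)) ≅
    TotalMap.mapBicx (stalkAb (f x))
      ((((DCoh.tensorBi (X := Y)).mapBifunctorHomologicalComplex (ComplexShape.up ℤ) (ComplexShape.up ℤ)).obj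
        (((skyRes f x).mapHomologicalComplex (ComplexShape.up ℤ)).obj L)).obj K) :=
  HomologicalComplex.Hom.isoOfComponents
    (fun i => HomologicalComplex.Hom.isoOfComponents (fun j => tensorPullStalkIso f x (L.X i) (K.X j))
      (fun j j' _ => (tensorPullStalkIso_natural₂ f x (L.X i) (K.d j j')).symm))
    (fun i i' _ => HomologicalComplex.hom_ext _ _ fun j =>
      (tensorPullStalkIso_natural₁ f x (L.d i i') (K.X j)).symm)

/-- The tensor products, before passing to stalks. -/
noncomputable abbrev srcBicx (L : CochainComplex X.Modules ℤ) (K : CochainComplex Y.Modules ℤ) :=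
  (((DCoh.tensorBi (X := X)).mapBifunctorHomologicalComplex (ComplexShape.up ℤ) (ComplexShape.up ℤ)).obj L).obj
    (((Scheme.Modules.pullback f).mapHomologicalComplex (ComplexShape.up ℤ)).obj K)

/-- The tensor products with the skyscrapers, before passing to stalks. -/
noncomputable abbrev tgtBicx (x : X) (L : CochainComplex X.Modules ℤ) (K : CochainComplex Y.Modules ℤ) :=
  (((DCoh.tensorBi (X := Y)).mapBifunctorHomologicalComplex (ComplexShape.up ℤ) (ComplexShape.up ℤ)).obj
    (((skyRes f x).mapHomologicalComplex (ComplexShape.up ℤ)).obj L)).obj K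

/-- The stalk of a tensor product with a pullback, for complexes. -/
noncomputable def stalkTotalIso (x : X) (L : CochainComplex X.Modules ℤ) (K : CochainComplex Y.Modules ℤ) :
    ((stalkAb (f x)).mapHomologicalComplex (ComplexShape.up ℤ)).obj ((tgtBicx f x L K).total (ComplexShape.up ℤ)) ≅
      ((stalkAb x).mapHomologicalComplex (ComplexShape.up ℤ)).obj ((srcBicx f L K).total (ComplexShape.up ℤ)) :=
  (TotalMap.totalMapIso (stalkAb (f x)) (tgtBicx f x L K)).symm ≪≫
    (HomologicalComplex₂.total.mapIso (bicxPullIso f x L K) (ComplexShape.up ℤ)).symm ≪≫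
      TotalMap.totalMapIso (stalkAb x) (srcBicx f L K)

theorem tensorCx_obj_obj_eq {Z : Scheme.{u}} (L M : CochainComplex Z.Modules ℤ) :
    ((DCoh.tensorCx (X := Z)).obj L).obj M =
      HomologicalComplex.mapBifunctor L M (DCoh.tensorBi (X := Z)) (ComplexShape.up ℤ) := rfl

/-- Pullback preserves K-flatness. -/
theorem isKFlat_pullback {K : CochainComplex Y.Modules ℤ} (hK : DCoh.IsKFlat K) :
    DCoh.IsKFlat (((Scheme.Modules.pullback f).mapHomologicalComplex (ComplexShape.up ℤ)).obj K) := by
  refine (isKFlat_iff _).2 fun L hL => (acyclic_iff_stalkAb _).2 fun x => ?_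
  have hL' : (((skyRes f x).mapHomologicalComplex (ComplexShape.up ℤ)).obj L).Acyclic :=
    acyclic_map (skyRes f x) (fun _ hS => exact_skyRes f x hS) L hL
  have h0 := (isKFlat_iff K).1 hK _ hL'
  rw [tensorCx_obj_obj_eq] at h0 ⊢
  exact DerCat.acyclic_of_iso (stalkTotalIso f x L K) ((acyclic_iff_stalkAb _).1 h0 (f x))

end GrothLib.OX
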