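import Groth.Agent.Lib.OX.AffineApps
import Groth.Agent.Lib.OX.ExtZeroD

/-! # Gluing two objects along an open; extension by zero and supports -/

set_option autoImplicit false
set_option maxHeartbeats 800000
universe u

open CategoryTheory CategoryTheory.Limits AlgebraicGeometry Opposite TopologicalSpace Pretriangulated

attribute [local instance] HasDerivedCategory.standard

namespace GrothLib.OX

/-- The identity, on derived categories. -/
noncomputable def mapDerivedIdIso {C : Type*} [Category C] [Abelian C] [HasDerivedCategory C] :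
    (𝟭 C).mapDerivedCategory ≅ 𝟭 (DerivedCategory C) :=
  letI : Localization.Lifting DerivedCategory.Q (HomologicalComplex.quasiIso C (ComplexShape.up ℤ))
      ((𝟭 C).mapHomologicalComplex (ComplexShape.up ℤ) ⋙ DerivedCategory.Q) (𝟭 (DerivedCategory C)) :=
    ⟨Functor.rightUnitor _ ≪≫ (Functor.leftUnitor _).symm ≪≫
      Functor.isoWhiskerRight (Functor.mapHomologicalComplexIdIso C (ComplexShape.up ℤ)).symm _⟩
  Localization.liftNatIso DerivedCategory.Q (HomologicalComplex.quasiIso C (ComplexShape.up ℤ))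
    ((𝟭 C).mapHomologicalComplex (ComplexShape.up ℤ) ⋙ DerivedCategory.Q)
    ((𝟭 C).mapHomologicalComplex (ComplexShape.up ℤ) ⋙ DerivedCategory.Q) _ _ (Iso.refl _)

section Biprod

variable {D : Type*} [Category D] [Preadditive D] [HasZeroObject D] [HasShift D ℤ]
  [∀ n : ℤ, (shiftFunctor D n).Additive] [Pretriangulated D]

theorem isIso_inl_comp_of_isIso {W A B C : D} [HasBinaryBiproduct A B] {a : W ⟶ A} {b : W ⟶ B}
    {m₂ : A ⊞ B ⟶ C} {m₃ : C ⟶ W⟦(1 : ℤ)⟧} (hT : Triangle.mk (biprod.lift a b) m₂ m₃ ∈ distTriang D)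
    (hb : IsIso b) : IsIso (biprod.inl ≫ m₂) := by
  have hm₃ : m₃ = 0 := by
    have h : m₃ ≫ (biprod.lift a b)⟦(1 : ℤ)⟧' = 0 := comp_distTriang_mor_zero₃₁ _ hT
    have h' := congrArg (· ≫ (biprod.snd ≫ inv b)⟦(1 : ℤ)⟧') h
    simp only [Category.assoc, zero_comp, ← Functor.map_comp] at h'
    rw [biprod.lift_snd_assoc, IsIso.hom_inv_id, CategoryTheory.Functor.map_id, Category.comp_id] at h'
    exact h'
  let p : A ⊞ B ⟶ A := biprod.desc (𝟙 A) (-(inv b ≫ a))
  obtain ⟨ρ, hρ⟩ : ∃ ρ : C ⟶ A, p = m₂ ≫ ρ := Triangle.yoneda_exact₂ _ hT p (by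
    change biprod.lift a b ≫ p = 0
    rw [biprod.lift_desc, Category.comp_id, Preadditive.comp_neg, IsIso.hom_inv_id_assoc, add_neg_cancel])
  have h1 : biprod.inl ≫ m₂ ≫ ρ = 𝟙 A := by rw [← hρ, biprod.inl_desc]
  have h2 : p ≫ biprod.inl ≫ m₂ = m₂ := by
    have h12 : biprod.lift a b ≫ m₂ = 0 := comp_distTriang_mor_zero₁₂ _ hT
    rw [biprod.lift_eq, Preadditive.add_comp, Category.assoc, Category.assoc, ← eq_neg_iff_add_eq_zero] at h12
    refine biprod.hom_ext' _ _ (by simp [p]) ?_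
    simp only [p, biprod.inr_desc_assoc, Preadditive.neg_comp, Category.assoc, h12, Preadditive.comp_neg,
      neg_neg, IsIso.inv_hom_id_assoc]
  have hepi : Epi m₂ := (Triangle.mk (biprod.lift a b) m₂ m₃).epi₂ hT hm₃
  refine ⟨ρ, by rw [Category.assoc, h1], ?_⟩
  rw [← cancel_epi m₂, ← Category.assoc, ← hρ, h2, Category.comp_id]

theorem exists_iso_of_triangle_isIso_snd {T : Triangle D} (hT : T ∈ distTriang D) {A B : D}
    [HasBinaryBiproduct A B] (e : T.obj₂ ≅ A ⊞ B) (h : IsIso (T.mor₁ ≫ e.hom ≫ biprod.snd)) :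
    Nonempty (A ≅ T.obj₃) := by
  let a := T.mor₁ ≫ e.hom ≫ biprod.fst
  let b := T.mor₁ ≫ e.hom ≫ biprod.snd
  have hT' : Triangle.mk (biprod.lift a b) (e.inv ≫ T.mor₂) T.mor₃ ∈ distTriang D :=
    isomorphic_distinguished _ hT _ (Triangle.isoMk _ _ (Iso.refl _) e.symm (Iso.refl _)
      (by change biprod.lift a b ≫ e.inv = 𝟙 _ ≫ T.mor₁
          rw [Category.id_comp, Iso.comp_inv_eq]; apply biprod.hom_ext <;> simp [a, b])
      (Category.comp_id _) (by change T.mor₃ ≫ (shiftFunctor D (1 : ℤ)).map (𝟙 T.obj₁) = 𝟙 T.obj₃ ≫ T.mor₃; simp))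
  have := isIso_inl_comp_of_isIso hT' h
  exact ⟨asIso (biprod.inl ≫ e.inv ≫ T.mor₂)⟩

end Biprod

variable {X : Scheme.{u}}

/-- Cohomology of `j_!`. -/
noncomputable def HDExtZeroIso {V : Scheme.{u}} (j : V ⟶ X) [IsOpenImmersion j] (G : DCoh.D V) (i : ℤ) :
    DCoh.HD ((CxOX.extZeroD j).obj G) i ≅ (CxOX.extZero j).obj (DCoh.HD G i) :=
  (DerTrunc.homologyMapIso (CxOX.extZero j) i).app G

theorem support_HD_extZeroD {V : Scheme.{u}} (j : V ⟶ X) [IsOpenImmersion j] (G : DCoh.D V) (i : ℤ) :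
    CohB1.support (DCoh.HD ((CxOX.extZeroD j).obj G) i) ⊆ Set.range j := fun x hx => by
  by_contra h
  exact hx (ModuleCat.subsingleton_of_isZero
    ((isZero_stalk_extZero j (DCoh.HD G i) x h).of_iso ((stalk x).mapIso (HDExtZeroIso j G i))))

/-- `j_!` followed by restriction. -/
noncomputable def resDExtZeroIso {V : Scheme.{u}} (j : V ⟶ X) [IsOpenImmersion j] :
    𝟭 (DCoh.D V) ≅ CxOX.extZeroD j ⋙ resD j :=
  have : IsIso (extZeroDAdj j).unit := by
    have e : CxOX.extZeroD j ⋙ resD j ≅ 𝟭 (DCoh.D V) :=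
      DerCat.mapDerivedCompIso (CxOX.extZero j) (Scheme.Modules.restrictFunctor j) (𝟭 V.Modules)
        (asIso (CxOX.extZeroAdj j).unit).symm ≪≫ mapDerivedIdIso
    exact (extZeroDAdj j).isIso_unit_of_iso e
  asIso (extZeroDAdj j).unit

theorem isIso_resD_of_transpose {V : Scheme.{u}} (j : V ⟶ X) [IsOpenImmersion j] {F : DCoh.D V} {Y : DCoh.D X}
    (φ : F ⟶ (resD j).obj Y) (hφ : IsIso φ) :
    IsIso ((resD j).map (((extZeroDAdj j).homEquiv F Y).symm φ)) := by
  have h : (resDExtZeroIso j).hom.app F ≫ (resD j).map (((extZeroDAdj j).homEquiv F Y).symm φ) = φ :=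
    ((extZeroDAdj j).homEquiv_unit _ _ _).symm.trans (((extZeroDAdj j).homEquiv F Y).apply_symm_apply φ)
  exact IsIso.of_isIso_fac_left h

theorem isZero_resD_of_le {V Y : Scheme.{u}} (j : V ⟶ X) (i : Y ⟶ X) [IsOpenImmersion j] [IsOpenImmersion i]
    (h : Set.range j ⊆ Set.range i) {K : DCoh.D X} (hK : IsZero ((resD i).obj K)) : IsZero ((resD j).obj K) :=
  (isZero_resD_iff_support j K).2 fun q =>
    ((isZero_resD_iff_support i K).1 hK q).trans (Set.compl_subset_compl.2 h)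

variable {U V : X.Opens}

/-- Comparisons from `j_!` that are isomorphisms on the overlap are isomorphisms on the other open. -/
theorem isIso_resD_other {W : Scheme.{u}} (iW : W ⟶ X) [IsOpenImmersion iW] (hW : Set.range iW = (U : Set X) ∩ V)
    {F : DCoh.D W} {G : DCoh.D (V : Scheme.{u})} (b : (CxOX.extZeroD iW).obj F ⟶ (CxOX.extZeroD V.ι).obj G)
    (hb : IsIso ((resD iW).map b)) : IsIso ((resD U.ι).map b) := by
  obtain ⟨C, p, d, hT⟩ := distinguished_cocone_triangle b
  have hCW : IsZero ((resD iW).obj C) := (Triangle.isZero₃_iff_isIso₁ _ ((resD iW).map_distinguished _ hT)).2 hb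
  refine (Triangle.isZero₃_iff_isIso₁ _ ((resD U.ι).map_distinguished _ hT)).1
    ((isZero_resD_iff_support U.ι C).2 fun q x hx hxU => ?_)
  rw [Scheme.Opens.range_ι] at hxU
  by_cases hxV : x ∈ (V : Set X)
  · exact (isZero_resD_iff_support iW C).1 hCW q hx (hW ▸ ⟨hxU, hxV⟩)
  -- off `V` both terms vanish
  let O : X.Opens := ⊤
  have hb1 : ∀ q, x ∉ CohB1.support (DCoh.HD ((CxOX.extZeroD iW).obj F) q) := fun q h =>
    hxV ((hW ▸ support_HD_extZeroD iW F q h : x ∈ (U : Set X) ∩ V)).2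
  have hb2 : ∀ q, x ∉ CohB1.support (DCoh.HD ((CxOX.extZeroD V.ι).obj G) q) := fun q h =>
    hxV (Scheme.Opens.range_ι V ▸ support_HD_extZeroD V.ι G q h)
  let H := DerivedCategory.homologyFunctor X.Modules 0 ⋙ stalk x
  have hex := (DerivedCategory.HomologySequence.exact₃ (Triangle.mk b p d) hT q (q + 1) rfl).map (stalk x)
  have h2 : IsZero ((stalk x).obj (DCoh.HD ((CxOX.extZeroD V.ι).obj G) q)) := by
    have := not_not.1 (hb2 q)
    exact @ModuleCat.isZero_of_subsingleton _ _ _ this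
  have h3 : IsZero ((stalk x).obj (DCoh.HD ((CxOX.extZeroD iW).obj F) (q + 1))) := by
    have := not_not.1 (hb1 (q + 1))
    exact @ModuleCat.isZero_of_subsingleton _ _ _ this
  exact hx (ModuleCat.subsingleton_of_isZero (hex.isZero_of_both_zeros (h2.eq_of_src _ _) (h3.eq_of_tgt _ _)))

/-- Two objects with a common restriction to the overlap glue. -/
theorem exists_glue {A : DCoh.D (U : Scheme.{u})} {B : DCoh.D (V : Scheme.{u})} {W : Scheme.{u}}
    (kU : W ⟶ U) (kV : W ⟶ V) [IsOpenImmersion kU] [IsOpenImmersion kV] (hk : kU ≫ U.ι = kV ≫ V.ι)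
    (hW : Set.range (kU ≫ U.ι) = (U : Set X) ∩ V) (φ : (resD kU).obj A ≅ (resD kV).obj B) :
    ∃ K : DCoh.D X, Nonempty ((resD U.ι).obj K ≅ A) ∧ Nonempty ((resD V.ι).obj K ≅ B) := by
  let iW := kU ≫ U.ι
  let F := (resD kU).obj A
  let JU := (CxOX.extZeroD U.ι).obj A
  let JV := (CxOX.extZeroD V.ι).obj B
  let eU : F ≅ (resD iW).obj JU := (resD kU).mapIso ((resDExtZeroIso U.ι).app A) ≪≫ (resDCompIso kU U.ι).app JU
  have hcongr : (resD (kV ≫ V.ι)).obj JV ≅ (resD iW).obj JV := (nonempty_resD_congr hk.symm JV).some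
  let eV : F ≅ (resD iW).obj JV :=
    φ ≪≫ (resD kV).mapIso ((resDExtZeroIso V.ι).app B) ≪≫ (resDCompIso kV V.ι).app JV ≪≫ hcongr
  let a := ((extZeroDAdj iW).homEquiv F JU).symm eU.hom
  let b := ((extZeroDAdj iW).homEquiv F JV).symm eV.hom
  obtain ⟨K, m₂, m₃, hT⟩ := distinguished_cocone_triangle (biprod.lift a b)
  refine ⟨K, ?_, ?_⟩
  · have hT' := (resD U.ι).map_distinguished _ hT
    have := preservesBinaryBiproducts_of_preservesBiproducts (resD U.ι)
    let e := (resD U.ι).mapBiprod JU JV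
    have hiso : IsIso ((resD U.ι).map b) :=
      isIso_resD_other iW hW b (isIso_resD_of_transpose iW eV.hom inferInstance)
    obtain ⟨g⟩ := exists_iso_of_triangle_isIso_snd hT' e (by
      change IsIso ((resD U.ι).map (biprod.lift a b) ≫ e.hom ≫ biprod.snd)
      rw [Functor.mapBiprod_hom, biprod.lift_snd, ← Functor.map_comp, biprod.lift_snd]
      exact hiso)
    exact ⟨g.symm ≪≫ ((resDExtZeroIso U.ι).app A).symm⟩
  · have hT' := (resD V.ι).map_distinguished _ hT
    have := preservesBinaryBiproducts_of_preservesBiproducts (resD V.ι)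
    let e := (resD V.ι).mapBiprod JU JV ≪≫ biprod.braiding _ _
    have hiso : IsIso ((resD V.ι).map a) :=
      isIso_resD_other iW (hW.trans (Set.inter_comm _ _)) a (isIso_resD_of_transpose iW eU.hom inferInstance)
    obtain ⟨g⟩ := exists_iso_of_triangle_isIso_snd hT' e (by
      change IsIso ((resD V.ι).map (biprod.lift a b) ≫ e.hom ≫ biprod.snd)
      simp only [e, Iso.trans_hom, Category.assoc, biprod.braiding_hom, biprod.lift_snd]
      rw [Functor.mapBiprod_hom, biprod.lift_fst, ← Functor.map_comp, biprod.lift_fst]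
      exact hiso)
    exact ⟨g.symm ≪≫ ((resDExtZeroIso V.ι).app B).symm⟩

end GrothLib.OX
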