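import Groth.Agent.Lib.OX.LiftSupport
import Groth.Agent.Lib.OX.GeneratorBound
import Groth.Agent.Lib.DCxRing.KoszulCone
import Groth.Prelude.Def_KLin

/-!
# Scalars act torsion-wise on maps from perfect objects to objects supported on their zero locus
-/

set_option autoImplicit false
set_option maxHeartbeats 1000000
universe u

open CategoryTheory CategoryTheory.Limits AlgebraicGeometry Opposite TopologicalSpace Pretriangulated

attribute [local instance] HasDerivedCategory.standard

namespace GrothLib.LinAdj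

universe t t' w w' v v' u₁ u₂

variable {R : Type t} [Ring R] {R' : Type t'} [Ring R'] {C : Type u₁} [Category.{v} C] {D : Type u₂}
  [Category.{v'} D]

/-- A left adjoint carries the scalars that its right adjoint carries. -/
theorem left_map_smul [Preadditive C] [Preadditive D] [Linear R' C] [Linear R D] {F : C ⥤ D} {G : D ⥤ C}
    (adj : F ⊣ G) (a : R) (b : R') (hG : ∀ {X Y : D} (g : X ⟶ Y), G.map (a • g) = b • G.map g)
    {M N : C} (χ : M ⟶ N) : F.map (b • χ) = a • F.map χ := by
  apply (adj.homEquiv _ _).injective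
  rw [adj.homEquiv_unit, adj.homEquiv_unit, hG, adj.unit_naturality, Linear.comp_smul, adj.unit_naturality,
    Linear.smul_comp]

theorem linear_of_rightAdjoint [Preadditive C] [Preadditive D] [Linear R C] [Linear R D] {F : C ⥤ D} {G : D ⥤ C}
    (adj : F ⊣ G) [G.Additive] [F.Additive] [G.Linear R] : F.Linear R where
  map_smul χ r := left_map_smul adj r r (fun g => G.map_smul r g) χ

/-- Derived functors carry scalars. -/
theorem mapDerived_map_smul [Abelian C] [Abelian D] [HasDerivedCategory.{w} C] [HasDerivedCategory.{w'} D]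
    [Linear R' C] [Linear R D] (F : C ⥤ D) [F.Additive] [PreservesFiniteLimits F] [PreservesFiniteColimits F]
    (a : R) (b : R') (hF : ∀ {M N : C} (χ : M ⟶ N), F.map (b • χ) = a • F.map χ) {K L : DerivedCategory C}
    (χ : K ⟶ L) : F.mapDerivedCategory.map (b • χ) = a • F.mapDerivedCategory.map χ := by
  let Φ := F.mapDerivedCategory
  have key : ∀ P : CochainComplex C ℤ, Φ.map (b • 𝟙 (DerivedCategory.Q.obj P)) = a • 𝟙 _ := fun P => by
    rw [← DerivedCategory.Q.map_id, ← DerivedCategory.Q.map_smul,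
      ← cancel_mono (F.mapDerivedCategoryFactors.hom.app P)]
    refine (F.mapDerivedCategoryFactors.hom.naturality (b • 𝟙 P)).trans ?_
    change _ ≫ DerivedCategory.Q.map ((F.mapHomologicalComplex _).map (b • 𝟙 P)) = _
    rw [show (F.mapHomologicalComplex (ComplexShape.up ℤ)).map (b • 𝟙 P) =
        a • 𝟙 ((F.mapHomologicalComplex (ComplexShape.up ℤ)).obj P) from HomologicalComplex.hom_ext _ _ fun i => by
      change F.map (b • 𝟙 (P.X i)) = a • 𝟙 (F.obj (P.X i))
      rw [hF, CategoryTheory.Functor.map_id], Functor.map_smul, CategoryTheory.Functor.map_id, Linear.comp_smul,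
      Linear.smul_comp, Category.id_comp]
    exact congrArg (a • ·) (Category.comp_id _)
  let e := DerivedCategory.Q.objObjPreimageIso K
  have h : b • χ = e.inv ≫ (b • 𝟙 _) ≫ e.hom ≫ χ := by
    rw [Linear.smul_comp, Category.id_comp, Linear.comp_smul, e.inv_hom_id_assoc]
  rw [h, Functor.map_comp, Functor.map_comp, key, Linear.smul_comp, Category.id_comp, Linear.comp_smul,
    ← Functor.map_comp, e.inv_hom_id_assoc]

end GrothLib.LinAdj

namespace GrothLib.OX

section Over

variable (A : Type u) [CommRing A]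


/-- Restrictions along open immersions over the base are linear. -/
theorem linear_restrictFunctor {U X : Scheme.{u}} (j : U ⟶ X) [IsOpenImmersion j] [U.Over (Spec (CommRingCat.of A))] [X.Over (Spec (CommRingCat.of A))]
    [j.IsOver (Spec (CommRingCat.of A))] : (Scheme.Modules.restrictFunctor j).Linear A :=
  have : (Scheme.Modules.pushforward j).Additive :=
    (Scheme.Modules.restrictAdjunction j).right_adjoint_additive
  LinAdj.linear_of_rightAdjoint (Scheme.Modules.restrictAdjunction j)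

theorem resD_map_smul {U X : Scheme.{u}} (j : U ⟶ X) [IsOpenImmersion j] [U.Over (Spec (CommRingCat.of A))] [X.Over (Spec (CommRingCat.of A))] [j.IsOver (Spec (CommRingCat.of A))]
    (a : A) {K L : DCoh.D X} (φ : K ⟶ L) : (resD j).map (a • φ) = a • (resD j).map φ :=
  LinAdj.mapDerived_map_smul (Scheme.Modules.restrictFunctor j) a a
    (fun χ => by have := linear_restrictFunctor A j; exact Functor.map_smul _ a χ) φ

variable {A}

/-- `M ↦ M~` carries scalars. -/
theorem tilde_map_smul (B : CommRingCat.{u}) [(Spec B).Over (Spec (CommRingCat.of A))] (a : A) (b : B)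
    (h : Coh.toGlobal ((Spec B) ↘ (Spec (CommRingCat.of A))) a = (Scheme.ΓSpecIso B).inv b) {M N : ModuleCat.{u} B} (χ : M ⟶ N) :
    (tilde.functor B).map (b • χ) = a • (tilde.functor B).map χ :=
  LinAdj.left_map_smul (tilde.adjunction (R := B)) a b (fun {P Q} g => by
    refine ModuleCat.hom_ext (LinearMap.ext fun m => ?_)
    change (a • g).app ⊤ m = b • g.app ⊤ m
    refine (KLin.smul_app_apply a g ⊤ m).trans ?_
    exact congrArg (fun z => ((Spec B).presheaf.map (homOfLE (le_top : (⊤ : (Spec B).Opens) ≤ ⊤)).op z) • g.app ⊤ m) h) χ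

variable {X : Scheme.{u}} [X.Over (Spec (CommRingCat.of A))]

/-- The affine case. -/
theorem torsion_of_supported_affine [IsAffine X] (a : A) {E E' : DCoh.D X} (hE : DCoh.IsPerfect E)
    (hE' : DCoh.IsQCohD E') (hW : IsZero ((resD (X.basicOpen (Coh.toGlobal (X ↘ (Spec (CommRingCat.of A))) a)).ι).obj E'))
    (φ : E ⟶ E') : ∃ k : ℕ, a ^ k • φ = 0 := by
  let B := Γ(X, ⊤)
  let i := X.isoSpec.hom
  let b : B := Coh.toGlobal (X ↘ (Spec (CommRingCat.of A))) a
  letI : (Spec B).Over (Spec (CommRingCat.of A)) := ⟨inv i ≫ (X ↘ (Spec (CommRingCat.of A)))⟩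
  haveI : i.IsOver (Spec (CommRingCat.of A)) := ⟨IsIso.hom_inv_id_assoc i _⟩
  obtain ⟨M, hM, ⟨eM⟩⟩ := exists_perfect_module_iso i hE
  obtain ⟨N, ⟨eN⟩⟩ := exists_module_iso i hE'
  have := (tildeD_full_faithful_essImage (R := B)).1
  have := (tildeD_full_faithful_essImage (R := B)).2.1
  have hsurj : ∀ x, x ∈ Set.range i := fun x => ⟨(inv i) x, by rw [← Scheme.Hom.comp_apply, IsIso.inv_hom_id]; rfl⟩
  obtain ⟨χ, hχ⟩ : ∃ χ : M ⟶ N, (resD i).map ((DCoh.tildeD B).map χ) = eM.hom ≫ φ ≫ eN.inv := by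
    let adj := resDAdj i
    let Y := (DCoh.tildeD B).obj N
    have := isIso_unit_of_cover i ⊥ (fun x => Or.inl (hsurj x)) (E := Y)
      ((isZero_resD_iff_support _ Y).2 fun q x _ hx => by rw [Scheme.Opens.range_ι] at hx; exact hx)
    let ψ : (DCoh.tildeD B).obj M ⟶ Y :=
      adj.homEquiv _ _ (eM.hom ≫ φ ≫ eN.inv) ≫ inv (adj.unit.app Y)
    refine ⟨(DCoh.tildeD B).preimage ψ, ?_⟩
    rw [Functor.map_preimage]
    apply (adj.homEquiv _ _).injective
    rw [Adjunction.homEquiv_unit]
    refine (adj.unit.naturality ψ).symm.trans ?_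
    change ψ ≫ adj.unit.app Y = _
    simp only [ψ, Category.assoc, IsIso.inv_hom_id, Category.comp_id]
    rfl
  let W := X.basicOpen b
  have hN : DR.IsTorsion b N := isTorsion_of_isZero_AG (W.ι ≫ i)
    ((hW.of_iso ((resD W.ι).mapIso eN)).of_iso ((AGIso i W).app N).symm) (fun p hp => by
      obtain ⟨x, rfl⟩ := hsurj p
      have hx : x ∈ W := by
        have h1 := Scheme.toSpecΓ_preimage_basicOpen X b
        change x ∈ X.basicOpen b
        rw [← h1]
        exact hp
      exact ⟨⟨x, hx⟩, rfl⟩)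
  obtain ⟨k, hk⟩ := TriCat.torsion_of_iso ((shiftFunctorZero (Dual.D (B : Type u)) ℤ).app M)
    (DR.torsionHom_of_isPerfect hN hM 0) χ
  refine ⟨k, ?_⟩
  have h1 : Coh.toGlobal ((Spec B) ↘ (Spec (CommRingCat.of A))) (a ^ k) = (Scheme.ΓSpecIso B).inv (b ^ k) := by
    rw [map_pow, map_pow]
    congr 1
    change (Coh.toGlobal (inv i ≫ (X ↘ (Spec (CommRingCat.of A))))) a = _
    have h2 : (inv i).appTop = (Scheme.ΓSpecIso B).inv := by
      have : IsIso i.appTop := inferInstanceAs (IsIso (Scheme.Hom.app i ⊤))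
      rw [← cancel_mono i.appTop, ← Scheme.Hom.comp_appTop, IsIso.hom_inv_id]
      simp [i, B, Scheme.isoSpec, Scheme.toSpecΓ_appTop]
    rw [← h2]
    rfl
  have h3 : (DCoh.tildeD B).map (b ^ k • χ) = a ^ k • (DCoh.tildeD B).map χ :=
    LinAdj.mapDerived_map_smul (tilde.functor B) (a ^ k) (b ^ k) (fun χ => tilde_map_smul B _ _ h1 χ) χ
  rw [hk, Functor.map_zero] at h3
  have h4 := congrArg (resD i).map h3.symm
  rw [resD_map_smul A i, hχ, Functor.map_zero, ← Linear.comp_smul, ← Linear.smul_comp] at h4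
  have h5 := (cancel_epi eM.hom).1 (h4.trans comp_zero.symm)
  exact (cancel_mono eN.inv).1 (h5.trans zero_comp.symm)

variable [QuasiSeparatedSpace X]

/-- Induction on the number of affine pieces outside which the target vanishes. -/
theorem torsion_of_supported_cover (a : A) {E : DCoh.D X} (hE : DCoh.IsPerfect E) :
    ∀ (n : ℕ) (U₀ : X.Opens) (B : Fin n → X.Opens), (∀ k, IsAffineOpen (B k)) →
      (∀ x : X, x ∈ U₀ ∨ ∃ k, x ∈ B k) → ∀ {E' : DCoh.D X}, DCoh.IsQCohD E' → IsZero ((resD U₀.ι).obj E') →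
      IsZero ((resD (X.basicOpen (Coh.toGlobal (X ↘ (Spec (CommRingCat.of A))) a)).ι).obj E') →
      ∀ φ : E ⟶ E', ∃ k : ℕ, a ^ k • φ = 0
  | 0, U₀, _, _, hcov, E', _, hE'₀, _, φ =>
    ⟨0, (isZero_of_support_empty fun q => Set.eq_empty_iff_forall_notMem.2 fun x hx =>
      (isZero_resD_iff_support _ E').1 hE'₀ q hx (by
        rw [Scheme.Opens.range_ι]
        exact (hcov x).resolve_right fun ⟨k, _⟩ => k.elim0)).eq_of_tgt _ _⟩
  | n + 1, U₀, B, hB, hcov, E', hE', hE'₀, hW, φ => by
    let V := B 0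
    let W := X.basicOpen (Coh.toGlobal (X ↘ (Spec (CommRingCat.of A))) a)
    letI : (V : Scheme.{u}).Over (Spec (CommRingCat.of A)) := ⟨V.ι ≫ (X ↘ (Spec (CommRingCat.of A)))⟩
    haveI : V.ι.IsOver (Spec (CommRingCat.of A)) := ⟨rfl⟩
    have : IsAffine (V : Scheme.{u}) := hB 0
    have := quasiCompact_of_isCompact_range V.ι (by rw [Scheme.Opens.range_ι]; exact (hB 0).isCompact)
    have hVW : IsZero ((resD (V.ι ⁻¹ᵁ W).ι).obj ((resD V.ι).obj E')) :=
      (isZero_resD_comp _ _).2 (isZero_resD_of_le _ _ (by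
        rintro _ ⟨y, rfl⟩
        rw [Scheme.Opens.range_ι]
        exact y.2) hW)
    obtain ⟨k, hk⟩ := torsion_of_supported_affine (X := (V : Scheme.{u})) a (isPerfect_resD hE V.ι)
      (isQCohD_resD V.ι hE') (by
        have h1 : (V : Scheme.{u}).basicOpen (Coh.toGlobal ((V : Scheme.{u}) ↘ (Spec (CommRingCat.of A))) a) = V.ι ⁻¹ᵁ W := by
          rw [Scheme.preimage_basicOpen]
          rfl
        rw [h1]
        exact hVW) ((resD V.ι).map φ)
    obtain ⟨G, p, d, hT⟩ := distinguished_cocone_triangle₁ ((resDAdj V.ι).unit.app E')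
    have h0 : (a ^ k • φ) ≫ (resDAdj V.ι).unit.app E' = 0 := by
      refine ((resDAdj V.ι).unit.naturality (a ^ k • φ)).trans ?_
      change _ ≫ (RR V.ι).map ((resD V.ι).map (a ^ k • φ)) = 0
      rw [resD_map_smul A V.ι, hk, Functor.map_zero, comp_zero]
    obtain ⟨ψ, hψ⟩ : ∃ ψ : E ⟶ G, a ^ k • φ = ψ ≫ p := Triangle.coyoneda_exact₂ _ hT _ h0
    have hR : DCoh.IsQCohD ((RR V.ι).obj ((resD V.ι).obj E')) := isQCohD_Rres V.ι _ (isQCohD_resD V.ι hE')
    have hG : DCoh.IsQCohD G := isQCohD_obj₃ (inv_rot_of_distTriang _ (inv_rot_of_distTriang _ hT))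
      (isQCohD_shift hE' (-1)) (isQCohD_shift hR (-1))
    have hGV : IsZero ((resD V.ι).obj G) :=
      (Triangle.isZero₁_iff_isIso₂ _ ((resD V.ι).map_distinguished _ hT)).2 (isIso_resD_unit V.ι E')
    have hGO : ∀ O : X.Opens, IsZero ((resD O.ι).obj E') → IsZero ((resD O.ι).obj G) := fun O hO => by
      have h2 : IsZero ((resD O.ι).obj ((RR V.ι).obj ((resD V.ι).obj E'))) :=
        isZero_resD_RR_open V.ι O ((isZero_resD_comp _ _).2 (isZero_resD_of_le _ _ (by
          rintro _ ⟨y, rfl⟩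
          rw [Scheme.Opens.range_ι]
          exact y.2) hO))
      exact (Triangle.isZero₁_iff_isIso₂ _ ((resD O.ι).map_distinguished _ hT)).2
        ⟨0, hO.eq_of_src _ _, h2.eq_of_src _ _⟩
    obtain ⟨l, hl⟩ := torsion_of_supported_cover a hE n (U₀ ⊔ V) (fun k => B k.succ) (fun k => hB _)
      (fun x => by
        rcases hcov x with h | ⟨k, hk⟩
        · exact Or.inl (Or.inl h)
        · cases k using Fin.cases with
          | zero => exact Or.inl (Or.inr hk)
          | succ k => exact Or.inr ⟨k, hk⟩) hG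
      (isZero_resD_of_cover U₀.ι V.ι (U₀ ⊔ V).ι (by
        intro x hx
        rw [Scheme.Opens.range_ι] at hx ⊢
        rw [Scheme.Opens.range_ι]
        exact hx) (hGO U₀ hE'₀) hGV) (hGO W hW) ψ
    exact ⟨l + k, by rw [pow_add, mul_smul, hψ, ← Linear.smul_comp, hl, zero_comp]⟩

/-- **Torsion.** -/
theorem torsion_of_supported [CompactSpace X] (a : A) {E E' : DCoh.D X} (hE : DCoh.IsPerfect E)
    (hE' : DCoh.IsQCohD E')
    (hW : IsZero ((resD (X.basicOpen (Coh.toGlobal (X ↘ (Spec (CommRingCat.of A))) a)).ι).obj E')) (φ : E ⟶ E') :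
    ∃ k : ℕ, a ^ k • φ = 0 := by
  obtain ⟨ι, _, B, hB, -, hcov⟩ := QCoh.exists_finite_affine_cover (X := X) (U := ⊤) isCompact_univ
  let e := (Fintype.equivFin ι).symm
  refine torsion_of_supported_cover a hE _ ⊥ (B ∘ e) (fun k => hB _) (fun x => Or.inr ?_) hE'
    ((isZero_resD_iff_support _ E').2 fun q x _ hx => by rw [Scheme.Opens.range_ι] at hx; exact hx) hW φ
  obtain ⟨k, hk⟩ := Opens.mem_iSup.1 (hcov (show x ∈ (⊤ : X.Opens) from trivial))
  exact ⟨e.symm k, by simpa using hk⟩

end Over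

end GrothLib.OX
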