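import Groth.Agent.Lib.OX.TildeD
import Groth.Agent.Lib.OX.LocFreeTensor
import Groth.Agent.Lib.OX.PerfectLemmas
import Groth.Agent.Lib.Euler.Coh
import Groth.Agent.Lib.LocProj.Pullback
import Groth.Agent.Lib.DerCat.MapAdj
import Mathlib.Algebra.Homology.HomotopyCategory.KProjective
import Groth.Prelude.Def_Coh

/-! # Maps out of bounded above complexes of vector bundles on affine schemes -/

set_option autoImplicit false
set_option linter.style.haveILetI false
set_option maxHeartbeats 800000
universe u v w v' w'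

open CategoryTheory CategoryTheory.Limits AlgebraicGeometry HomologicalComplex

attribute [local instance] HasDerivedCategory.standard

namespace GrothLib.AffineHom22

section

variable {A : Type w} [Category.{v} A] [Abelian A]

/-- Morphisms from `P` to `N` in the derived category are homotopy classes of chain maps. -/
def HtpyEqDer (P N : CochainComplex A ℤ) : Prop :=
  (∀ g : DerivedCategory.Q.obj P ⟶ DerivedCategory.Q.obj N, ∃ φ : P ⟶ N, DerivedCategory.Q.map φ = g) ∧
    ∀ φ : P ⟶ N, DerivedCategory.Q.map φ = 0 → Nonempty (Homotopy φ 0)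

theorem htpyEqDer_of_bijective {P N : CochainComplex A ℤ}
    (h : Function.Bijective (fun φ : (HomotopyCategory.quotient A (ComplexShape.up ℤ)).obj P ⟶
        (HomotopyCategory.quotient A (ComplexShape.up ℤ)).obj N => (DerivedCategory.Qh (C := A)).map φ)) :
    HtpyEqDer P N := by
  let e := DerivedCategory.quotientCompQhIso A
  have hn : ∀ φ : P ⟶ N, DerivedCategory.Q.map φ = e.inv.app P ≫
      DerivedCategory.Qh.map ((HomotopyCategory.quotient A (ComplexShape.up ℤ)).map φ) ≫ e.hom.app N := fun φ => by
    rw [← Functor.comp_map, e.hom.naturality, Iso.inv_hom_id_app_assoc]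
  refine ⟨fun g => ?_, fun φ hφ => ⟨HomotopyCategory.homotopyOfEq _ _ (h.1 ?_)⟩⟩
  · obtain ⟨a, ha⟩ := h.2 (e.hom.app P ≫ g ≫ e.inv.app N)
    obtain ⟨φ, rfl⟩ := (HomotopyCategory.quotient A (ComplexShape.up ℤ)).map_surjective a
    refine ⟨φ, (hn φ).trans ?_⟩
    dsimp only at ha
    rw [ha]; simp
  · show DerivedCategory.Qh.map _ = DerivedCategory.Qh.map _
    rw [hn] at hφ
    rw [Functor.map_zero, Functor.map_zero]
    have h1 := congrArg (fun t => e.hom.app P ≫ t ≫ e.inv.app N) hφ
    simpa using h1

theorem bijective_of_htpyEqDer {P N : CochainComplex A ℤ} (h : HtpyEqDer P N) :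
    Function.Bijective (fun φ : (HomotopyCategory.quotient A (ComplexShape.up ℤ)).obj P ⟶
        (HomotopyCategory.quotient A (ComplexShape.up ℤ)).obj N => (DerivedCategory.Qh (C := A)).map φ) := by
  let e := DerivedCategory.quotientCompQhIso A
  have hn : ∀ φ : P ⟶ N, DerivedCategory.Qh.map ((HomotopyCategory.quotient A (ComplexShape.up ℤ)).map φ) =
      e.hom.app P ≫ DerivedCategory.Q.map φ ≫ e.inv.app N := fun φ => by
    rw [← NatTrans.naturality_assoc, Iso.hom_inv_id_app, Category.comp_id]; rfl
  refine ⟨fun a b hab => ?_, fun g => ?_⟩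
  · obtain ⟨φ, rfl⟩ := (HomotopyCategory.quotient A (ComplexShape.up ℤ)).map_surjective a
    obtain ⟨ψ, rfl⟩ := (HomotopyCategory.quotient A (ComplexShape.up ℤ)).map_surjective b
    have h0 : DerivedCategory.Q.map (φ - ψ) = 0 := by
      have h1 := hab
      simp only [hn, cancel_epi, cancel_mono] at h1
      rw [Functor.map_sub, h1, sub_self]
    obtain ⟨H⟩ := h.2 _ h0
    have h2 := HomotopyCategory.eq_of_homotopy _ _ H
    rw [Functor.map_sub, Functor.map_zero, sub_eq_zero] at h2
    exact h2
  · obtain ⟨φ, hφ⟩ := h.1 (e.inv.app P ≫ g ≫ e.hom.app N)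
    refine ⟨(HomotopyCategory.quotient A (ComplexShape.up ℤ)).map φ, (hn φ).trans ?_⟩
    rw [hφ]; simp

variable {B : Type w'} [Category.{v'} B] [Abelian B]

/-- Transport along a fully faithful exact functor with fully faithful derived functor. -/
theorem htpyEqDer_map (T : A ⥤ B) [T.Additive] [PreservesFiniteLimits T] [PreservesFiniteColimits T]
    [T.Full] [T.Faithful] [T.mapDerivedCategory.Full] [T.mapDerivedCategory.Faithful]
    {P N : CochainComplex A ℤ} (h : HtpyEqDer P N) :
    HtpyEqDer ((T.mapHomologicalComplex (ComplexShape.up ℤ)).obj P)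
      ((T.mapHomologicalComplex (ComplexShape.up ℤ)).obj N) := by
  let F := T.mapDerivedCategoryFactors
  refine ⟨fun g => ?_, fun φ hφ => ?_⟩
  · obtain ⟨φ, hφ⟩ := h.1 (T.mapDerivedCategory.preimage (F.hom.app P ≫ g ≫ F.inv.app N))
    refine ⟨(T.mapHomologicalComplex (ComplexShape.up ℤ)).map φ, ?_⟩
    have h1 := T.mapDerivedCategory.map_preimage (F.hom.app P ≫ g ≫ F.inv.app N)
    rw [← hφ] at h1
    rw [← cancel_epi (F.hom.app P)]
    refine (F.hom.naturality φ).symm.trans ?_
    change T.mapDerivedCategory.map (DerivedCategory.Q.map φ) ≫ F.hom.app N = _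
    rw [h1]; simp
  · let φ₀ : P ⟶ N :=
      { f := fun i => T.preimage (φ.f i)
        comm' := fun i j _ => T.map_injective (by
          rw [T.map_comp, T.map_comp, T.map_preimage, T.map_preimage]
          exact φ.comm i j) }
    have hφ₀ : (T.mapHomologicalComplex (ComplexShape.up ℤ)).map φ₀ = φ :=
      HomologicalComplex.hom_ext _ _ fun i => T.map_preimage (φ.f i)
    obtain ⟨H⟩ := h.2 φ₀ (T.mapDerivedCategory.map_injective (by
      rw [Functor.map_zero, ← cancel_mono (F.hom.app N), zero_comp]
      refine (F.hom.naturality φ₀).trans ?_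
      change F.hom.app P ≫ DerivedCategory.Q.map ((T.mapHomologicalComplex _).map φ₀) = 0
      rw [hφ₀, hφ, comp_zero]))
    exact ⟨(Homotopy.ofEq hφ₀.symm).trans ((T.mapHomotopy H).trans (Homotopy.ofEq (by simp)))⟩

theorem htpyEqDer_of_iso {P N P' N' : CochainComplex A ℤ} (e : P ≅ P') (e' : N ≅ N') (h : HtpyEqDer P N) :
    HtpyEqDer P' N' := by
  refine ⟨fun g => ?_, fun φ hφ => ?_⟩
  · obtain ⟨φ, hφ⟩ := h.1 (DerivedCategory.Q.map e.hom ≫ g ≫ DerivedCategory.Q.map e'.inv)
    refine ⟨e.inv ≫ φ ≫ e'.hom, ?_⟩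
    rw [Functor.map_comp, Functor.map_comp, hφ]
    simp only [Category.assoc, ← Functor.map_comp, e'.inv_hom_id, DerivedCategory.Q.map_id, Category.comp_id,
      ← DerivedCategory.Q.map_comp_assoc, e.inv_hom_id, Category.id_comp]
  · obtain ⟨H⟩ := h.2 (e.hom ≫ φ ≫ e'.inv) (by simp [hφ])
    exact ⟨(Homotopy.ofEq (by simp : φ = e.inv ≫ (e.hom ≫ φ ≫ e'.inv) ≫ e'.hom)).trans
      (((H.compRight e'.hom).compLeft e.inv).trans (Homotopy.ofEq (by simp)))⟩

/-- The derived functor of the identity. -/
noncomputable def mapDerivedIdIso : (𝟭 A).mapDerivedCategory ≅ 𝟭 (DerivedCategory A) :=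
  letI : Localization.Lifting DerivedCategory.Q (HomologicalComplex.quasiIso A (ComplexShape.up ℤ))
      ((𝟭 A).mapHomologicalComplex (ComplexShape.up ℤ) ⋙ DerivedCategory.Q) (𝟭 (DerivedCategory A)) :=
    ⟨Functor.rightUnitor _ ≪≫ (Functor.leftUnitor _).symm ≪≫ Functor.isoWhiskerRight
      (NatIso.ofComponents (fun K => HomologicalComplex.Hom.isoOfComponents (fun n => Iso.refl _)
        (fun i j _ => by simp)) (fun {K L} φ => by ext n; simp)) _⟩
  Localization.liftNatIso DerivedCategory.Q (HomologicalComplex.quasiIso A (ComplexShape.up ℤ))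
    ((𝟭 A).mapHomologicalComplex (ComplexShape.up ℤ) ⋙ DerivedCategory.Q)
    ((𝟭 A).mapHomologicalComplex (ComplexShape.up ℤ) ⋙ DerivedCategory.Q) _ _ (Iso.refl _)

/-- The derived functor of an exact equivalence is an equivalence. -/
theorem isEquivalence_mapDerived (e : A ≌ B) [e.functor.Additive] [e.inverse.Additive]
    [PreservesFiniteLimits e.functor] [PreservesFiniteColimits e.functor]
    [PreservesFiniteLimits e.inverse] [PreservesFiniteColimits e.inverse] :
    e.functor.mapDerivedCategory.IsEquivalence :=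
  (CategoryTheory.Equivalence.mk e.functor.mapDerivedCategory e.inverse.mapDerivedCategory
    (DerCat.mapDerivedCompIso e.functor e.inverse (𝟭 A) e.unitIso.symm ≪≫ mapDerivedIdIso).symm
    (DerCat.mapDerivedCompIso e.inverse e.functor (𝟭 B) e.counitIso ≪≫ mapDerivedIdIso)).isEquivalence_functor

end

variable {X : Scheme.{u}}

theorem isLP_of_isFinLocFree {M : X.Modules} (hM : FlatMod.IsFinLocFree M) : LocProj.IsLP M := by
  intro V hV
  have := Euler.isQuasicoherent_of_isFinLocFree hM
  choose U n e hxU he using fun x : X => FinCov.exists_frame_nhd hM x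
  choose W hW hxW hWU using fun x : X => exists_isAffineOpen_mem_and_subset (x := x) (U := U x) (hxU x)
  exact LocProj.projective_sections M W (eq_top_iff.2 fun x _ => TopologicalSpace.Opens.mem_iSup.2 ⟨x, hxW x⟩) hW
    (fun x => haveI := Module.Free.of_basis ((he x).basis (W x) (hWU x)); Module.Projective.of_free) hV

theorem htpyEqDer_spec {R : CommRingCat.{u}} (E F : CochainComplex (Spec R).Modules ℤ) (b : ℤ)
    (hEb : ∀ i : ℤ, b < i → IsZero (E.X i)) (hE : ∀ i : ℤ, FlatMod.IsFinLocFree (E.X i))
    (hF : ∀ i : ℤ, Coh.IsQCoh (F.X i)) : HtpyEqDer E F := by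
  let G := moduleSpecΓFunctor (R := R)
  haveI : G.Additive := tilde.adjunction.right_adjoint_additive
  let P := (G.mapHomologicalComplex (ComplexShape.up ℤ)).obj E
  let N := (G.mapHomologicalComplex (ComplexShape.up ℤ)).obj F
  have hiso : ∀ {M : (Spec R).Modules}, M.IsQuasicoherent → IsIso M.fromTildeΓ := fun {M} h =>
    (isQuasicoherent_iff_isIso_fromTildeΓ M).1 h
  let mk : ∀ K : CochainComplex (Spec R).Modules ℤ, (∀ i, IsIso (K.X i).fromTildeΓ) →
      (((tilde.functor R).mapHomologicalComplex (ComplexShape.up ℤ)).obj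
        ((G.mapHomologicalComplex (ComplexShape.up ℤ)).obj K) ≅ K) := fun K hK =>
    HomologicalComplex.Hom.isoOfComponents (fun i => @asIso _ _ _ _ (K.X i).fromTildeΓ (hK i))
      fun i j _ => (tilde.adjunction.counit.naturality (K.d i j)).symm
  let eE := mk E fun i => hiso (Euler.isQuasicoherent_of_isFinLocFree (hE i))
  let eF := mk F fun i => hiso (hF i)
  haveI : ∀ i, Projective (P.X i) := fun i => by
    haveI := hiso (Euler.isQuasicoherent_of_isFinLocFree (hE i))
    haveI : Module.Projective R (P.X i) := (Groth.Agent.S7392.result R (P.X i)).1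
      (LocProj.isLP_of_iso (asIso (E.X i).fromTildeΓ).symm (isLP_of_isFinLocFree (hE i)))
    exact (IsProjective.iff_projective (R := R) (P.X i)).1 inferInstance
  haveI : CochainComplex.IsStrictlyLE P b :=
    (CochainComplex.isStrictlyLE_iff P b).2 fun i hi => G.map_isZero (hEb i hi)
  haveI := CochainComplex.isKProjective_of_projective P b
  haveI := (OX.tildeD_full_faithful_essImage (R := R)).1
  haveI := (OX.tildeD_full_faithful_essImage (R := R)).2.1
  exact htpyEqDer_of_iso eE eF (htpyEqDer_map (tilde.functor R)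
    (htpyEqDer_of_bijective (CochainComplex.IsKProjective.Qh_map_bijective P _)))

/-- On an affine scheme, homotopy classes compute derived morphisms out of bounded above complexes of
vector bundles into complexes of quasi-coherent modules. -/
theorem htpyEqDer_affine [IsAffine X] (E F : CochainComplex X.Modules ℤ) (b : ℤ)
    (hEb : ∀ i : ℤ, b < i → IsZero (E.X i)) (hE : ∀ i : ℤ, FlatMod.IsFinLocFree (E.X i))
    (hF : ∀ i : ℤ, Coh.IsQCoh (F.X i)) : HtpyEqDer E F := by
  let g := X.isoSpec.inv
  let adj := Scheme.Modules.pullbackPushforwardAdjunction g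
  haveI : (Scheme.Modules.pushforward g).IsEquivalence :=
    (CategoryTheory.Equivalence.mk (Scheme.Modules.pushforward g) (Scheme.Modules.pushforward (inv g))
      ((Scheme.Modules.pushforwardId _).symm ≪≫
        Scheme.Modules.pushforwardCongr (IsIso.hom_inv_id g).symm ≪≫
        (Scheme.Modules.pushforwardComp g (inv g)).symm)
      (Scheme.Modules.pushforwardComp (inv g) g ≪≫
        Scheme.Modules.pushforwardCongr (IsIso.inv_hom_id g) ≪≫
        Scheme.Modules.pushforwardId X)).isEquivalence_functor
  haveI : (Scheme.Modules.pullback g).IsEquivalence := adj.isEquivalence_left_of_isEquivalence_right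
  haveI : IsIso adj.unit := inferInstance
  haveI : IsIso adj.counit := inferInstance
  haveI : (Scheme.Modules.pullback g).Additive := adj.left_adjoint_additive
  let e := adj.toEquivalence.symm
  haveI : e.functor.Additive := adj.right_adjoint_additive
  haveI : e.inverse.Additive := adj.left_adjoint_additive
  haveI := isEquivalence_mapDerived e
  let L := (Scheme.Modules.pullback g).mapHomologicalComplex (ComplexShape.up ℤ)
  let mk : ∀ K : CochainComplex X.Modules ℤ,
      (e.functor.mapHomologicalComplex (ComplexShape.up ℤ)).obj (L.obj K) ≅ K := fun K =>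
    HomologicalComplex.Hom.isoOfComponents (fun i => ((asIso adj.unit).app (K.X i)).symm)
      fun i j _ => ((asIso adj.unit).inv.naturality (K.d i j)).symm
  refine htpyEqDer_of_iso (mk E) (mk F) (htpyEqDer_map e.functor (htpyEqDer_spec (L.obj E) (L.obj F) b
    (fun i hi => (Scheme.Modules.pullback g).map_isZero (hEb i hi))
    (fun i => OX.isFinLocFree_pullback g (hE i)) fun i => ?_))
  haveI : (F.X i).IsQuasicoherent := hF i
  exact FittSheaf.isQuasicoherent_pullback g (F.X i)

end GrothLib.AffineHom22
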