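import Groth.Agent.Lib.OX.AssocNatural

/-! # The associator of bifunctors on cochain complexes is natural in all variables -/

set_option autoImplicit false
set_option maxHeartbeats 800000
universe v u

open CategoryTheory CategoryTheory.Limits HomologicalComplex

namespace GrothLib.OX

variable {C : Type u} [Category.{v} C] [Preadditive C] [∀ J : Type, HasColimitsOfShape (Discrete J) C]
  (F : C ⥤ C ⥤ C) [F.Additive] [∀ X : C, (F.obj X).Additive]
  (e : bifunctorComp₁₂ F F ≅ bifunctorComp₂₃ F F)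
  [∀ X : C, PreservesColimitsOfSize.{0, 0} (F.flip.obj X)] [∀ X : C, PreservesColimitsOfSize.{0, 0} (F.obj X)]

theorem mapBifunctorAssociator_natural₂₃ (K : CochainComplex C ℤ) {L L' M M' : CochainComplex C ℤ}
    (ψ : L ⟶ L') (χ : M ⟶ M') :
    mapBifunctorMap (mapBifunctorMap (𝟙 K) ψ F (ComplexShape.up ℤ)) χ F (ComplexShape.up ℤ) ≫
        (mapBifunctorAssociator e K L' M' (ComplexShape.up ℤ) (ComplexShape.up ℤ) (ComplexShape.up ℤ)).hom =
      (mapBifunctorAssociator e K L M (ComplexShape.up ℤ) (ComplexShape.up ℤ) (ComplexShape.up ℤ)).hom ≫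
        mapBifunctorMap (𝟙 K) (mapBifunctorMap ψ χ F (ComplexShape.up ℤ)) F (ComplexShape.up ℤ) := by
  refine HomologicalComplex.hom_ext _ _ fun n => mapBifunctor₁₂.hom_ext fun i j k h => ?_
  have hij : ComplexShape.π (ComplexShape.up ℤ) (ComplexShape.up ℤ) (ComplexShape.up ℤ) (i, j) = i + j := rfl
  have hjk : ComplexShape.π (ComplexShape.up ℤ) (ComplexShape.up ℤ) (ComplexShape.up ℤ) (j, k) = j + k := rfl
  have h1 : ComplexShape.π (ComplexShape.up ℤ) (ComplexShape.up ℤ) (ComplexShape.up ℤ) (i + j, k) = n := h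
  have h2 : ComplexShape.π (ComplexShape.up ℤ) (ComplexShape.up ℤ) (ComplexShape.up ℤ) (i, j + k) = n := by
    have h' : i + j + k = n := h1
    change i + (j + k) = n
    omega
  have hn : (F.map ((F.obj (K.X i)).map (ψ.f j))).app (M.X k) ≫ (F.obj ((F.obj (K.X i)).obj (L'.X j))).map (χ.f k) ≫
      ((e.hom.app (K.X i)).app (L'.X j)).app (M'.X k) =
      ((e.hom.app (K.X i)).app (L.X j)).app (M.X k) ≫
        (F.obj (K.X i)).map ((F.map (ψ.f j)).app (M.X k) ≫ (F.obj (L'.X j)).map (χ.f k)) := by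
    rw [Functor.map_comp]
    have a := NatTrans.congr_app ((e.hom.app (K.X i)).naturality (ψ.f j)) (M.X k)
    have b := ((e.hom.app (K.X i)).app (L'.X j)).naturality (χ.f k)
    exact (congrArg (_ ≫ ·) b).trans ((Category.assoc _ _ _).symm.trans
      ((congrArg (· ≫ _) a).trans (Category.assoc _ _ _)))
  have hl : mapBifunctor₁₂.ι F F K L M (ComplexShape.up ℤ) (ComplexShape.up ℤ) i j k n h ≫
      (mapBifunctorMap (mapBifunctorMap (𝟙 K) ψ F (ComplexShape.up ℤ)) χ F (ComplexShape.up ℤ)).f n =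
      (F.map ((F.obj (K.X i)).map (ψ.f j))).app (M.X k) ≫ (F.obj ((F.obj (K.X i)).obj (L'.X j))).map (χ.f k) ≫
        mapBifunctor₁₂.ι F F K L' M' (ComplexShape.up ℤ) (ComplexShape.up ℤ) i j k n h := by
    rw [mapBifunctor₁₂.ι_eq F F K L M _ _ i j k _ n hij h1, mapBifunctor₁₂.ι_eq F F K L' M' _ _ i j k _ n hij h1,
      Category.assoc, ι_mapBifunctorMap]
    simp only [id_f, CategoryTheory.Functor.map_id, NatTrans.id_app, Category.id_comp, ← Category.assoc,
      ← NatTrans.comp_app, ← Functor.map_comp, ι_mapBifunctorMap]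
    simp only [Functor.map_comp, NatTrans.comp_app, Category.assoc, NatTrans.naturality_assoc]
  have hr : mapBifunctor₂₃.ι F F K L M (ComplexShape.up ℤ) (ComplexShape.up ℤ) (ComplexShape.up ℤ) i j k n h ≫
      (mapBifunctorMap (𝟙 K) (mapBifunctorMap ψ χ F (ComplexShape.up ℤ)) F (ComplexShape.up ℤ)).f n =
      (F.obj (K.X i)).map ((F.map (ψ.f j)).app (M.X k) ≫ (F.obj (L'.X j)).map (χ.f k)) ≫
        mapBifunctor₂₃.ι F F K L' M' (ComplexShape.up ℤ) (ComplexShape.up ℤ) (ComplexShape.up ℤ) i j k n h := by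
    rw [mapBifunctor₂₃.ι_eq F F K L M _ _ _ i j k _ n hjk h2, mapBifunctor₂₃.ι_eq F F K L' M' _ _ _ i j k _ n hjk h2,
      Category.assoc, ι_mapBifunctorMap]
    simp only [id_f, CategoryTheory.Functor.map_id, NatTrans.id_app, Category.id_comp, ← Category.assoc,
      ← Functor.map_comp, ι_mapBifunctorMap]
  simp only [mapBifunctorAssociator, comp_f, Hom.isoOfComponents_hom_f]
  rw [reassoc_of% hl, ι_mapBifunctorAssociatorX_hom, ι_mapBifunctorAssociatorX_hom_assoc]
  erw [hr]
  have := congrArg (· ≫ mapBifunctor₂₃.ι F F K L' M' (ComplexShape.up ℤ) (ComplexShape.up ℤ) (ComplexShape.up ℤ) i j k n h) hn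
  exact (Category.assoc _ _ _ |>.trans (congrArg (_ ≫ ·) (Category.assoc _ _ _))).symm.trans (this.trans (Category.assoc _ _ _))

end GrothLib.OX
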