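import Groth.Agent.Lib.OX.HomQCoh
import Groth.Agent.Lib.OX.AssocNatural23

/-! # `A ⊗ Hom(P, J) = Hom(P, A ⊗ J)` for perfect `P` -/

set_option autoImplicit false
set_option maxHeartbeats 1000000
universe u

open CategoryTheory CategoryTheory.Limits CategoryTheory.Pretriangulated AlgebraicGeometry HomologicalComplex

attribute [local instance] HasDerivedCategory.standard

namespace GrothLib.OX

variable {X U : Scheme.{u}}

/-- Tensoring on the left with a complex of flat modules preserves short exact sequences. -/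
theorem tensorCx_shortExact_of_flatTerms {A : CochainComplex X.Modules ℤ} (hA : FlatTerms A)
    {S : ShortComplex (CochainComplex X.Modules ℤ)} (hS : S.ShortExact) :
    (S.map ((DCoh.tensorCx (X := X)).obj A)).ShortExact := by
  refine HomologicalComplex.shortExact_of_degreewise_shortExact _ fun m => ?_
  have : (summandsFun A m).PreservesZeroMorphisms := ⟨fun K K' => NatTrans.ext (funext fun p =>
    (((DCoh.tensorBi (X := X)).obj (A.X p.as)).map_zero _ _))⟩
  have h : ∀ (p q : ℤ), ((S.map (HomologicalComplex.eval X.Modules (ComplexShape.up ℤ) q)).map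
      ((DCoh.tensorBi (X := X)).obj (A.X p))).ShortExact := fun p q =>
    ShortComplex.shortExact_of_iso (ShortComplex.mapNatIso _ ((tensorBraiding (X := X)).app (A.X p)))
      (tensor_map_shortExact (hA p) (hS.map_of_exact (HomologicalComplex.eval X.Modules (ComplexShape.up ℤ) q)))
  have hS' : (S.map (summandsFun A m)).ShortExact :=
    { exact := by
        rw [ShortComplex.exact_iff_isZero_homology]
        refine Functor.isZero _ fun p => ?_
        exact IsZero.of_iso ((ShortComplex.exact_iff_isZero_homology _).1 (h p.as (m - p.as)).exact)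
          ((S.map (summandsFun A m)).mapHomologyIso ((evaluation _ _).obj p)).symm
      mono_f := (NatTrans.mono_iff_mono_app _).2 fun p => (h p.as (m - p.as)).mono_f
      epi_g := (NatTrans.epi_iff_epi_app _).2 fun p => (h p.as (m - p.as)).epi_g }
  exact ShortComplex.shortExact_of_iso
    (ShortComplex.isoMk ((degIso A m).app _) ((degIso A m).app _) ((degIso A m).app _)
      ((degIso A m).hom.naturality S.f).symm ((degIso A m).hom.naturality S.g).symm)
    (hS'.map_of_exact (colim (J := Discrete ℤ) (C := X.Modules)))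

theorem null_of_acyclic {Z I : CochainComplex X.Modules ℤ} [I.IsKInjective] (hZ : Z.Acyclic) (g : Z ⟶ I) :
    Nonempty (Homotopy g 0) :=
  CochainComplex.IsKInjective.nonempty_homotopy_zero g hZ

variable (j : U ⟶ X) [IsOpenImmersion j]

/-- Tensoring with a K-flat complex preserves quasi-isomorphisms over an open. -/
theorem quasiIso_resCx_tensor_left {A : CochainComplex X.Modules ℤ} (hA : DCoh.IsKFlat A)
    {P Q : CochainComplex X.Modules ℤ} (g : P ⟶ Q) (hg : QuasiIso ((resCx j).map g)) :
    QuasiIso ((resCx j).map (((DCoh.tensorCx (X := X)).obj A).map g)) := by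
  let c : (DCoh.tensorCx (X := X)).obj A ⋙ resCx j ≅ resCx j ⋙ tensR ((resCx j).obj A) :=
    Functor.isoWhiskerRight (tensorFlipIso A).symm _ ≪≫ resTensNatIso j A
  exact (quasiIso_iff_of_arrow_mk_iso _ _ (Arrow.isoMk (c.app P) (c.app Q) (c.hom.naturality g).symm)).2
    (quasiIso_map_of_isKFlat ((resCx j).map g) _ (isKFlat_resCx j hA))

/-- `Hom(Z, I)` vanishes over an open where the K-flat complex `Z` is acyclic. -/
theorem acyclic_resCx_homCx {Z : CochainComplex X.Modules ℤ} (hZ : DCoh.IsKFlat Z)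
    (hz : ((resCx j).obj Z).Acyclic) (I : CochainComplex X.Modules ℤ) [I.IsKInjective] :
    ((resCx j).obj ((homCx Z).obj I)).Acyclic := by
  let T := (resCx j).obj ((homCx Z).obj I)
  let adj := KInj.mapComplexAdj (CxOX.extZeroAdj j) (ComplexShape.up ℤ)
  have h1 : ((tensR ((resCx j).obj Z)).obj T).Acyclic :=
    acyclic_tensor_of_acyclic_isKFlat hz (isKFlat_resCx j hZ) T
  have h2 : ((tensR Z).obj ((jzCx j).obj T)).Acyclic :=
    DerCat.acyclic_of_iso ((extTensNatIso j Z).app T).symm
      (acyclic_map _ (fun _ hS => hS.map (CxOX.extZero j)) _ h1)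
  let ε : (jzCx j).obj T ⟶ (homCx Z).obj I := adj.counit.app _
  obtain ⟨k⟩ := null_of_acyclic h2 (((homCxAdj Z).homEquiv ((jzCx j).obj T) I).symm ε)
  obtain ⟨k'⟩ := transpose_null k
  rw [Equiv.apply_symm_apply] at k'
  have h3 : Homotopy (𝟙 T) 0 :=
    (Homotopy.ofEq (adj.right_triangle_components ((homCx Z).obj I)).symm).trans
      ((((Scheme.Modules.restrictFunctor j).mapHomotopy k').compLeft (adj.unit.app T)).trans
        (Homotopy.ofEq (by simp)))
  exact fun i => by
    rw [HomologicalComplex.exactAt_iff_isZero_homology, IsZero.iff_id_eq_zero,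
      ← HomologicalComplex.homologyMap_id, h3.homologyMap_eq i, HomologicalComplex.homologyMap_zero]

/-- `Hom(-, I)` respects quasi-isomorphisms over an open between K-flat complexes. -/
theorem quasiIso_resCx_homMap {P Q : CochainComplex X.Modules ℤ} (α : P ⟶ Q) (hP : DCoh.IsKFlat P)
    (hQ : DCoh.IsKFlat Q) (hα : QuasiIso ((resCx j).map α)) (I : CochainComplex X.Modules ℤ) [I.IsKInjective] :
    QuasiIso ((resCx j).map (homMap α I)) := by
  let R := resCx j
  let M := CochainComplex.mappingCone (𝟙 P)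
  have hM : M.Acyclic := (DerCat.quasiIso_iff_acyclic_mappingCone (𝟙 P)).1 inferInstance
  have hMK : DCoh.IsKFlat M := isKFlat_mappingCone _ hP hP
  let a : P ⟶ Q ⊞ M := biprod.lift α (CochainComplex.mappingCone.inr (𝟙 P))
  let σ : (ShortComplex.mk (biprod.inr : M ⟶ Q ⊞ _) biprod.fst biprod.inr_fst).Splitting :=
    { r := biprod.snd, s := biprod.inl, f_r := biprod.inr_snd, s_g := biprod.inl_fst
      id := (add_comm _ _).trans biprod.total }
  have hfst : QuasiIso (R.map (biprod.fst : Q ⊞ M ⟶ Q)) :=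
    DerCat.quasiIso_g_of_acyclic (σ.map R).shortExact (acyclic_resCx j hM)
  have ha : QuasiIso (R.map a) :=
    have : QuasiIso (R.map a ≫ R.map biprod.fst) := by rw [← Functor.map_comp, biprod.lift_fst]; exact hα
    quasiIso_of_comp_right (R.map a) (R.map biprod.fst)
  have hr : ∀ n, a.f n ≫ (biprod.snd : Q ⊞ M ⟶ _).f n ≫
      (CochainComplex.mappingCone.snd (𝟙 P)).v n n (add_zero n) = 𝟙 (P.X n) := fun n => by
    rw [← Category.assoc, ← HomologicalComplex.comp_f, biprod.lift_snd, CochainComplex.mappingCone.inr_f_snd_v]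
  have : Mono a := HomologicalComplex.mono_of_mono_f a fun n => (SplitMono.mk _ (hr n)).mono
  let S : ShortComplex (CochainComplex X.Modules ℤ) := ShortComplex.mk a (cokernel.π a) (cokernel.condition a)
  have hS : S.ShortExact := { exact := ShortComplex.exact_of_g_is_cokernel _ (cokernelIsCokernel a) }
  let hsp : ∀ n, (S.map (HomologicalComplex.eval X.Modules (ComplexShape.up ℤ) n)).Splitting := fun n =>
    have := (hS.map_of_exact (HomologicalComplex.eval X.Modules (ComplexShape.up ℤ) n)).epi_g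
    ShortComplex.Splitting.ofExactOfRetraction _
      (hS.map_of_exact (HomologicalComplex.eval X.Modules (ComplexShape.up ℤ) n)).exact _ (hr n) this
  have hRS : ∀ (S' : ShortComplex (CochainComplex X.Modules ℤ)), S'.ShortExact → (S'.map R).ShortExact :=
    fun S' h' => HomologicalComplex.shortExact_of_degreewise_shortExact _ fun n =>
      (h'.map_of_exact (HomologicalComplex.eval X.Modules (ComplexShape.up ℤ) n)).map_of_exact
        (Scheme.Modules.restrictFunctor j)
  have : QuasiIso (S.map R).f := ha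
  have hX₃ : (R.obj S.X₃).Acyclic := DerCat.acyclic_X₃_of_quasiIso (hRS S hS)
  have hX₃K : DCoh.IsKFlat S.X₃ := isKFlat_X₃ (tensorCx_shortExact_of_splitting hsp) hP (isKFlat_biprod hQ hMK)
  have h₁ : QuasiIso (R.map (homMap a I)) :=
    DerCat.quasiIso_g_of_acyclic (hRS _ (homSeq_shortExact hsp I)) (acyclic_resCx_homCx j hX₃K hX₃ I)
  let S' : ShortComplex (CochainComplex X.Modules ℤ) :=
    ShortComplex.mk (biprod.inr : M ⟶ Q ⊞ _) biprod.fst biprod.inr_fst
  have h₂ : QuasiIso (R.map (homMap (biprod.fst : Q ⊞ M ⟶ Q) I)) :=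
    DerCat.quasiIso_f_of_acyclic
      (hRS _ (homSeq_shortExact (S := S') (fun q => σ.map (HomologicalComplex.eval _ _ q)) I))
      (acyclic_resCx_homCx j hMK (acyclic_resCx j hM) I)
  have hc : homMap α I = homMap (biprod.fst : Q ⊞ M ⟶ Q) I ≫ homMap a I := by
    apply ((homCxAdj P).homEquiv _ I).symm.injective
    rw [homEquiv_homMap]
    conv_rhs => rw [← Category.id_comp (homMap (biprod.fst : Q ⊞ M ⟶ Q) I), homEquiv_homMap]
    conv_lhs => rw [← Category.id_comp (homMap α I), homEquiv_homMap, show α = a ≫ biprod.fst from (biprod.lift_fst _ _).symm]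
    rw [Functor.map_comp, NatTrans.comp_app, Category.assoc]
  rw [hc, Functor.map_comp]
  exact quasiIso_comp _ _

variable (A J : CochainComplex X.Modules ℤ) {B : CochainComplex X.Modules ℤ}
  (β : ((DCoh.tensorCx (X := X)).obj A).obj J ⟶ B)

/-- `A ⊗ Hom(E, J) ⟶ Hom(E, B)` induced by `A ⊗ J ⟶ B`. -/
noncomputable def psi (E : CochainComplex X.Modules ℤ) :
    ((DCoh.tensorCx (X := X)).obj A).obj ((homCx E).obj J) ⟶ (homCx E).obj B :=
  (homCxAdj E).homEquiv _ B ((tensorCxCompIso ((homCx E).obj J) E).hom.app A ≫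
    ((DCoh.tensorCx (X := X)).obj A).map ((homCxAdj E).counit.app J) ≫ β)

theorem assoc_natural₂ (E : CochainComplex X.Modules ℤ) {H H' : CochainComplex X.Modules ℤ} (g : H ⟶ H') :
    (tensR E).map (((DCoh.tensorCx (X := X)).obj A).map g) ≫ (tensorCxCompIso H' E).hom.app A =
      (tensorCxCompIso H E).hom.app A ≫ ((DCoh.tensorCx (X := X)).obj A).map ((tensR E).map g) :=
  mapBifunctorAssociator_natural₂₃ (DCoh.tensorBi (X := X)) tensorAssocNatIso A g (𝟙 E)

theorem assoc_natural₃ (H : CochainComplex X.Modules ℤ) {E E' : CochainComplex X.Modules ℤ} (f : E ⟶ E') :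
    ((DCoh.tensorCx (X := X)).flip.map f).app (((DCoh.tensorCx (X := X)).obj A).obj H) ≫
        (tensorCxCompIso H E').hom.app A =
      (tensorCxCompIso H E).hom.app A ≫
        ((DCoh.tensorCx (X := X)).obj A).map (((DCoh.tensorCx (X := X)).flip.map f).app H) := by
  have h := mapBifunctorAssociator_natural₂₃ (DCoh.tensorBi (X := X)) tensorAssocNatIso A (𝟙 H) f
  have e : mapBifunctorMap (𝟙 A) (𝟙 H) (DCoh.tensorBi (X := X)) (ComplexShape.up ℤ) = 𝟙 _ :=
    ((DCoh.tensorCx (X := X)).obj A).map_id H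
  rw [e] at h
  exact h

theorem psi_square {C : Type*} [Category C] {p₀ p₁ r₀ a₁ q₁ z m : C} {p : p₀ ⟶ p₁} {b : p₁ ⟶ a₁}
    {c : p₀ ⟶ q₁} {q : q₁ ⟶ a₁} {r : p₀ ⟶ r₀} {d : r₀ ⟶ z} {s : q₁ ⟶ z} {e' : a₁ ⟶ m} {e : z ⟶ m}
    (h1 : p ≫ b = c ≫ q) (h2 : r ≫ d = c ≫ s) (h3 : q ≫ e' = s ≫ e) {w : C} (β : m ⟶ w) :
    p ≫ b ≫ e' ≫ β = r ≫ d ≫ e ≫ β := by
  rw [reassoc_of% h1, reassoc_of% h2, reassoc_of% h3]

/-- Naturality of `psi`. -/
theorem psi_natural {E E' : CochainComplex X.Modules ℤ} (f : E ⟶ E') :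
    psi A J β E' ≫ homMap f B = ((DCoh.tensorCx (X := X)).obj A).map (homMap f J) ≫ psi A J β E := by
  apply ((homCxAdj E).homEquiv _ B).symm.injective
  rw [homEquiv_homMap, psi, psi, Equiv.symm_apply_apply, Adjunction.homEquiv_naturality_left_symm,
    Equiv.symm_apply_apply]
  have h : ((DCoh.tensorCx (X := X)).flip.map f).app ((homCx E').obj J) ≫ (homCxAdj E').counit.app J =
      (tensR E).map (homMap f J) ≫ (homCxAdj E).counit.app J :=
    (Equiv.symm_apply_apply ((homCxAdj E).homEquiv _ J) _).symm.trans ((homCxAdj E).homEquiv_counit _ _ _)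
  exact psi_square (assoc_natural₃ A ((homCx E').obj J) f) (assoc_natural₂ A E (homMap f J))
    (((DCoh.tensorCx (X := X)).obj A).map_comp _ _ |>.symm.trans ((congrArg _ h).trans
      (((DCoh.tensorCx (X := X)).obj A).map_comp _ _))) β

variable {A J}

theorem quasiIso_psi_unit [hβ : QuasiIso β] :
    QuasiIso (psi A J β ((single X.Modules (ComplexShape.up ℤ) 0).obj (Coh.structureModule X))) := by
  let O := (single X.Modules (ComplexShape.up ℤ) 0).obj (Coh.structureModule X)
  have h1 : (tensR O).IsEquivalence := Functor.isEquivalence_of_iso singleUnitNatIso.symm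
  have : IsIso (homCxAdj O).counit := inferInstance
  have : IsIso (homCxAdj O).unit := inferInstance
  let v := (tensorCxCompIso ((homCx O).obj J) O).hom.app A ≫
    ((DCoh.tensorCx (X := X)).obj A).map ((homCxAdj O).counit.app J) ≫ β
  have hv : QuasiIso v :=
    have : QuasiIso (((DCoh.tensorCx (X := X)).obj A).map ((homCxAdj O).counit.app J)) := inferInstance
    have : QuasiIso ((tensorCxCompIso ((homCx O).obj J) O).hom.app A) := inferInstance
    inferInstanceAs (QuasiIso (_ ≫ _ ≫ β))
  have hH : QuasiIso ((homCx O).map v) :=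
    (quasiIso_iff_of_arrow_mk_iso _ _ (Arrow.isoMk (homCxUnitIso.app _) (homCxUnitIso.app _)
      (homCxUnitIso.hom.naturality v).symm)).2 hv
  rw [psi, Adjunction.homEquiv_unit]
  exact quasiIso_comp _ _

theorem quasiIso_resCx_psi_iff (hA : DCoh.IsKFlat A) [J.IsKInjective] [B.IsKInjective]
    {E E' : CochainComplex X.Modules ℤ} (f : E ⟶ E') (hE : DCoh.IsKFlat E) (hE' : DCoh.IsKFlat E')
    (hf : QuasiIso ((resCx j).map f)) :
    QuasiIso ((resCx j).map (psi A J β E')) ↔ QuasiIso ((resCx j).map (psi A J β E)) := by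
  have h1 := quasiIso_resCx_homMap j f hE hE' hf B
  have h2 := quasiIso_resCx_tensor_left j hA (homMap f J) (quasiIso_resCx_homMap j f hE hE' hf J)
  have h := congrArg (resCx j).map (psi_natural A J β f)
  rw [Functor.map_comp, Functor.map_comp] at h
  rw [← quasiIso_iff_comp_right _ ((resCx j).map (homMap f B)), h, quasiIso_iff_comp_left]

end GrothLib.OX
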