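import Groth.Agent.Lib.OX.RRLocal
import Groth.Agent.Lib.OX.QCohCx

/-! # Derived global sections over affine opens detect isomorphisms -/

set_option autoImplicit false
set_option maxHeartbeats 1000000
universe u

open CategoryTheory CategoryTheory.Limits CategoryTheory.Pretriangulated AlgebraicGeometry Opposite ZeroObject
  HomologicalComplex

attribute [local instance] HasDerivedCategory.standard

namespace GrothLib.OX

variable {X : Scheme.{u}}

/-- A map from a generator at `W` into a complex with exact sections over `W` is null-homotopic. -/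
theorem eq_zero_of_exact_sections (W : X.Opens) (K : CochainComplex X.Modules ℤ) (k : ℤ)
    (h : ∀ x : Γ(K.X k, W), (K.d k (k + 1)).app W x = 0 → ∃ y, (K.d (k - 1) k).app W y = x)
    (φ : ((HomotopyCategory.singleFunctors X.Modules).functor k).obj ((genF X).obj W) ⟶
      (HomotopyCategory.quotient _ _).obj K) : φ = 0 := by
  obtain ⟨ψ, rfl⟩ := (HomotopyCategory.quotient X.Modules (ComplexShape.up ℤ)).map_surjective
    (X := (HomologicalComplex.single X.Modules (ComplexShape.up ℤ) k).obj ((genF X).obj W)) (Y := K) φ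
  let g : (genF X).obj W ⟶ K.X k := (HomologicalComplex.singleObjXSelf (ComplexShape.up ℤ) k _).inv ≫ ψ.f k
  have hg : g ≫ K.d k (k + 1) = 0 := by
    simp [g, ψ.comm k (k + 1)]
  obtain ⟨y, hy⟩ := h (genSec (K.X k) W g) ((genSec_comp W g (K.d k (k + 1))).symm.trans
    ((congrArg _ hg).trans (genSecAdd (K.X (k + 1)) W).map_zero))
  let a : (genF X).obj W ⟶ K.X (k - 1) := (genSec (K.X (k - 1)) W).symm y
  have ha : a ≫ K.d (k - 1) k = g := (genSec (K.X k) W).injective
    ((genSec_comp W a (K.d (k - 1) k)).trans ((congrArg _ (Equiv.apply_symm_apply _ _)).trans hy))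
  let H : ∀ i l : ℤ, (ComplexShape.up ℤ).Rel l i →
      (((HomologicalComplex.single X.Modules (ComplexShape.up ℤ) k).obj ((genF X).obj W)).X i ⟶ K.X l) :=
    fun i l hil => if hi : i = k then
      (HomologicalComplex.singleObjXIsoOfEq (ComplexShape.up ℤ) k ((genF X).obj W) i hi).hom ≫ a ≫
        (K.XIsoOfEq (show k - 1 = l by simp at hil; omega)).hom else 0
  suffices e : ψ = Homotopy.nullHomotopicMap' H by
    rw [e]
    exact (HomotopyCategory.eq_of_homotopy _ _ (Homotopy.nullHomotopy' H)).trans (Functor.map_zero _ _ _)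
  apply HomologicalComplex.from_single_hom_ext
  rw [Homotopy.nullHomotopicMap'_f (show (ComplexShape.up ℤ).Rel (k - 1) k by simp)
    (show (ComplexShape.up ℤ).Rel k (k + 1) by simp)]
  simp only [H, dif_pos]
  simp [ha, g, HomologicalComplex.singleObjXSelf]

/-- Complexes with acyclic sections over every affine open are acyclic. -/
theorem isZero_Qh_of_exact_affine (K : CochainComplex X.Modules ℤ)
    (h : ∀ W : X.Opens, IsAffineOpen W → ∀ k, ∀ x : Γ(K.X k, W), (K.d k (k + 1)).app W x = 0 →
      ∃ y, (K.d (k - 1) k).app W y = x) :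
    IsZero (DerivedCategory.Qh.obj ((HomotopyCategory.quotient X.Modules (ComplexShape.up ℤ)).obj K)) := by
  let K' := (HomotopyCategory.quotient X.Modules (ComplexShape.up ℤ)).obj K
  let Z : HomotopyCategory X.Modules (ComplexShape.up ℤ) := 0
  have hZ : IsZero Z := Limits.isZero_zero _
  have := isIso_Qh_map_of_affine (0 : K' ⟶ Z) fun W hW k =>
    ⟨fun a b _ => (eq_zero_of_exact_sections W K k (h W hW k) a).trans
      (eq_zero_of_exact_sections W K k (h W hW k) b).symm,
    fun b => ⟨0, hZ.eq_of_tgt _ _⟩⟩
  exact IsZero.of_iso ((DerivedCategory.Qh).map_isZero hZ) (asIso (DerivedCategory.Qh.map (0 : K' ⟶ Z)))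

/-- A morphism of `D(O_X)` is an isomorphism when its derived sections over affine opens are. -/
theorem isIso_of_isIso_rgamma_affine {E E' : DCoh.D X} (φ : E ⟶ E')
    (h : ∀ U : X.Opens, IsAffineOpen U → IsIso ((DCoh.gammaKh (U : Scheme.{u})).map
      (((Scheme.Modules.restrictFunctor U.ι).mapHomotopyCategory (ComplexShape.up ℤ)).map
        ((KInj.res X.Modules).map φ)))) :
    IsIso φ := by
  let η := (KInj.res X.Modules).map φ
  obtain ⟨C, p, d, hT⟩ := distinguished_cocone_triangle η
  have hC : IsZero (DerivedCategory.Qh.obj C) := by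
    obtain ⟨K, rfl⟩ := HomotopyCategory.quotient_obj_surjective C
    refine isZero_Qh_of_exact_affine K fun W hW k => ?_
    let F := (Scheme.Modules.restrictFunctor W.ι).mapHomotopyCategory (ComplexShape.up ℤ) ⋙
      DCoh.gammaKh (W : Scheme.{u})
    have h0 : IsZero (F.obj ((HomotopyCategory.quotient _ _).obj K)) :=
      (Triangle.isZero₃_iff_isIso₁ _ (F.map_distinguished _ hT)).2 (h W hW)
    let L := ((DCoh.gammaAb (W : Scheme.{u})).mapHomologicalComplex (ComplexShape.up ℤ)).obj
      ((DCoh.restrictCx W).obj K)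
    have h1 : IsZero (DerivedCategory.Q.obj L) :=
      IsZero.of_iso h0 ((DerivedCategory.quotientCompQhIso _).app L).symm
    have h2 : L.ExactAt k := (HomologicalComplex.exactAt_iff_isZero_homology _ _).2
      (IsZero.of_iso ((DerivedCategory.homologyFunctor _ k).map_isZero h1)
        ((DerivedCategory.homologyFunctorFactors _ k).app L).symm)
    rw [HomologicalComplex.exactAt_iff' _ (k - 1) k (k + 1) (by simp) (by simp),
      ShortComplex.ab_exact_iff] at h2
    intro x hx
    revert x
    rw [← W.ι_image_top]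
    exact fun x hx => h2 x hx
  have : IsIso (DerivedCategory.Qh.map η) :=
    (Triangle.isZero₃_iff_isIso₁ _ ((DerivedCategory.Qh).map_distinguished _ hT)).1 hC
  exact (NatIso.isIso_map_iff (asIso (KInj.resAdj X.Modules).counit) φ).1 this

end GrothLib.OX
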