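import Groth.Agent.Lib.OX.TensorInjective
import Groth.Agent.Lib.CohDer19.Embed
import Groth.Agent.Lib.FilKInj19.Basic

/-! # K-injective resolutions of short exact sequences of complexes -/

set_option autoImplicit false
universe v u

open CategoryTheory CategoryTheory.Limits HomologicalComplex

namespace GrothLib.OX

variable {A : Type u} [Category.{v} A] [Abelian A]

/-- The five lemma for the middle terms. -/
theorem quasiIso_τ₂ {S₁ S₂ : ShortComplex (CochainComplex A ℤ)} (φ : S₁ ⟶ S₂)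
    (hS₁ : S₁.ShortExact) (hS₂ : S₂.ShortExact) (h₁ : QuasiIso φ.τ₁) (h₃ : QuasiIso φ.τ₃) :
    QuasiIso φ.τ₂ := by
  rw [quasiIso_iff]
  intro j
  rw [quasiIsoAt_iff_isIso_homologyMap]
  have hjk : (ComplexShape.up ℤ).Rel j (j + 1) := by simp
  have hij : (ComplexShape.up ℤ).Rel (j - 1) j := by simp
  let m := HomologySequence.mapComposableArrows₅ φ hS₁ hS₂ (j - 1) j hij
  have e₁ := HomologySequence.composableArrows₅_exact hS₁ (j - 1) j hij
  have e₂ := HomologySequence.composableArrows₅_exact hS₂ (j - 1) j hij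
  let m' := HomologySequence.mapComposableArrows₅ φ hS₁ hS₂ j (j + 1) hjk
  have e₁' := HomologySequence.composableArrows₅_exact hS₁ j (j + 1) hjk
  have e₂' := HomologySequence.composableArrows₅_exact hS₂ j (j + 1) hjk
  have hm : Mono (homologyMap φ.τ₂ j) :=
    Abelian.mono_of_epi_of_mono_of_mono ((ComposableArrows.δ₀Functor ⋙
        ComposableArrows.δ₀Functor).map m) e₁.δ₀.δ₀ e₂.δ₀.δ₀
      (inferInstanceAs (Epi (homologyMap φ.τ₃ (j - 1))))
      (inferInstanceAs (Mono (homologyMap φ.τ₁ j)))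
      (inferInstanceAs (Mono (homologyMap φ.τ₃ j)))
  have he : Epi (homologyMap φ.τ₂ j) :=
    Abelian.epi_of_epi_of_epi_of_mono ((ComposableArrows.δlastFunctor ⋙
        ComposableArrows.δlastFunctor).map m') e₁'.δlast.δlast e₂'.δlast.δlast
      (inferInstanceAs (Epi (homologyMap φ.τ₁ j)))
      (inferInstanceAs (Epi (homologyMap φ.τ₃ j)))
      (inferInstanceAs (Mono (homologyMap φ.τ₁ (j + 1))))
  exact isIso_of_mono_of_epi _

/-- A short exact sequence of complexes has a degreewise split resolution by K-injective complexes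
of injectives. -/
theorem exists_injK_resolution_shortExact [IsGrothendieckAbelian.{v} A]
    {S : ShortComplex (CochainComplex A ℤ)} (hS : S.ShortExact) :
    ∃ (T : ShortComplex (CochainComplex A ℤ)) (φ : S ⟶ T),
      T.ShortExact ∧ (∀ n, Nonempty (T.map (eval A (ComplexShape.up ℤ) n)).Splitting) ∧
      InjK T.X₁ ∧ InjK T.X₂ ∧ InjK T.X₃ ∧ QuasiIso φ.τ₁ ∧ QuasiIso φ.τ₂ ∧ QuasiIso φ.τ₃ := by
  have := hS.mono_f
  have := hS.epi_g
  obtain ⟨I₁, ι₁, hI₁, hq₁, hm₁, hinj₁⟩ := CohDer19.exists_mono_kInjective_resolution S.X₁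
  let B := pushout S.f ι₁
  let p : B ⟶ S.X₃ := pushout.desc S.g 0 (by rw [S.zero, comp_zero])
  have hp : pushout.inr S.f ι₁ ≫ p = 0 := pushout.inr_desc _ _ _
  have hp' : pushout.inl S.f ι₁ ≫ p = S.g := pushout.inl_desc _ _ _
  let S' : ShortComplex (CochainComplex A ℤ) := ShortComplex.mk (pushout.inr S.f ι₁) p hp
  have : Epi p := epi_of_epi_fac hp'
  have hS' : S'.ShortExact := {
    exact := S'.exact_of_g_is_cokernel (CokernelCofork.IsColimit.ofπ p hp
      (fun {Z} k hk => hS.exact.desc (pushout.inl S.f ι₁ ≫ k) (by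
        rw [← Category.assoc, pushout.condition, Category.assoc, hk, comp_zero]))
      (fun {Z} k hk => pushout.hom_ext (by rw [← Category.assoc, hp', ShortComplex.Exact.g_desc])
        (by rw [← Category.assoc, hp, zero_comp, hk]))
      (fun {Z} k hk m hm => by
        rw [← cancel_epi S.g, ShortComplex.Exact.g_desc, ← hm, ← Category.assoc, hp']))
    mono_f := inferInstanceAs (Mono (pushout.inr S.f ι₁))
    epi_g := inferInstanceAs (Epi p) }
  let a : S ⟶ S' := ShortComplex.homMk ι₁ (pushout.inl S.f ι₁) (𝟙 _) pushout.condition.symm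
    ((Category.comp_id _).trans hp'.symm).symm
  have ha₂ : QuasiIso a.τ₂ := quasiIso_τ₂ a hS hS' hq₁ (inferInstanceAs (QuasiIso (𝟙 S.X₃)))
  obtain ⟨I₂, ι₂, hI₂, hq₂, hm₂, hinj₂⟩ := CohDer19.exists_mono_kInjective_resolution B
  have : Mono ι₂ := HomologicalComplex.mono_of_mono_f ι₂ hm₂
  have : Mono (pushout.inr S.f ι₁) := hS'.mono_f
  let ψ : I₁ ⟶ I₂ := pushout.inr S.f ι₁ ≫ ι₂
  let T : ShortComplex (CochainComplex A ℤ) := ShortComplex.mk ψ (cokernel.π ψ) (cokernel.condition ψ)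
  have hT : T.ShortExact :=
    { exact := ShortComplex.exact_cokernel ψ, mono_f := inferInstanceAs (Mono ψ), epi_g := inferInstance }
  let q : S.X₃ ⟶ cokernel ψ := hS'.exact.desc (ι₂ ≫ cokernel.π ψ) (by
    rw [← Category.assoc]; exact cokernel.condition ψ)
  let b : S' ⟶ T := ShortComplex.homMk (𝟙 _) ι₂ q (Category.id_comp _)
    (ShortComplex.Exact.g_desc hS'.exact _ _).symm
  let σ : ∀ n, (T.map (eval A (ComplexShape.up ℤ) n)).Splitting := fun n =>
    FilKInj19.splittingOfInjective (hT.map_of_exact (eval A (ComplexShape.up ℤ) n)) (hinj₁ n)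
  have hb₃ : QuasiIso b.τ₃ :=
    HomologicalComplex.HomologySequence.quasiIso_τ₃ b hS' hT (inferInstanceAs (QuasiIso (𝟙 I₁))) hq₂
  have : T.X₁.IsKInjective := hI₁
  have : T.X₂.IsKInjective := hI₂
  have hinj₃ : ∀ n, Injective (T.X₃.X n) := fun n => (FilKInj19.injective_of_splitting (σ n) (hinj₂ n)).2
  refine ⟨T, a ≫ b, hT, fun n => ⟨σ n⟩, ⟨hinj₁, hI₁⟩, ⟨hinj₂, hI₂⟩,
    ⟨hinj₃, FilKInj19.isKInjective_X₃ (S := T) σ⟩, ?_, ?_, ?_⟩
  · exact inferInstanceAs (QuasiIso (ι₁ ≫ 𝟙 _))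
  · exact @quasiIso_comp _ _ _ _ _ _ _ _ a.τ₂ b.τ₂ _ _ _ ha₂ hq₂
  · exact @quasiIso_comp _ _ _ _ _ _ _ _ a.τ₃ b.τ₃ _ _ _ (inferInstanceAs (QuasiIso (𝟙 S.X₃))) hb₃

end GrothLib.OX
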