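import Groth.Agent.Lib.DCxRing.SupportApprox
import Groth.Agent.Lib.OX.LiftSupport
import Groth.Agent.Lib.OX.GeneratorBound
import Groth.Agent.Lib.OX.HocolimPerfect
import Groth.Prelude.Def_Koszul
import Groth.Prelude.Def_Wider
import Groth.Prelude.Def_DCoh3

/-!
# The Koszul complex as detector of objects supported on `V(fs)`
-/

set_option autoImplicit false
set_option maxHeartbeats 1000000
universe u

open CategoryTheory CategoryTheory.Limits AlgebraicGeometry Opposite TopologicalSpace Pretriangulated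

attribute [local instance] HasDerivedCategory.standard

namespace GrothLib.DR

open DerivedCategory

variable {A : Type u} [CommRing A]

theorem Q_map_smul (r : A) (K : CochainComplex (ModuleCat.{u} A) ℤ) :
    (Q : _ ⥤ Dual.D A).map (r • 𝟙 K) = r • 𝟙 (Q.obj K) := by
  rw [Functor.map_smul, CategoryTheory.Functor.map_id]

/-- Adjoining an element to the Koszul complex takes the cone. -/
theorem exists_koszul_triangle (f : A) (l : List A) :
    ∃ (m₂ : (Q.obj (Koszul.koszul A l) : Dual.D A) ⟶ Q.obj (Koszul.koszul A (f :: l)))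
      (m₃ : (Q.obj (Koszul.koszul A (f :: l)) : Dual.D A) ⟶ (Q.obj (Koszul.koszul A l))⟦(1 : ℤ)⟧),
      Triangle.mk (f • 𝟙 (Q.obj (Koszul.koszul A l) : Dual.D A)) m₂ m₃ ∈ distTriang (Dual.D A) := by
  let φ := f • 𝟙 (Koszul.koszul A l)
  refine ⟨Q.map (CochainComplex.mappingCone.inr φ),
    ((Q (C := ModuleCat.{u} A)).mapTriangle.obj (CochainComplex.mappingCone.triangle φ)).mor₃, ?_⟩
  have h := DerivedCategory.mappingCone_triangle_distinguished φ
  rw [← Q_map_smul f]
  exact h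

theorem koszul_nil_iso : Nonempty ((Q.obj (Koszul.koszul A []) : Dual.D A) ≅
    (singleFunctor (ModuleCat.{u} A) 0).obj (ModuleCat.of A A)) :=
  ⟨((singleFunctorIsoCompQ (ModuleCat.{u} A) 0).app (ModuleCat.of A A)).symm⟩

theorem isPerfect_koszul : ∀ l : List A, DRing.IsPerfect A (Q.obj (Koszul.koszul A l))
  | [] => koszul_nil_iso.elim fun e => isPerfect_of_iso e.symm isPerfect_gen
  | f :: l => by
    obtain ⟨m₂, m₃, hT⟩ := exists_koszul_triangle f l
    exact (isPerfect_triangle _ hT).1 (isPerfect_koszul l) (isPerfect_koszul l)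

theorem nil_koszul : ∀ (l : List A), ∀ g ∈ l, Nil g (Q.obj (Koszul.koszul A l) : Dual.D A)
  | [], g, hg => absurd hg List.not_mem_nil
  | f :: l, g, hg => by
    obtain ⟨m₂, m₃, hT⟩ := exists_koszul_triangle f l
    rcases List.mem_cons.1 hg with rfl | hg
    · exact nil_cone_self ⟨1, (pow_one g).symm⟩ hT
    · exact nil_cone_of_nil hT (nil_koszul l g hg) (nil_koszul l g hg)

theorem detector_koszul : ∀ (l : List A) (E : Dual.D A), (∀ f ∈ l, IsTorsion f E) → ∀ n : ℤ,
    (∀ φ : (Q.obj (Koszul.koszul A l) : Dual.D A)⟦n⟧ ⟶ E, φ = 0) →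
      IsZero ((homologyFunctor (ModuleCat.{u} A) (-n)).obj E)
  | [], E, _, n, h => by
    obtain ⟨e⟩ := koszul_nil_iso (A := A)
    haveI : Subsingleton ((homologyFunctor (ModuleCat.{u} A) (-n)).obj E) := ⟨fun x y => by
      obtain ⟨φ, hφ⟩ := (DerTheta.thetaBij_of_projective (ModuleCat.of A A) (-n) E).2
        (ModuleCat.ofHom (LinearMap.toSpanSingleton A _ (x - y)))
      obtain rfl : φ = 0 := by
        rw [← cancel_epi (((singleFunctors (ModuleCat.{u} A)).shiftIso n (-n) 0 (by omega)).app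
          (ModuleCat.of A A)).hom, comp_zero, ← cancel_epi (e.hom⟦n⟧'), comp_zero]
        exact h _
      have h1 := LinearMap.congr_fun (congrArg ModuleCat.Hom.hom (SiteDer.theta_zero.symm.trans hφ)) (1 : A)
      exact sub_eq_zero.1 (by simpa using h1.symm)⟩
    exact ModuleCat.isZero_of_subsingleton _
  | f :: l, E, hE, n, h => by
    obtain ⟨m₂, m₃, hT⟩ := exists_koszul_triangle f l
    exact detector_koszul l E (fun g hg => hE g (List.mem_cons_of_mem _ hg)) n
      (eq_zero_of_cone_torsion_at hT (torsionHom_of_isPerfect (hE f List.mem_cons_self) (isPerfect_koszul l)) n h)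

theorem WinHom.of_iso {f : A} {b k : ℤ} {R S : Dual.D A} (e : R ≅ S) (h : WinHom f b k R) : WinHom f b k S :=
  fun n C hC => TriCat.torsion_of_iso ((shiftFunctor (Dual.D A) n).mapIso e) (h n C hC)

theorem winHom_gen (f : A) (b : ℤ) :
    WinHom f b 0 ((singleFunctor (ModuleCat.{u} A) b).obj (ModuleCat.of A A)) :=
  (winHom_single f b 1).of_iso
    ((singleFunctor (ModuleCat.{u} A) b).mapIso (LinearEquiv.funUnique (Fin 1) A A).toModuleIso)

theorem winHom_koszul : ∀ (l : List A) (g : A), WinHom g 0 l.length (Q.obj (Koszul.koszul A l) : Dual.D A)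
  | [], g => koszul_nil_iso.elim fun e => (winHom_gen g 0).of_iso e.symm
  | f :: l, g => by
    obtain ⟨m₂, m₃, hT⟩ := exists_koszul_triangle f l
    have := winHom_cone hT (by omega) (winHom_koszul l g) (winHom_koszul l g)
    simp only [List.length_cons]
    push_cast
    exact this

/-- The Koszul complex only sees the degrees `[-#fs, 0]`. -/
theorem hom_koszul_eq_zero (l : List A) (n : ℤ) {C : Dual.D A}
    (hC : ∀ j, -n - (l.length : ℤ) ≤ j → j ≤ -n → IsZero ((homologyFunctor (ModuleCat.{u} A) j).obj C))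
    (φ : (Q.obj (Koszul.koszul A l) : Dual.D A)⟦n⟧ ⟶ C) : φ = 0 := by
  obtain ⟨m, hm⟩ := winHom_koszul l 1 n C (fun j h1 h2 x => ⟨0, by
    haveI := ModuleCat.subsingleton_of_isZero (hC j (by omega) (by omega))
    exact Subsingleton.elim _ _⟩) φ
  simpa using hm

end GrothLib.DR

namespace GrothLib.OX

variable {A : Type u} [CommRing A] (fs : List A)

/-- The Koszul object of `fs` on `Spec A`. -/
noncomputable abbrev Kz : DCoh.D (Spec (CommRingCat.of A)) :=
  (DCoh.tildeD (CommRingCat.of A)).obj (DerivedCategory.Q.obj (Koszul.koszul A fs))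

/-- The complement of `V(fs)`. -/
abbrev Uo : (Spec (CommRingCat.of A)).Opens := LocCoh.puncturedOpen A (Ideal.span {a | a ∈ fs})

theorem opensRange_puncturedOpen :
    Scheme.Hom.opensRange (Scheme.Opens.ι (Uo fs)) = ⨆ k : {f // f ∈ fs}, PrimeSpectrum.basicOpen k.1 := by
  rw [Scheme.Opens.opensRange_ι]
  ext p
  change p ∈ (PrimeSpectrum.zeroLocus (↑(Ideal.span {a | a ∈ fs}) : Set A))ᶜ ↔ p ∈ (⨆ k : {f // f ∈ fs}, PrimeSpectrum.basicOpen k.1)
  rw [PrimeSpectrum.zeroLocus_span]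
  refine ⟨fun hp => ?_, fun hp hs => ?_⟩
  · obtain ⟨a, ha, hp⟩ := Set.not_subset.1 hp
    exact Opens.mem_iSup.2 ⟨⟨a, ha⟩, hp⟩
  · obtain ⟨k, hp⟩ := Opens.mem_iSup.1 hp
    exact hp (hs k.2)

theorem isCompact_puncturedOpen : IsCompact (((Uo fs) : (Spec (CommRingCat.of A)).Opens) : Set (Spec (CommRingCat.of A))) := by
  rw [← Scheme.Opens.opensRange_ι (Uo fs), opensRange_puncturedOpen]
  have : Finite {f // f ∈ fs} := List.finite_toSet fs
  refine (Opens.coe_iSup (fun k : {f // f ∈ fs} => PrimeSpectrum.basicOpen k.1)).symm ▸ ?_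
  exact isCompact_iUnion fun k => PrimeSpectrum.isCompact_basicOpen k.1

theorem isZero_resD_koszul : IsZero ((resD (Scheme.Opens.ι (Uo fs))).obj (Kz fs)) :=
  isZero_AG_of_isTorsion (A := CommRingCat.of A) (Scheme.Opens.ι (Uo fs)) (opensRange_puncturedOpen fs)
    fun f hf => (DR.nil_koszul fs f hf).isTorsion

theorem hom_koszul_iff (N : Dual.D A) (n : ℤ) :
    (∀ φ :  (Kz fs)⟦n⟧ ⟶ (DCoh.tildeD (CommRingCat.of A)).obj N, φ = 0) ↔
      ∀ φ : (DerivedCategory.Q.obj (Koszul.koszul A fs) : Dual.D A)⟦n⟧ ⟶ N, φ = 0 := by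
  have h1 := (tildeD_full_faithful_essImage (R := CommRingCat.of A)).1
  have h2 := (tildeD_full_faithful_essImage (R := CommRingCat.of A)).2.1
  let T := DCoh.tildeD (CommRingCat.of A)
  let e := ((T.commShiftIso n).app (DerivedCategory.Q.obj (Koszul.koszul A fs) : Dual.D A))
  refine ⟨fun h φ => T.map_injective ?_, fun h φ => ?_⟩
  · rw [Functor.map_zero]
    have := h (e.inv ≫ T.map φ)
    exact (cancel_epi e.inv).1 (this.trans comp_zero.symm)
  · have h3 : T.preimage (e.hom ≫ φ) = 0 := h _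
    have h4 := congrArg T.map h3
    rw [Functor.map_preimage, Functor.map_zero] at h4
    exact (cancel_epi e.hom).1 (h4.trans comp_zero.symm)

theorem isZero_tilde_iff (M : ModuleCat.{u} A) : IsZero ((tilde.functor (CommRingCat.of A)).obj M) ↔ IsZero M := by
  haveI : (tilde.functor (CommRingCat.of A)).Faithful := tilde.fullyFaithfulFunctor.faithful
  refine ⟨fun h => ?_, fun h => (tilde.functor (CommRingCat.of A)).map_isZero h⟩
  exact (IsZero.iff_id_eq_zero _).2 ((tilde.functor (CommRingCat.of A)).map_injective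
    ((CategoryTheory.Functor.map_id _ _).trans (h.eq_of_src _ _)))

theorem isZero_HD_iff {F : DCoh.D (Spec (CommRingCat.of A))} {N : Dual.D A}
    (e : (DCoh.tildeD (CommRingCat.of A)).obj N ≅ F) (j : ℤ) :
    IsZero (DCoh.HD F j) ↔ IsZero ((DerivedCategory.homologyFunctor (ModuleCat.{u} A) j).obj N) :=
  (((DerivedCategory.homologyFunctor _ j).mapIso e.symm ≪≫ HDTildeIso (R := CommRingCat.of A) N j).isZero_iff).trans
    (isZero_tilde_iff _)

/-- Detection of what is supported on `V(fs)`, one degree at a time. -/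
theorem isZero_HD_of_hom_koszul {F : DCoh.D (Spec (CommRingCat.of A))} (hF : DCoh.IsQCohD F)
    (hFU : IsZero ((resD (Scheme.Opens.ι (Uo fs))).obj F)) (n : ℤ) (h : ∀ φ :  (Kz fs)⟦n⟧ ⟶ F, φ = 0) :
    IsZero (DCoh.HD F (-n)) := by
  obtain ⟨N, ⟨e⟩⟩ := (tildeD_full_faithful_essImage (R := CommRingCat.of A)).2.2 _ hF
  refine (isZero_HD_iff e _).2 (DR.detector_koszul fs N (fun f hf => ?_) n ((hom_koszul_iff fs N n).1 fun φ => ?_))
  · exact isTorsion_of_isZero_AG (A := CommRingCat.of A) (Scheme.Opens.ι (Uo fs)) (hFU.of_iso ((resD _).mapIso e))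
      ((opensRange_puncturedOpen fs) ▸ le_iSup (fun k : {f // f ∈ fs} => PrimeSpectrum.basicOpen k.1) ⟨f, hf⟩)
  · exact (cancel_mono e.hom).1 ((h _).trans zero_comp.symm)

/-- The Koszul object only sees `#fs + 1` degrees. -/
theorem hom_koszul_eq_zero {F : DCoh.D (Spec (CommRingCat.of A))} (hF : DCoh.IsQCohD F) (n : ℤ)
    (h : ∀ j, -n - (fs.length : ℤ) ≤ j → j ≤ -n → IsZero (DCoh.HD F j)) (φ :  (Kz fs)⟦n⟧ ⟶ F) : φ = 0 := by
  obtain ⟨N, ⟨e⟩⟩ := (tildeD_full_faithful_essImage (R := CommRingCat.of A)).2.2 _ hF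
  have h0 := (hom_koszul_iff fs N n).2
    (DR.hom_koszul_eq_zero fs n fun j h1 h2 => (isZero_HD_iff e j).1 (h j h1 h2)) (φ ≫ e.inv)
  exact (cancel_mono e.inv).1 (h0.trans zero_comp.symm)

variable [PreservesFiniteLimits (Scheme.Modules.restrictFunctor (Scheme.Opens.ι (Uo fs)))]
  [DCoh.HasRpush (Scheme.Opens.ι (Uo fs))]
  (adj : DCoh.restrictD (Scheme.Opens.ι (Uo fs)) ⊣ DCoh.Rpush (Scheme.Opens.ι (Uo fs)))

theorem hom_koszul_Rpush (M : DCoh.D ((Uo fs) : Scheme.{u})) (n : ℤ)
    (φ :  (Kz fs)⟦n⟧ ⟶ (DCoh.Rpush (Scheme.Opens.ι (Uo fs))).obj M) : φ = 0 := by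
  rw [← cancel_mono ((rpushIsoRres (Scheme.Opens.ι (Uo fs))).app M).hom, zero_comp]
  exact ((resDAdj (Scheme.Opens.ι (Uo fs))).homEquiv _ _).symm.injective
    ((((shiftFunctor _ n).map_isZero (isZero_resD_koszul fs)).of_iso
      (((resD (Scheme.Opens.ι (Uo fs))).commShiftIso n).app (Kz fs))).eq_of_src _ _)

theorem isQCohD_Rpush {M : DCoh.D ((Uo fs) : Scheme.{u})} (hM : DCoh.IsQCohD M) :
    DCoh.IsQCohD ((DCoh.Rpush (Scheme.Opens.ι (Uo fs))).obj M) := by
  have := quasiCompact_of_isCompact_range (Scheme.Opens.ι (Uo fs))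
    (by rw [Scheme.Opens.range_ι]; exact isCompact_puncturedOpen fs)
  exact fun i => isQCoh_of_iso ((DerivedCategory.homologyFunctor _ i).mapIso
    ((rpushIsoRres (Scheme.Opens.ι (Uo fs))).app M).symm) (isQCohD_Rres (Scheme.Opens.ι (Uo fs)) M hM i)

/-- The local cohomology object: the fibre of the unit. -/
theorem exists_fibre_unit {E : DCoh.D (Spec (CommRingCat.of A))} (hE : DCoh.IsQCohD E) :
    ∃ (F : DCoh.D (Spec (CommRingCat.of A))) (p : F ⟶ E) (d : _),
      Triangle.mk p (adj.unit.app E) d ∈ distTriang _ ∧ DCoh.IsQCohD F ∧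
      IsZero ((resD (Scheme.Opens.ι (Uo fs))).obj F) ∧
      ∀ n : ℤ, ((∀ φ :  (Kz fs)⟦n⟧ ⟶ F, φ = 0) ↔ ∀ φ :  (Kz fs)⟦n⟧ ⟶ E, φ = 0) := by
  let j := Scheme.Opens.ι (Uo fs)
  let adj₂ : resD j ⊣ DCoh.Rpush j := (resDAdj j).ofNatIsoRight (rpushIsoRres j).symm
  have hu : IsIso ((resD j).map (adj.unit.app E)) := by
    have h := Adjunction.unit_rightAdjointUniq_hom_app adj₂ adj E
    have h₂ : adj₂.unit.app E = (resDAdj j).unit.app E ≫ (rpushIsoRres j).inv.app ((resD j).obj E) := by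
      simp [adj₂, Adjunction.ofNatIsoRight, Adjunction.mkOfHomEquiv]
    have := isIso_resD_unit j E
    rw [← h, h₂, Functor.map_comp, Functor.map_comp]
    infer_instance
  obtain ⟨F, p, d, hT⟩ := distinguished_cocone_triangle₁ (adj.unit.app E)
  have hR := isQCohD_Rpush fs (isQCohD_resD j hE)
  refine ⟨F, p, d, hT, isQCohD_obj₃ (inv_rot_of_distTriang _ (inv_rot_of_distTriang _ hT))
    (isQCohD_shift hE (-1)) (isQCohD_shift hR (-1)), ?_, fun n => ?_⟩
  · exact (Triangle.isZero₁_iff_isIso₂ _ ((resD j).map_distinguished _ hT)).2 hu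
  · exact hom_zero_iff_of_triangle' hT (hom_koszul_Rpush fs _ n) fun φ => by
      have h1 : φ⟦(1 : ℤ)⟧' = 0 := by
        let e := (shiftFunctorAdd' (DCoh.D (Spec (CommRingCat.of A))) n 1 (n + 1) rfl).app (Kz fs)
        let ε := (shiftEquiv (DCoh.D (Spec (CommRingCat.of A))) (1 : ℤ)).counitIso.app
          ((DCoh.Rpush j).obj ((DCoh.restrictD j).obj E))
        have := hom_koszul_Rpush fs _ (n + 1) (e.hom ≫ φ⟦(1 : ℤ)⟧' ≫ ε.hom)
        have h2 := (cancel_epi e.hom).1 (this.trans comp_zero.symm)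
        exact (cancel_mono ε.hom).1 (h2.trans zero_comp.symm)
      exact (shiftFunctor _ (1 : ℤ)).map_injective (h1.trans (Functor.map_zero _ _ _).symm)

theorem orth_iff_exists_Rpush (adj₀ : DCoh.restrictD (Scheme.Opens.ι (Uo fs)) ⊣ DCoh.Rpush (Scheme.Opens.ι (Uo fs)))
    {E : DCoh.D (Spec (CommRingCat.of A))} (hE : DCoh.IsQCohD E) :
    (∃ M : DCoh.D ((Uo fs) : Scheme.{u}), DCoh.IsQCohD M ∧ Nonempty (E ≅ (DCoh.Rpush (Scheme.Opens.ι (Uo fs))).obj M)) ↔
      ∀ (n : ℤ) (φ :  (Kz fs)⟦n⟧ ⟶ E), φ = 0 := by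
  constructor
  · rintro ⟨M, _, ⟨e⟩⟩ n φ
    exact (cancel_mono e.hom).1 ((hom_koszul_Rpush fs M n _).trans zero_comp.symm)
  · intro h
    obtain ⟨F, p, d, hT, hF, hFU, hiff⟩ := exists_fibre_unit fs adj₀ hE
    have hz : IsZero F := isZero_of_support_empty fun q => Set.eq_empty_iff_forall_notMem.2 fun x hx => by
      have := isZero_HD_of_hom_koszul fs hF hFU (-q) ((hiff _).2 (h _))
      rw [neg_neg] at this
      exact hx (ModuleCat.subsingleton_of_isZero ((stalk x).map_isZero this))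
    have : IsIso (adj₀.unit.app E) := (Triangle.isZero₁_iff_isIso₂ _ hT).1 hz
    exact ⟨_, isQCohD_resD (Scheme.Opens.ι (Uo fs)) hE, ⟨asIso (adj₀.unit.app E)⟩⟩

theorem isIso_truncGE_unit {E : DCoh.D (Spec (CommRingCat.of A))} (hE : DCoh.IsQCohD E) (a : ℤ)
    (h : ∀ n : ℤ, a ≤ n → ∀ φ :  (Kz fs)⟦-n⟧ ⟶ E, φ = 0) :
    ∀ i, a ≤ i → IsIso ((DerivedCategory.homologyFunctor _ i).map (adj.unit.app E)) := fun i hi => by
  obtain ⟨F, p, d, hT, hF, hFU, hiff⟩ := exists_fibre_unit fs adj hE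
  have hz : ∀ q, a ≤ q → IsZero (DCoh.HD F q) := fun q hq => by
    have := isZero_HD_of_hom_koszul fs hF hFU (-q) ((hiff _).2 (h q hq))
    rwa [neg_neg] at this
  exact DerTrunc.isIso_homology_mor₂ hT i (hz i hi) (hz (i + 1) (by omega))

theorem isIso_truncLE_unit {E : DCoh.D (Spec (CommRingCat.of A))} (hE : DCoh.IsQCohD E) (a : ℤ)
    (h : ∀ n : ℤ, n ≤ a → ∀ φ :  (Kz fs)⟦-n⟧ ⟶ E, φ = 0) :
    ∀ i, i ≤ a - 1 → IsIso ((DerivedCategory.homologyFunctor _ i).map (adj.unit.app E)) := fun i hi => by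
  obtain ⟨F, p, d, hT, hF, hFU, hiff⟩ := exists_fibre_unit fs adj hE
  have hz : ∀ q, q ≤ a → IsZero (DCoh.HD F q) := fun q hq => by
    have := isZero_HD_of_hom_koszul fs hF hFU (-q) ((hiff _).2 (h q hq))
    rwa [neg_neg] at this
  exact DerTrunc.isIso_homology_mor₂ hT i (hz i (by omega)) (hz (i + 1) (by omega))

theorem orth_of_isIso_le {E : DCoh.D (Spec (CommRingCat.of A))} (hE : DCoh.IsQCohD E) (a : ℤ)
    (h : ∀ i, i ≤ a - 1 → IsIso ((DerivedCategory.homologyFunctor _ i).map (adj.unit.app E)))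
    (n : ℤ) (hn : n ≤ a - 1) : ∀ φ :  (Kz fs)⟦-n⟧ ⟶ E, φ = 0 := by
  obtain ⟨F, p, d, hT, hF, hFU, hiff⟩ := exists_fibre_unit fs adj hE
  refine (hiff _).1 fun φ => hom_koszul_eq_zero fs hF (-n) (fun q h1 h2 => ?_) φ
  have := h (q - 1) (by omega)
  have := h q (by omega)
  refine (DerivedCategory.HomologySequence.exact₁ _ hT (q - 1) q (by omega)).isZero_of_both_zeros ?_ ?_
  · have : Epi ((DerivedCategory.homologyFunctor _ (q - 1)).map (adj.unit.app E)) := inferInstance
    exact (cancel_epi ((DerivedCategory.homologyFunctor _ (q - 1)).map (adj.unit.app E))).1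
      ((DerivedCategory.HomologySequence.comp_δ _ hT (q - 1) q (by omega)).trans comp_zero.symm)
  · have : Mono ((DerivedCategory.homologyFunctor _ q).map (adj.unit.app E)) := inferInstance
    change (DerivedCategory.homologyFunctor _ q).map p = 0
    rw [← cancel_mono ((DerivedCategory.homologyFunctor _ q).map (adj.unit.app E)), zero_comp, ← Functor.map_comp,
      show p ≫ adj.unit.app E = 0 from comp_distTriang_mor_zero₁₂ _ hT, Functor.map_zero]

theorem orth_of_isIso_ge {E : DCoh.D (Spec (CommRingCat.of A))} (hE : DCoh.IsQCohD E) (a : ℤ)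
    (h : IsIso ((DerivedCategory.TStructure.t.truncGE a).map (adj.unit.app E)))
    (n : ℤ) (hn : a + (fs.length : ℤ) ≤ n) : ∀ φ :  (Kz fs)⟦-n⟧ ⟶ E, φ = 0 := by
  have key : ∀ {L : DCoh.D (Spec (CommRingCat.of A))}, DCoh.IsQCohD L → ((∀ φ :  (Kz fs)⟦-n⟧ ⟶ L, φ = 0) ↔
      ∀ φ :  (Kz fs)⟦-n⟧ ⟶ (DerivedCategory.TStructure.t.truncGE a).obj L, φ = 0) := fun {L} hL =>
    hom_zero_iff_of_triangle (T := (DerivedCategory.TStructure.t.triangleLTGE a).obj L)
      (DerivedCategory.TStructure.t.triangleLTGE_distinguished a L)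
      (hom_koszul_eq_zero fs (isQCohD_truncLT hL a) (-n) fun q h1 _ =>
        DerTrunc.isZero_homology_truncLT L a q (by omega))
      (hom_koszul_eq_zero fs (isQCohD_shift (isQCohD_truncLT hL a) 1) (-n) fun q h1 _ =>
        (DerTrunc.isZero_homology_truncLT L a (1 + q) (by omega)).of_iso (HDShiftIso _ 1 q _ rfl))
  refine (key hE).2 fun φ => ?_
  have := (key (isQCohD_Rpush fs (isQCohD_resD (Scheme.Opens.ι (Uo fs)) hE))).1 (hom_koszul_Rpush fs _ (-n))
    (φ ≫ (DerivedCategory.TStructure.t.truncGE a).map (adj.unit.app E))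
  exact (cancel_mono ((DerivedCategory.TStructure.t.truncGE a).map (adj.unit.app E))).1 (this.trans zero_comp.symm)

end GrothLib.OX

namespace GrothLib.OX

/-- An isomorphism on `τ_{≤ a}` is an isomorphism on cohomology in degrees `≤ a`. -/
theorem isIso_truncLE_map_iff {X : Scheme.{u}} {K L : DCoh.D X} (φ : K ⟶ L) (a : ℤ) :
    IsIso ((DerivedCategory.TStructure.t.truncLE a).map φ) ↔
      ∀ i, i ≤ a → IsIso ((DerivedCategory.homologyFunctor X.Modules i).map φ) := by
  change IsIso ((DerivedCategory.TStructure.t.truncLT (a + 1)).map φ) ↔ _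
  let H := fun i => DerivedCategory.homologyFunctor X.Modules i
  have hnat : ∀ i, (H i).map ((DerivedCategory.TStructure.t.truncLTι (a + 1)).app K) ≫ (H i).map φ =
      (H i).map ((DerivedCategory.TStructure.t.truncLT (a + 1)).map φ) ≫
        (H i).map ((DerivedCategory.TStructure.t.truncLTι (a + 1)).app L) := fun i => by
    rw [← Functor.map_comp, ← Functor.map_comp]
    exact congrArg _ ((DerivedCategory.TStructure.t.truncLTι (a + 1)).naturality φ).symm
  constructor
  · intro h i hi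
    have := DerTrunc.isIso_homology_truncLTι K (a + 1) i (by omega)
    have := DerTrunc.isIso_homology_truncLTι L (a + 1) i (by omega)
    have : IsIso ((H i).map ((DerivedCategory.TStructure.t.truncLTι (a + 1)).app K) ≫ (H i).map φ) := by
      rw [hnat i]; infer_instance
    exact IsIso.of_isIso_comp_left ((H i).map ((DerivedCategory.TStructure.t.truncLTι (a + 1)).app K)) _
  · intro h
    refine (DerivedCategory.isIso_iff _ _).2 fun i => ?_
    rcases lt_or_ge a i with hi | hi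
    · exact ⟨0, (DerTrunc.isZero_homology_truncLT K (a + 1) i (by omega)).eq_of_src _ _,
        (DerTrunc.isZero_homology_truncLT L (a + 1) i (by omega)).eq_of_src _ _⟩
    · have := h i hi
      have := DerTrunc.isIso_homology_truncLTι K (a + 1) i (by omega)
      have := DerTrunc.isIso_homology_truncLTι L (a + 1) i (by omega)
      have : IsIso ((H i).map ((DerivedCategory.TStructure.t.truncLT (a + 1)).map φ) ≫
          (H i).map ((DerivedCategory.TStructure.t.truncLTι (a + 1)).app L)) := by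
        rw [← hnat i]; infer_instance
      exact IsIso.of_isIso_comp_right _ ((H i).map ((DerivedCategory.TStructure.t.truncLTι (a + 1)).app L))

end GrothLib.OX
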