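import Groth.Agent.Lib.OX.AffinePush

/-! # Direct images of associated objects, naturally -/

set_option autoImplicit false
set_option maxHeartbeats 600000
universe u

open CategoryTheory CategoryTheory.Limits CategoryTheory.Pretriangulated AlgebraicGeometry HomologicalComplex
open DerivedCategory (Qh)

attribute [local instance] HasDerivedCategory.standard

namespace GrothLib.OX

variable {X Y : Scheme.{u}}

/-- The comparison `f_* ⟶ Rf_*`, natural in complexes. -/
noncomputable def pushToRR (f : X ⟶ Y) : pushCxF f ⋙ DerivedCategory.Q ⟶ DerivedCategory.Q ⋙ RR f where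
  app F := (DerivedCategory.quotientCompQhIso Y.Modules).inv.app ((pushCxF f).obj F) ≫ pushUnit f F ≫
    (RR f).map ((DerivedCategory.quotientCompQhIso X.Modules).hom.app F)
  naturality F G i := by
    have h1 := (DerivedCategory.quotientCompQhIso Y.Modules).inv.naturality ((pushCxF f).map i)
    have h2 := pushUnit_naturality f i
    have h3 := congrArg (RR f).map ((DerivedCategory.quotientCompQhIso X.Modules).hom.naturality i)
    rw [Functor.map_comp, Functor.map_comp] at h3
    refine ((Category.assoc _ _ _).symm.trans (congrArg (· ≫ _) h1)).trans ((Category.assoc _ _ _).trans ?_)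
    refine Eq.trans ?_ ((congrArg (_ ≫ ·) (congrArg (_ ≫ ·) h3)).trans
      ((congrArg (_ ≫ ·) (Category.assoc _ _ _).symm).trans (Category.assoc _ _ _).symm))
    exact congrArg (_ ≫ ·) ((Category.assoc _ _ _).symm.trans ((congrArg (· ≫ _) h2).trans (Category.assoc _ _ _)))

theorem isIso_pushToRR_app (f : X ⟶ Y) [IsAffineHom f] (F : CochainComplex X.Modules ℤ)
    (hF : ∀ n, Coh.IsQCoh (F.X n)) : IsIso ((pushToRR f).app F) := by
  have : IsIso (pushUnit f F) := isIso_pushKh_unit_of_affine f F hF
  exact @IsIso.comp_isIso _ _ _ _ _ _ _ (Iso.isIso_inv ((DerivedCategory.quotientCompQhIso Y.Modules).app _)) (@IsIso.comp_isIso _ _ _ _ _ _ _ this (map_isIso_of (RR f) (Iso.isIso_hom ((DerivedCategory.quotientCompQhIso X.Modules).app F))))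

variable {R S : CommRingCat.{u}} (φ : R ⟶ S)

/-- Associated sheaves, on complexes. -/
noncomputable abbrev tildeCxF (R : CommRingCat.{u}) :
    CochainComplex (ModuleCat.{u} R) ℤ ⥤ CochainComplex (Spec R).Modules ℤ :=
  (tilde.functor R).mapHomologicalComplex (ComplexShape.up ℤ)

/-- Direct images of complexes of associated sheaves, naturally. -/
noncomputable def pushTildeCxNatIso :
    tildeCxF S ⋙ pushCxF (Spec.map φ) ≅
      (ModuleCat.restrictScalars φ.hom).mapHomologicalComplex (ComplexShape.up ℤ) ⋙ tildeCxF R :=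
  NatIso.ofComponents (fun C => pushTildeCxIso φ C)
    fun {C C'} g => HomologicalComplex.hom_ext _ _ fun n => (pushTildeIso φ).hom.naturality (g.f n)

theorem isIso_pushToRR_tilde (C : CochainComplex (ModuleCat.{u} S) ℤ) :
    IsIso ((pushToRR (Spec.map φ)).app ((tildeCxF S).obj C)) :=
  isIso_pushToRR_app (Spec.map φ) _ fun n => inferInstanceAs ((tilde (C.X n)).IsQuasicoherent)

/-- `Rf_*` of associated objects, naturally on complexes. -/
noncomputable def RRTildeQIso :
    DerivedCategory.Q ⋙ DCoh.tildeD S ⋙ RR (Spec.map φ) ≅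
      DerivedCategory.Q ⋙ DRing.restrictD φ.hom ⋙ DCoh.tildeD R :=
  let w := Functor.whiskerLeft (tildeCxF S) (pushToRR (Spec.map φ))
  have := fun C => isIso_pushToRR_tilde φ C
  have : IsIso w := @NatIso.isIso_of_isIso_app _ _ _ _ _ _ w fun C => this C
  (Functor.associator _ _ _).symm ≪≫
    Functor.isoWhiskerRight (tilde.functor S).mapDerivedCategoryFactors (RR (Spec.map φ)) ≪≫
    Functor.associator _ _ _ ≪≫ (asIso w).symm ≪≫ (Functor.associator _ _ _).symm ≪≫
    Functor.isoWhiskerRight (pushTildeCxNatIso φ) DerivedCategory.Q ≪≫ Functor.associator _ _ _ ≪≫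
    Functor.isoWhiskerLeft _ (tilde.functor R).mapDerivedCategoryFactors.symm ≪≫
    (Functor.associator _ _ _).symm ≪≫
    Functor.isoWhiskerRight (ModuleCat.restrictScalars φ.hom).mapDerivedCategoryFactors.symm (DCoh.tildeD R) ≪≫
    Functor.associator _ _ _

/-- `Rf_* (M~) = (M_A)~`, naturally in `M`. -/
noncomputable def RRTildeIso :
    DCoh.tildeD S ⋙ RR (Spec.map φ) ≅ DRing.restrictD φ.hom ⋙ DCoh.tildeD R :=
  have : Localization.Lifting DerivedCategory.Q
      (HomologicalComplex.quasiIso (ModuleCat.{u} S) (ComplexShape.up ℤ))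
      (DerivedCategory.Q ⋙ DCoh.tildeD S ⋙ RR (Spec.map φ)) (DCoh.tildeD S ⋙ RR (Spec.map φ)) := ⟨Iso.refl _⟩
  have : Localization.Lifting DerivedCategory.Q
      (HomologicalComplex.quasiIso (ModuleCat.{u} S) (ComplexShape.up ℤ))
      (DerivedCategory.Q ⋙ DRing.restrictD φ.hom ⋙ DCoh.tildeD R) (DRing.restrictD φ.hom ⋙ DCoh.tildeD R) :=
    ⟨Iso.refl _⟩
  Localization.liftNatIso DerivedCategory.Q (HomologicalComplex.quasiIso (ModuleCat.{u} S) (ComplexShape.up ℤ))
    (DerivedCategory.Q ⋙ DCoh.tildeD S ⋙ RR (Spec.map φ))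
    (DerivedCategory.Q ⋙ DRing.restrictD φ.hom ⋙ DCoh.tildeD R) _ _ (RRTildeQIso φ)

end GrothLib.OX
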