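import Groth.Agent.Lib.OX.TildeKFlat
import Groth.Agent.Lib.QCoh.ClosedImmersion
import Groth.Agent.Lib.QCoh.Qcqs
import Groth.Prelude.Def_Coh
import Mathlib.AlgebraicGeometry.Stalk
import Mathlib.AlgebraicGeometry.Morphisms.QuasiSeparated

/-! # Every module over a local ring is the stalk of a quasi-coherent module -/

set_option autoImplicit false
set_option maxHeartbeats 400000
universe u

open CategoryTheory CategoryTheory.Limits AlgebraicGeometry Opposite TopologicalSpace IsLocalRing

namespace GrothLib.OX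

theorem extend_restrict_iso {A B : Type u} [CommRing A] [CommRing B] (τ : A →+* B)
    (hτ : Function.Bijective τ) (N : ModuleCat.{u} B) :
    Nonempty ((ModuleCat.extendScalars τ).obj ((ModuleCat.restrictScalars τ).obj N) ≅ N) := by
  have : (ModuleCat.restrictScalars.{u} τ).IsEquivalence :=
    ModuleCat.restrictScalars_isEquivalence_of_ringEquiv (RingEquiv.ofBijective τ hτ)
  exact ⟨asIso ((ModuleCat.extendRestrictScalarsAdj τ).counit.app N)⟩

theorem res_iso {A B : Type u} [CommRing A] [CommRing B] (σ : A →+* B)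
    (hσ : Function.Bijective σ) (N : ModuleCat.{u} A) :
    ∃ M : ModuleCat.{u} B, Nonempty ((ModuleCat.restrictScalars σ).obj M ≅ N) := by
  have : (ModuleCat.restrictScalars.{u} σ).IsEquivalence :=
    ModuleCat.restrictScalars_isEquivalence_of_ringEquiv (RingEquiv.ofBijective σ hσ)
  exact ⟨_, ⟨(ModuleCat.restrictScalars σ).objObjPreimageIso N⟩⟩

theorem specToStalk_closedPoint_bijective (A : CommRingCat.{u}) [IsLocalRing A] :
    Function.Bijective (specToStalk A (closedPoint A)) := by
  have h : CommRingCat.ofHom (specToStalk A (closedPoint A)) = (stalkClosedPointIso A).inv := by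
    refine (Iso.eq_comp_inv _).2 ?_ |>.trans (Category.id_comp _)
    change ((Scheme.ΓSpecIso A).inv ≫ (Spec A).presheaf.germ ⊤ (closedPoint A) trivial) ≫ _ = _
    exact (Category.assoc _ _ _).trans ((congrArg (_ ≫ ·) (germ_stalkClosedPointIso_hom A)).trans (Iso.inv_hom_id _))
  have h' : Function.Bijective (CommRingCat.ofHom (specToStalk A (closedPoint A))) := by
    rw [h]; exact ConcreteCategory.bijective_of_isIso _
  exact h'

variable {X : Scheme.{u}}

theorem pushStalkHom_bijective_local {A : CommRingCat.{u}} [IsLocalRing A] (g : Spec A ⟶ X)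
    (N : (Spec A).Modules) : Function.Bijective (QCoh.pushStalkHom g (closedPoint A) N).hom := by
  refine ⟨(injective_iff_map_eq_zero (QCoh.pushStalkHom g (closedPoint A) N).hom).2 fun e he => ?_, fun e => ?_⟩
  · obtain ⟨V, hV, s, rfl⟩ := germ_exists ((Scheme.Modules.pushforward g).obj N).val e
    have he : germ N.val (g ⁻¹ᵁ V) hV s = 0 := (QCoh.pushStalkHom_germ g _ N V hV s).symm.trans he
    obtain ⟨W, hyW, i₁, i₂, h⟩ := TopCat.Presheaf.germ_eq N.presheaf (closedPoint A) (U := g ⁻¹ᵁ V)
      (V := g ⁻¹ᵁ V) hV hV s 0 (he.trans (map_zero _).symm)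
    have hW : W = ⊤ := closed_point_mem_iff.mp hyW
    have h0 : s = 0 := by
      have hle : g ⁻¹ᵁ V ≤ W := hW ▸ le_top
      have h1 : N.presheaf.map (homOfLE hle).op (N.presheaf.map i₁.op s) = 0 := by
        rw [h, map_zero, map_zero]
      refine Eq.trans ?_ h1
      refine Eq.trans ?_ (Cohom.map_map_apply N i₁ (homOfLE hle) s).symm
      exact (ConcreteCategory.congr_hom (N.presheaf.map_id _) s).symm
    rw [h0]
    exact map_zero _
  · obtain ⟨W, hyW, t, rfl⟩ := germ_exists N.val e
    have hW : W = ⊤ := closed_point_mem_iff.mp hyW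
    refine ⟨germ ((Scheme.Modules.pushforward g).obj N).val ⊤ trivial
      (N.presheaf.map (homOfLE (show g ⁻¹ᵁ ⊤ ≤ W from hW ▸ le_top)).op t), ?_⟩
    exact (QCoh.pushStalkHom_germ g _ N ⊤ _ _).trans (germ_map N.val (homOfLE _) _ t)

theorem exists_qcoh_stalk_local {A : CommRingCat.{u}} [IsLocalRing A] (g : Spec A ⟶ X)
    [QuasiCompact g] [QuasiSeparated g] (hg : Function.Bijective (g.stalkMap (closedPoint A)).hom)
    (N : ModuleCat.{u} (X.presheaf.stalk (g (closedPoint A)))) :
    ∃ F : X.Modules, Coh.IsQCoh F ∧ Nonempty ((stalk (g (closedPoint A))).obj F ≅ N) := by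
  obtain ⟨N₁, ⟨e₁⟩⟩ := res_iso _ hg N
  obtain ⟨e₂⟩ := extend_restrict_iso _ (specToStalk_closedPoint_bijective A) N₁
  let N₀ := (ModuleCat.restrictScalars (specToStalk A (closedPoint A))).obj N₁
  let M : (Spec A).Modules := (tilde.functor A).obj N₀
  have : M.IsQuasicoherent := inferInstanceAs (tilde N₀).IsQuasicoherent
  refine ⟨(Scheme.Modules.pushforward g).obj M, QCoh.isQuasicoherent_pushforward g M, ⟨?_⟩⟩
  have := (ConcreteCategory.isIso_iff_bijective (QCoh.pushStalkHom g (closedPoint A) M)).2
    (pushStalkHom_bijective_local g M)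
  exact asIso (QCoh.pushStalkHom g (closedPoint A) M) ≪≫
    (ModuleCat.restrictScalars _).mapIso ((tildeStalkIso A (closedPoint A)).app N₀ ≪≫ e₂) ≪≫ e₁

/-- Every module over a local ring of a quasi-separated scheme is the stalk of a quasi-coherent module. -/
theorem exists_qcoh_stalk [QuasiSeparatedSpace X] (x : X) (N : ModuleCat.{u} (X.presheaf.stalk x)) :
    ∃ F : X.Modules, Coh.IsQCoh F ∧ Nonempty ((stalk x).obj F ≅ N) := by
  have hg : Function.Bijective ((X.fromSpecStalk x).stalkMap (closedPoint (X.presheaf.stalk x))).hom := by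
    have h := Scheme.stalkClosedPointTo_fromSpecStalk x
    rw [Scheme.stalkClosedPointTo, ← Iso.eq_comp_inv] at h
    have : IsIso ((X.fromSpecStalk x).stalkMap (closedPoint (X.presheaf.stalk x))) := by
      rw [h]; infer_instance
    exact ConcreteCategory.bijective_of_isIso _
  have key : ∀ y : X, y = x → (∀ N : ModuleCat.{u} (X.presheaf.stalk y),
      ∃ F : X.Modules, Coh.IsQCoh F ∧ Nonempty ((stalk y).obj F ≅ N)) →
      ∃ F : X.Modules, Coh.IsQCoh F ∧ Nonempty ((stalk x).obj F ≅ N) := by
    rintro y rfl h; exact h N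
  exact key _ Scheme.fromSpecStalk_closedPoint (exists_qcoh_stalk_local _ hg)

end GrothLib.OX
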