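import Groth.Agent.Lib.OX.ProjLocal
import Groth.Agent.Lib.OX.BVdB
import Groth.Agent.Lib.OX.PerfectLemmas

/-! # The projection formula for perfect complexes -/

set_option autoImplicit false
set_option maxHeartbeats 1000000
universe u

open CategoryTheory CategoryTheory.Limits CategoryTheory.Pretriangulated AlgebraicGeometry HomologicalComplex
open DerivedCategory (Q Qh)

attribute [local instance] HasDerivedCategory.standard

namespace GrothLib.OX

variable {X Y : Scheme.{u}} (f : X ⟶ Y) (V : Y.Opens)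

theorem injK_resCx {Z U : Scheme.{u}} (j : U ⟶ Z) [IsOpenImmersion j] {I : CochainComplex Z.Modules ℤ}
    (hI : InjK I) : InjK ((resCx j).obj I) where
  terms n := have := hI.terms n; Injective.injective_of_adjoint (CxOX.extZeroAdj j) (I.X n)
  kInj := (CochainComplex.isKInjective_iff_rightOrthogonal _).2
    (KInj.rightOrthogonal_map (CxOX.extZeroAdj j) (have := hI.kInj; CochainComplex.IsKInjective.rightOrthogonal I))

theorem isIso_resD_projD_of_free {A : CochainComplex X.Modules ℤ} (hA : InjK A) (P : CochainComplex Y.Modules ℤ)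
    (a : ℤ) (m : ℕ) (hb : ∀ i : ℤ, i < a ∨ a + m ≤ i → IsZero (P.X i))
    (hf : ∀ p, ∃ n, Nonempty (((resCx V.ι).obj P).X p ≅ FlatMod.freeMod V n)) :
    IsIso ((resD V.ι).map (projD f P A)) := by
  have h1 : IsIso ((resCx V.ι).map (projCx f P A)) :=
    isIso_resCx_projCx f V P (Finset.Ico a (a + m)) (fun p hp => hb p (by simp at hp; omega)) hf A
  have h2 : IsIso ((resD V.ι).map (Qh.map ((HomotopyCategory.quotient _ _).map (projCx f P A)))) := by
    refine (NatIso.isIso_map_iff (resDFac V.ι) (projCx f P A)).2 ?_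
    exact map_isIso_of DerivedCategory.Q h1
  let W := f ⁻¹ᵁ V
  let c : (resCx W.ι).obj ((pullCxF f).obj P) ≅ (pullCxF (f ∣_ V)).obj ((resCx V.ι).obj P) :=
    ((NatIso.mapHomologicalComplex (pullRestrictIso f V) (ComplexShape.up ℤ)).app P).symm
  have h3 := injK_tensor_of_bounded (injK_resCx W.ι hA) m ((pullCxF (f ∣_ V)).obj ((resCx V.ι).obj P)) a
    (fun i hi => (Scheme.Modules.pullback (f ∣_ V)).map_isZero
      ((Scheme.Modules.restrictFunctor V.ι).map_isZero (hb i hi)))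
    (fun i => by
      obtain ⟨n, ⟨e⟩⟩ := hf i
      exact Or.inr ⟨n, ⟨(Scheme.Modules.pullback (f ∣_ V)).mapIso e ≪≫ pullFreeModIso _ n⟩⟩)
  let e : (resCx W.ι).obj (((DCoh.tensorCx (X := X)).obj ((pullCxF f).obj P)).obj A) ≅
      ((DCoh.tensorCx (X := (W : Scheme.{u}))).obj ((resCx W.ι).obj A)).obj
        ((pullCxF (f ∣_ V)).obj ((resCx V.ι).obj P)) :=
    resTensorCxIso W.ι _ _ ≪≫ tensorCxSymm _ _ ≪≫ ((DCoh.tensorCx (X := (W : Scheme.{u}))).obj _).mapIso c
  have h4 := isIso_resD_pushUnit_of_orth f V (((DCoh.tensorCx (X := X)).obj ((pullCxF f).obj P)).obj A)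
    (InjK.of_iso e.symm h3).kInj
  exact Eq.mpr (congrArg IsIso ((resD V.ι).map_comp _ _)) (@IsIso.comp_isIso _ _ _ _ _ _ _ h2 h4)

/-- Near a point, a strictly perfect complex is bounded with free terms. -/
theorem exists_free_bounded {P : CochainComplex Y.Modules ℤ} {V : Y.Opens}
    {E : CochainComplex (V : Scheme.{u}).Modules ℤ} (hE : DCoh.IsStrictlyPerfect E) {y : Y} (hy : y ∈ V)
    (i : DerivedCategory.Q.obj ((DCoh.restrictCx V).obj P) ≅ DerivedCategory.Q.obj E) :
    ∃ (W : Y.Opens) (E' : CochainComplex (W : Scheme.{u}).Modules ℤ), y ∈ W ∧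
      (∃ (a : ℤ) (m : ℕ), ∀ k : ℤ, k < a ∨ a + m ≤ k → IsZero (E'.X k)) ∧
      (∀ k, ∃ n, Nonempty (E'.X k ≅ FlatMod.freeMod W n)) ∧ DCoh.IsKFlat E' ∧
      Nonempty (DerivedCategory.Q.obj ((resCx W.ι).obj P) ≅ DerivedCategory.Q.obj E') := by
  obtain ⟨⟨a, b, hab⟩, hl⟩ := hE
  choose U n hy' e using fun k => hl k ⟨y, hy⟩
  let s := Finset.Icc a b
  let V₀ : (V : Scheme.{u}).Opens := ⟨⋂ k : s, (U k : Set V), isOpen_iInter_of_finite fun k => (U k).2⟩
  have hle : ∀ k : s, V₀ ≤ U k := fun k => Set.iInter_subset (fun k : s => (U k : Set V)) k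
  let W : Y.Opens := V.ι ''ᵁ V₀
  have hWV : W ≤ V := (V.ι.image_le_opensRange V₀).trans (le_of_eq V.opensRange_ι)
  let h := Y.homOfLE hWV
  have hrange : ∀ k : s, h.opensRange ≤ U k := fun k z hz => by
    obtain ⟨w, rfl⟩ := hz
    obtain ⟨v, hv, hvw⟩ := w.2
    exact hle k (by
      refine Eq.mpr (congrArg (· ∈ V₀) ?_) hv
      exact V.ι.isOpenEmbedding.injective (Eq.trans
        (show V.ι (h w) = W.ι w from (Scheme.Hom.comp_apply h V.ι w).symm.trans (by rw [Scheme.homOfLE_ι]))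
        hvw.symm))
  refine ⟨W, (resCx h).obj E, ⟨⟨y, hy⟩, Set.mem_iInter.2 fun k => hy' k, rfl⟩,
    ⟨a, (b - a + 1).toNat, fun k hk => (Scheme.Modules.restrictFunctor h).map_isZero (hab k (by omega))⟩,
    fun k => ?_, isKFlat_resCx h (isKFlat_of_strictlyPerfect ⟨⟨a, b, hab⟩, hl⟩), ?_⟩
  · by_cases hk : k ∈ s
    · let l : (W : Scheme.{u}) ⟶ (U k : (V : Scheme.{u}).Opens) :=
        IsOpenImmersion.lift (U k).ι h (by
          rw [Scheme.Opens.range_ι]
          exact fun z hz => hrange ⟨k, hk⟩ hz)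
      have hl' : l ≫ (U k).ι = h := IsOpenImmersion.lift_fac _ _ _
      exact ⟨n k, ⟨((Scheme.Modules.restrictFunctorCongr hl'.symm).app (E.X k)) ≪≫
        (Scheme.Modules.restrictFunctorComp l (U k).ι).app (E.X k) ≪≫
        (Scheme.Modules.restrictFunctor l).mapIso (e k).some ≪≫
        (Scheme.Modules.restrictFunctorIsoPullback l).app _ ≪≫ pullFreeModIso l (n k)⟩⟩
    · have hz : IsZero (FlatMod.freeMod W 0) := injK_tensor_of_bounded.isZero_initial_free (X := (W : Scheme.{u}))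
      exact ⟨0, ⟨((Scheme.Modules.restrictFunctor h).map_isZero (hab k (by simp [s] at hk; omega))).iso hz⟩⟩
  · let c : resCx W.ι ≅ resCx V.ι ⋙ resCx h :=
      NatIso.mapHomologicalComplex ((Scheme.Modules.restrictFunctorCongr (Y.homOfLE_ι hWV).symm) ≪≫
        Scheme.Modules.restrictFunctorComp h V.ι) (ComplexShape.up ℤ)
    exact ⟨DerivedCategory.Q.mapIso (c.app P) ≪≫ ((resDFac h).app _).symm ≪≫ (resD h).mapIso i ≪≫ (resDFac h).app E⟩

/-- **Projection formula for perfect complexes, on representatives.** -/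
theorem isIso_projD_of_perfect {A : CochainComplex X.Modules ℤ} (hA : InjK A) (P : CochainComplex Y.Modules ℤ)
    (hP : DCoh.IsKFlat P) (hperf : DCoh.IsPerfect (DerivedCategory.Q.obj P)) : IsIso (projD f P A) := by
  obtain ⟨C, g, c, hT⟩ := distinguished_cocone_triangle (projD f P A)
  suffices IsZero C from (Triangle.isZero₃_iff_isIso₁ _ hT).1 this
  refine isZero_of_support_empty fun q => Set.eq_empty_iff_forall_notMem.2 fun y hy => ?_
  obtain ⟨V₁, E₁, hy₁, hE₁, ⟨i₁⟩⟩ := (isPerfect_iff_rep (Iso.refl _)).1 hperf y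
  obtain ⟨V, E, hyV, ⟨a, m, hb⟩, hf, hEK, ⟨i⟩⟩ := exists_free_bounded hE₁ hy₁ i₁
  obtain ⟨Z, s, hs, g', heq⟩ := DerivedCategory.right_fac i.inv
  obtain ⟨T, t, hT', -, ht, -⟩ := exists_kflat_resolution Z
  have hg' : IsIso (DerivedCategory.Q.map g') :=
    @IsIso.of_isIso_fac_left _ _ _ _ _ _ _ _ (inferInstance : IsIso (inv (DerivedCategory.Q.map s)))
      (inferInstance : IsIso i.inv) heq.symm
  let jz := (CxOX.extZero V.ι).mapHomologicalComplex (ComplexShape.up ℤ)
  let u : ∀ K : CochainComplex (V : Scheme.{u}).Modules ℤ, K ≅ (resCx V.ι).obj (jz.obj K) := fun K =>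
    HomologicalComplex.Hom.isoOfComponents (fun n => (asIso (CxOX.extZeroAdj V.ι).unit).app (K.X n))
      fun n k _ => ((CxOX.extZeroAdj V.ι).unit.naturality (K.d n k)).symm
  have hu : ∀ {K L : CochainComplex (V : Scheme.{u}).Modules ℤ} (φ : K ⟶ L),
      QuasiIso φ → QuasiIso ((resCx V.ι).map (jz.map φ)) := fun {K L} φ h =>
    (quasiIso_iff_of_arrow_mk_iso φ ((resCx V.ι).map (jz.map φ)) (Arrow.isoMk (u K) (u L) (HomologicalComplex.hom_ext _ _ fun n =>
      ((CxOX.extZeroAdj V.ι).unit.naturality (φ.f n)).symm))).1 h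
  let ε : jz.obj ((resCx V.ι).obj P) ⟶ P :=
    { f := fun n => epsZ V.ι (P.X n)
      comm' := fun n k _ => ((CxOX.extZeroAdj V.ι).counit.naturality (P.d n k)).symm }
  have hε : IsIso ((resCx V.ι).map ε) :=
    have : ∀ n, IsIso (((resCx V.ι).map ε).f n) := fun n => isIso_restrict_epsZ V.ι (P.X n)
    HomologicalComplex.Hom.isIso_of_components _
  have hqs : QuasiIso s := (DerivedCategory.isIso_Q_map_iff_quasiIso _ s).1 hs
  have hqg : QuasiIso g' := (DerivedCategory.isIso_Q_map_iff_quasiIso _ g').1 hg'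
  have h0 : IsIso ((resD V.ι).map (projD f (jz.obj E) A)) :=
    isIso_resD_projD_of_free f V hA _ a m (fun k hk => (CxOX.extZero V.ι).map_isZero (hb k hk)) fun p => by
      obtain ⟨n, ⟨e⟩⟩ := hf p
      exact ⟨n, ⟨((asIso (CxOX.extZeroAdj V.ι).unit).app (E.X p)).symm ≪≫ e⟩⟩
  have h1 : IsIso ((resD V.ι).map (projD f (jz.obj T) A)) :=
    (isIso_resD_projD_iff f V (jz.map (t ≫ s)) (isKFlat_extZero _ hT') (isKFlat_extZero _ hEK)
      (hu _ (quasiIso_comp t s)) A).2 h0
  have h2 : IsIso ((resD V.ι).map (projD f P A)) := by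
    refine (isIso_resD_projD_iff f V (jz.map (t ≫ g') ≫ ε) (isKFlat_extZero _ hT') hP ?_ A).1 h1
    rw [Functor.map_comp]
    have := hu _ (quasiIso_comp t g')
    exact quasiIso_comp _ _
  have h3 : IsZero ((resD V.ι).obj C) :=
    (Triangle.isZero₃_iff_isIso₁ _ ((resD V.ι).map_distinguished _ hT)).2 h2
  exact (isZero_resD_iff_support V.ι C).1 h3 q hy ⟨⟨y, hyV⟩, rfl⟩

end GrothLib.OX
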