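import Groth.Agent.Lib.OX.HomDevissage
import Groth.Agent.Lib.OX.RHomRestrict
import Groth.Agent.Lib.OX.ProjPerfect
import Groth.Agent.Lib.OX.DQCohBrown
import Groth.Agent.Lib.OX.AffineLocal
import Groth.Agent.Lib.QCoh.Locality

/-! # `RHom` out of perfect complexes -/

set_option autoImplicit false
set_option maxHeartbeats 1000000
universe u

open CategoryTheory CategoryTheory.Limits CategoryTheory.Pretriangulated AlgebraicGeometry HomologicalComplex

attribute [local instance] HasDerivedCategory.standard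

namespace GrothLib.OX

variable {X : Scheme.{u}}

theorem isQCohD_of_local {K : DCoh.D X}
    (h : ∀ x : X, ∃ V : X.Opens, x ∈ V ∧ DCoh.IsQCohD ((resD V.ι).obj K)) : DCoh.IsQCohD K := fun i => by
  choose V hx hV using h
  exact QCoh.isQuasicoherent_of_restrict _ V
    (eq_top_iff.2 fun x _ => TopologicalSpace.Opens.mem_iSup.2 ⟨x, hx x⟩)
    fun x => isQCoh_of_iso (HDResIso (V x).ι K i) (hV x i)

instance isClosedUnderIsomorphisms_isPerfect :
    (ObjectProperty.IsClosedUnderIsomorphisms (C := DCoh.D X) DCoh.IsPerfect) where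
  of_iso e h := isPerfect_of_iso h e

instance isStableUnderShift_isPerfect : ObjectProperty.IsStableUnderShift (C := DCoh.D X) DCoh.IsPerfect ℤ where
  isStableUnderShiftBy n := ⟨fun _ h => isPerfect_shift h n⟩

instance containsZero_isPerfect : (ObjectProperty.ContainsZero (C := DCoh.D X) DCoh.IsPerfect) where
  exists_zero := by
    obtain ⟨Z, hZ⟩ : ∃ Z : DCoh.D X, IsZero Z := HasZeroObject.zero
    exact ⟨Z, hZ, isPerfect_of_isZero_obj hZ⟩

instance isTriangulatedClosed₂_isPerfect :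
    (ObjectProperty.IsTriangulatedClosed₂ (C := DCoh.D X) DCoh.IsPerfect) where
  ext₂' T hT h₁ h₃ := ObjectProperty.le_isoClosure _ _ ((isPerfect_triangle hT).2.1 h₁ h₃)

instance isTriangulated_isPerfect : (ObjectProperty.IsTriangulated (C := DCoh.D X) DCoh.IsPerfect) where

/-- `RHom` out of a bounded complex of finite free modules preserves triangulated classes. -/
theorem prop_RSheafHom_of_bounded (Pr : ObjectProperty (DCoh.D X)) [Pr.IsTriangulated]
    [Pr.IsClosedUnderIsomorphisms] (E : CochainComplex X.Modules ℤ) [DCoh.HasLTensorCx E] [DCoh.HasRSheafHom E]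
    (hE : DCoh.IsKFlat E) (a : ℤ) (m : ℕ) (hb : ∀ i : ℤ, i < a ∨ a + m ≤ i → IsZero (E.X i))
    (hf : ∀ i, ∃ n, Nonempty (E.X i ≅ FlatMod.freeMod X n)) {M : DCoh.D X} (hM : Pr M) :
    Pr ((DCoh.RSheafHom E).obj M) := by
  obtain ⟨I, i, hi, hI, -⟩ := KInj.exists_kInjective_resolution (A := X.Modules) (DerivedCategory.Q.objPreimage M)
  let e : DerivedCategory.Q.obj I ≅ M :=
    (asIso (DerivedCategory.Q.map i)).symm ≪≫ DerivedCategory.Q.objObjPreimageIso M
  obtain ⟨v⟩ := nonempty_RSheafHom_value E hE I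
  exact Pr.prop_of_iso (v.symm ≪≫ (DCoh.RSheafHom E).mapIso e)
    ((devissage_homCx Pr I (Pr.prop_of_iso e.symm hM)).of_bounded m E a hb fun k => Or.inr (hf k))

/-- Near a point, `RHom` out of a perfect complex is `RHom` out of a bounded complex of free modules. -/
theorem exists_resD_RSheafHom_free (K : CochainComplex X.Modules ℤ) (hK : DCoh.IsPerfect (DerivedCategory.Q.obj K))
    [DCoh.HasLTensorCx K] [DCoh.HasRSheafHom K] (x : X) :
    ∃ (W : X.Opens) (E : CochainComplex (W : Scheme.{u}).Modules ℤ) (_ : DCoh.HasLTensorCx E)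
      (_ : DCoh.HasRSheafHom E), x ∈ W ∧ DCoh.IsKFlat E ∧
      (∃ (a : ℤ) (m : ℕ), ∀ k : ℤ, k < a ∨ a + m ≤ k → IsZero (E.X k)) ∧
      (∀ k, ∃ n, Nonempty (E.X k ≅ FlatMod.freeMod W n)) ∧
      Nonempty (DCoh.RSheafHom K ⋙ resD W.ι ≅ resD W.ι ⋙ DCoh.RSheafHom E) := by
  obtain ⟨V₁, E₁, hx₁, hE₁, ⟨i₁⟩⟩ := (isPerfect_iff_rep (Iso.refl _)).1 hK x
  obtain ⟨W, E, hxW, hb, hf, hEK, ⟨i⟩⟩ := exists_free_bounded hE₁ hx₁ i₁
  have := hasLTensorCx E
  have := hasRSheafHom E
  have := hasLTensorCx ((resCx W.ι).obj K)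
  have := hasRSheafHom ((resCx W.ι).obj K)
  obtain ⟨a⟩ := nonempty_resD_RSheafHom W.ι K
  obtain ⟨b⟩ := nonempty_RSheafHom_congr i
  exact ⟨W, E, inferInstance, inferInstance, hxW, hEK, hb, hf, ⟨a ≪≫ Functor.isoWhiskerLeft _ b⟩⟩

/-- **`RHom` out of a perfect complex preserves quasi-coherent cohomology.** -/
theorem isQCohD_RSheafHom_of_perfect (K : CochainComplex X.Modules ℤ) (hK : DCoh.IsPerfect (DerivedCategory.Q.obj K))
    [DCoh.HasLTensorCx K] [DCoh.HasRSheafHom K] {L : DCoh.D X} (hL : DCoh.IsQCohD L) :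
    DCoh.IsQCohD ((DCoh.RSheafHom K).obj L) := by
  refine isQCohD_of_local fun x => ?_
  obtain ⟨W, E, _, _, hxW, hEK, ⟨a, m, hb⟩, hf, ⟨e⟩⟩ := exists_resD_RSheafHom_free K hK x
  exact ⟨W, hxW, ObjectProperty.prop_of_iso DCoh.IsQCohD (e.app L).symm
    (prop_RSheafHom_of_bounded DCoh.IsQCohD E hEK a m hb hf (isQCohD_resD W.ι hL))⟩

/-- **`RHom` between perfect complexes is perfect.** -/
theorem isPerfect_RSheafHom_of_perfect (K : CochainComplex X.Modules ℤ) (hK : DCoh.IsPerfect (DerivedCategory.Q.obj K))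
    [DCoh.HasLTensorCx K] [DCoh.HasRSheafHom K] {L : DCoh.D X} (hL : DCoh.IsPerfect L) :
    DCoh.IsPerfect ((DCoh.RSheafHom K).obj L) := by
  refine isPerfect_of_local fun x => ?_
  obtain ⟨W, E, _, _, hxW, hEK, ⟨a, m, hb⟩, hf, ⟨e⟩⟩ := exists_resD_RSheafHom_free K hK x
  exact ⟨W, W.ι, inferInstance, ⟨⟨x, hxW⟩, rfl⟩, isPerfect_of_iso
    (prop_RSheafHom_of_bounded DCoh.IsPerfect E hEK a m hb hf (isPerfect_resD hL W.ι)) (e.app L).symm⟩

end GrothLib.OX
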