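import Groth.Agent.Lib.OX.LTensorCx
import Groth.Agent.Lib.HoCat.DerivedCoproduct

/-! # Derived tensor products commute with direct sums -/

set_option autoImplicit false
set_option maxHeartbeats 800000
universe u

open CategoryTheory CategoryTheory.Limits AlgebraicGeometry

attribute [local instance] HasDerivedCategory.standard

namespace GrothLib.OX

variable {X : Scheme.{u}}

theorem preservesColimitsOfShape_tensorCx_obj (L : CochainComplex X.Modules ℤ) (ι : Type u) :
    PreservesColimitsOfShape (Discrete ι) ((DCoh.tensorCx (X := X)).obj L) :=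
  have : PreservesColimitsOfSize.{u, u} ((DCoh.tensorCx (X := X)).obj L) := inferInstance
  inferInstance

/-- Direct sums of K-flat complexes are K-flat. -/
theorem isKFlat_sigma_small {ι : Type u} (K : ι → CochainComplex X.Modules ℤ) (h : ∀ j, DCoh.IsKFlat (K j)) :
    DCoh.IsKFlat (∐ K) :=
  have := fun L => preservesColimitsOfShape_tensorCx_obj (X := X) L ι
  (isKFlat_iff _).2 fun L hL => DerCat.acyclic_of_iso
    (PreservesCoproduct.iso ((DCoh.tensorCx (X := X)).obj L) K).symm
    (DerCat.acyclic_sigma _ fun j => (isKFlat_iff _).1 (h j) L hL)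

/-- Derived tensor products with a complex commute with direct sums. -/
theorem preservesColimit_ltensorCx (E : CochainComplex X.Modules ℤ) [DCoh.HasLTensorCx E] {ι : Type u}
    (C : ι → DCoh.D X) : PreservesColimit (Discrete.functor C) (DCoh.LTensorCx E) := by
  choose P hP e using fun i => exists_kflat_rep (C i)
  let LT := DCoh.LTensorCx E
  let α := (DCoh.tensorCxQ E).totalLeftDerivedCounit DerivedCategory.Q
    (HomologicalComplex.quasiIso X.Modules (ComplexShape.up ℤ))
  have hα : ∀ A, DCoh.IsKFlat A → IsIso (α.app A) := fun A hA =>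
    (cxResolvable_tensor E).isIso_app_of_isLeftDerivedFunctor
      ((DCoh.tensorCxQ E).totalLeftDerived DerivedCategory.Q (HomologicalComplex.quasiIso X.Modules (ComplexShape.up ℤ)))
      α hA
  have hαP := fun i => hα (P i) (hP i)
  have := hα (∐ P) (isKFlat_sigma_small P hP)
  have : PreservesColimitsOfShape (Discrete ι) ((DCoh.tensorCx (X := X)).flip.obj E) :=
    have := preservesColimitsOfShape_tensorCx_obj (X := X) E ι
    preservesColimitsOfShape_of_natIso (tensorFlipIso E).symm
  have : PreservesColimitsOfShape (Discrete ι) (DCoh.tensorCxQ E) :=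
    inferInstanceAs (PreservesColimitsOfShape (Discrete ι) ((DCoh.tensorCx (X := X)).flip.obj E ⋙ DerivedCategory.Q))
  let D := Discrete.functor P
  let c := colimit.cocone D
  let hc := isColimitOfPreserves DerivedCategory.Q (colimit.isColimit D)
  let hc' := isColimitOfPreserves (DCoh.tensorCxQ E) (colimit.isColimit D)
  let w : (D ⋙ DerivedCategory.Q) ⋙ LT ≅ D ⋙ DCoh.tensorCxQ E :=
    Discrete.natIso fun i => @asIso _ _ _ _ (α.app (P i.as)) (hαP i.as)
  have h : IsColimit (LT.mapCocone (DerivedCategory.Q.mapCocone c)) := (IsColimit.equivOfNatIsoOfIso w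
      (LT.mapCocone (DerivedCategory.Q.mapCocone c)) ((DCoh.tensorCxQ E).mapCocone c)
    (Cocone.ext (asIso (α.app (∐ P))) fun i => by
      refine (Category.assoc _ _ _).trans ?_
      refine (congrArg (w.inv.app i ≫ ·) (α.naturality (colimit.ι D i))).trans ?_
      exact (Iso.inv_hom_id_app_assoc w i _).trans rfl)).symm hc'
  have h2 : PreservesColimit (D ⋙ DerivedCategory.Q) LT := preservesColimit_of_preserves_colimit_cocone hc h
  exact preservesColimit_of_iso_diagram LT
    (show D ⋙ DerivedCategory.Q ≅ Discrete.functor C from Discrete.natIso fun i => (e i.as).some)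

end GrothLib.OX
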