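import Groth.Agent.Lib.OX.ProjPerfect
import Groth.Agent.Lib.OX.RpushCoprod
import Groth.Agent.Lib.OX.LTensorCoprod
import Groth.Agent.Lib.OX.QCohTensor
import Groth.Agent.Lib.OX.AffineApps
import Groth.Agent.Lib.OX.InjKSES
import Groth.Agent.Lib.HoCat.ModuleGen

/-! # The projection formula for objects with quasi-coherent cohomology -/

set_option autoImplicit false
set_option maxHeartbeats 800000
universe u

open CategoryTheory CategoryTheory.Limits CategoryTheory.Pretriangulated AlgebraicGeometry HomologicalComplex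
open DerivedCategory (Qh)

attribute [local instance] HasDerivedCategory.standard

namespace GrothLib.OX

variable {X Y : Scheme.{u}} (f : X ⟶ Y) (V : Y.Opens) (A : CochainComplex X.Modules ℤ)

/-- Extension by zero from `V`, on complexes. -/
noncomputable abbrev jzF : CochainComplex (V : Scheme.{u}).Modules ℤ ⥤ CochainComplex Y.Modules ℤ :=
  (CxOX.extZero V.ι).mapHomologicalComplex (ComplexShape.up ℤ)

/-- A complex on `V` is the restriction of its extension by zero. -/
noncomputable def jzResIso : 𝟭 (CochainComplex (V : Scheme.{u}).Modules ℤ) ≅ jzF V ⋙ resCx V.ι :=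
  NatIso.ofComponents (fun K => HomologicalComplex.Hom.isoOfComponents
      (fun n => (asIso (CxOX.extZeroAdj V.ι).unit).app (K.X n))
      fun n k _ => ((CxOX.extZeroAdj V.ι).unit.naturality (K.d n k)).symm)
    fun {K L} φ => HomologicalComplex.hom_ext _ _ fun n => (CxOX.extZeroAdj V.ι).unit.naturality (φ.f n)

theorem quasiIso_res_jz {K L : CochainComplex (V : Scheme.{u}).Modules ℤ} (φ : K ⟶ L) (h : QuasiIso φ) :
    QuasiIso ((resCx V.ι).map ((jzF V).map φ)) :=
  (quasiIso_iff_of_arrow_mk_iso φ ((resCx V.ι).map ((jzF V).map φ))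
    (Arrow.isoMk ((jzResIso V).app K) ((jzResIso V).app L) ((jzResIso V).hom.naturality φ).symm)).1 h

/-- The projection map is invertible over `V` for `R` extended by zero. -/
def PGood (R : CochainComplex (V : Scheme.{u}).Modules ℤ) : Prop :=
  IsIso ((resD V.ι).map (projD f ((jzF V).obj R) A))

variable {f V A}

theorem pgood_iff_of_quasiIso {R R' : CochainComplex (V : Scheme.{u}).Modules ℤ} (q : R ⟶ R')
    (hR : DCoh.IsKFlat R) (hR' : DCoh.IsKFlat R') (hq : QuasiIso q) : PGood f V A R ↔ PGood f V A R' :=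
  isIso_resD_projD_iff f V ((jzF V).map q) (isKFlat_extZero _ hR) (isKFlat_extZero _ hR')
    (quasiIso_res_jz V q hq) A

theorem pgood_iff_of_iso {R R' : CochainComplex (V : Scheme.{u}).Modules ℤ}
    (hR : DCoh.IsKFlat R) (hR' : DCoh.IsKFlat R') (e : DerivedCategory.Q.obj R ≅ DerivedCategory.Q.obj R') :
    PGood f V A R ↔ PGood f V A R' := by
  obtain ⟨Z, s, hs, g, heq⟩ := DerivedCategory.right_fac e.hom
  have hg : IsIso (DerivedCategory.Q.map g) :=
    @IsIso.of_isIso_fac_left _ _ _ _ _ _ _ _ (inferInstance : IsIso (inv (DerivedCategory.Q.map s)))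
      (inferInstance : IsIso e.hom) heq.symm
  have hqs : QuasiIso s := (DerivedCategory.isIso_Q_map_iff_quasiIso _ s).1 hs
  have hqg : QuasiIso g := (DerivedCategory.isIso_Q_map_iff_quasiIso _ g).1 hg
  obtain ⟨T, t, hT, -, ht, -⟩ := exists_kflat_resolution Z
  exact (pgood_iff_of_quasiIso (t ≫ s) hT hR inferInstance).symm.trans
    (pgood_iff_of_quasiIso (t ≫ g) hT hR' inferInstance)

variable (f V A)

/-- The projection map into a resolution of the target, over `V`. -/
noncomputable def projRes (P : CochainComplex Y.Modules ℤ) {I : CochainComplex X.Modules ℤ}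
    (ι : ((DCoh.tensorCx (X := X)).obj ((pullCxF f).obj P)).obj A ⟶ I) :
    (resCx V.ι).obj (((DCoh.tensorCx (X := Y)).obj P).obj ((pushCxF f).obj A)) ⟶
      (resCx V.ι).obj ((pushCxF f).obj I) :=
  (resCx V.ι).map (projCx f P A ≫ (pushCxF f).map ι)

/-- The projection map, read in a K-injective resolution. -/
theorem isIso_resD_projD_iff_quasiIso (P : CochainComplex Y.Modules ℤ) {I : CochainComplex X.Modules ℤ}
    (ι : ((DCoh.tensorCx (X := X)).obj ((pullCxF f).obj P)).obj A ⟶ I) (hI : InjK I) (hι : QuasiIso ι) :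
    IsIso ((resD V.ι).map (projD f P A)) ↔ QuasiIso (projRes f V A P ι) := by
  let B := ((DCoh.tensorCx (X := X)).obj ((pullCxF f).obj P)).obj A
  let q := HomotopyCategory.quotient Y.Modules (ComplexShape.up ℤ)
  let qX := HomotopyCategory.quotient X.Modules (ComplexShape.up ℤ)
  have := hI.kInj
  have hu : IsIso (pushUnit f I) := map_isIso_of (DCoh.pushKh f)
    (KInj.isIso_unit_of_rightOrthogonal (CochainComplex.IsKInjective.rightOrthogonal I))
  have hι' : IsIso ((SiteDer.Rres (rmor f)).map (Qh.map (qX.map ι))) :=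
    map_isIso_of _ ((NatIso.isIso_map_iff (DerivedCategory.quotientCompQhIso X.Modules) ι).2 inferInstance)
  have e : projD f P A ≫ (SiteDer.Rres (rmor f)).map (Qh.map (qX.map ι)) =
      Qh.map (q.map (projCx f P A ≫ (pushCxF f).map ι)) ≫ pushUnit f I :=
    (Category.assoc _ _ _).trans ((congrArg (Qh.map (q.map (projCx f P A)) ≫ ·) (pushUnit_naturality f ι).symm).trans
      ((Category.assoc _ _ _).symm.trans (congrArg (· ≫ pushUnit f I)
        ((Qh.map_comp _ _).symm.trans (congrArg Qh.map (q.map_comp _ _).symm)))))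
  have e' : (resD V.ι).map (projD f P A) ≫ (resD V.ι).map ((SiteDer.Rres (rmor f)).map (Qh.map (qX.map ι))) =
      (resD V.ι).map (Qh.map (q.map (projCx f P A ≫ (pushCxF f).map ι))) ≫ (resD V.ι).map (pushUnit f I) :=
    ((resD V.ι).map_comp _ _).symm.trans ((congrArg (resD V.ι).map e).trans ((resD V.ι).map_comp _ _))
  have h1 : IsIso ((resD V.ι).map (projD f P A)) ↔
      IsIso ((resD V.ι).map (Qh.map (q.map (projCx f P A ≫ (pushCxF f).map ι)))) :=
    ⟨fun h => @IsIso.of_isIso_fac_right _ _ _ _ _ _ _ _ (map_isIso_of (resD V.ι) hu)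
      (@IsIso.comp_isIso _ _ _ _ _ _ _ h (map_isIso_of (resD V.ι) hι')) e'.symm,
    fun h => @IsIso.of_isIso_fac_right _ _ _ _ _ _ _ _ (map_isIso_of (resD V.ι) hι')
      (@IsIso.comp_isIso _ _ _ _ _ _ _ h (map_isIso_of (resD V.ι) hu)) e'⟩
  refine h1.trans ((NatIso.isIso_map_iff (resDFac V.ι) _).trans ?_)
  exact DerivedCategory.isIso_Q_map_iff_quasiIso _ _

/-- The source and target of the projection map, along a split short exact sequence. -/
theorem pgood_two_of_three {S : ShortComplex (CochainComplex (V : Scheme.{u}).Modules ℤ)}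
    (σ : ∀ n, (S.map (eval (V : Scheme.{u}).Modules (ComplexShape.up ℤ) n)).Splitting) :
    (PGood f V A S.X₁ → PGood f V A S.X₂ → PGood f V A S.X₃) ∧
      (PGood f V A S.X₁ → PGood f V A S.X₃ → PGood f V A S.X₂) := by
  have : (Scheme.Modules.pullback f).Additive :=
    (Scheme.Modules.pullbackPushforwardAdjunction f).left_adjoint_additive
  have : (CxOX.extZero V.ι).Additive := (CxOX.extZeroAdj V.ι).left_adjoint_additive
  let SY := S.map (jzF V)
  let B := (pushCxF f).obj A
  let σY : ∀ n, (SY.map (eval Y.Modules (ComplexShape.up ℤ) n)).Splitting := fun n => (σ n).map (CxOX.extZero V.ι)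
  let TB := (DCoh.tensorCx (X := Y)).flip.obj B
  let TA := (DCoh.tensorCx (X := X)).flip.obj A
  have : TB.Additive := Functor.additive_of_iso (tensorFlipIso B).symm
  have : TA.Additive := Functor.additive_of_iso (tensorFlipIso A).symm
  have hsrc0 : (SY.map TB).ShortExact :=
    ShortComplex.shortExact_of_iso (SY.mapNatIso (tensorFlipIso B)).symm (tensorCx_shortExact_of_splitting σY B)
  have hsrc : ((SY.map TB).map (resCx V.ι)).ShortExact :=
    HomologicalComplex.shortExact_of_degreewise_shortExact _ fun k =>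
      (hsrc0.map_of_exact (eval Y.Modules (ComplexShape.up ℤ) k)).map_of_exact (Scheme.Modules.restrictFunctor V.ι)
  let SX := SY.map (pullCxF f)
  have htgt0 : (SX.map TA).ShortExact :=
    ShortComplex.shortExact_of_iso (SX.mapNatIso (tensorFlipIso A)).symm
      (tensorCx_shortExact_of_splitting (fun n => (σY n).map (Scheme.Modules.pullback f)) A)
  obtain ⟨T, φ, -, hsp, hI₁, hI₂, hI₃, hq₁, hq₂, hq₃⟩ := exists_injK_resolution_shortExact htgt0
  have htgt : ((T.map (pushCxF f)).map (resCx V.ι)).ShortExact :=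
    HomologicalComplex.shortExact_of_degreewise_shortExact _ fun k =>
      (((hsp k).some.map (Scheme.Modules.pushforward f)).map (Scheme.Modules.restrictFunctor V.ι)).shortExact
  have c12 : projRes f V A SY.X₁ φ.τ₁ ≫ (resCx V.ι).map ((pushCxF f).map T.f) =
      (resCx V.ι).map (TB.map SY.f) ≫ projRes f V A SY.X₂ φ.τ₂ := by
    refine ((resCx V.ι).map_comp _ _).symm.trans (Eq.trans ?_ ((resCx V.ι).map_comp _ _))
    refine congrArg (resCx V.ι).map ((Category.assoc _ _ _).trans ?_)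
    refine (congrArg (projCx f SY.X₁ A ≫ ·) (((pushCxF f).map_comp _ _).symm.trans
      ((congrArg (pushCxF f).map φ.comm₁₂).trans ((pushCxF f).map_comp _ _)))).trans ?_
    exact ((Category.assoc _ _ _).symm.trans (congrArg (· ≫ _) (projCx_natural f SY.f A).symm)).trans
      (Category.assoc _ _ _)
  have c23 : projRes f V A SY.X₂ φ.τ₂ ≫ (resCx V.ι).map ((pushCxF f).map T.g) =
      (resCx V.ι).map (TB.map SY.g) ≫ projRes f V A SY.X₃ φ.τ₃ := by
    refine ((resCx V.ι).map_comp _ _).symm.trans (Eq.trans ?_ ((resCx V.ι).map_comp _ _))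
    refine congrArg (resCx V.ι).map ((Category.assoc _ _ _).trans ?_)
    refine (congrArg (projCx f SY.X₂ A ≫ ·) (((pushCxF f).map_comp _ _).symm.trans
      ((congrArg (pushCxF f).map φ.comm₂₃).trans ((pushCxF f).map_comp _ _)))).trans ?_
    exact ((Category.assoc _ _ _).symm.trans (congrArg (· ≫ _) (projCx_natural f SY.g A).symm)).trans
      (Category.assoc _ _ _)
  let ψ : (SY.map TB).map (resCx V.ι) ⟶ (T.map (pushCxF f)).map (resCx V.ι) :=
    ShortComplex.homMk (projRes f V A SY.X₁ φ.τ₁) (projRes f V A SY.X₂ φ.τ₂) (projRes f V A SY.X₃ φ.τ₃) c12 c23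
  have g₁ : PGood f V A S.X₁ ↔ QuasiIso ψ.τ₁ := isIso_resD_projD_iff_quasiIso f V A SY.X₁ φ.τ₁ hI₁ hq₁
  have g₂ : PGood f V A S.X₂ ↔ QuasiIso ψ.τ₂ := isIso_resD_projD_iff_quasiIso f V A SY.X₂ φ.τ₂ hI₂ hq₂
  have g₃ : PGood f V A S.X₃ ↔ QuasiIso ψ.τ₃ := isIso_resD_projD_iff_quasiIso f V A SY.X₃ φ.τ₃ hI₃ hq₃
  exact ⟨fun h1 h2 => g₃.2 (HomologicalComplex.HomologySequence.quasiIso_τ₃ ψ hsrc htgt (g₁.1 h1) (g₂.1 h2)),
    fun h1 h3 => g₂.2 (quasiIso_τ₂ ψ hsrc htgt (g₁.1 h1) (g₃.1 h3))⟩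

variable {f V A}

theorem pgood_free (hA : InjK A) (k : ℤ) :
    PGood f V A ((single _ (ComplexShape.up ℤ) k).obj (Coh.structureModule (V : Scheme.{u}))) := by
  let R := (single _ (ComplexShape.up ℤ) k).obj (Coh.structureModule (V : Scheme.{u}))
  have hz : ∀ i, i ≠ k → IsZero (R.X i) := fun i hi => isZero_single_obj_X _ _ _ _ hi
  refine isIso_resD_projD_of_free f V hA _ k 1
    (fun i hi => (CxOX.extZero V.ι).map_isZero (hz i (by omega))) fun p => ?_
  let e := ((HomologicalComplex.eval _ _ p).mapIso ((jzResIso V).app R)).symm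
  by_cases hp : p = k
  · subst hp
    exact ⟨1, ⟨e ≪≫ singleObjXSelf (ComplexShape.up ℤ) p _ ≪≫
      (coproductUniqueIso (fun _ : Fin 1 => Coh.structureModule (V : Scheme.{u}))).symm⟩⟩
  · exact ⟨0, ⟨e ≪≫ (hz p hp).iso (injK_tensor_of_bounded.isZero_initial_free _)⟩⟩

/-- The good objects of `D(V)`. -/
def PGoodD (f : X ⟶ Y) (V : Y.Opens) (A : CochainComplex X.Modules ℤ) (N : DCoh.D (V : Scheme.{u})) : Prop :=
  ∀ R, DCoh.IsKFlat R → Nonempty (DerivedCategory.Q.obj R ≅ N) → PGood f V A R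

theorem pgoodD_of_iso {N N' : DCoh.D (V : Scheme.{u})} (e : N ≅ N') (h : PGoodD f V A N) : PGoodD f V A N' :=
  fun R hR ⟨i⟩ => h R hR ⟨i ≪≫ e.symm⟩

theorem pgoodD_of_pgood {R : CochainComplex (V : Scheme.{u}).Modules ℤ} (hR : DCoh.IsKFlat R) (h : PGood f V A R) :
    PGoodD f V A (DerivedCategory.Q.obj R) := fun _ hR' ⟨i⟩ => (pgood_iff_of_iso hR hR' i.symm).1 h

theorem pgood_of_isZero {R : CochainComplex (V : Scheme.{u}).Modules ℤ} (h : IsZero R) : PGood f V A R := by
  let T := (DCoh.tensorCx (X := Y)).flip.obj ((pushCxF f).obj A) ⋙ resCx V.ι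
  let TX := (DCoh.tensorCx (X := X)).flip.obj A
  have : ((DCoh.tensorCx (X := Y)).flip.obj ((pushCxF f).obj A)).Additive :=
    Functor.additive_of_iso (tensorFlipIso _).symm
  have : TX.Additive := Functor.additive_of_iso (tensorFlipIso A).symm
  have : (Scheme.Modules.pullback f).Additive :=
    (Scheme.Modules.pullbackPushforwardAdjunction f).left_adjoint_additive
  have h0 := (jzF V).map_isZero h
  let B₀ := ((DCoh.tensorCx (X := X)).obj ((pullCxF f).obj ((jzF V).obj R))).obj A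
  have hs : IsZero ((resCx V.ι).obj (((DCoh.tensorCx (X := Y)).obj ((jzF V).obj R)).obj ((pushCxF f).obj A))) :=
    T.map_isZero h0
  have ht : IsZero B₀ := TX.map_isZero ((pullCxF f).map_isZero h0)
  have hq : QuasiIso (projRes f V A ((jzF V).obj R) (I := B₀) (𝟙 B₀)) := by
    have : IsIso (projRes f V A ((jzF V).obj R) (I := B₀) (𝟙 B₀)) :=
      ⟨0, hs.eq_of_src _ _, ((resCx V.ι).map_isZero ((pushCxF f).map_isZero ht)).eq_of_src _ _⟩
    infer_instance
  exact (isIso_resD_projD_iff_quasiIso f V A ((jzF V).obj R) (I := B₀) (𝟙 B₀) (InjK.of_isZero ht)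
    (inferInstanceAs (QuasiIso (𝟙 B₀)))).2 hq

theorem pgood_shift {R : CochainComplex (V : Scheme.{u}).Modules ℤ} (hR : DCoh.IsKFlat R) (h : PGood f V A R) :
    PGood f V A (R⟦(1 : ℤ)⟧) := by
  refine (pgood_two_of_three f V A (coneSplitting (𝟙 R))).1 h ?_
  obtain ⟨Z, hZ⟩ : ∃ Z : CochainComplex (V : Scheme.{u}).Modules ℤ, IsZero Z :=
    ⟨_, Limits.isZero_zero _⟩
  have hZK : DCoh.IsKFlat Z := (isKFlat_iff _).2 fun L hL =>
    KInj.acyclic_of_isZero (((DCoh.tensorCx (X := (V : Scheme.{u}))).obj L).map_isZero hZ)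
  have hc : IsZero (DerivedCategory.Q.obj (CochainComplex.mappingCone (𝟙 R))) :=
    (Triangle.isZero₃_iff_isIso₁ _ (DerivedCategory.mappingCone_triangle_distinguished (𝟙 R))).2
      (inferInstanceAs (IsIso (DerivedCategory.Q.map (𝟙 R))))
  exact (pgood_iff_of_iso (isKFlat_mappingCone _ hR hR) hZK
    (hc.iso (DerivedCategory.Q.map_isZero hZ))).2 (pgood_of_isZero hZ)

theorem pgoodD_cone (T : Triangle (DCoh.D (V : Scheme.{u}))) (hT : T ∈ distTriang (DCoh.D (V : Scheme.{u})))
    (h₁ : PGoodD f V A T.obj₁) (h₂ : PGoodD f V A T.obj₂) : PGoodD f V A T.obj₃ := by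
  obtain ⟨P₁, hP₁, ⟨a⟩⟩ := exists_kflat_rep T.obj₁
  obtain ⟨P₂, hP₂, ⟨b⟩⟩ := exists_kflat_rep T.obj₂
  obtain ⟨Z, s, hs, g, hg⟩ := DerivedCategory.right_fac (a.hom ≫ T.mor₁ ≫ b.inv)
  obtain ⟨N, t, hN, -, ht, -⟩ := exists_kflat_resolution Z
  let φ : N ⟶ P₂ := t ≫ g
  let Tc := DerivedCategory.Q.mapTriangle.obj (CochainComplex.mappingCone.triangle φ)
  let c : DerivedCategory.Q.obj N ≅ T.obj₁ :=
    asIso (DerivedCategory.Q.map t ≫ DerivedCategory.Q.map s) ≪≫ a
  have hc : Tc.mor₁ ≫ b.hom = c.hom ≫ T.mor₁ := by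
    change DerivedCategory.Q.map (t ≫ g) ≫ b.hom = _
    have : DerivedCategory.Q.map g = DerivedCategory.Q.map s ≫ a.hom ≫ T.mor₁ ≫ b.inv := by
      rw [hg, IsIso.hom_inv_id_assoc]
    simp [c, this]
  let eT := isoTriangleOfIso₁₂ Tc T (DerivedCategory.mappingCone_triangle_distinguished φ) hT c b hc
  have g₁ : PGood f V A (N⟦(1 : ℤ)⟧) := pgood_shift hN (h₁ N hN ⟨c⟩)
  have g₂ : PGood f V A (CochainComplex.mappingCone φ) :=
    (pgood_two_of_three f V A (coneSplitting φ)).2 (h₂ P₂ hP₂ ⟨b⟩) g₁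
  exact pgoodD_of_iso (Triangle.π₃.mapIso eT) (pgoodD_of_pgood (isKFlat_mappingCone φ hN hP₂) g₂)

/-- A transformation between functors preserving a coproduct is invertible on it if it is on each summand. -/
theorem isIso_app_sigma {C D : Type*} [Category C] [Category D] {F G : C ⥤ D} (τ : F ⟶ G) {ι : Type*}
    (K : ι → C) [HasCoproduct K] [HasCoproduct fun i => F.obj (K i)] [HasCoproduct fun i => G.obj (K i)]
    [PreservesColimit (Discrete.functor K) F] (hG : IsIso (Sigma.desc fun i => G.map (Sigma.ι K i)))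
    (h : ∀ i, IsIso (τ.app (K i))) : IsIso (τ.app (∐ K)) := by
  let a : (∐ fun i => F.obj (K i)) ≅ ∐ fun i => G.obj (K i) :=
    { hom := Sigma.desc fun i => τ.app (K i) ≫ Sigma.ι (fun i => G.obj (K i)) i
      inv := Sigma.desc fun i => inv (τ.app (K i)) ≫ Sigma.ι (fun i => F.obj (K i)) i
      hom_inv_id := Sigma.hom_ext _ _ fun i => by simp
      inv_hom_id := Sigma.hom_ext _ _ fun i => by simp }
  have e : sigmaComparison F K ≫ τ.app (∐ K) = a.hom ≫ Sigma.desc (fun i => G.map (Sigma.ι K i)) :=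
    Sigma.hom_ext _ _ fun i => by simp [a, ι_comp_sigmaComparison_assoc]
  have h1 : IsIso (sigmaComparison F K) := inferInstance
  exact @IsIso.of_isIso_fac_left _ _ _ _ _ _ _ _ h1 (@IsIso.comp_isIso _ _ _ _ _ _ _ a.isIso_hom hG) e

/-- A direct image of a sum of objects in the image of a functor preserving sums. -/
theorem isIso_sigmaDesc_comp {C D E : Type*} [Category C] [Category D] [Category E] (H : C ⥤ D) (R : D ⥤ E)
    {ι : Type*} (K : ι → C) [HasCoproduct K] [HasCoproduct fun i => H.obj (K i)]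
    [HasCoproduct fun i => R.obj (H.obj (K i))] [HasCoproduct fun i => (H ⋙ R).obj (K i)]
    [PreservesColimit (Discrete.functor K) H]
    (hR : IsIso (Sigma.desc fun i => R.map (Sigma.ι (fun i => H.obj (K i)) i))) :
    IsIso (Sigma.desc fun i => (H ⋙ R).map (Sigma.ι K i)) := by
  have h1 : IsIso (sigmaComparison H K) := inferInstance
  have e : (Sigma.desc fun i => (H ⋙ R).map (Sigma.ι K i)) =
      (Sigma.desc fun i => R.map (Sigma.ι (fun i => H.obj (K i)) i)) ≫ R.map (sigmaComparison H K) :=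
    Sigma.hom_ext _ _ fun i => by
      rw [Sigma.ι_desc, Sigma.ι_desc_assoc, ← R.map_comp, ι_comp_sigmaComparison]; rfl
  exact e.symm ▸ @IsIso.comp_isIso _ _ _ _ _ _ _ hR (map_isIso_of R h1)

variable [QuasiCompact f] [QuasiSeparated f]

/-- The restricted tensor products are quasi-coherent on cohomology. -/
theorem isQCohD_tensor_jz (hAq : DCoh.IsQCohD (DerivedCategory.Q.obj A))
    {R : CochainComplex (V : Scheme.{u}).Modules ℤ} (hR : DCoh.IsKFlat R)
    (hq : DCoh.IsQCohD (DerivedCategory.Q.obj R)) :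
    DCoh.IsQCohD ((resD (f ⁻¹ᵁ V).ι).obj (Qh.obj ((HomotopyCategory.quotient _ _).obj
      (((DCoh.tensorCx (X := X)).obj ((pullCxF f).obj ((jzF V).obj R))).obj A)))) := by
  let W := f ⁻¹ᵁ V
  let G := (pullCxF (f ∣_ V)).obj R
  have hGK : DCoh.IsKFlat G := isKFlat_pullback _ hR
  have hGq : ∀ i, Coh.IsQCoh (G.homology i) :=
    isQCoh_homology_pullCx (f ∣_ V) hR fun j => isQCoh_of_iso (hdIso R j) (hq j)
  let c : (resCx W.ι).obj ((pullCxF f).obj ((jzF V).obj R)) ≅ G :=
    ((NatIso.mapHomologicalComplex (pullRestrictIso f V) (ComplexShape.up ℤ)).app ((jzF V).obj R)).symm ≪≫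
      (pullCxF (f ∣_ V)).mapIso ((jzResIso V).app R).symm
  obtain ⟨L, l, hL, -, hl, -⟩ := exists_kflat_resolution ((resCx W.ι).obj A)
  have hAW : DCoh.IsQCohD (DerivedCategory.Q.obj ((resCx W.ι).obj A)) := fun i =>
    isQCoh_of_iso ((DerivedCategory.homologyFunctor _ i).mapIso ((resDFac W.ι).app A)) (isQCohD_resD W.ι hAq i)
  have hLq : ∀ i, Coh.IsQCoh (L.homology i) := fun i =>
    isQCoh_of_iso (hdIso _ i ≪≫ (@asIso _ _ _ _ _ (inferInstance : IsIso (HomologicalComplex.homologyMap l i))).symm)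
      (hAW i)
  have := quasiIso_tensor_map_of_isKFlat l G hGK
  let e : (resCx W.ι).obj (((DCoh.tensorCx (X := X)).obj ((pullCxF f).obj ((jzF V).obj R))).obj A) ≅
      ((DCoh.tensorCx (X := (W : Scheme.{u}))).obj G).obj ((resCx W.ι).obj A) :=
    resTensorCxIso W.ι _ _ ≪≫ ((DCoh.tensorCx (X := (W : Scheme.{u}))).mapIso c).app _
  let d : (resD W.ι).obj (Qh.obj ((HomotopyCategory.quotient _ _).obj
        (((DCoh.tensorCx (X := X)).obj ((pullCxF f).obj ((jzF V).obj R))).obj A))) ≅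
      DerivedCategory.Q.obj (((DCoh.tensorCx (X := (W : Scheme.{u}))).obj G).obj L) :=
    (resD W.ι).mapIso ((DerivedCategory.quotientCompQhIso X.Modules).app _) ≪≫ (resDFac W.ι).app _ ≪≫
      DerivedCategory.Q.mapIso e ≪≫
      (asIso (DerivedCategory.Q.map (((DCoh.tensorCx (X := (W : Scheme.{u}))).obj G).map l))).symm
  exact fun i => isQCoh_of_iso ((DerivedCategory.homologyFunctor _ i).mapIso d ≪≫ hdIso _ i).symm
    (isQCoh_homology_tensorCx hGK hL hGq hLq i)

variable (f V A)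

end GrothLib.OX
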