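import Groth.Agent.Lib.OX.HomTri

/-! # Dévissage for bounded complexes of finite free modules -/

set_option autoImplicit false
set_option maxHeartbeats 1000000
universe u

open CategoryTheory CategoryTheory.Limits CategoryTheory.Pretriangulated AlgebraicGeometry HomologicalComplex

attribute [local instance] HasDerivedCategory.standard

namespace GrothLib.OX

variable {X : Scheme.{u}}

/-- Classes of complexes closed under the operations of dévissage. -/
structure Devissage (P : CochainComplex X.Modules ℤ → Prop) : Prop where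
  iso : ∀ {E E'}, (E ≅ E') → P E → P E'
  contractible : ∀ {E}, Homotopy (𝟙 E) 0 → P E
  base : P ((single X.Modules (ComplexShape.up ℤ) 0).obj (Coh.structureModule X))
  ext₁ : ∀ {S : ShortComplex (CochainComplex X.Modules ℤ)},
    (∀ q, (S.map (HomologicalComplex.eval X.Modules (ComplexShape.up ℤ) q)).Splitting) → P S.X₂ → P S.X₃ → P S.X₁
  ext₂ : ∀ {S : ShortComplex (CochainComplex X.Modules ℤ)},
    (∀ q, (S.map (HomologicalComplex.eval X.Modules (ComplexShape.up ℤ) q)).Splitting) → P S.X₁ → P S.X₃ → P S.X₂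
  ext₃ : ∀ {S : ShortComplex (CochainComplex X.Modules ℤ)},
    (∀ q, (S.map (HomologicalComplex.eval X.Modules (ComplexShape.up ℤ) q)).Splitting) → P S.X₁ → P S.X₂ → P S.X₃

namespace Devissage

variable {P : CochainComplex X.Modules ℤ → Prop} (hP : Devissage P)
include hP

theorem of_isZero {E : CochainComplex X.Modules ℤ} (h : IsZero E) : P E :=
  hP.contractible (Homotopy.ofEq (h.eq_of_src _ _))

theorem single_unit (a : ℤ) : P ((single X.Modules (ComplexShape.up ℤ) a).obj (Coh.structureModule X)) := by
  let s := fun a : ℤ => (single X.Modules (ComplexShape.up ℤ) a).obj (Coh.structureModule X)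
  have key : ∀ b : ℤ, (P (s b) → P (s (b - 1))) ∧ (P (s (b - 1)) → P (s b)) := fun b => by
    have hc : P (CochainComplex.mappingCone (𝟙 (s b))) :=
      hP.contractible (CochainComplex.mappingCone.homotopyToZeroOfId _)
    let e : (s b)⟦(1 : ℤ)⟧ ≅ s (b - 1) :=
      ((CochainComplex.singleFunctors X.Modules).shiftIso 1 (b - 1) b (by omega)).app _
    exact ⟨fun h => hP.iso e (hP.ext₃ (coneSplitting (𝟙 (s b))) h hc),
      fun h => hP.ext₁ (coneSplitting (𝟙 (s b))) hc (hP.iso e.symm h)⟩
  induction a using Int.induction_on with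
  | zero => exact hP.base
  | succ n hn => exact (key ((n : ℤ) + 1)).2 (by rwa [add_sub_cancel_right])
  | pred n hn => exact (key (-(n : ℤ))).1 hn

theorem single_free (a : ℤ) :
    ∀ n : ℕ, P ((single X.Modules (ComplexShape.up ℤ) a).obj (∐ fun _ : Fin n => Coh.structureModule X))
  | 0 => hP.of_isZero ((single X.Modules (ComplexShape.up ℤ) a).map_isZero (by
      rw [IsZero.iff_id_eq_zero]
      exact Sigma.hom_ext _ _ fun i => i.elim0))
  | n + 1 => by
    let O := Coh.structureModule X
    let F := fun m : ℕ => fun _ : Fin m => O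
    let f : ∐ F n ⟶ ∐ F (n + 1) := Sigma.desc fun i => Sigma.ι (F (n + 1)) i.castSucc
    let g : ∐ F (n + 1) ⟶ O := Sigma.desc (Fin.lastCases (𝟙 O) fun _ => 0)
    let r : ∐ F (n + 1) ⟶ ∐ F n := Sigma.desc (Fin.lastCases 0 fun i => Sigma.ι (F n) i)
    let s : O ⟶ ∐ F (n + 1) := Sigma.ι (F (n + 1)) (Fin.last n)
    have hfg : f ≫ g = 0 := Sigma.hom_ext _ _ fun i => by simp [f, g]
    let σ : (ShortComplex.mk f g hfg).Splitting :=
      { r := r, s := s, f_r := Sigma.hom_ext _ _ fun i => by simp [f, r], s_g := by simp [s, g]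
        id := Sigma.hom_ext _ _ fun i => by
          induction i using Fin.lastCases with
          | last =>
            simp [f, g, r, s, Preadditive.comp_add]
            exact Category.id_comp _
          | cast i => simp [f, g, r, s, Preadditive.comp_add] }
    exact hP.ext₂ (S := (ShortComplex.mk f g hfg).map (single X.Modules (ComplexShape.up ℤ) a))
      (fun q => (σ.map (single X.Modules (ComplexShape.up ℤ) a)).map (HomologicalComplex.eval _ _ q))
      (single_free a n) (hP.single_unit a)

theorem single_freeMod (a : ℤ) (n : ℕ) : P ((single X.Modules (ComplexShape.up ℤ) a).obj (FlatMod.freeMod X n)) :=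
  hP.single_free a n

/-- Bounded complexes of finite free modules belong to the class. -/
theorem of_bounded : ∀ (m : ℕ) (E : CochainComplex X.Modules ℤ) (a : ℤ),
    (∀ i : ℤ, i < a ∨ a + m ≤ i → IsZero (E.X i)) →
    (∀ i, IsZero (E.X i) ∨ ∃ n, Nonempty (E.X i ≅ FlatMod.freeMod X n)) → P E
  | 0, E, a, hE, _ => hP.of_isZero (by
      rw [IsZero.iff_id_eq_zero]
      exact HomologicalComplex.hom_ext _ _ fun i => (hE i (by omega)).eq_of_src _ _)
  | m + 1, E, a, hE, hX => by
    let p : E ⟶ (single X.Modules (ComplexShape.up ℤ) a).obj (E.X a) :=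
      mkHomToSingle (𝟙 _) fun i hi => (hE i (Or.inl (by simp at hi; omega))).eq_of_src _ _
    have hpa : p.f a = (singleObjXSelf (ComplexShape.up ℤ) a (E.X a)).inv := by simp [p]
    have hp : ∀ i, Nonempty (SplitEpi (p.f i)) := fun i => by
      by_cases h : i = a
      · subst h
        exact ⟨⟨(singleObjXSelf (ComplexShape.up ℤ) i (E.X i)).hom, by rw [hpa]; simp⟩⟩
      · exact ⟨⟨0, (isZero_single_obj_X _ _ _ _ h).eq_of_src _ _⟩⟩
    have : Epi p := @epi_of_epi_f _ _ _ _ _ _ _ p fun i => (hp i).some.epi
    let S : ShortComplex (CochainComplex X.Modules ℤ) := ShortComplex.mk (kernel.ι p) p (kernel.condition p)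
    have hS : S.ShortExact := { exact := ShortComplex.exact_kernel p }
    have hn := fun q => hS.map_of_exact (HomologicalComplex.eval X.Modules (ComplexShape.up ℤ) q)
    let σ : ∀ q, (S.map (HomologicalComplex.eval X.Modules (ComplexShape.up ℤ) q)).Splitting := fun q =>
      ShortComplex.Splitting.ofExactOfSection _ (hn q).exact (hp q).some.section_ (hp q).some.id (hn q).mono_f
    let e : ∀ i, (kernel p).X i ≅ kernel (p.f i) := fun i =>
      PreservesKernel.iso (HomologicalComplex.eval X.Modules (ComplexShape.up ℤ) i) p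
    have hz : IsZero ((kernel p).X a) := by
      have : IsIso (p.f a) := by rw [hpa]; infer_instance
      exact (isZero_kernel_of_mono (p.f a)).of_iso (e a)
    have hK : ∀ i, i ≠ a → Nonempty ((kernel p).X i ≅ E.X i) := fun i hi => by
      have h0 : p.f i = 0 := (isZero_single_obj_X _ _ _ _ hi).eq_of_tgt _ _
      exact ⟨e i ≪≫ eqToIso (by rw [h0]) ≪≫ kernelZeroIsoSource⟩
    refine hP.ext₂ σ (of_bounded m (kernel p) (a + 1) (fun i hi => ?_) (fun i => ?_)) ?_
    · rcases eq_or_ne i a with rfl | h
      · exact hz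
      · obtain ⟨ei⟩ := hK i h
        exact (hE i (by omega)).of_iso ei
    · rcases eq_or_ne i a with rfl | h
      · exact Or.inl hz
      · obtain ⟨ei⟩ := hK i h
        rcases hX i with h' | ⟨n, ⟨e'⟩⟩
        · exact Or.inl (h'.of_iso ei)
        · exact Or.inr ⟨n, ⟨ei ≪≫ e'⟩⟩
    · rcases hX a with h | ⟨n, ⟨e'⟩⟩
      · exact hP.of_isZero ((single X.Modules (ComplexShape.up ℤ) a).map_isZero h)
      · exact hP.iso ((single X.Modules (ComplexShape.up ℤ) a).mapIso e'.symm) (hP.single_freeMod a n)

end Devissage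

/-- Tensoring with the unit complex does nothing, naturally. -/
noncomputable def singleUnitNatIso :
    tensR ((single X.Modules (ComplexShape.up ℤ) 0).obj (Coh.structureModule X)) ≅ 𝟭 (CochainComplex X.Modules ℤ) :=
  let O := Coh.structureModule X
  let hu : (DCoh.tensorBi (X := X)).flip.obj O ≅ 𝟭 X.Modules := (tensorBraiding (X := X)).app _ ≪≫ tensorUnitNatIso
  (NatIso.ofComponents (fun L => singleIso L O) fun {L L'} φ => by
    let S := (single X.Modules (ComplexShape.up ℤ) 0).obj O
    refine HomologicalComplex.hom_ext _ _ fun n => ?_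
    change ((DCoh.tensorBi (X := X)).map (φ.f n)).app O ≫
        ((DCoh.tensorBi (X := X)).obj (L'.X n)).map (singleObjXSelf (ComplexShape.up ℤ) 0 O).inv ≫
          ιMapBifunctor L' S (DCoh.tensorBi (X := X)) (ComplexShape.up ℤ) n 0 n (add_zero n) =
      (((DCoh.tensorBi (X := X)).obj (L.X n)).map (singleObjXSelf (ComplexShape.up ℤ) 0 O).inv ≫
          ιMapBifunctor L S (DCoh.tensorBi (X := X)) (ComplexShape.up ℤ) n 0 n (add_zero n)) ≫
        (mapBifunctorMap φ (𝟙 S) (DCoh.tensorBi (X := X)) (ComplexShape.up ℤ)).f n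
    rw [Category.assoc, ι_mapBifunctorMap, ← Category.assoc, ← ((DCoh.tensorBi (X := X)).map (φ.f n)).naturality,
      Category.assoc, HomologicalComplex.id_f, CategoryTheory.Functor.map_id]
    simp [S] :
    ((DCoh.tensorBi (X := X)).flip.obj O).mapHomologicalComplex (ComplexShape.up ℤ) ≅
      tensR ((single X.Modules (ComplexShape.up ℤ) 0).obj O)).symm ≪≫
    NatIso.mapHomologicalComplex hu (ComplexShape.up ℤ) ≪≫
    Functor.mapHomologicalComplexIdIso X.Modules (ComplexShape.up ℤ)

/-- `Hom(O, I) = I`. -/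
noncomputable def homCxUnitIso :
    homCx ((single X.Modules (ComplexShape.up ℤ) 0).obj (Coh.structureModule X)) ≅ 𝟭 (CochainComplex X.Modules ℤ) :=
  (((homCxAdj _).ofNatIsoLeft singleUnitNatIso)).rightAdjointUniq Adjunction.id

noncomputable def mapBifunctorContractible {A B C : Type*} [Category A] [Category B] [Category C] [Preadditive A]
    [Preadditive B] [Preadditive C] (F : A ⥤ B ⥤ C) [F.Additive] [∀ a, (F.obj a).Additive]
    [∀ (K : CochainComplex A ℤ) (L : CochainComplex B ℤ), K.HasMapBifunctor L F]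
    (K : CochainComplex A ℤ) {E : CochainComplex B ℤ} (h : Homotopy (𝟙 E) 0) :
    Homotopy (𝟙 ((F.map₂CochainComplex.obj K).obj E)) 0 :=
  (Homotopy.ofEq ((F.map₂CochainComplex.obj K).map_id E).symm).trans
    ((HomologicalComplex.mapBifunctorMapHomotopy₂ (𝟙 K) h F (ComplexShape.up ℤ)).trans
      (Homotopy.ofEq (HomologicalComplex.hom_ext _ _ fun n => mapBifunctor.hom_ext fun p q hpq => by
        simp
        exact comp_zero.symm)))

/-- A map out of a contractible complex is null-homotopic. -/
noncomputable def nullOfContractibleSource {C : Type*} [Category C] [Preadditive C] {L M : CochainComplex C ℤ}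
    (h : Homotopy (𝟙 L) 0) (g : L ⟶ M) : Homotopy g 0 :=
  (Homotopy.ofEq (Category.id_comp g).symm).trans ((h.compRight g).trans (Homotopy.ofEq zero_comp))

/-- A contractible complex has a contractible product with every complex. -/
noncomputable def tensRContractible {E : CochainComplex X.Modules ℤ} (h : Homotopy (𝟙 E) 0)
    (A : CochainComplex X.Modules ℤ) : Homotopy (𝟙 ((tensR E).obj A)) 0 :=
  mapBifunctorContractible (DCoh.tensorBi (X := X)) A h

theorem isZero_Q_homCx_of_contractible {E : CochainComplex X.Modules ℤ} (h : Homotopy (𝟙 E) 0)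
    (I : CochainComplex X.Modules ℤ) : IsZero (DerivedCategory.Q.obj ((homCx E).obj I)) := by
  let ε : (tensR E).obj ((homCx E).obj I) ⟶ I := ((homCxAdj E).homEquiv _ I).symm (𝟙 _)
  have hc : Homotopy ε 0 := nullOfContractibleSource (tensRContractible h _) ε
  obtain ⟨k⟩ := transpose_null hc
  rw [IsZero.iff_id_eq_zero, ← CategoryTheory.Functor.map_id]
  rw [Equiv.apply_symm_apply] at k
  exact Q_map_eq_zero_of_null k

/-- A triangulated class pulled back along `Hom(-, I)`. -/
theorem devissage_homCx (Pr : ObjectProperty (DCoh.D X)) [Pr.IsTriangulated] [Pr.IsClosedUnderIsomorphisms]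
    (I : CochainComplex X.Modules ℤ) (hI : Pr (DerivedCategory.Q.obj I)) :
    Devissage fun E => Pr (DerivedCategory.Q.obj ((homCx E).obj I)) where
  iso {E E'} e h := by
    let t : tensR E ≅ tensR E' := (DCoh.tensorCx (X := X)).flip.mapIso e
    exact Pr.prop_of_iso (DerivedCategory.Q.mapIso
      ((((homCxAdj E).ofNatIsoLeft t).rightAdjointUniq (homCxAdj E')).app I)) h
  contractible h := Pr.prop_of_isZero (isZero_Q_homCx_of_contractible h I)
  base := Pr.prop_of_iso (DerivedCategory.Q.mapIso (homCxUnitIso.app I)).symm hI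
  ext₁ σ h₂ h₃ := Pr.ext_of_isTriangulatedClosed₃ _ (homTriangle_distinguished σ I) h₃ h₂
  ext₂ σ h₁ h₃ := Pr.ext_of_isTriangulatedClosed₂ _ (homTriangle_distinguished σ I) h₃ h₁
  ext₃ σ h₁ h₂ := Pr.ext_of_isTriangulatedClosed₁ _ (homTriangle_distinguished σ I) h₂ h₁

end GrothLib.OX
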