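import Groth.Agent.Lib.OX.FlatAmp
import Mathlib.Algebra.Homology.DerivedCategory.SingleTriangle
import Mathlib.Algebra.Homology.DerivedCategory.HomologySequence
import Mathlib.Algebra.Homology.SingleHomology

/-! # Flatness from vanishing of Tor_1 -/

set_option autoImplicit false
set_option maxHeartbeats 400000
universe u

open CategoryTheory CategoryTheory.Limits AlgebraicGeometry HomologicalComplex CategoryTheory.Pretriangulated

attribute [local instance] HasDerivedCategory.standard

namespace GrothLib.OX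

theorem isIso_homologyπ_single {A : Type*} [Category A] [Abelian A] (N : A) :
    IsIso (((single A (ComplexShape.up ℤ) 0).obj N).homologyπ 0) :=
  ((single A (ComplexShape.up ℤ) 0).obj N).isIso_homologyπ (-1) 0 (by simp)
    ((isZero_single_obj_X _ 0 N (-1) (by omega)).eq_of_src _ _)

theorem isIso_iCycles_single {A : Type*} [Category A] [Abelian A] (N : A) :
    IsIso (((single A (ComplexShape.up ℤ) 0).obj N).iCycles 0) :=
  ((single A (ComplexShape.up ℤ) 0).obj N).isIso_iCycles 0 1 (by simp)
    ((isZero_single_obj_X _ 0 N 1 (by omega)).eq_of_tgt _ _)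

theorem epi_homologyMap_single {A B : Type*} [Category A] [Category B] [Abelian A] [Abelian B] (F : A ⥤ B)
    [F.PreservesZeroMorphisms] [F.PreservesEpimorphisms] {M : CochainComplex A ℤ} {N : A}
    (q : M ⟶ (single A (ComplexShape.up ℤ) 0).obj N) [QuasiIso q] :
    Epi (homologyMap ((F.mapHomologicalComplex (ComplexShape.up ℤ)).map q) 0) := by
  let S := (single A (ComplexShape.up ℤ) 0).obj N
  have := isIso_homologyπ_single N
  have := isIso_iCycles_single N
  have : IsIso (homologyMap q 0) := (quasiIsoAt_iff_isIso_homologyMap _ _).1 inferInstance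
  have : Epi (cyclesMap q 0 ≫ S.homologyπ 0) := by
    rw [← homologyπ_naturality]; infer_instance
  have : Epi (cyclesMap q 0) := by
    have h : cyclesMap q 0 = (cyclesMap q 0 ≫ S.homologyπ 0) ≫ inv (S.homologyπ 0) := by
      rw [Category.assoc, IsIso.hom_inv_id, Category.comp_id]
    rw [h]; infer_instance
  let FM := (F.mapHomologicalComplex (ComplexShape.up ℤ)).obj M
  let FS := (F.mapHomologicalComplex (ComplexShape.up ℤ)).obj S
  let Fq : FM ⟶ FS := (F.mapHomologicalComplex (ComplexShape.up ℤ)).map q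
  let l : F.obj (M.cycles 0) ⟶ FM.cycles 0 := FM.liftCycles (F.map (M.iCycles 0)) 1 (by simp) (by
    change F.map (M.iCycles 0) ≫ F.map (M.d 0 1) = 0
    rw [← F.map_comp, M.iCycles_d, F.map_zero])
  have hS : FS.d 0 1 = 0 := by
    change F.map (S.d 0 1) = 0
    rw [(isZero_single_obj_X (ComplexShape.up ℤ) 0 N 1 (by omega)).eq_of_tgt (S.d 0 1) 0, F.map_zero]
  have : IsIso (FS.iCycles 0) := FS.isIso_iCycles 0 1 (by simp) hS
  have hl : l ≫ cyclesMap Fq 0 ≫ FS.iCycles 0 = F.map (cyclesMap q 0) ≫ F.map (S.iCycles 0) := by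
    rw [cyclesMap_i, liftCycles_i_assoc]
    change F.map (M.iCycles 0) ≫ F.map (q.f 0) = _
    rw [← F.map_comp, ← F.map_comp, cyclesMap_i]
  have hi : IsIso (F.map (S.iCycles 0)) := Functor.map_isIso F _
  have hc : Epi (F.map (cyclesMap q 0)) := F.map_epi _
  have : Epi (l ≫ cyclesMap Fq 0 ≫ FS.iCycles 0) := by
    rw [hl]; exact epi_comp' hc (@IsIso.epi_of_iso _ _ _ _ _ hi)
  have : Epi (cyclesMap Fq 0 ≫ FS.iCycles 0) := epi_of_epi l _
  have : Epi (cyclesMap Fq 0) := by
    have h : cyclesMap Fq 0 = (cyclesMap Fq 0 ≫ FS.iCycles 0) ≫ inv (FS.iCycles 0) := by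
      rw [Category.assoc, IsIso.hom_inv_id, Category.comp_id]
    rw [h]; infer_instance
  have : Epi (FM.homologyπ 0 ≫ homologyMap Fq 0) := by
    rw [homologyπ_naturality]; infer_instance
  exact epi_of_epi (FM.homologyπ 0) _

variable {X : Scheme.{u}}

/-- A module with vanishing Tor_1 is flat. -/
theorem flat_of_tor_one (F : X.Modules) (hL : ∀ G : X.Modules, DCoh.HasLTensorMod G)
    (h : ∀ G : X.Modules, IsZero (DCoh.HD ((@DCoh.LTensorMod X G (hL G)).obj (DCoh.inD X F)) (-1))) :
    FlatMod.IsFlat F := by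
  let S : ShortComplex X.Modules := ShortComplex.mk (kernel.ι (coverπ F)) (coverπ F) (kernel.condition _)
  have hS : S.ShortExact := { exact := ShortComplex.exact_of_f_is_kernel _ (kernelIsKernel _) }
  let sC := (single X.Modules (ComplexShape.up ℤ) 0).obj S.X₂
  obtain ⟨M, q, hM, -, hq, -⟩ := exists_kflat_resolution ((single X.Modules (ComplexShape.up ℤ) 0).obj S.X₁)
  let ι := (single X.Modules (ComplexShape.up ℤ) 0).map S.f
  let φ : M ⟶ sC := q ≫ ι
  have hKφ : DCoh.IsKFlat (CochainComplex.mappingCone φ) :=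
    isKFlat_mappingCone φ hM (isKFlat_single _ (flat_coverObj F) 0)
  have hQq : IsIso (DerivedCategory.Q.map q) := (DerivedCategory.isIso_Q_map_iff_quasiIso _ q).2 hq
  let eT := isoTriangleOfIso₁₂ _ _ (DerivedCategory.mappingCone_triangle_distinguished φ)
    hS.singleTriangle_distinguished
    (@asIso _ _ _ _ (DerivedCategory.Q.map q) hQq ≪≫
      ((DerivedCategory.singleFunctorIsoCompQ X.Modules 0).app S.X₁).symm)
    ((DerivedCategory.singleFunctorIsoCompQ X.Modules 0).app S.X₂).symm (by
      change DerivedCategory.Q.map φ ≫ 𝟙 _ = (DerivedCategory.Q.map q ≫ 𝟙 _) ≫ DerivedCategory.Q.map ι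
      rw [Category.comp_id, Category.comp_id]
      exact DerivedCategory.Q.map_comp q ι)
  refine flat_of_quotient hS (flat_coverObj F) fun G => ?_
  let T := (DCoh.tensorBi (X := X)).flip.obj G
  let Tc := T.mapHomologicalComplex (ComplexShape.up ℤ)
  have hz : IsZero ((Tc.obj (CochainComplex.mappingCone φ)).homology (-1)) := by
    obtain ⟨w⟩ := @hd_ltensor X G (hL G) _ hKφ _ (Triangle.π₃.mapIso eT) (-1)
    exact (h G).of_iso w.symm
  have hz' : IsZero ((CochainComplex.mappingCone (Tc.map φ)).homology (-1)) :=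
    hz.of_iso ((homologyFunctor X.Modules (ComplexShape.up ℤ) (-1)).mapIso
      (CochainComplex.mappingCone.mapHomologicalComplexIso φ T)).symm
  have hD := DerivedCategory.mappingCone_triangle_distinguished (Tc.map φ)
  have hδ := DerivedCategory.HomologySequence.δ_comp _ hD (-1) 0 (by omega)
  have hmono : Mono ((DerivedCategory.homologyFunctor X.Modules 0).map (DerivedCategory.Q.map (Tc.map φ))) :=
    (DerivedCategory.HomologySequence.exact₁ _ hD (-1) 0 (by omega)).mono_g
      ((hz'.of_iso (hdIso _ (-1))).eq_of_src _ _)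
  have : Mono (homologyMap (Tc.map q) 0 ≫ homologyMap (Tc.map ι) 0) := by
    rw [← homologyMap_comp, ← Functor.map_comp]
    exact ((MorphismProperty.monomorphisms _).arrow_mk_iso_iff
      (Arrow.isoMk (hdIso _ 0) (hdIso _ 0)
        ((DerivedCategory.homologyFunctorFactors X.Modules 0).hom.naturality (Tc.map φ)).symm)).1 hmono
  have : Epi (homologyMap (Tc.map q) 0) := epi_homologyMap_single T q
  have : Mono (homologyMap (Tc.map q) 0) := mono_of_mono _ (homologyMap (Tc.map ι) 0)
  have : IsIso (homologyMap (Tc.map q) 0) := isIso_of_mono_of_epi _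
  have h' : Mono (homologyMap (Tc.map ι) 0) := by
    have e : homologyMap (Tc.map ι) 0 = inv (homologyMap (Tc.map q) 0) ≫
        (homologyMap (Tc.map q) 0 ≫ homologyMap (Tc.map ι) 0) := by rw [IsIso.inv_hom_id_assoc]
    rw [e]; exact mono_comp _ _
  let e := Functor.isoWhiskerRight (HomologicalComplex.singleMapHomologicalComplex T (ComplexShape.up ℤ) 0)
      (homologyFunctor X.Modules (ComplexShape.up ℤ) 0) ≪≫ Functor.associator _ _ _ ≪≫
    Functor.isoWhiskerLeft T (homologyFunctorSingleIso X.Modules (ComplexShape.up ℤ) 0) ≪≫ Functor.rightUnitor T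
  exact ((MorphismProperty.monomorphisms _).arrow_mk_iso_iff
    (Arrow.isoMk (e.app S.X₁) (e.app S.X₂) (e.hom.naturality S.f).symm)).1 h'

end GrothLib.OX
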