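import Groth.Agent.Lib.OX.AffineSections
import Groth.Agent.Lib.DerCat.Theta
import Groth.Agent.Lib.KInj.Adjoint
import Mathlib.CategoryTheory.Adjunction.FullyFaithful

/-! # The derived category of a ring and of its spectrum

`M ↦ M~` is fully faithful on derived categories, and its essential image consists of the objects
with quasi-coherent cohomology. -/

set_option autoImplicit false
set_option maxHeartbeats 400000
universe u

open CategoryTheory CategoryTheory.Limits AlgebraicGeometry Opposite DerivedCategory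
open GrothLib.SiteDer (theta)

attribute [local instance] HasDerivedCategory.standard

namespace GrothLib.OX

variable {R : CommRingCat.{u}}

/-- Global sections as maps out of `R~`. -/
noncomputable def tildeSec (M : (Spec R).Modules) :
    ((tilde.functor R).obj (ModuleCat.of R R) ⟶ M) ≃ Γ(M, ⊤) :=
  (tilde.adjunction.homEquiv (ModuleCat.of R R) M).trans
    (ModuleCat.homEquiv.trans (LinearMap.ringLmapEquivSelf R R _).toEquiv)

theorem tildeSec_comp {M N : (Spec R).Modules} (f : (tilde.functor R).obj (ModuleCat.of R R) ⟶ M)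
    (g : M ⟶ N) : tildeSec N (f ≫ g) = g.app ⊤ (tildeSec M f) :=
  congrArg (fun k : ModuleCat.of R R ⟶ moduleSpecΓFunctor.obj N => k.hom (1 : R))
    (tilde.adjunction.homEquiv_naturality_right f g)

theorem genSec_comp {X : Scheme.{u}} {M N : X.Modules} (U : X.Opens) (f : (genF X).obj U ⟶ M) (g : M ⟶ N) :
    genSec N U (f ≫ g) = g.app U (genSec M U f) :=
  SiteDer.secMod_comp U f g

variable (R) in
/-- The generator at the whole spectrum is the structure sheaf. -/
noncomputable def tildeGenIso :
    (genF (Spec R)).obj ⊤ ≅ (tilde.functor R).obj (ModuleCat.of R R) where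
  hom := (genSec _ ⊤).symm (tildeSec _ (𝟙 _))
  inv := (tildeSec _).symm (genSec _ ⊤ (𝟙 _))
  hom_inv_id := (genSec _ ⊤).injective (by
    rw [genSec_comp, Equiv.apply_symm_apply]
    exact (tildeSec_comp _ _).symm.trans
      ((congrArg (tildeSec _) (Category.id_comp _)).trans (Equiv.apply_symm_apply _ _)))
  inv_hom_id := (tildeSec _).injective (by
    rw [tildeSec_comp, Equiv.apply_symm_apply, ← genSec_comp, Category.id_comp, Equiv.apply_symm_apply]
    rfl)

theorem thetaBij_tildeSelf {K : DCoh.D (Spec R)} (hK : DCoh.IsQCohD K) (j : ℤ) :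
    DerTheta.ThetaBij ((tilde.functor R).obj (ModuleCat.of R R)) j K := by
  have h := theta_bijective (isAffineOpen_top (Spec R)) hK j
  let e := tildeGenIso R
  refine ⟨fun φ φ' he => ?_, fun g => ?_⟩
  · refine (cancel_epi ((singleFunctor (Spec R).Modules j).map e.hom)).1 (h.1 ?_)
    simp only [SiteDer.theta_map_comp] at he ⊢
    rw [he]
  · obtain ⟨ψ, hψ⟩ := h.2 (e.hom ≫ g)
    refine ⟨(singleFunctor (Spec R).Modules j).map e.inv ≫ ψ, ?_⟩
    exact (SiteDer.theta_map_comp _ _).trans ((congrArg (e.inv ≫ ·) hψ).trans (e.inv_hom_id_assoc g))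

variable [PreservesFiniteLimits (tilde.functor R)]

theorem isQCohD_tildeD (N : DerivedCategory (ModuleCat.{u} R)) : DCoh.IsQCohD ((DCoh.tildeD R).obj N) :=
  fun q => isQCoh_of_iso ((DerTrunc.homologyMapIso (tilde.functor R) q).app N).symm
    (inferInstance : ((tilde.functor R).obj ((homologyFunctor (ModuleCat.{u} R) q).obj N)).IsQuasicoherent)

theorem tildeD_map_bijective_single (N : DerivedCategory (ModuleCat.{u} R)) (j : ℤ) :
    Function.Bijective (fun φ : (singleFunctor (ModuleCat.{u} R) j).obj (ModuleCat.of R R) ⟶ N =>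
      (DCoh.tildeD R).map φ) :=
  DerTheta.bijective_map (tilde.functor R) (DerTheta.thetaBij_of_projective _ j N)
    (thetaBij_tildeSelf (isQCohD_tildeD N) j)

theorem isIso_of_bijective_moduleCat {M N : ModuleCat.{u} R} (a : M ⟶ N)
    (h : Function.Bijective (fun g : ModuleCat.of R R ⟶ M => g ≫ a)) : IsIso a := by
  rw [ConcreteCategory.isIso_iff_bijective]
  let sec : ∀ L : ModuleCat.{u} R, (ModuleCat.of R R ⟶ L) ≃ L := fun L =>
    ModuleCat.homEquiv.trans (LinearMap.ringLmapEquivSelf R R L).toEquiv
  have hM : Function.Bijective (fun g : ModuleCat.of R R ⟶ M => g.hom (1 : R)) := (sec M).bijective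
  have hN : Function.Bijective (fun g : ModuleCat.of R R ⟶ N => g.hom (1 : R)) := (sec N).bijective
  exact (Function.Bijective.of_comp_iff _ hM).1 (hN.comp h)

/-- Maps out of the generator detect isomorphisms in the derived category of modules. -/
theorem isIso_of_bijective_D {M N : DerivedCategory (ModuleCat.{u} R)} (a : M ⟶ N)
    (h : ∀ j, Function.Bijective
      (fun φ : (singleFunctor (ModuleCat.{u} R) j).obj (ModuleCat.of R R) ⟶ M => φ ≫ a)) : IsIso a := by
  refine (DerivedCategory.isIso_iff _ _).2 fun j => isIso_of_bijective_moduleCat _ ?_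
  refine (Function.Bijective.of_comp_iff _ (DerTheta.thetaBij_of_projective (ModuleCat.of R R) j M)).1 ?_
  have e : (fun g => g ≫ (homologyFunctor (ModuleCat.{u} R) j).map a) ∘
      (fun φ : (singleFunctor (ModuleCat.{u} R) j).obj (ModuleCat.of R R) ⟶ M => theta φ) =
      (fun φ => theta φ) ∘ fun φ => φ ≫ a := funext fun φ => (SiteDer.theta_comp φ a).symm
  rw [e]
  exact (DerTheta.thetaBij_of_projective _ j N).comp (h j)

/-- A map of quasi-coherent modules on an affine scheme is an isomorphism if it is one on sections. -/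
theorem isIso_of_bijective_qcoh {M N : (Spec R).Modules} (hM : Coh.IsQCoh M) (hN : Coh.IsQCoh N)
    (a : M ⟶ N) (h : Function.Bijective
      (fun g : (tilde.functor R).obj (ModuleCat.of R R) ⟶ M => g ≫ a)) : IsIso a := by
  have hM' : IsIso M.fromTildeΓ := @Scheme.Modules.isIso_fromTildeΓ_of_isQuasicoherent _ M hM
  have hN' : IsIso N.fromTildeΓ := @Scheme.Modules.isIso_fromTildeΓ_of_isQuasicoherent _ N hN
  have hΓ : IsIso (moduleSpecΓFunctor.map a) := by
    refine isIso_of_bijective_moduleCat _ ?_
    let e := fun K : (Spec R).Modules => tilde.adjunction.homEquiv (ModuleCat.of R R) K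
    refine (Function.Bijective.of_comp_iff _ (e M).bijective).1 ?_
    have he : (fun g => g ≫ moduleSpecΓFunctor.map a) ∘ (fun g => e M g) =
        (fun g => e N g) ∘ fun g => g ≫ a :=
      funext fun g => (tilde.adjunction.homEquiv_naturality_right g a).symm
    rw [he]
    exact (e N).bijective.comp h
  have hn := (Scheme.Modules.fromTildeΓNatTrans (R := R)).naturality a
  exact @IsIso.of_isIso_fac_left _ _ _ _ _ M.fromTildeΓ a _ hM'
    (@IsIso.comp_isIso _ _ _ _ _ ((tilde.functor R).map (moduleSpecΓFunctor.map a)) N.fromTildeΓ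
      (Functor.map_isIso _ _) hN') hn.symm

/-- A map `N~ ⟶ K` into `D_qc` is an isomorphism if it is bijective on maps out of the generator. -/
theorem isIso_of_bijective_tildeD {N : DerivedCategory (ModuleCat.{u} R)} {K : DCoh.D (Spec R)}
    (hK : DCoh.IsQCohD K) (a : (DCoh.tildeD R).obj N ⟶ K)
    (h : ∀ j, Function.Bijective (fun φ : (singleFunctor (ModuleCat.{u} R) j).obj (ModuleCat.of R R) ⟶ N =>
      (DCoh.tildeD R).map φ ≫ a)) : IsIso a := by
  refine (DerivedCategory.isIso_iff _ _).2 fun j => isIso_of_bijective_qcoh (isQCohD_tildeD N j) (hK j) _ ?_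
  let e := ((tilde.functor R).mapDerivedCategorySingleFunctor j).app (ModuleCat.of R R)
  have hpre : Function.Bijective (fun ψ : (DCoh.tildeD R).obj ((singleFunctor (ModuleCat.{u} R) j).obj
      (ModuleCat.of R R)) ⟶ (DCoh.tildeD R).obj N => e.inv ≫ ψ) :=
    ⟨fun ψ ψ' he => (cancel_epi e.inv).1 he, fun ψ => ⟨e.hom ≫ ψ, e.inv_hom_id_assoc ψ⟩⟩
  have hpre' : Function.Bijective (fun ψ : (DCoh.tildeD R).obj ((singleFunctor (ModuleCat.{u} R) j).obj
      (ModuleCat.of R R)) ⟶ K => e.inv ≫ ψ) :=
    ⟨fun ψ ψ' he => (cancel_epi e.inv).1 he, fun ψ => ⟨e.hom ≫ ψ, e.inv_hom_id_assoc ψ⟩⟩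
  refine (Function.Bijective.of_comp_iff _
    ((thetaBij_tildeSelf (isQCohD_tildeD N) j).comp (hpre.comp (tildeD_map_bijective_single N j)))).1 ?_
  have key := ((thetaBij_tildeSelf hK j).comp (hpre'.comp (h j)))
  refine Eq.mpr (congrArg Function.Bijective (funext fun φ => ?_)) key
  exact ((SiteDer.theta_comp _ a).symm.trans (congrArg theta (Category.assoc _ _ _))).trans rfl

/-- `M ↦ M~` is fully faithful on derived categories, with essential image `D_qc`. -/
theorem tildeD_full_faithful_essImage :
    (DCoh.tildeD R).Full ∧ (DCoh.tildeD R).Faithful ∧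
      ∀ K : DCoh.D (Spec R), DCoh.IsQCohD K → ∃ M, Nonempty ((DCoh.tildeD R).obj M ≅ K) := by
  have : moduleSpecΓFunctor (R := R) |>.Additive := tilde.adjunction.right_adjoint_additive
  let adj := KInj.derivedAdj (tilde.adjunction (R := R))
  have hunit : ∀ N, IsIso (adj.unit.app N) := fun N => isIso_of_bijective_D _ fun j => by
    have e : (fun φ : (singleFunctor (ModuleCat.{u} R) j).obj (ModuleCat.of R R) ⟶ N => φ ≫ adj.unit.app N) =
        (fun ψ => adj.homEquiv _ _ ψ) ∘ fun φ => (DCoh.tildeD R).map φ :=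
      funext fun φ => (adj.unit.naturality φ).trans (adj.homEquiv_unit _ _ _).symm
    exact Eq.mpr (congrArg Function.Bijective e)
      ((adj.homEquiv _ _).bijective.comp (tildeD_map_bijective_single N j))
  have : IsIso adj.unit := NatIso.isIso_of_isIso_app _
  let ff := adj.fullyFaithfulLOfIsIsoUnit
  refine ⟨ff.full, ff.faithful, fun K hK =>
    ⟨_, ⟨@asIso _ _ _ _ (adj.counit.app K) (isIso_of_bijective_tildeD hK _ fun j => ?_)⟩⟩⟩
  have e : (fun φ : (singleFunctor (ModuleCat.{u} R) j).obj (ModuleCat.of R R) ⟶ _ =>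
      (DCoh.tildeD R).map φ ≫ adj.counit.app K) = fun φ => (adj.homEquiv _ K).symm φ :=
    funext fun φ => (adj.homEquiv_counit _ _ _).symm
  exact Eq.mpr (congrArg Function.Bijective e) (adj.homEquiv _ K).symm.bijective

end GrothLib.OX
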