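import Groth.Agent.S0002
import Groth.Agent.Lib.SheafCoh.ModUnit
import Groth.Agent.Lib.QCoh.SupportExact
import Groth.Agent.Lib.OX.CohRHom
import Groth.Agent.Lib.OX.HomTri
import Groth.Agent.Lib.OX.HomDevissage
import Groth.Agent.Lib.OX.TensorScalar
import Groth.Agent.Lib.OX.LocFreeTensor
import Groth.Prelude.Def_KLin
import Groth.Prelude.Def_DCoh2
import Mathlib.Algebra.Homology.DerivedCategory.Ext.Linear
import Mathlib.Algebra.Homology.DerivedCategory.Linear
import Mathlib.CategoryTheory.Triangulated.TStructure.TruncLTGE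
import Mathlib.Algebra.Homology.DerivedCategory.FullyFaithful

/-! # Hypercohomology of bounded below complexes with coherent cohomology on a proper scheme is finite -/

set_option autoImplicit false
universe u

open CategoryTheory CategoryTheory.Limits AlgebraicGeometry Pretriangulated Opposite Abelian

attribute [local instance] HasDerivedCategory.standard

namespace GrothLib.OX

variable (A : Type u) [CommRing A] {X : Scheme.{u}} [X.Over (Spec (CommRingCat.of A))]

/-- The structure sheaf in degree `0`. -/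
noncomputable abbrev unit0 (X : Scheme.{u}) : DCoh.D X :=
  (DerivedCategory.singleFunctor X.Modules 0).obj (Coh.structureModule X)

/-- Cohomology of a module maps onto hypercohomology, linearly. -/
theorem finite_hom_single_shift [IsNoetherianRing A] [IsProper (X ↘ Spec (CommRingCat.of A))] (M : X.Modules)
    (hM : Coh.IsCoh M) (n : ℕ) :
    Module.Finite A (unit0 X ⟶ ((DerivedCategory.singleFunctor X.Modules 0).obj M)⟦(n : ℤ)⟧) := by
  haveI : EnoughInjectives X.Modules := SheafCoh.enoughInjectives_sheafOfModules X.ringCatSheaf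
  haveI : HasExt.{u} X.Modules := hasExt_of_enoughInjectives _
  have hH := SheafCoh.preservesHomology_toSheaf X.ringCatSheaf
  let R := X.ringCatSheaf
  let cst := (constantSheaf (Opens.grothendieckTopology X) AddCommGrpCat.{u}).obj (AddCommGrpCat.of (ULift.{u} ℤ))
  let P : X.Modules := (SiteDer.tensSh R).obj cst
  let G : X.Modules ⥤ Sheaf (Opens.grothendieckTopology X) AddCommGrpCat.{u} := SheafOfModules.toSheaf.{u} R
  haveI : G.Additive := inferInstanceAs ((SheafOfModules.toSheaf.{u} R).Additive)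
  haveI : G.PreservesHomology := hH
  haveI : PreservesFiniteLimits G := Functor.preservesFiniteLimits_of_preservesHomology _
  haveI : PreservesFiniteColimits G := Functor.preservesFiniteColimits_of_preservesHomology _
  obtain ⟨c⟩ := DimShift.nonempty_comparison G P cst (fun _ => True) (fun _ _ => trivial)
    (fun S hS _ _ => ⟨trivial, hS.map_of_exact _⟩)
    (fun I hI m => @SheafCoh.subsingleton_ext_injective_module _ _ _ R cst SheafCoh.torsionFree_const I hI m)
    (fun F => (SiteDer.tensShAdj R).homAddEquiv cst F)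
    (fun φ a => (SiteDer.tensShAdj R).homEquiv_naturality_right a φ) n
  let i : P ≅ Coh.structureModule X := SheafCoh.tensConstIso R
  let S := DerivedCategory.singleFunctor X.Modules 0
  let Φ : Coh.HH X M n → (unit0 X ⟶ (S.obj M)⟦(n : ℤ)⟧) := fun x =>
    S.map i.inv ≫ ((c.equiv M trivial).symm x).hom
  have hΦs : Function.Surjective Φ := fun y => by
    refine ⟨c.equiv M trivial (Ext.homEquiv.symm (S.map i.hom ≫ y)), ?_⟩
    simp only [Φ, AddEquiv.symm_apply_apply]
    rw [Ext.hom, Equiv.apply_symm_apply, ← Category.assoc, ← Functor.map_comp, Iso.inv_hom_id,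
      CategoryTheory.Functor.map_id]
    exact Category.id_comp _
  have hadd : ∀ x y, Φ (x + y) = Φ x + Φ y := fun x y => by
    simp only [Φ, map_add, Ext.add_hom]
    exact Preadditive.comp_add _ _ _ _ _ _
  have hsmul : ∀ (a : A) x, Φ (a • x) = a • Φ x := fun a x => by
    let e := (c.equiv M trivial).symm x
    have h1 : (c.equiv M trivial).symm (a • x) = e.comp (Ext.mk₀ (a • 𝟙 M)) (add_zero n) := by
      rw [AddEquiv.symm_apply_eq, c.naturality (a • 𝟙 M) trivial trivial e, AddEquiv.apply_symm_apply, KLin.smul_id]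
      rfl
    simp only [Φ, h1, Ext.comp_hom, Ext.mk₀_hom, ShiftedHom.comp_mk₀]
    rw [← Category.assoc, Functor.map_smul, CategoryTheory.Functor.map_id, Functor.map_smul,
      CategoryTheory.Functor.map_id, Linear.comp_smul]
    exact congrArg (a • ·) (Category.comp_id _)
  haveI := Groth.Agent.S0002.result A X M hM n
  exact Module.Finite.of_surjective ({ toFun := Φ, map_add' := hadd, map_smul' := hsmul } :
    Coh.HH X M n →ₗ[A] (unit0 X ⟶ (S.obj M)⟦(n : ℤ)⟧)) hΦs

omit [X.Over (Spec (CommRingCat.of A))] in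
/-- No hypercohomology below the amplitude. -/
theorem subsingleton_hom_unit_of_isGE (L : DCoh.D X) (a n : ℤ) [L.IsGE a] (h : n < a) :
    Subsingleton (unit0 X ⟶ L⟦n⟧) := by
  haveI : (L⟦n⟧).IsGE (a - n) := DerivedCategory.TStructure.t.isGE_shift L a n (a - n) (by omega)
  refine ⟨fun x y => sub_eq_zero.1 (DerivedCategory.TStructure.t.zero_of_isLE_of_isGE (x - y) 0 (a - n) (by omega) ?_ ?_)⟩
  · exact inferInstanceAs ((unit0 X).IsLE 0)
  · exact inferInstanceAs ((L⟦n⟧).IsGE (a - n))

/-- Hypercohomology of a bounded below object with coherent cohomology is finite. -/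
theorem finite_hom_unit_shift [IsNoetherianRing A] [IsProper (X ↘ Spec (CommRingCat.of A))] (n : ℤ) :
    ∀ (k : ℕ) (L : DCoh.D X) (a : ℤ), L.IsGE a → DCoh.IsCohD L → n + 1 ≤ a + k →
      Module.Finite A (unit0 X ⟶ L⟦n⟧) := by
  intro k
  induction k with
  | zero =>
    intro L a _ _ ha
    have := subsingleton_hom_unit_of_isGE L a n (by omega)
    infer_instance
  | succ k ih =>
    intro L a hge hL ha
    let H := fun i : ℤ => DerivedCategory.homologyFunctor X.Modules i
    set T := (DerivedCategory.TStructure.t.triangleLTGE (a + 1)).obj L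
    have hT : T ∈ distTriang _ := DerivedCategory.TStructure.t.triangleLTGE_distinguished _ L
    have hle1 : T.obj₁.IsLE a := DerivedCategory.TStructure.t.isLE_truncLT_obj L (a + 1) a
    have hge3 : T.obj₃.IsGE (a + 1) := DerivedCategory.TStructure.t.isGE_truncGE_obj L (a + 1) _
    have i1 : ∀ m : ℤ, m ≤ a → IsIso ((H m).map T.mor₁) := by
      intro m hm
      have : Mono ((H m).map T.mor₁) :=
        (DerivedCategory.HomologySequence.mono_homologyMap_mor₁_iff T hT (m - 1) m (by omega)).2
          ((T.obj₃.isZero_of_isGE (a + 1) (m - 1) (by omega)).eq_of_src _ _)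
      have : Epi ((H m).map T.mor₁) :=
        (DerivedCategory.HomologySequence.epi_homologyMap_mor₁_iff T hT m).2
          ((T.obj₃.isZero_of_isGE (a + 1) m (by omega)).eq_of_tgt _ _)
      exact isIso_of_mono_of_epi _
    have i3 : ∀ m : ℤ, a < m → IsIso ((H m).map T.mor₂) := by
      intro m hm
      have : Mono ((H m).map T.mor₂) :=
        (DerivedCategory.HomologySequence.mono_homologyMap_mor₂_iff T hT m).2
          ((T.obj₁.isZero_of_isLE a m hm).eq_of_src _ _)
      have : Epi ((H m).map T.mor₂) :=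
        (DerivedCategory.HomologySequence.epi_homologyMap_mor₂_iff T hT m (m + 1) rfl).2
          ((T.obj₁.isZero_of_isLE a (m + 1) (by omega)).eq_of_tgt _ _)
      exact isIso_of_mono_of_epi _
    have hL3 : DCoh.IsCohD T.obj₃ := fun m => by
      rcases lt_or_ge a m with hm | hm
      · have := i3 m hm
        exact QCoh.isCoh_of_iso (asIso ((H m).map T.mor₂)) (hL m)
      · exact isCoh_of_isZero (T.obj₃.isZero_of_isGE (a + 1) m (by omega))
    have h3 : Module.Finite A (unit0 X ⟶ T.obj₃⟦n⟧) := ih T.obj₃ (a + 1) hge3 hL3 (by omega)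
    have hge1 : T.obj₁.IsGE a := (DerivedCategory.isGE_iff _ _).2 fun m hm => by
      have hi := i1 m (by omega)
      exact (L.isZero_of_isGE a m hm).of_iso (@asIso _ _ _ _ ((H m).map T.mor₁) hi)
    obtain ⟨N, ⟨e⟩⟩ := DerivedCategory.exists_iso_singleFunctor_obj_of_isGE_of_isLE T.obj₁ a
    have hN : Coh.IsCoh N := by
      have := i1 a le_rfl
      exact QCoh.isCoh_of_iso ((asIso ((H a).map T.mor₁)).symm ≪≫ (H a).mapIso e ≪≫
        (DerivedCategory.singleFunctorCompHomologyFunctorIso X.Modules a).app N) (hL a)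
    have h1 : Module.Finite A (unit0 X ⟶ T.obj₁⟦n⟧) := by
      rcases lt_or_ge n a with h | h
      · have := subsingleton_hom_unit_of_isGE T.obj₁ a n h
        infer_instance
      · obtain ⟨q, hq⟩ : ∃ q : ℕ, (q : ℤ) = n - a := ⟨(n - a).toNat, by omega⟩
        have := finite_hom_single_shift A N hN q
        let j : ((DerivedCategory.singleFunctor X.Modules 0).obj N)⟦(q : ℤ)⟧ ≅ T.obj₁⟦n⟧ :=
          (shiftFunctor (DCoh.D X) (q : ℤ)).mapIso
              (((DerivedCategory.singleFunctors X.Modules).shiftIso a 0 a (by omega)).app N).symm ≪≫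
            ((shiftFunctorAdd' (DCoh.D X) a (q : ℤ) n (by omega)).app _).symm ≪≫
            (shiftFunctor (DCoh.D X) n).mapIso e.symm
        exact Module.Finite.equiv (Linear.homCongr A (Iso.refl (unit0 X)) j)
    let f : (unit0 X ⟶ T.obj₁⟦n⟧) →ₗ[A] (unit0 X ⟶ T.obj₂⟦n⟧) := Linear.rightComp A _ (T.mor₁⟦n⟧')
    let g : (unit0 X ⟶ T.obj₂⟦n⟧) →ₗ[A] (unit0 X ⟶ T.obj₃⟦n⟧) := Linear.rightComp A _ (T.mor₂⟦n⟧')
    have hfg : LinearMap.range f = LinearMap.ker g := by
      ext x
      constructor
      · rintro ⟨y, rfl⟩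
        change (y ≫ T.mor₁⟦n⟧') ≫ T.mor₂⟦n⟧' = 0
        rw [Category.assoc, ← Functor.map_comp, comp_distTriang_mor_zero₁₂ _ hT, Functor.map_zero, comp_zero]
      · intro hx
        obtain ⟨y, hy⟩ : ∃ y : unit0 X ⟶ T.obj₁⟦n⟧, x = y ≫ (n.negOnePow • T.mor₁⟦n⟧') :=
          Triangle.coyoneda_exact₂ _ (Triangle.shift_distinguished _ hT n) x
            (show x ≫ (n.negOnePow • T.mor₂⟦n⟧') = 0 by
              rw [Linear.comp_units_smul, show x ≫ T.mor₂⟦n⟧' = 0 from hx, smul_zero])
        refine ⟨n.negOnePow • y, ?_⟩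
        change (n.negOnePow • y) ≫ T.mor₁⟦n⟧' = x
        rw [hy, Linear.units_smul_comp, Linear.comp_units_smul]
    have := isNoetherian_of_isNoetherianRing_of_finite A (unit0 X ⟶ T.obj₁⟦n⟧)
    have := isNoetherian_of_isNoetherianRing_of_finite A (unit0 X ⟶ T.obj₃⟦n⟧)
    have : IsNoetherian A (unit0 X ⟶ T.obj₂⟦n⟧) := isNoetherian_of_range_eq_ker f g hfg
    exact (inferInstance : Module.Finite A (unit0 X ⟶ T.obj₂⟦n⟧))

/-- Ext modules between coherent complexes on a proper scheme are finite. -/
theorem finite_hom_shift [IsNoetherianRing A] [IsProper (X ↘ Spec (CommRingCat.of A))] (K L : DCoh.D X)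
    (hK : DCoh.IsCohD K) (b : ℤ) [K.IsLE b] (hL : DCoh.IsCohD L) (a : ℤ) [L.IsGE a] (n : ℤ) :
    Module.Finite A (K ⟶ L⟦n⟧) := by
  haveI : IsLocallyNoetherian X := LocallyOfFiniteType.isLocallyNoetherian (X ↘ Spec (CommRingCat.of A))
  let E := DerivedCategory.Q.objPreimage K
  let eK : DerivedCategory.Q.obj E ≅ K := DerivedCategory.Q.objObjPreimageIso K
  haveI : (DerivedCategory.Q.obj E).IsLE b := DerivedCategory.TStructure.t.isLE_of_iso eK.symm b
  have hE : DCoh.IsCohD (DerivedCategory.Q.obj E) := fun i =>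
    QCoh.isCoh_of_iso ((DerivedCategory.homologyFunctor X.Modules i).mapIso eK.symm) (hK i)
  haveI := hasLTensorCx E
  haveI := hasRSheafHom E
  haveI : (L⟦n⟧).IsGE (a - n) := DerivedCategory.TStructure.t.isGE_shift L a n (a - n) (by omega)
  have hLn : DCoh.IsCohD (L⟦n⟧) := fun i =>
    QCoh.isCoh_of_iso (HDShiftIso L n i (n + i) rfl).symm (hL _)
  let W := (DCoh.RSheafHom E).obj (L⟦n⟧)
  have hW : DCoh.IsCohD W := isCohD_RSheafHom E b hE (a - n) hLn
  haveI : W.IsGE (a - n - b) := isGE_RSheafHom E b (L⟦n⟧) (a - n)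
  have h0 := finite_hom_unit_shift A 0 (n + b + 1 - a).toNat W (a - n - b) inferInstance hW (by omega)
  let O₀ := (HomologicalComplex.single X.Modules (ComplexShape.up ℤ) 0).obj (Coh.structureModule X)
  obtain ⟨v⟩ := ltensorCx_value E O₀ (isKFlat_single _ (flat_structureModule _) 0)
  let u : DerivedCategory.Q.obj O₀ ≅ unit0 X := ((DerivedCategory.singleFunctorIsoCompQ X.Modules 0).app _).symm
  let w : (DCoh.LTensorCx E).obj (unit0 X) ≅ K :=
    (DCoh.LTensorCx E).mapIso u.symm ≪≫ v ≪≫
      DerivedCategory.Q.mapIso (tensorCxSymm E O₀ ≪≫ singleUnitNatIso.app E) ≪≫ eK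
  let adj := DCoh.RSheafHomAdj E
  let F : (unit0 X ⟶ W⟦(0 : ℤ)⟧) →+ (K ⟶ L⟦n⟧) :=
    AddMonoidHom.mk' (fun x => w.inv ≫ (adj.homEquiv _ _).symm (x ≫ (shiftFunctorZero (DCoh.D X) ℤ).hom.app W))
      fun x y => by
        rw [Preadditive.add_comp]
        haveI : (DCoh.LTensorCx E).IsLeftAdjoint := adj.isLeftAdjoint
        haveI : PreservesColimitsOfShape (Discrete WalkingPair) (DCoh.LTensorCx E) :=
          adj.leftAdjoint_preservesColimits.preservesColimitsOfShape
        haveI := preservesBinaryBiproducts_of_preservesBinaryCoproducts (DCoh.LTensorCx E)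
        haveI : (DCoh.LTensorCx E).Additive := Functor.additive_of_preservesBinaryBiproducts _
        rw [Adjunction.homEquiv_counit, Adjunction.homEquiv_counit, Adjunction.homEquiv_counit, Functor.map_add,
          Preadditive.add_comp, Preadditive.comp_add]
  have hF : Function.Bijective F := w.homFromEquiv.bijective.comp ((adj.homEquiv _ _).symm.bijective.comp
    (((shiftFunctorZero (DCoh.D X) ℤ).app W).homToEquiv).bijective)
  have hsmul : ∀ (c : A) x, F (c • x) = c • F x := fun c x => by
    change w.inv ≫ (adj.homEquiv _ _).symm ((c • x) ≫ _) = c • (w.inv ≫ (adj.homEquiv _ _).symm (x ≫ _))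
    let y := x ≫ (shiftFunctorZero (DCoh.D X) ℤ).hom.app W
    have hu : (DCoh.LTensorCx E).map (c • 𝟙 (unit0 X)) = c • 𝟙 ((DCoh.LTensorCx E).obj (unit0 X)) := by
      have he : c • 𝟙 (unit0 X) = u.inv ≫ (c • 𝟙 (DerivedCategory.Q.obj O₀)) ≫ u.hom := by
        rw [Linear.smul_comp, Category.id_comp, Linear.comp_smul, u.inv_hom_id]
      rw [he, Functor.map_comp, Functor.map_comp,
        ltensorCx_map_smul_id A E c O₀ (isKFlat_single _ (flat_structureModule _) 0), Linear.smul_comp,
        Category.id_comp, Linear.comp_smul, ← Functor.map_comp, u.inv_hom_id, CategoryTheory.Functor.map_id]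
    have hy : (adj.homEquiv _ _).symm (c • y) = c • (adj.homEquiv _ _).symm y := by
      rw [show c • y = (c • 𝟙 (unit0 X)) ≫ y by rw [Linear.smul_comp, Category.id_comp],
        Adjunction.homEquiv_naturality_left_symm, hu, Linear.smul_comp, Category.id_comp]
    rw [Linear.smul_comp, hy, Linear.comp_smul]
  exact Module.Finite.of_surjective ({ toFun := F, map_add' := F.map_add, map_smul' := hsmul } :
    (unit0 X ⟶ W⟦(0 : ℤ)⟧) →ₗ[A] (K ⟶ L⟦n⟧)) hF.2

end GrothLib.OX
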