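import Groth.Agent.Lib.OX.AffineReflect
import Groth.Agent.Lib.OX.AffineLocal

/-! # Tilde modules vanish on an open exactly when they are torsion -/

set_option autoImplicit false
universe u

open CategoryTheory CategoryTheory.Limits AlgebraicGeometry Opposite TopologicalSpace

attribute [local instance] HasDerivedCategory.standard

namespace GrothLib.OX

variable {A : CommRingCat.{u}} {V : Scheme.{u}} (j : V ⟶ Spec A) [IsOpenImmersion j]

theorem image_preimage_of_le {X Y : Scheme.{u}} (i : Y ⟶ X) [IsOpenImmersion i] {W : X.Opens} (h : W ≤ i.opensRange) :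
    i ''ᵁ (i ⁻¹ᵁ W) = W := by
  rw [Scheme.Hom.image_preimage_eq_opensRange_inf, inf_eq_right.2 h]

/-- A tilde module that vanishes on `U` is `f`-torsion for `D(f) ⊆ U`. -/
theorem torsion_of_isZero_restrict (M : ModuleCat.{u} A)
    (h : IsZero ((Scheme.Modules.restrictFunctor j).obj ((tilde.functor A).obj M))) (f : A)
    (hf : PrimeSpectrum.basicOpen f ≤ j.opensRange) (x : M) : ∃ k : ℕ, f ^ k • x = 0 := by
  let W : (Spec A).Opens := PrimeSpectrum.basicOpen f
  have h0 : IsZero (((Scheme.Modules.toPresheaf V).obj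
      ((Scheme.Modules.restrictFunctor j).obj ((tilde.functor A).obj M))).obj (op (j ⁻¹ᵁ W))) :=
    (Functor.isZero_iff _).1 ((Scheme.Modules.toPresheaf V).map_isZero h) _
  have hsub : Subsingleton Γ((tilde.functor A).obj M, W) := by
    have h1 : Subsingleton Γ((tilde.functor A).obj M, j ''ᵁ (j ⁻¹ᵁ W)) :=
      AddCommGrpCat.subsingleton_of_isZero h0
    rwa [image_preimage_of_le j hf] at h1
  have hx : (tilde.toOpen M W).hom x = 0 := hsub.elim _ _
  obtain ⟨⟨-, k, rfl⟩, hk⟩ := (IsLocalizedModule.eq_zero_iff (Submonoid.powers f) (tilde.toOpen M W).hom).1 hx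
  exact ⟨k, hk⟩

/-- A torsion tilde module vanishes on an open covered by the `D(f)`. -/
theorem isZero_restrict_of_torsion {ι : Type*} (f : ι → A) (hf : j.opensRange = ⨆ i, PrimeSpectrum.basicOpen (f i))
    (M : ModuleCat.{u} A) (h : ∀ i (x : M), ∃ k : ℕ, f i ^ k • x = 0) :
    IsZero ((Scheme.Modules.restrictFunctor j).obj ((tilde.functor A).obj M)) := by
  have hle : ∀ i, PrimeSpectrum.basicOpen (f i) ≤ j.opensRange := fun i => hf ▸ le_iSup (fun i => PrimeSpectrum.basicOpen (f i)) i
  have hq : Coh.IsQCoh ((Scheme.Modules.restrictFunctor j).obj ((tilde.functor A).obj M)) :=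
    @Scheme.Modules.isQuasicoherent_restrictFunctor _ _ j _ ((tilde.functor A).obj M) (inferInstanceAs (tilde M).IsQuasicoherent)
  refine isZero_of_affine_cover hq (fun i => j ⁻¹ᵁ (PrimeSpectrum.basicOpen (f i) : (Spec A).Opens)) (fun i => ?_)
    (fun x => ?_) fun i t => ?_
  · rw [← Scheme.Hom.isAffineOpen_iff_of_isOpenImmersion j, image_preimage_of_le j (hle i),
      ← basicOpen_eq_of_affine]
    exact (isAffineOpen_top _).basicOpen _
  · have hx : (j x : Spec A) ∈ j.opensRange := ⟨x, rfl⟩
    have hx' : (j x : Spec A) ∈ (⨆ i, PrimeSpectrum.basicOpen (f i) : (Spec A).Opens) := by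
      exact (congrArg (fun V : (Spec A).Opens => (j x : Spec A) ∈ V) hf).mp hx
    obtain ⟨i, hi⟩ := Opens.mem_iSup.1 hx'
    exact ⟨i, hi⟩
  · let W : (Spec A).Opens := PrimeSpectrum.basicOpen (f i)
    have hW : Subsingleton Γ((tilde.functor A).obj M, W) := by
      refine ⟨fun a b => ?_⟩
      suffices ∀ y : Γ((tilde.functor A).obj M, W), y = 0 from (this a).trans (this b).symm
      intro y
      obtain ⟨⟨x, s⟩, hs⟩ := IsLocalizedModule.surj (Submonoid.powers (f i)) (tilde.toOpen M W).hom y
      obtain ⟨k, hk⟩ := h i x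
      have h0 : (tilde.toOpen M W).hom x = 0 :=
        (IsLocalizedModule.eq_zero_iff (Submonoid.powers (f i)) (tilde.toOpen M W).hom).2 ⟨⟨_, k, rfl⟩, hk⟩
      exact ((Module.End.isUnit_iff _).1 (IsLocalizedModule.map_units (tilde.toOpen M W).hom s)).1
        ((hs.trans h0).trans (map_zero _).symm)
    have h1 : Subsingleton Γ((tilde.functor A).obj M, j ''ᵁ (j ⁻¹ᵁ W)) := by
      rwa [image_preimage_of_le j (hle i)]
    exact h1.elim _ _

end GrothLib.OX
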