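import Groth.Agent.Lib.OX.RestrictAdj
import Groth.Agent.Lib.OX.TildeTorsion
import Groth.Agent.Lib.OX.HomVanish
import Groth.Agent.Lib.DCxRing.KoszulCone
import Groth.Agent.Lib.DerCat.CompactRel
import Mathlib.Algebra.Category.ModuleCat.Projective

/-! # Perfect objects on a quasi-compact open of an affine scheme -/

set_option autoImplicit false
set_option maxHeartbeats 800000
universe u

open CategoryTheory CategoryTheory.Limits AlgebraicGeometry Opposite TopologicalSpace Pretriangulated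
open DerivedCategory.TStructure (t)

attribute [local instance] HasDerivedCategory.standard

namespace GrothLib.OX

instance hasCoproducts_DX (X : Scheme.{u}) (J : Type u) : HasColimitsOfShape (Discrete J) (DCoh.D X) :=
  HoCat.derivedCategory_hasColimitsOfShape

variable {A : CommRingCat.{u}} {V : Scheme.{u}} (j : V ⟶ Spec A) [IsOpenImmersion j]

instance quasiSeparated_open {Y : Scheme.{u}} [QuasiSeparatedSpace Y] (W : Y.Opens) :
    QuasiSeparatedSpace (W : Scheme.{u}) :=
  quasiSeparatedSpace_of_quasiSeparated W.ι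

theorem quasiCompact_of_isCompact_range {X Y : Scheme.{u}} [QuasiSeparatedSpace X] (i : Y ⟶ X) [IsOpenImmersion i]
    (hU : IsCompact (Set.range i)) : QuasiCompact i := by
  rw [quasiCompact_iff_forall_isAffineOpen]
  intro W hW
  rw [i.isOpenEmbedding.isInducing.isCompact_iff, show (⇑i '' (↑(i ⁻¹ᵁ W) : Set _)) = (W : Set X) ∩ Set.range i
    from Set.image_preimage_eq_inter_range]
  exact QuasiSeparatedSpace.inter_isCompact (W : Set X) (Set.range i) W.2 hW.isCompact i.isOpenEmbedding.isOpen_range hU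

include j in
theorem quasiSeparated_V : QuasiSeparatedSpace V := quasiSeparatedSpace_of_quasiSeparated j

theorem exists_basicOpen_cover (hU : IsCompact (Set.range j)) :
    ∃ fs : List A, j.opensRange = ⨆ i : {f // f ∈ fs}, PrimeSpectrum.basicOpen i.1 := by
  obtain ⟨s, hs⟩ := PrimeSpectrum.isCompact_isOpen_iff.1 ⟨hU, j.isOpenEmbedding.isOpen_range⟩
  refine ⟨s.toList, SetLike.coe_injective (hs.symm.trans ((Set.ext fun p => ?_).trans (Opens.coe_iSup _).symm))⟩
  simp only [Set.mem_compl_iff, PrimeSpectrum.mem_zeroLocus, Set.not_subset, Set.mem_iUnion,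
    Finset.mem_coe, SetLike.mem_coe, PrimeSpectrum.mem_basicOpen]
  exact ⟨fun ⟨a, ha, h⟩ => ⟨⟨a, Finset.mem_toList.2 ha⟩, h⟩, fun ⟨i, h⟩ => ⟨i.1, Finset.mem_toList.1 i.2, h⟩⟩

/-- Restriction of tilde to `U`, on derived categories. -/
noncomputable abbrev AG : Dual.D (A : Type u) ⥤ DCoh.D V := DCoh.tildeD A ⋙ resD j

instance preservesColimits_tildeD : PreservesColimitsOfSize.{u, u} (DCoh.tildeD A) :=
  have : (moduleSpecΓFunctor (R := A)).Additive := tilde.adjunction.right_adjoint_additive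
  (KInj.derivedAdj (tilde.adjunction (R := A))).leftAdjoint_preservesColimits

instance preservesColimits_resD {X V : Scheme.{u}} (j : V ⟶ X) [IsOpenImmersion j] :
    PreservesColimitsOfSize.{u, u} (resD j) := (resDAdj j).leftAdjoint_preservesColimits

instance preservesColimitsShape_AG (J : Type u) : PreservesColimitsOfShape (Discrete J) (AG j) := inferInstance

theorem isQCohD_AG (M : Dual.D (A : Type u)) : DCoh.IsQCohD ((AG j).obj M) :=
  isQCohD_resD j (isQCohD_tildeD M)

/-- Cohomology of `AG`. -/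
noncomputable def HDAGIso (M : Dual.D (A : Type u)) (i : ℤ) :
    DCoh.HD ((AG j).obj M) i ≅ (Scheme.Modules.restrictFunctor j).obj
      ((tilde.functor A).obj ((DerivedCategory.homologyFunctor (ModuleCat.{u} A) i).obj M)) :=
  HDResIso j _ i ≪≫ (Scheme.Modules.restrictFunctor j).mapIso (HDTildeIso M i)

theorem isTorsion_of_isZero_AG {M : Dual.D (A : Type u)} (h : IsZero ((AG j).obj M)) {f : A}
    (hf : PrimeSpectrum.basicOpen f ≤ j.opensRange) : DR.IsTorsion f M := fun q x =>
  torsion_of_isZero_restrict j _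
    (((DerivedCategory.homologyFunctor V.Modules q).map_isZero h).of_iso (HDAGIso j M q).symm) f hf x

theorem isZero_AG_of_isTorsion {fs : List A} (hfs : j.opensRange = ⨆ i : {f // f ∈ fs}, PrimeSpectrum.basicOpen i.1)
    {M : Dual.D (A : Type u)} (h : ∀ f ∈ fs, DR.IsTorsion f M) : IsZero ((AG j).obj M) := by
  obtain ⟨Z, hZ⟩ : ∃ Z : DCoh.D V, IsZero Z := HasZeroObject.zero
  have : IsIso (0 : Z ⟶ (AG j).obj M) := (DerivedCategory.isIso_iff _ _).2 fun q =>
    ⟨0, ((DerivedCategory.homologyFunctor _ q).map_isZero hZ).eq_of_src _ _,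
      ((isZero_restrict_of_torsion j _ hfs _ fun i => h i.1 i.2 q).of_iso (HDAGIso j M q)).eq_of_src _ _⟩
  exact hZ.of_iso (asIso (0 : Z ⟶ (AG j).obj M)).symm

variable (hU : IsCompact (Set.range j))
include hU

theorem sumCompactRel_AG {F : DCoh.D V} (hF : DCoh.IsPerfect F) :
    DerCat.SumCompactRel (AG j) F := by
  intro ι M
  have : CompactSpace V := ⟨j.isOpenEmbedding.isInducing.isCompact_iff.2 (by rwa [Set.image_univ])⟩
  have := quasiSeparated_V j
  have : HasColimitsOfShape (Discrete ι) (DCoh.D V) := HoCat.derivedCategory_hasColimitsOfShape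
  exact finHom_of_isPerfect hF _ fun i => isQCohD_AG j _

/-- Objects of `D_qc` of `U` come from `D(A)`. -/
theorem exists_AG_iso {F : DCoh.D V} (hF : DCoh.IsQCohD F) : ∃ M, Nonempty ((AG j).obj M ≅ F) := by
  have := quasiCompact_of_isCompact_range j hU
  obtain ⟨M, ⟨e⟩⟩ := (tildeD_full_faithful_essImage (R := A)).2.2 _ (isQCohD_Rres j F hF)
  exact ⟨M, ⟨(resD j).mapIso e ≪≫ (resDRRIso j).app F⟩⟩

/-- Perfect objects on `U` are retracts of restrictions of perfect objects. -/
theorem exists_retract_AG {F : DCoh.D V} (hF : DCoh.IsPerfect F) :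
    ∃ R : Dual.D (A : Type u), DRing.IsPerfect A R ∧ Nonempty (Retract F ((AG j).obj R)) := by
  have : CompactSpace V := ⟨j.isOpenEmbedding.isInducing.isCompact_iff.2 (by rwa [Set.image_univ])⟩
  have := quasiSeparated_V j
  have hcol : ∀ J : Type u, HasColimitsOfShape (Discrete J) (DCoh.D V) :=
    fun _ => HoCat.derivedCategory_hasColimitsOfShape
  obtain ⟨M, ⟨e⟩⟩ := exists_AG_iso j hU (isQCohD_of_isPerfect hF)
  obtain ⟨a, b, hab⟩ := vanRange_of_isPerfect hF
  -- cut `M` above
  let M' := (t.truncLT (b + 1)).obj M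
  obtain ⟨φ₀, hφ₀⟩ := Triangle.coyoneda_exact₂ _
    ((AG j).map_distinguished _ (t.triangleLTGE_distinguished (b + 1) M)) e.inv
    (hab _ (isQCohD_AG j _) (fun q _ hq => by
      refine IsZero.of_iso ?_ (HDAGIso j _ q)
      have : (tilde.functor A).PreservesZeroMorphisms := Functor.preservesZeroMorphisms_of_additive _
      exact Functor.map_isZero _ (Functor.map_isZero _
        (DerivedCategory.isZero_of_isGE ((t.truncGE (b + 1)).obj M) (b + 1) q (by omega)))) _)
  let L₀ := DerivedCategory.Q.objPreimage M'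
  have h1 : ∀ X : ModuleCat.{u} A, ∃ (ι : Type u) (E : ι → ModuleCat.{u} A) (π : ∐ E ⟶ X),
      (∀ i, E i ∈ ({ModuleCat.of A A} : Set (ModuleCat.{u} A))) ∧ Epi π := fun X => by
    refine ⟨X, fun _ => ModuleCat.of A A, Sigma.desc fun x => ModuleCat.ofHom (LinearMap.toSpanSingleton A X x),
      fun _ => rfl, (ModuleCat.epi_iff_surjective _).2 fun x => ?_⟩
    refine ⟨(Sigma.ι (fun _ : X => ModuleCat.of A A) x).hom (1 : A), ?_⟩
    rw [← ModuleCat.comp_apply, Sigma.ι_desc]
    simp
  obtain ⟨L, s, hL, hs, hz⟩ := DerCat.exists_quot_resolution (DerCat.SumsOf ({ModuleCat.of A A} : Set _))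
    (DerCat.sumsOf_prod _)
    (fun X => by obtain ⟨ι, E, π, hE, hπ⟩ := h1 X; exact ⟨∐ E, π, ⟨ι, E, hE, ⟨Iso.refl _⟩⟩, hπ⟩) L₀ b
    (fun i hi => (DerivedCategory.isZero_of_isLE M' b i hi).of_iso
      ((DerivedCategory.homologyFunctor _ i).mapIso (DerivedCategory.Q.objObjPreimageIso M')))
  let eL : DerivedCategory.Q.obj L ≅ M' := asIso (DerivedCategory.Q.map s) ≪≫ DerivedCategory.Q.objObjPreimageIso M'
  have h2 : ∀ E ∈ ({ModuleCat.of A A} : Set (ModuleCat.{u} A)), ∀ ι : Type u,
      PreservesColimitsOfShape (Discrete ι) (preadditiveCoyoneda.obj (op E)) := by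
    rintro E rfl ι
    exact preservesColimitsOfShape_of_natIso
      (NatIso.ofComponents (fun N : ModuleCat.{u} A =>
        (ModuleCat.homAddEquiv.trans (LinearMap.ringLmapEquivSelf A ℕ N).toAddEquiv).toAddCommGrpIso)
        (fun {N N'} g => by ext; rfl) : preadditiveCoyoneda.obj (op _) ≅ forget₂ (ModuleCat.{u} A) AddCommGrpCat.{u}).symm
  obtain ⟨L', c, k, φ', hφ', hz', hfin⟩ := DerCat.exists_factor_finSums (G := AG j) (sumCompactRel_AG j hU hF) h2 b hz hL
    (φ₀ ≫ (AG j).map eL.inv)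
  refine ⟨DerivedCategory.Q.obj L', ⟨L', c, b, fun i hi => hz' i hi, fun i => ?_, ⟨Iso.refl _⟩⟩,
    ⟨{ i := φ', r := (AG j).map (DerivedCategory.Q.map k ≫ eL.hom ≫ (t.truncLTι (b + 1)).app M) ≫ e.hom,
       retract := ?_ }⟩⟩
  · obtain ⟨n, E, hE, ⟨eE⟩⟩ := hfin i
    have e1 : L'.X i ≅ ModuleCat.of A (Fin n → A) :=
      eE ≪≫ biproduct.mapIso (fun j => eqToIso (hE j)) ≪≫ ModuleCat.biproductIsoPi _
    exact ⟨Module.Finite.equiv e1.toLinearEquiv.symm, Module.Projective.of_equiv e1.toLinearEquiv.symm⟩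
  · rw [Functor.map_comp, Category.assoc]
    refine (Category.assoc _ _ _).symm.trans ((congrArg (· ≫ _) hφ').trans ?_)
    rw [Category.assoc, Functor.map_comp, Category.assoc]
    have key : ∀ {P R : Dual.D (A : Type u)} (i : P ≅ R) {Z : DCoh.D V} (φ : F ⟶ (AG j).obj R)
        (h : (AG j).obj R ⟶ Z), φ ≫ (AG j).map i.inv ≫ (AG j).map i.hom ≫ h = φ ≫ h := fun i _ φ h => by
      rw [← Category.assoc ((AG j).map i.inv), i.map_inv_hom_id, Category.id_comp]
    refine (key eL φ₀ _).trans ?_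
    exact (Category.assoc _ _ _).symm.trans ((congrArg (· ≫ e.hom) hφ₀.symm).trans e.inv_hom_id)

/-- Maps between restrictions lift after modifying the source away from `U`. -/
theorem exists_lift_AG {E E' : Dual.D (A : Type u)} (hE : DRing.IsPerfect A E)
    (α : (AG j).obj E ⟶ (AG j).obj E') : ∃ (E₁ : Dual.D (A : Type u)) (β : E₁ ⟶ E) (γ : E₁ ⟶ E'),
      DRing.IsPerfect A E₁ ∧ IsIso ((AG j).map β) ∧ (AG j).map β ≫ α = (AG j).map γ ∧
      ∀ g, DR.Nil g E → DR.Nil g E₁ := by
  have := quasiCompact_of_isCompact_range j hU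
  obtain ⟨fs, hfs⟩ := exists_basicOpen_cover j hU
  have := (tildeD_full_faithful_essImage (R := A)).1
  have := (tildeD_full_faithful_essImage (R := A)).2.1
  let T := DCoh.tildeD A
  let adj := resDAdj j
  obtain ⟨N, ⟨eN⟩⟩ := (tildeD_full_faithful_essImage (R := A)).2.2 _ (isQCohD_Rres j _ (isQCohD_AG j E'))
  let u : E' ⟶ N := T.preimage (adj.unit.app (T.obj E') ≫ eN.inv)
  let α' : E ⟶ N := T.preimage (adj.homEquiv (T.obj E) ((AG j).obj E') α ≫ eN.inv)
  let d : (AG j).obj N ⟶ (AG j).obj E' := (resD j).map eN.hom ≫ adj.counit.app ((AG j).obj E')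
  have hu : (AG j).map u ≫ d = 𝟙 _ := by
    have h : (AG j).map u ≫ d = (resD j).map (T.map u ≫ eN.hom) ≫ adj.counit.app ((AG j).obj E') := by
      rw [Functor.map_comp, Category.assoc]; rfl
    rw [h, T.map_preimage]
    refine (congrArg (fun z => (resD j).map z ≫ adj.counit.app ((AG j).obj E'))
      ((Category.assoc _ _ _).trans ((congrArg (_ ≫ ·) eN.inv_hom_id).trans (Category.comp_id _)))).trans ?_
    exact adj.left_triangle_components _
  have hα' : (AG j).map α' ≫ d = α := by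
    have h : (AG j).map α' ≫ d = (resD j).map (T.map α' ≫ eN.hom) ≫ adj.counit.app ((AG j).obj E') := by
      rw [Functor.map_comp, Category.assoc]; rfl
    rw [h, T.map_preimage]
    refine (congrArg (fun z => (resD j).map z ≫ adj.counit.app ((AG j).obj E'))
      ((Category.assoc _ _ _).trans ((congrArg (_ ≫ ·) eN.inv_hom_id).trans (Category.comp_id _)))).trans ?_
    exact ((adj.homEquiv_counit (T.obj E) _ (adj.homEquiv (T.obj E) ((AG j).obj E') α)).symm).trans
      ((adj.homEquiv (T.obj E) ((AG j).obj E')).symm_apply_apply α)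
  have hiso : IsIso ((AG j).map u) := by
    have := isIso_resDAdj_counit_app j ((AG j).obj E')
    have : IsIso d := IsIso.comp_isIso
    exact IsIso.of_isIso_fac_right hu
  obtain ⟨C, p, r, hT⟩ := distinguished_cocone_triangle u
  have hC : IsZero ((AG j).obj C) :=
    (Triangle.isZero₃_iff_isIso₁ _ ((AG j).map_distinguished _ hT)).2 hiso
  obtain ⟨R₁, q, ψ, hR₁, hnil, hq, hkeep⟩ := DR.exists_factor_nil fs
    (fun f hf => isTorsion_of_isZero_AG j hC (hfs ▸ le_iSup (fun i : {f // f ∈ fs} => PrimeSpectrum.basicOpen i.1) ⟨f, hf⟩))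
    hE (α' ≫ p)
  have hR₁0 : IsZero ((AG j).obj R₁) := isZero_AG_of_isTorsion j hfs fun f hf => (hnil f hf).isTorsion
  obtain ⟨E₁, β, δ, hT₁⟩ := distinguished_cocone_triangle₁ q
  have hβ : IsIso ((AG j).map β) :=
    (Triangle.isZero₃_iff_isIso₁ _ ((AG j).map_distinguished _ hT₁)).1 hR₁0
  obtain ⟨γ, hγ⟩ := Triangle.coyoneda_exact₂ _ hT (β ≫ α') (by
    change (β ≫ α') ≫ p = 0
    rw [Category.assoc, hq, ← Category.assoc]
    exact (congrArg (· ≫ ψ) (comp_distTriang_mor_zero₁₂ _ hT₁)).trans zero_comp)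
  refine ⟨E₁, β, γ, (DR.isPerfect_triangle _ hT₁).2.2 hE hR₁, hβ, ?_,
    fun g hg => DR.nil_fibre_of_nil hT₁ hg (hkeep g hg)⟩
  let γ' : E₁ ⟶ E' := γ
  have hγ' : β ≫ α' = γ' ≫ u := hγ
  change _ = (AG j).map γ'
  calc (AG j).map β ≫ α = ((AG j).map β ≫ (AG j).map α') ≫ d := by rw [← hα']; exact (Category.assoc _ _ _).symm
    _ = ((AG j).map γ' ≫ (AG j).map u) ≫ d :=
      congrArg (· ≫ d) (((AG j).map_comp β α').symm.trans ((congrArg (AG j).map hγ').trans ((AG j).map_comp γ' u)))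
    _ = (AG j).map γ' := (Category.assoc _ _ _).trans ((congrArg ((AG j).map γ' ≫ ·) hu).trans (Category.comp_id _))

end GrothLib.OX
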