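import Groth.Agent.Lib.OX.DualPerfect

/-! # `M ⊗^L RHom(K, O) = RHom(K, M)` for perfect `K` -/

set_option autoImplicit false
set_option maxHeartbeats 1000000
universe u

open CategoryTheory CategoryTheory.Limits CategoryTheory.Pretriangulated AlgebraicGeometry HomologicalComplex

attribute [local instance] HasDerivedCategory.standard

namespace GrothLib.OX

variable {X : Scheme.{u}} {A J B : CochainComplex X.Modules ℤ}
  (β : ((DCoh.tensorCx (X := X)).obj A).obj J ⟶ B)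

/-- Acyclicity of `Hom` out of a contractible complex. -/
theorem acyclic_homCx_of_contractible {E : CochainComplex X.Modules ℤ} (h : Homotopy (𝟙 E) 0)
    (I : CochainComplex X.Modules ℤ) : ((homCx E).obj I).Acyclic := fun i => by
  rw [HomologicalComplex.exactAt_iff_isZero_homology]
  exact ((DerivedCategory.homologyFunctor X.Modules i).map_isZero (isZero_Q_homCx_of_contractible h I)).of_iso
    ((DerivedCategory.homologyFunctorFactors X.Modules i).app _).symm

theorem quasiIso_of_acyclic_both {C : Type*} [Category C] [Abelian C] {K L : CochainComplex C ℤ} (φ : K ⟶ L)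
    (hK : K.Acyclic) (hL : L.Acyclic) : QuasiIso φ :=
  ⟨fun i => (quasiIsoAt_iff_isIso_homologyMap _ _).2
    ⟨0, ((HomologicalComplex.exactAt_iff_isZero_homology _ _).1 (hK i)).eq_of_src _ _,
      ((HomologicalComplex.exactAt_iff_isZero_homology _ _).1 (hL i)).eq_of_src _ _⟩⟩

/-- Two out of three for quasi-isomorphisms of short exact sequences. -/
theorem quasiIso_two_of_three {C : Type*} [Category C] [Abelian C] {S S' : ShortComplex (CochainComplex C ℤ)}
    (hS : S.ShortExact) (hS' : S'.ShortExact) (φ : S ⟶ S') :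
    (QuasiIso φ.τ₁ → QuasiIso φ.τ₂ → QuasiIso φ.τ₃) ∧ (QuasiIso φ.τ₁ → QuasiIso φ.τ₃ → QuasiIso φ.τ₂) ∧
      (QuasiIso φ.τ₂ → QuasiIso φ.τ₃ → QuasiIso φ.τ₁) := by
  letI := HasDerivedCategory.standard C
  let t := DerivedCategory.triangleOfSES.map hS hS' φ
  have hT := DerivedCategory.triangleOfSES_distinguished hS
  have hT' := DerivedCategory.triangleOfSES_distinguished hS'
  simp only [← DerivedCategory.isIso_Q_map_iff_quasiIso]
  exact ⟨fun h₁ h₂ => isIso₃_of_isIso₁₂ t hT hT' h₁ h₂, fun h₁ h₃ => isIso₂_of_isIso₁₃ t hT hT' h₁ h₃,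
    fun h₂ h₃ => isIso₁_of_isIso₂₃ t hT hT' h₂ h₃⟩

theorem quasiIso_resCx_map {U : Scheme.{u}} (j : U ⟶ X) [IsOpenImmersion j] {K L : CochainComplex X.Modules ℤ}
    (φ : K ⟶ L) (h : QuasiIso φ) : QuasiIso ((resCx j).map φ) :=
  inferInstance

theorem isIso_resD_map_Q {U : Scheme.{u}} (j : U ⟶ X) [IsOpenImmersion j] {K L : CochainComplex X.Modules ℤ}
    (φ : K ⟶ L) (h : QuasiIso ((resCx j).map φ)) : IsIso ((resD j).map (DerivedCategory.Q.map φ)) :=
  (NatIso.isIso_map_iff (resDFac j) φ).2 (inferInstanceAs (IsIso (DerivedCategory.Q.map ((resCx j).map φ))))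

theorem isZero_resD_cone {U : Scheme.{u}} (j : U ⟶ X) [IsOpenImmersion j] {K L C : DCoh.D X} (φ : K ⟶ L) (g : L ⟶ C)
    (c : C ⟶ K⟦(1 : ℤ)⟧) (hT : Triangle.mk φ g c ∈ distTriang _) (h : IsIso ((resD j).map φ)) :
    IsZero ((resD j).obj C) :=
  (Triangle.isZero₃_iff_isIso₁ _ ((resD j).map_distinguished _ hT)).2 h

/-- Two out of three, for a commutative ladder. -/
theorem two_of_three_of_squares {C : Type*} [Category C] [Abelian C] {D : Type*} [Category D] [Abelian D]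
    (R : CochainComplex C ℤ ⥤ CochainComplex D ℤ) [R.Additive] (T : CochainComplex C ℤ ⥤ CochainComplex C ℤ)
    [T.PreservesZeroMorphisms] {a₁ a₂ a₃ b₁ b₂ b₃ : CochainComplex C ℤ} (f : a₁ ⟶ a₂) (g : a₂ ⟶ a₃) (w : f ≫ g = 0)
    (f' : b₁ ⟶ b₂) (g' : b₂ ⟶ b₃) (w' : f' ≫ g' = 0)
    (p₁ : T.obj a₁ ⟶ b₁) (p₂ : T.obj a₂ ⟶ b₂) (p₃ : T.obj a₃ ⟶ b₃)
    (c₁ : p₁ ≫ f' = T.map f ≫ p₂) (c₂ : p₂ ≫ g' = T.map g ≫ p₃)
    (h : (((ShortComplex.mk f g w).map T).map R).ShortExact) (h' : ((ShortComplex.mk f' g' w').map R).ShortExact) :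
    (QuasiIso (R.map p₁) → QuasiIso (R.map p₂) → QuasiIso (R.map p₃)) ∧
      (QuasiIso (R.map p₁) → QuasiIso (R.map p₃) → QuasiIso (R.map p₂)) ∧
      (QuasiIso (R.map p₂) → QuasiIso (R.map p₃) → QuasiIso (R.map p₁)) :=
  quasiIso_two_of_three h h' (R.mapShortComplex.map
    (ShortComplex.homMk p₁ p₂ p₃ c₁ c₂ : (ShortComplex.mk f g w).map T ⟶ ShortComplex.mk f' g' w'))

variable (W : X.Opens)

theorem quasiIso_resCx_psi_ext [J.IsKInjective] [B.IsKInjective] (hA : FlatTerms A)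
    {E₁ E₂ E₃ : CochainComplex X.Modules ℤ} (f : E₁ ⟶ E₂) (g : E₂ ⟶ E₃) (w : f ≫ g = 0)
    (σ : ∀ q, ((ShortComplex.mk f g w).map (HomologicalComplex.eval X.Modules (ComplexShape.up ℤ) q)).Splitting) :
    (QuasiIso ((resCx W.ι).map (psi A J β E₃)) → QuasiIso ((resCx W.ι).map (psi A J β E₂)) → QuasiIso ((resCx W.ι).map (psi A J β E₁))) ∧ (QuasiIso ((resCx W.ι).map (psi A J β E₃)) → QuasiIso ((resCx W.ι).map (psi A J β E₁)) → QuasiIso ((resCx W.ι).map (psi A J β E₂))) ∧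
      (QuasiIso ((resCx W.ι).map (psi A J β E₂)) → QuasiIso ((resCx W.ι).map (psi A J β E₁)) → QuasiIso ((resCx W.ι).map (psi A J β E₃))) := by
  let R := resCx W.ι
  let S : ShortComplex (CochainComplex X.Modules ℤ) := ShortComplex.mk f g w
  have hRS : ∀ (S' : ShortComplex (CochainComplex X.Modules ℤ)), S'.ShortExact → (S'.map R).ShortExact :=
    fun S' h' => HomologicalComplex.shortExact_of_degreewise_shortExact _ fun n =>
      (h'.map_of_exact (HomologicalComplex.eval X.Modules (ComplexShape.up ℤ) n)).map_of_exact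
        (Scheme.Modules.restrictFunctor W.ι)
  exact two_of_three_of_squares R ((DCoh.tensorCx (X := X)).obj A) (homMap g J) (homMap f J)
    (homMap_comp_zero S J) (homMap g B) (homMap f B) (homMap_comp_zero S B)
    (psi A J β E₃) (psi A J β E₂) (psi A J β E₁) (psi_natural A J β g) (psi_natural A J β f)
    (hRS _ (tensorCx_shortExact_of_flatTerms hA (homSeq_shortExact (S := S) σ J))) (hRS _ (homSeq_shortExact (S := S) σ B))

theorem quasiIso_resCx_psi_contractible (hA : DCoh.IsKFlat A) {E : CochainComplex X.Modules ℤ}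
    (h : Homotopy (𝟙 E) 0) : QuasiIso ((resCx W.ι).map (psi A J β E)) := by
  have h1 : (((DCoh.tensorCx (X := X)).obj ((homCx E).obj J)).obj A).Acyclic :=
    (isKFlat_iff A).1 hA _ (acyclic_homCx_of_contractible h J)
  have h2 : (((DCoh.tensorCx (X := X)).obj A).obj ((homCx E).obj J)).Acyclic := fun i =>
    HomologicalComplex.ExactAt.of_iso (h1 i) (tensorCxSymm A ((homCx E).obj J))
  exact quasiIso_of_acyclic_both ((resCx W.ι).map (psi A J β E)) (acyclic_resCx W.ι h2)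
    (acyclic_resCx W.ι (acyclic_homCx_of_contractible h B))

theorem isKFlat_of_contractible {Z : Scheme.{u}} {E : CochainComplex Z.Modules ℤ} (h : Homotopy (𝟙 E) 0) :
    DCoh.IsKFlat E :=
  (isKFlat_iff _).2 fun L _ i => by
    rw [HomologicalComplex.exactAt_iff_isZero_homology, IsZero.iff_id_eq_zero, ← HomologicalComplex.homologyMap_id]
    exact ((tensRContractible h L).homologyMap_eq i).trans (HomologicalComplex.homologyMap_zero _ _ _)

theorem transfer_base [J.IsKInjective] [B.IsKInjective] (hA : DCoh.IsKFlat A) {S : CochainComplex (W : Scheme.{u}).Modules ℤ}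
    {T : CochainComplex X.Modules ℤ} (hS : DCoh.IsKFlat S) (hT : DCoh.IsKFlat T) (f : (jzCx W.ι).obj S ⟶ T)
    (hf : QuasiIso ((resCx W.ι).map f)) (h : QuasiIso ((resCx W.ι).map (psi A J β T))) :
    QuasiIso ((resCx W.ι).map (psi A J β ((jzCx W.ι).obj S))) :=
  (quasiIso_resCx_psi_iff W.ι β hA f (isKFlat_extZero _ hS) hT hf).1 h

theorem quasiIso_resCx_psi_base [J.IsKInjective] [B.IsKInjective] [QuasiIso β] (hA : DCoh.IsKFlat A) :
    QuasiIso ((resCx W.ι).map (psi A J β ((jzCx W.ι).obj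
      ((single (W : Scheme.{u}).Modules (ComplexShape.up ℤ) 0).obj (Coh.structureModule (W : Scheme.{u})))))) := by
  let s := fun Z : Scheme.{u} => (single Z.Modules (ComplexShape.up ℤ) 0).obj (Coh.structureModule Z)
  have hW : DCoh.IsKFlat (s W) := isKFlat_single _ (flat_structureModule _) 0
  have hX : DCoh.IsKFlat (s X) := isKFlat_single _ (flat_structureModule _) 0
  let e : s W ≅ (resCx W.ι).obj (s X) :=
    (single _ _ 0).mapIso (((Scheme.Modules.restrictFunctorIsoPullback W.ι).app _) ≪≫ pullUnitIso W.ι).symm ≪≫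
      ((singleMapHomologicalComplex (Scheme.Modules.restrictFunctor W.ι) (ComplexShape.up ℤ) 0).app _).symm
  let ε : (jzCx W.ι).obj ((resCx W.ι).obj (s X)) ⟶ s X :=
    (KInj.mapComplexAdj (CxOX.extZeroAdj W.ι) (ComplexShape.up ℤ)).counit.app (s X)
  have hε : IsIso ((resCx W.ι).map ε) :=
    have : ∀ n, IsIso (((resCx W.ι).map ε).f n) := fun n => isIso_restrict_epsZ W.ι ((s X).X n)
    HomologicalComplex.Hom.isIso_of_components _
  have hq : QuasiIso ((resCx W.ι).map ((jzCx W.ι).map e.hom ≫ ε)) := by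
    rw [Functor.map_comp]
    infer_instance
  have hb : QuasiIso ((resCx W.ι).map (psi A J β
      ((single X.Modules (ComplexShape.up ℤ) 0).obj (Coh.structureModule X)))) :=
    quasiIso_resCx_map W.ι _ (quasiIso_psi_unit β)
  exact transfer_base β W hA (S := (single (W : Scheme.{u}).Modules (ComplexShape.up ℤ) 0).obj (Coh.structureModule (W : Scheme.{u})))
    (T := (single X.Modules (ComplexShape.up ℤ) 0).obj (Coh.structureModule X)) hW hX ((jzCx W.ι).map e.hom ≫ ε) hq hb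

theorem psi_ext_jz [J.IsKInjective] [B.IsKInjective] (hA : FlatTerms A)
    {S : ShortComplex (CochainComplex (W : Scheme.{u}).Modules ℤ)}
    (σ : ∀ q, (S.map (HomologicalComplex.eval (W : Scheme.{u}).Modules (ComplexShape.up ℤ) q)).Splitting) :
    (QuasiIso ((resCx W.ι).map (psi A J β ((jzCx W.ι).obj S.X₃))) → QuasiIso ((resCx W.ι).map (psi A J β ((jzCx W.ι).obj S.X₂))) → QuasiIso ((resCx W.ι).map (psi A J β ((jzCx W.ι).obj S.X₁)))) ∧ (QuasiIso ((resCx W.ι).map (psi A J β ((jzCx W.ι).obj S.X₃))) → QuasiIso ((resCx W.ι).map (psi A J β ((jzCx W.ι).obj S.X₁))) → QuasiIso ((resCx W.ι).map (psi A J β ((jzCx W.ι).obj S.X₂)))) ∧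
      (QuasiIso ((resCx W.ι).map (psi A J β ((jzCx W.ι).obj S.X₂))) → QuasiIso ((resCx W.ι).map (psi A J β ((jzCx W.ι).obj S.X₁))) → QuasiIso ((resCx W.ι).map (psi A J β ((jzCx W.ι).obj S.X₃)))) :=
  quasiIso_resCx_psi_ext β W hA (E₁ := (jzCx W.ι).obj S.X₁) (E₂ := (jzCx W.ι).obj S.X₂) (E₃ := (jzCx W.ι).obj S.X₃)
    ((jzCx W.ι).map S.f) ((jzCx W.ι).map S.g) (by rw [← Functor.map_comp, S.zero, Functor.map_zero])
    fun q => (σ q).map (CxOX.extZero W.ι)

theorem devissage_psi [J.IsKInjective] [B.IsKInjective] [QuasiIso β] (hA : DCoh.IsKFlat A) (hA' : FlatTerms A) :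
    Devissage (X := (W : Scheme.{u})) fun E =>
      DCoh.IsKFlat E ∧ QuasiIso ((resCx W.ι).map (psi A J β ((jzCx W.ι).obj E))) where
  iso {E E'} e h :=
    ⟨isKFlat_of_iso e h.1, (quasiIso_resCx_psi_iff W.ι β hA (E := (jzCx W.ι).obj E) (E' := (jzCx W.ι).obj E')
      ((jzCx W.ι).map e.hom) (isKFlat_extZero _ h.1) (isKFlat_extZero _ (isKFlat_of_iso e h.1))
      (quasiIso_resCx_map W.ι ((jzCx W.ι).map e.hom) inferInstance)).2 h.2⟩
  contractible {E} h := by
    have h' : Homotopy (𝟙 ((jzCx W.ι).obj E)) 0 := (Homotopy.ofEq ((jzCx W.ι).map_id E).symm).trans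
      (((CxOX.extZero W.ι).mapHomotopy h).trans (Homotopy.ofEq ((jzCx W.ι).map_zero E E)))
    exact ⟨isKFlat_of_contractible h, quasiIso_resCx_psi_contractible β W hA (E := (jzCx W.ι).obj E) h'⟩
  base := ⟨isKFlat_single _ (flat_structureModule _) 0, quasiIso_resCx_psi_base β W hA⟩
  ext₁ {S} σ h₂ h₃ :=
    ⟨isKFlat_X₁ (tensorCx_shortExact_of_splitting σ) h₂.1 h₃.1,
      (psi_ext_jz β W hA' σ).1 h₃.2 h₂.2⟩
  ext₂ {S} σ h₁ h₃ :=
    ⟨isKFlat_X₂ (tensorCx_shortExact_of_splitting σ) h₁.1 h₃.1,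
      (psi_ext_jz β W hA' σ).2.1 h₃.2 h₁.2⟩
  ext₃ {S} σ h₁ h₂ :=
    ⟨isKFlat_X₃ (tensorCx_shortExact_of_splitting σ) h₁.1 h₂.1,
      (psi_ext_jz β W hA' σ).2.2 h₂.2 h₁.2⟩

/-- **`A ⊗ Hom(P, J) ⟶ Hom(P, A ⊗ J)` is a quasi-isomorphism for perfect `P`.** -/
theorem isIso_Q_psi [J.IsKInjective] [B.IsKInjective] [QuasiIso β] (hA : DCoh.IsKFlat A) (hA' : FlatTerms A)
    (P : CochainComplex X.Modules ℤ) (hP : DCoh.IsKFlat P) (hperf : DCoh.IsPerfect (DerivedCategory.Q.obj P)) :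
    IsIso (DerivedCategory.Q.map (psi A J β P)) := by
  obtain ⟨C, g, c, hT⟩ := distinguished_cocone_triangle (DerivedCategory.Q.map (psi A J β P))
  suffices IsZero C from (Triangle.isZero₃_iff_isIso₁ _ hT).1 this
  refine isZero_of_support_empty fun q => Set.eq_empty_iff_forall_notMem.2 fun y hy => ?_
  obtain ⟨V₁, E₁, hy₁, hE₁, ⟨i₁⟩⟩ := (isPerfect_iff_rep (Iso.refl _)).1 hperf y
  obtain ⟨V, E, hyV, ⟨a, m, hb⟩, hf, hEK, ⟨i⟩⟩ := exists_free_bounded hE₁ hy₁ i₁
  obtain ⟨Z, s, hs, g', heq⟩ := DerivedCategory.right_fac i.inv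
  obtain ⟨T, t, hT', -, ht, -⟩ := exists_kflat_resolution Z
  have hg' : IsIso (DerivedCategory.Q.map g') :=
    @IsIso.of_isIso_fac_left _ _ _ _ _ _ _ _ (inferInstance : IsIso (inv (DerivedCategory.Q.map s)))
      (inferInstance : IsIso i.inv) heq.symm
  have hqs : QuasiIso s := (DerivedCategory.isIso_Q_map_iff_quasiIso _ s).1 hs
  have hqg : QuasiIso g' := (DerivedCategory.isIso_Q_map_iff_quasiIso _ g').1 hg'
  let adj := KInj.mapComplexAdj (CxOX.extZeroAdj V.ι) (ComplexShape.up ℤ)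
  have hu : ∀ {K L : CochainComplex (V : Scheme.{u}).Modules ℤ} (φ : K ⟶ L),
      QuasiIso φ → QuasiIso ((resCx V.ι).map ((jzCx V.ι).map φ)) := fun {K L} φ h =>
    have := isIso_unit_cx V.ι K
    have := isIso_unit_cx V.ι L
    (quasiIso_iff_of_arrow_mk_iso φ _ (Arrow.isoMk (asIso (adj.unit.app K)) (asIso (adj.unit.app L))
      (adj.unit.naturality φ).symm)).1 h
  have hε : IsIso ((resCx V.ι).map (adj.counit.app P)) :=
    have : ∀ n, IsIso (((resCx V.ι).map (adj.counit.app P)).f n) := fun n => isIso_restrict_epsZ V.ι (P.X n)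
    HomologicalComplex.Hom.isIso_of_components _
  have h0 := ((devissage_psi β V hA hA').of_bounded m E a hb fun k => Or.inr (hf k)).2
  have h1 : QuasiIso ((resCx V.ι).map (psi A J β ((jzCx V.ι).obj T))) :=
    (quasiIso_resCx_psi_iff V.ι β hA (E := (jzCx V.ι).obj T) (E' := (jzCx V.ι).obj E) ((jzCx V.ι).map (t ≫ s))
      (isKFlat_extZero _ hT') (isKFlat_extZero _ hEK)
      (hu _ (quasiIso_comp t s))).1 h0
  have h2 : QuasiIso ((resCx V.ι).map (psi A J β P)) := by
    refine (quasiIso_resCx_psi_iff V.ι β hA (E := (jzCx V.ι).obj T) (E' := P) ((jzCx V.ι).map (t ≫ g') ≫ adj.counit.app P)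
      (isKFlat_extZero _ hT') hP ?_).2 h1
    have := hu _ (quasiIso_comp t g')
    rw [Functor.map_comp]
    exact quasiIso_comp _ _
  have h2' : IsIso ((resD V.ι).map (DerivedCategory.Q.map (psi A J β P))) :=
    isIso_resD_map_Q V.ι (psi A J β P) h2
  have h3 : IsZero ((resD V.ι).obj C) := isZero_resD_cone V.ι (DerivedCategory.Q.map (psi A J β P)) g c hT h2'
  exact (isZero_resD_iff_support V.ι C).1 h3 q hy ⟨⟨y, hyV⟩, rfl⟩

end GrothLib.OX
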