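import Groth.Agent.Lib.OX.ExtZeroOpen
import Mathlib.Algebra.Homology.HomologicalComplexBiprod
import Mathlib.Algebra.Homology.HomologicalComplexAbelian
import Mathlib.Algebra.Homology.DerivedCategory.ExactFunctor
import Mathlib.Algebra.Homology.DerivedCategory.SingleTriangle

/-! # The Mayer-Vietoris sequences `0 → F_W → F_U ⊕ F_V → F_Y → 0` -/

set_option autoImplicit false
set_option maxHeartbeats 400000
universe u

open CategoryTheory CategoryTheory.Limits AlgebraicGeometry Opposite TopologicalSpace Pretriangulated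

attribute [local instance] HasDerivedCategory.standard

namespace GrothLib.OX

variable {X : Scheme.{u}}

/-- `F ↦ j_! (F|_U)`. -/
noncomputable def extZ {U : Scheme.{u}} (j : U ⟶ X) [IsOpenImmersion j] : X.Modules ⥤ X.Modules :=
  Scheme.Modules.restrictFunctor j ⋙ CxOX.extZero j

section

variable {U : Scheme.{u}} (j : U ⟶ X) [IsOpenImmersion j]

instance additive_extZ : (extZ j).Additive :=
  inferInstanceAs (Scheme.Modules.restrictFunctor j ⋙ CxOX.extZero j).Additive

instance preservesFiniteLimits_extZ : PreservesFiniteLimits (extZ j) :=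
  inferInstanceAs (PreservesFiniteLimits (Scheme.Modules.restrictFunctor j ⋙ CxOX.extZero j))

instance preservesFiniteColimits_extZ : PreservesFiniteColimits (extZ j) :=
  inferInstanceAs (PreservesFiniteColimits (Scheme.Modules.restrictFunctor j ⋙ CxOX.extZero j))

/-- The inclusion `j_! (F|_U) ⟶ F`. -/
noncomputable def inclZ (F : X.Modules) : (extZ j).obj F ⟶ F := epsZ j F

instance mono_inclZ (F : X.Modules) : Mono (inclZ j F) := mono_epsZ j F

theorem inclZ_naturality {F G : X.Modules} (φ : F ⟶ G) : (extZ j).map φ ≫ inclZ j G = inclZ j F ≫ φ :=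
  (CxOX.extZeroAdj j).counit.naturality φ

theorem isIso_stalk_inclZ (F : X.Modules) {x : X} (hx : x ∈ Set.range j) : IsIso ((stalk x).map (inclZ j F)) := by
  obtain ⟨y, rfl⟩ := hx
  exact isIso_stalk_epsZ j F y

theorem isZero_stalk_extZ (F : X.Modules) {x : X} (hx : x ∉ Set.range j) : IsZero ((stalk x).obj ((extZ j).obj F)) :=
  isZero_stalk_extZero j _ x hx

theorem isIso_inclZ (F : X.Modules) (h : Set.range j = Set.univ) : IsIso (inclZ j F) :=
  (isIso_iff _).2 fun x => isIso_stalk_inclZ j F (h ▸ Set.mem_univ x)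

end

section Lift

variable {V U : Scheme.{u}} (i : V ⟶ X) (j : U ⟶ X) [IsOpenImmersion i] [IsOpenImmersion j]
  (h : Set.range i ⊆ Set.range j)

include h in
theorem inclZ_cokernel (F : X.Modules) : inclZ i F ≫ cokernel.π (inclZ j F) = 0 := (eq_zero_iff _).2 fun x => by
  by_cases hx : x ∈ Set.range i
  · have := isIso_stalk_inclZ j F (h hx)
    have h0 : (stalk x).map (cokernel.π (inclZ j F)) = 0 := by
      rw [← cancel_epi ((stalk x).map (inclZ j F)), comp_zero, ← Functor.map_comp, cokernel.condition,
        Functor.map_zero]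
    rw [Functor.map_comp, h0, comp_zero]
  · exact (isZero_stalk_extZ i F hx).eq_of_src _ _

/-- The inclusion for nested opens. -/
noncomputable def liftZ : extZ i ⟶ extZ j where
  app F := Abelian.monoLift (inclZ j F) (inclZ i F) (inclZ_cokernel i j h F)
  naturality F G φ := by
    rw [← cancel_mono (inclZ j G)]
    simp only [Category.assoc, Abelian.monoLift_comp, inclZ_naturality, Abelian.monoLift_comp_assoc]

theorem liftZ_incl (F : X.Modules) : (liftZ i j h).app F ≫ inclZ j F = inclZ i F :=
  Abelian.monoLift_comp _ _ _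

include h in
theorem liftZ_mono (F : X.Modules) : Mono ((liftZ i j h).app F) :=
  mono_of_mono_fac (liftZ_incl i j h F)

theorem liftZ_isIso_stalk (F : X.Modules) {x : X} (hx : x ∈ Set.range i) :
    IsIso ((stalk x).map ((liftZ i j h).app F)) := by
  have := isIso_stalk_inclZ j F (h hx)
  have := isIso_stalk_inclZ i F hx
  exact IsIso.of_isIso_fac_right ((Functor.map_comp _ _ _).symm.trans (congrArg _ (liftZ_incl i j h F)))

/-- Open immersions with the same image give the same functor. -/
noncomputable def extZCongr (h' : Set.range i = Set.range j) : extZ i ≅ extZ j where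
  hom := liftZ i j h'.le
  inv := liftZ j i h'.ge
  hom_inv_id := by
    ext F : 2
    rw [← cancel_mono (inclZ i F), NatTrans.comp_app, NatTrans.id_app, Category.assoc, liftZ_incl, liftZ_incl,
      Category.id_comp]
  inv_hom_id := by
    ext F : 2
    rw [← cancel_mono (inclZ j F), NatTrans.comp_app, NatTrans.id_app, Category.assoc, liftZ_incl, liftZ_incl,
      Category.id_comp]

end Lift

/-- Exactness of `M → A ⊕ B → N`, read on stalks. -/
theorem shortExact_lift_desc {M A B N : X.Modules} (a : M ⟶ A) (b : M ⟶ B) (c : A ⟶ N) (d : B ⟶ N)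
    [Mono a] [Mono c] [Mono d] (hab : a ≫ c = b ≫ d)
    (h₁ : ∀ x : X, IsIso ((stalk x).map a) ∨ IsZero ((stalk x).obj A) ∨ IsZero ((stalk x).obj B))
    (h₂ : ∀ x : X, IsIso ((stalk x).map c) ∨ IsIso ((stalk x).map d) ∨ IsZero ((stalk x).obj N)) :
    (ShortComplex.mk (biprod.lift a (-b)) (biprod.desc c d)
      (by rw [biprod.lift_desc, Preadditive.neg_comp, hab, add_neg_cancel])).ShortExact := by
  have hm : Mono (biprod.lift a (-b)) := mono_of_mono_fac (biprod.lift_fst a (-b))
  have he : Epi (biprod.desc c d) := (epi_iff _).2 fun x => by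
    rcases h₂ x with h | h | h
    · exact @epi_of_epi_fac _ _ _ _ _ ((stalk x).map biprod.inl) _ _ (inferInstance : Epi ((stalk x).map c))
        ((Functor.map_comp _ _ _).symm.trans (congrArg _ (biprod.inl_desc c d)))
    · exact @epi_of_epi_fac _ _ _ _ _ ((stalk x).map biprod.inr) _ _ (inferInstance : Epi ((stalk x).map d))
        ((Functor.map_comp _ _ _).symm.trans (congrArg _ (biprod.inr_desc c d)))
    · exact ⟨fun g g' _ => h.eq_of_src g g'⟩
  refine { exact := (exact_iff _).2 fun x => ?_, mono_f := hm, epi_g := he }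
  rw [ShortComplex.moduleCat_exact_iff]
  intro (e : (stalk x).obj (A ⊞ B)) (heq : ((stalk x).map (biprod.desc c d)).hom e = 0)
  let p := ((stalk x).map (biprod.fst : A ⊞ B ⟶ A)).hom e
  let q := ((stalk x).map (biprod.snd : A ⊞ B ⟶ B)).hom e
  have hdec : e = ((stalk x).map (biprod.inl : A ⟶ A ⊞ B)).hom p + ((stalk x).map (biprod.inr : B ⟶ A ⊞ B)).hom q := by
    have h1 : (stalk x).map ((biprod.fst : A ⊞ B ⟶ A) ≫ biprod.inl + (biprod.snd : A ⊞ B ⟶ B) ≫ biprod.inr) = 𝟙 _ :=
      (congrArg _ biprod.total).trans ((stalk x).map_id _)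
    rw [Functor.map_add, Functor.map_comp, Functor.map_comp] at h1
    exact (congrArg (fun t => (ModuleCat.Hom.hom t) e) h1).symm
  have hpq : ((stalk x).map c).hom p + ((stalk x).map d).hom q = 0 := by
    rw [hdec, map_add] at heq
    refine Eq.trans ?_ heq
    congr 1
    · exact congrArg (fun t => (ModuleCat.Hom.hom t) p)
        ((congrArg (stalk x).map (biprod.inl_desc c d).symm).trans ((stalk x).map_comp _ _))
    · exact congrArg (fun t => (ModuleCat.Hom.hom t) q)
        ((congrArg (stalk x).map (biprod.inr_desc c d).symm).trans ((stalk x).map_comp _ _))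
  have hsub : ∀ {M : X.Modules}, IsZero ((stalk x).obj M) → ∀ t : (stalk x).obj M, t = 0 := fun h t =>
    @Subsingleton.elim _ (ModuleCat.isZero_iff_subsingleton.1 h) t 0
  have hinj : ∀ {M N : X.Modules} (f : M ⟶ N), Mono f → Function.Injective ((stalk x).map f).hom := fun f _ =>
    (ModuleCat.mono_iff_injective _).1 inferInstance
  rcases h₁ x with h | h | h
  · obtain ⟨w, hw⟩ := ((ConcreteCategory.isIso_iff_bijective ((stalk x).map a)).1 h).2 p
    refine ⟨w, ?_⟩
    have hw' : ((stalk x).map a).hom w = p := hw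
    have hcd : ((stalk x).map c).hom p = ((stalk x).map d).hom (((stalk x).map b).hom w) := by
      rw [← hw']
      have h' := congrArg (fun t => (ModuleCat.Hom.hom ((stalk x).map t)) w) hab
      simp only [Functor.map_comp, ModuleCat.hom_comp, LinearMap.comp_apply] at h'
      exact h'
    have hq : q = -((stalk x).map b).hom w := by
      apply hinj d ‹_›
      rw [map_neg, eq_neg_iff_add_eq_zero, ← hcd, add_comm]
      exact hpq
    have hl : biprod.lift a (-b) = a ≫ biprod.inl - b ≫ biprod.inr := by
      apply biprod.hom_ext <;> simp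
    change ((stalk x).map (biprod.lift a (-b))).hom w = _
    rw [hdec, hq, ← hw', hl, Functor.map_sub, Functor.map_comp, Functor.map_comp, map_neg, ← sub_eq_add_neg]
    rfl
  · refine ⟨0, (map_zero _).trans ?_⟩
    rw [hsub h p, map_zero, zero_add] at hpq hdec
    rw [hdec, hinj d ‹_› (hpq.trans (map_zero _).symm), map_zero]
    rfl
  · refine ⟨0, (map_zero _).trans ?_⟩
    rw [hsub h q, map_zero, add_zero] at hpq hdec
    rw [hdec, hinj c ‹_› (hpq.trans (map_zero _).symm), map_zero]
    rfl

section MV

variable {W U V Y : Scheme.{u}} (iW : W ⟶ X) (iU : U ⟶ X) (iV : V ⟶ X) (iY : Y ⟶ X)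
  [IsOpenImmersion iW] [IsOpenImmersion iU] [IsOpenImmersion iV] [IsOpenImmersion iY]
  (hW : Set.range iW = Set.range iU ∩ Set.range iV) (hY : Set.range iY = Set.range iU ∪ Set.range iV)

/-- `0 → F_W → F_U ⊕ F_V → F_Y → 0`. -/
noncomputable def mvZ (F : X.Modules) : ShortComplex X.Modules :=
  ShortComplex.mk (X₁ := (extZ iW).obj F) (X₂ := (extZ iU).obj F ⊞ (extZ iV).obj F) (X₃ := (extZ iY).obj F)
    (biprod.lift ((liftZ iW iU (hW.le.trans Set.inter_subset_left)).app F)
      (-(liftZ iW iV (hW.le.trans Set.inter_subset_right)).app F))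
    (biprod.desc ((liftZ iU iY (Set.subset_union_left.trans hY.ge)).app F)
      ((liftZ iV iY (Set.subset_union_right.trans hY.ge)).app F))
    (by
      rw [biprod.lift_desc, Preadditive.neg_comp, ← sub_eq_add_neg, sub_eq_zero, ← cancel_mono (inclZ iY F),
        Category.assoc, Category.assoc, liftZ_incl, liftZ_incl, liftZ_incl, liftZ_incl])

theorem mvZ_shortExact (F : X.Modules) : (mvZ iW iU iV iY hW hY F).ShortExact := by
  let a := (liftZ iW iU (hW.le.trans Set.inter_subset_left)).app F
  let b := (liftZ iW iV (hW.le.trans Set.inter_subset_right)).app F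
  let c := (liftZ iU iY (Set.subset_union_left.trans hY.ge)).app F
  let d := (liftZ iV iY (Set.subset_union_right.trans hY.ge)).app F
  have ha : Mono a := liftZ_mono iW iU _ F
  have hc : Mono c := liftZ_mono iU iY _ F
  have hd : Mono d := liftZ_mono iV iY _ F
  have hab : a ≫ c = b ≫ d := by
    rw [← cancel_mono (inclZ iY F), Category.assoc, Category.assoc, liftZ_incl, liftZ_incl, liftZ_incl, liftZ_incl]
  refine shortExact_lift_desc a b c d hab (fun x => ?_) fun x => ?_
  · by_cases hxW : x ∈ Set.range iW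
    · exact Or.inl (liftZ_isIso_stalk iW iU (hW.le.trans Set.inter_subset_left) F hxW)
    · by_cases hxU : x ∈ Set.range iU
      · exact Or.inr (Or.inr (isZero_stalk_extZ iV F fun hv => hxW (hW.ge ⟨hxU, hv⟩)))
      · exact Or.inr (Or.inl (isZero_stalk_extZ iU F hxU))
  · by_cases hx : x ∈ Set.range iY
    · rcases hY.le hx with hx | hx
      · exact Or.inl (liftZ_isIso_stalk iU iY (Set.subset_union_left.trans hY.ge) F hx)
      · exact Or.inr (Or.inl (liftZ_isIso_stalk iV iY (Set.subset_union_right.trans hY.ge) F hx))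
    · exact Or.inr (Or.inr (isZero_stalk_extZ iY F hx))

end MV

end GrothLib.OX
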