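import Groth.Agent.Lib.OX.RpushCoprod

/-! # Extension of objects of `D_qc` from quasi-compact opens -/

set_option autoImplicit false
set_option maxHeartbeats 400000
universe u

open CategoryTheory CategoryTheory.Limits AlgebraicGeometry Pretriangulated

attribute [local instance] HasDerivedCategory.standard

namespace GrothLib.OX

theorem exists_extend_open (X : Scheme.{u}) (U : X.Opens) [QuasiCompact U.ι]
    (F : DCoh.D (U : Scheme.{u})) (hF : DCoh.IsQCohD F) :
    ∃ G : CochainComplex X.Modules ℤ, DCoh.IsQCohD (DCoh.toD X G) ∧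
      Nonempty (DerivedCategory.Q.obj ((DCoh.restrictCx U).obj G) ≅ F) := by
  let I := (KInj.res (U : Scheme.{u}).Modules).obj F
  refine ⟨((Scheme.Modules.pushforward U.ι).mapHomologicalComplex (ComplexShape.up ℤ)).obj I.as, fun i => ?_, ⟨?_⟩⟩
  · refine isQCoh_of_iso ((DerivedCategory.homologyFunctor X.Modules i).mapIso
      ((DerivedCategory.quotientCompQhIso X.Modules).app _).symm).symm ?_
    exact isQCohD_Rres U.ι F hF i
  · refine DerivedCategory.Q.mapIso (HomologicalComplex.Hom.isoOfComponents
      (fun n => (asIso (Scheme.Modules.restrictAdjunction U.ι).counit).app (I.as.X n))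
      (fun i j _ => ((Scheme.Modules.restrictAdjunction U.ι).counit.naturality (I.as.d i j)).symm)) ≪≫
      ((DerivedCategory.quotientCompQhIso (U : Scheme.{u}).Modules).app I.as).symm ≪≫
      (asIso (KInj.resAdj (U : Scheme.{u}).Modules).counit).app F

end GrothLib.OX
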