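import Groth.Agent.Lib.OX.LTensorCx
import Groth.Agent.Lib.OX.LTensorCoprod
import Groth.Agent.Lib.OX.TensorInjective
import Groth.Agent.Lib.KInj.Resolution
import Mathlib.CategoryTheory.Adjunction.PartialAdjoint
import Mathlib.CategoryTheory.Adjunction.Mates
import Mathlib.Algebra.Homology.DerivedCategory.KInjective

/-! # The internal hom of complexes of modules, and the existence of `RHom` -/

set_option autoImplicit false
set_option maxHeartbeats 1000000
universe u

open CategoryTheory CategoryTheory.Limits AlgebraicGeometry HomologicalComplex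

attribute [local instance] HasDerivedCategory.standard

namespace GrothLib.OX

section Null

variable {C : Type*} [Category C] [Preadditive C]

/-- A null-homotopic map extends along a degreewise split monomorphism. -/
theorem exists_extension_of_null {K K' L : CochainComplex C ℤ} (f : K ⟶ K') (r : ∀ n, K'.X n ⟶ K.X n)
    (hr : ∀ n, f.f n ≫ r n = 𝟙 (K.X n)) (v : K ⟶ L) (h : Homotopy v 0) : ∃ w : K' ⟶ L, f ≫ w = v := by
  refine ⟨Homotopy.nullHomotopicMap fun i j => r i ≫ h.hom i j, ?_⟩
  rw [Homotopy.comp_nullHomotopicMap]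
  refine HomologicalComplex.hom_ext _ _ fun n => ?_
  have e : (fun i j => f.f i ≫ r i ≫ h.hom i j) = h.hom := by
    funext i j
    rw [← Category.assoc, hr, Category.id_comp]
  rw [e]
  have := h.comm n
  rw [HomologicalComplex.zero_f, add_zero] at this
  exact this.symm

theorem mapBifunctor_retraction₁ {A B : Type*} [Category A] [Category B] [Preadditive A] [Preadditive B]
    (F : A ⥤ B ⥤ C) [F.Additive] [∀ a, (F.obj a).Additive]
    [∀ (K : CochainComplex A ℤ) (L : CochainComplex B ℤ), K.HasMapBifunctor L F]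
    {K K' : CochainComplex A ℤ} (f : K ⟶ K') (r : ∀ n, K'.X n ⟶ K.X n) (hr : ∀ n, f.f n ≫ r n = 𝟙 (K.X n))
    (E : CochainComplex B ℤ) (n : ℤ) :
    ∃ r', ((F.map₂CochainComplex.map f).app E).f n ≫ r' = 𝟙 _ := by
  refine ⟨HomologicalComplex.mapBifunctorDesc fun p q h =>
    (F.map (r p)).app (E.X q) ≫ HomologicalComplex.ιMapBifunctor K E F (ComplexShape.up ℤ) p q n h, ?_⟩
  refine HomologicalComplex.mapBifunctor.hom_ext fun p q h => ?_
  change HomologicalComplex.ιMapBifunctor K E F (ComplexShape.up ℤ) p q n h ≫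
    (HomologicalComplex.mapBifunctorMap f (𝟙 E) F (ComplexShape.up ℤ)).f n ≫ _ = _
  rw [HomologicalComplex.ι_mapBifunctorMap_assoc, HomologicalComplex.ι_mapBifunctorDesc, HomologicalComplex.id_f,
    CategoryTheory.Functor.map_id, Category.id_comp, ← NatTrans.comp_app_assoc, ← Functor.map_comp, hr]
  simp only [CategoryTheory.Functor.map_id, NatTrans.id_app, Category.id_comp]
  exact (Category.comp_id _).symm

theorem mapBifunctor_retraction₂ {A B : Type*} [Category A] [Category B] [Preadditive A] [Preadditive B]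
    (F : A ⥤ B ⥤ C) [F.Additive] [∀ a, (F.obj a).Additive]
    [∀ (K : CochainComplex A ℤ) (L : CochainComplex B ℤ), K.HasMapBifunctor L F]
    {E E' : CochainComplex B ℤ} (f : E ⟶ E') (r : ∀ n, E'.X n ⟶ E.X n) (hr : ∀ n, f.f n ≫ r n = 𝟙 (E.X n))
    (K : CochainComplex A ℤ) (n : ℤ) :
    ∃ r', ((F.map₂CochainComplex.obj K).map f).f n ≫ r' = 𝟙 _ := by
  refine ⟨HomologicalComplex.mapBifunctorDesc fun p q h =>
    (F.obj (K.X p)).map (r q) ≫ HomologicalComplex.ιMapBifunctor K E F (ComplexShape.up ℤ) p q n h, ?_⟩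
  refine HomologicalComplex.mapBifunctor.hom_ext fun p q h => ?_
  change HomologicalComplex.ιMapBifunctor K E F (ComplexShape.up ℤ) p q n h ≫
    (HomologicalComplex.mapBifunctorMap (𝟙 K) f F (ComplexShape.up ℤ)).f n ≫ _ = _
  rw [HomologicalComplex.ι_mapBifunctorMap_assoc, HomologicalComplex.ι_mapBifunctorDesc, HomologicalComplex.id_f,
    CategoryTheory.Functor.map_id, NatTrans.id_app, Category.id_comp, ← Category.assoc, ← Functor.map_comp, hr]
  simp only [CategoryTheory.Functor.map_id, NatTrans.id_app, Category.id_comp]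
  exact (Category.comp_id _).symm

/-- A map into or out of a contractible complex is null-homotopic. -/
def homotopyZeroOfContractible {K L M : CochainComplex C ℤ} (h : Homotopy (𝟙 L) 0) (f : K ⟶ L) (g : L ⟶ M) :
    Homotopy (f ≫ g) 0 :=
  (Homotopy.ofEq (by simp)).trans (((h.compLeft f).compRight g).trans (Homotopy.ofEq (by simp)))

end Null

variable {X : Scheme.{u}}

/-- `- ⊗ E` on complexes. -/
noncomputable abbrev tensR (E : CochainComplex X.Modules ℤ) : CochainComplex X.Modules ℤ ⥤ CochainComplex X.Modules ℤ :=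
  (DCoh.tensorCx (X := X)).flip.obj E

instance preservesColimitsOfSize_tensR (E : CochainComplex X.Modules ℤ) :
    PreservesColimitsOfSize.{u, u} (tensR E) :=
  preservesColimits_of_natIso (tensorFlipIso E).symm

instance isLeftAdjoint_tensR (E : CochainComplex X.Modules ℤ) : (tensR E).IsLeftAdjoint :=
  isLeftAdjoint_of_preservesColimits_of_isSeparating (isSeparator_separator (CochainComplex X.Modules ℤ)) _

/-- The internal hom of complexes `Hom(E, -)`. -/
noncomputable def homCx (E : CochainComplex X.Modules ℤ) : CochainComplex X.Modules ℤ ⥤ CochainComplex X.Modules ℤ :=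
  (tensR E).rightAdjoint

/-- `- ⊗ E ⊣ Hom(E, -)` on complexes. -/
noncomputable def homCxAdj (E : CochainComplex X.Modules ℤ) : tensR E ⊣ homCx E :=
  Adjunction.ofIsLeftAdjoint _

instance additive_tensR (E : CochainComplex X.Modules ℤ) : (tensR E).Additive :=
  have : PreservesBinaryBiproducts (tensR E) := preservesBinaryBiproducts_of_preservesBinaryCoproducts (tensR E)
  Functor.additive_of_preservesBinaryBiproducts _

/-- `- ⊗ E` respects homotopies. -/
noncomputable def tensRHomotopy (E : CochainComplex X.Modules ℤ) {A B : CochainComplex X.Modules ℤ} {f g : A ⟶ B}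
    (h : Homotopy f g) : Homotopy ((tensR E).map f) ((tensR E).map g) :=
  HomologicalComplex.mapBifunctorMapHomotopy₁ h (𝟙 E) (DCoh.tensorBi (X := X)) (ComplexShape.up ℤ)

theorem tensR_map_zero (E : CochainComplex X.Modules ℤ) (A B : CochainComplex X.Modules ℤ) :
    (tensR E).map (0 : A ⟶ B) = 0 := by
  exact (tensR E).map_zero A B

/-- The transpose of a null-homotopic map is null-homotopic. -/
theorem transpose_null {E A L : CochainComplex X.Modules ℤ} {v : (tensR E).obj A ⟶ L} (h : Homotopy v 0) :
    Nonempty (Homotopy ((homCxAdj E).homEquiv A L v) 0) := by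
  let i := CochainComplex.mappingCone.inr (𝟙 A)
  choose r hr using fun n => mapBifunctor_retraction₁ (DCoh.tensorBi (X := X)) i
    (fun n => (CochainComplex.mappingCone.snd (𝟙 A)).v n n (add_zero n))
    (fun n => CochainComplex.mappingCone.inr_f_snd_v (𝟙 A) n) E n
  obtain ⟨w, hw⟩ := exists_extension_of_null ((tensR E).map i) r hr v h
  rw [← hw, Adjunction.homEquiv_naturality_left]
  exact ⟨homotopyZeroOfContractible (CochainComplex.mappingCone.homotopyToZeroOfId A) i _⟩

/-- The adjoint of a null-homotopic map is null-homotopic. -/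
theorem transpose_symm_null {E A L : CochainComplex X.Modules ℤ} {b : A ⟶ (homCx E).obj L} (h : Homotopy b 0) :
    Nonempty (Homotopy (((homCxAdj E).homEquiv A L).symm b) 0) := by
  rw [Adjunction.homEquiv_counit]
  exact ⟨((tensRHomotopy E h).compRight _).trans (Homotopy.ofEq (by rw [tensR_map_zero, zero_comp]))⟩

/-- `Hom(E, -)` preserves K-injectivity for K-flat `E`. -/
theorem isKInjective_homCx {E : CochainComplex X.Modules ℤ} (hE : DCoh.IsKFlat E) (I : CochainComplex X.Modules ℤ)
    [I.IsKInjective] : ((homCx E).obj I).IsKInjective where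
  nonempty_homotopy_zero {A} f hA := by
    obtain ⟨v, rfl⟩ := ((homCxAdj E).homEquiv A I).surjective f
    have hTA : ((tensR E).obj A).Acyclic := (isKFlat_iff E).1 hE A hA
    obtain ⟨h⟩ := CochainComplex.IsKInjective.nonempty_homotopy_zero v hTA
    exact transpose_null h

/-- Morphisms into a K-injective complex in the derived category. -/
theorem Q_map_surjective {A I : CochainComplex X.Modules ℤ} [I.IsKInjective]
    (g : DerivedCategory.Q.obj A ⟶ DerivedCategory.Q.obj I) : ∃ c : A ⟶ I, DerivedCategory.Q.map c = g := by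
  let e := DerivedCategory.quotientCompQhIso X.Modules
  obtain ⟨h, hh⟩ := (CochainComplex.IsKInjective.Qh_map_bijective
    ((HomotopyCategory.quotient X.Modules (ComplexShape.up ℤ)).obj A) I).2 (e.hom.app A ≫ g ≫ e.inv.app I)
  obtain ⟨c, rfl⟩ := (HomotopyCategory.quotient X.Modules (ComplexShape.up ℤ)).map_surjective h
  refine ⟨c, ?_⟩
  rw [← cancel_epi (e.hom.app A), ← cancel_mono (e.inv.app I), Category.assoc, Category.assoc, ← hh]
  have := e.hom.naturality c
  exact ((Category.assoc _ _ _).symm.trans (congrArg (· ≫ _) this.symm)).trans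
    ((Category.assoc _ _ _).trans ((congrArg (_ ≫ ·) (e.hom_inv_id_app I)).trans (Category.comp_id _)))

theorem nonempty_homotopy_of_Q_map_eq_zero {A I : CochainComplex X.Modules ℤ} [I.IsKInjective] {c : A ⟶ I}
    (h : DerivedCategory.Q.map c = 0) : Nonempty (Homotopy c 0) := by
  let e := DerivedCategory.quotientCompQhIso X.Modules
  refine ⟨HomotopyCategory.homotopyOfEq _ _ ((CochainComplex.IsKInjective.Qh_map_bijective
    ((HomotopyCategory.quotient X.Modules (ComplexShape.up ℤ)).obj A) I).1 ?_)⟩
  rw [Functor.map_zero, Functor.map_zero, ← cancel_mono (e.hom.app I), zero_comp]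
  exact (e.hom.naturality c).trans ((congrArg (_ ≫ ·) h).trans comp_zero)

theorem Q_map_eq_zero_of_null {A I : CochainComplex X.Modules ℤ} {c : A ⟶ I} (h : Homotopy c 0) :
    DerivedCategory.Q.map c = 0 := by
  let e := DerivedCategory.quotientCompQhIso X.Modules
  rw [← cancel_epi (e.hom.app A), comp_zero]
  refine (e.hom.naturality c).symm.trans ?_
  change DerivedCategory.Qh.map ((HomotopyCategory.quotient _ _).map c) ≫ _ = 0
  rw [HomotopyCategory.eq_of_homotopy _ _ h, Functor.map_zero, Functor.map_zero, zero_comp]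

theorem nonempty_representableBy_ltensor (E : CochainComplex X.Modules ℤ) [DCoh.HasLTensorCx E]
    (hE : DCoh.IsKFlat E) (I : CochainComplex X.Modules ℤ) [I.IsKInjective] :
    Nonempty (((DCoh.LTensorCx E).op ⋙ yoneda.obj (DerivedCategory.Q.obj I)).RepresentableBy
      (DerivedCategory.Q.obj ((homCx E).obj I))) := by
  let α := (DCoh.tensorCxQ E).totalLeftDerivedCounit DerivedCategory.Q
    (HomologicalComplex.quasiIso X.Modules (ComplexShape.up ℤ))
  let ε₀ : (DCoh.LTensorCx E).obj (DerivedCategory.Q.obj ((homCx E).obj I)) ⟶ DerivedCategory.Q.obj I :=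
    α.app ((homCx E).obj I) ≫ DerivedCategory.Q.map ((homCxAdj E).counit.app I)
  let ev : ∀ Z, (Z ⟶ DerivedCategory.Q.obj ((homCx E).obj I)) → ((DCoh.LTensorCx E).obj Z ⟶ DerivedCategory.Q.obj I) :=
    fun Z b => (DCoh.LTensorCx E).map b ≫ ε₀
  have := isKInjective_homCx hE I
  have hev : ∀ {A : CochainComplex X.Modules ℤ} (b : A ⟶ (homCx E).obj I), ev _ (DerivedCategory.Q.map b) =
      α.app A ≫ DerivedCategory.Q.map (((homCxAdj E).homEquiv A I).symm b) := fun {A} b => by
    rw [Adjunction.homEquiv_counit, Functor.map_comp]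
    exact ((Category.assoc _ _ _).symm.trans (congrArg (· ≫ _) (α.naturality b))).trans (Category.assoc _ _ _)
  have hQ : ∀ A : CochainComplex X.Modules ℤ, Function.Bijective (ev (DerivedCategory.Q.obj A)) := fun A => by
    have hα : IsIso (α.app A) := isIso_counit_of_isKFlat E hE A
    constructor
    · intro b₁ b₂ hb
      obtain ⟨c₁, rfl⟩ := Q_map_surjective b₁
      obtain ⟨c₂, rfl⟩ := Q_map_surjective b₂
      rw [hev, hev] at hb
      have hb' := (cancel_epi (α.app A)).1 hb
      obtain ⟨c₁', rfl⟩ := ((homCxAdj E).homEquiv A I).surjective c₁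
      obtain ⟨c₂', rfl⟩ := ((homCxAdj E).homEquiv A I).surjective c₂
      rw [Equiv.symm_apply_apply, Equiv.symm_apply_apply] at hb'
      have h0 : DerivedCategory.Q.map (c₁' - c₂') = 0 := by rw [Functor.map_sub, hb', sub_self]
      obtain ⟨h⟩ := nonempty_homotopy_of_Q_map_eq_zero h0
      have hq := HomotopyCategory.eq_of_homotopy _ _ (Homotopy.equivSubZero.symm h)
      obtain ⟨k⟩ := transpose_null h
      have hq' := Q_map_eq_zero_of_null k
      have := (homCxAdj E).right_adjoint_additive
      rw [Adjunction.homEquiv_unit, Functor.map_sub, Preadditive.comp_sub, Functor.map_sub, sub_eq_zero] at hq'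
      rw [Adjunction.homEquiv_unit, Adjunction.homEquiv_unit]
      exact hq'
    · intro g
      obtain ⟨c, hc⟩ := Q_map_surjective (inv (α.app A) ≫ g)
      refine ⟨DerivedCategory.Q.map ((homCxAdj E).homEquiv A I c), ?_⟩
      rw [hev, Equiv.symm_apply_apply, hc, IsIso.hom_inv_id_assoc]
  have hall : ∀ Z, Function.Bijective (ev Z) := fun Z => by
    let e := DerivedCategory.Q.objObjPreimageIso Z
    have h := hQ (DerivedCategory.Q.objPreimage Z)
    have he : ∀ b, ev Z b = inv ((DCoh.LTensorCx E).map e.hom) ≫ ev _ (e.hom ≫ b) := fun b => by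
      simp [ev]
    refine ⟨fun b₁ b₂ hb => ?_, fun g => ?_⟩
    · rw [he, he] at hb
      exact (cancel_epi e.hom).1 (h.1 ((cancel_epi _).1 hb))
    · obtain ⟨b, hb⟩ := h.2 ((DCoh.LTensorCx E).map e.hom ≫ g)
      refine ⟨e.inv ≫ b, ?_⟩
      rw [he, e.hom_inv_id_assoc, hb, IsIso.inv_hom_id_assoc]
  exact ⟨{ homEquiv := fun {Z} => Equiv.ofBijective _ (hall Z)
           homEquiv_comp := fun {Z Z'} b g => by simp [ev] }⟩

theorem hasRSheafHom_of_isKFlat (E : CochainComplex X.Modules ℤ) [DCoh.HasLTensorCx E] (hE : DCoh.IsKFlat E) :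
    DCoh.HasRSheafHom E := by
  refine (DCoh.LTensorCx E).isLeftAdjoint_of_rightAdjointObjIsDefined_eq_top (funext fun M => ?_)
  simp only [Pi.top_apply, Prop.top_eq_true, eq_iff_iff, iff_true]
  rw [(DCoh.LTensorCx E).rightAdjointObjIsDefined_iff]
  obtain ⟨I, i, hi, hI, -⟩ := KInj.exists_kInjective_resolution (A := X.Modules) (DerivedCategory.Q.objPreimage M)
  let e : DerivedCategory.Q.obj I ≅ M := (asIso (DerivedCategory.Q.map i)).symm ≪≫ DerivedCategory.Q.objObjPreimageIso M
  obtain ⟨r⟩ := nonempty_representableBy_ltensor E hE I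
  exact (r.ofIso (Functor.isoWhiskerLeft _ (yoneda.mapIso e))).isRepresentable

end GrothLib.OX
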