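import Groth.Agent.Lib.OX.KoszulOrth

/-!
# Sections killed away from `V(fs)` factor through Koszul complexes on powers
-/

set_option autoImplicit false
set_option maxHeartbeats 1000000
universe u

open CategoryTheory CategoryTheory.Limits AlgebraicGeometry Opposite TopologicalSpace Pretriangulated

attribute [local instance] HasDerivedCategory.standard

namespace GrothLib.DR

open DerivedCategory

variable {A : Type u} [CommRing A]

/-- The canonical map from the ring. -/
noncomputable def qK : ∀ l : List A,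
    (singleFunctor (ModuleCat.{u} A) 0).obj (ModuleCat.of A A) ⟶ (Q.obj (Koszul.koszul A l) : Dual.D A)
  | [] => ((singleFunctorIsoCompQ (ModuleCat.{u} A) 0).app (ModuleCat.of A A)).hom
  | f :: l => qK l ≫ Q.map (CochainComplex.mappingCone.inr (f • 𝟙 (Koszul.koszul A l)))

theorem exists_koszul_triangle_inr (f : A) (l : List A) :
    ∃ (m₃ : (Q.obj (Koszul.koszul A (f :: l)) : Dual.D A) ⟶ (Q.obj (Koszul.koszul A l))⟦(1 : ℤ)⟧),
      Triangle.mk (f • 𝟙 (Q.obj (Koszul.koszul A l) : Dual.D A))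
        (Q.map (CochainComplex.mappingCone.inr (f • 𝟙 (Koszul.koszul A l)))) m₃ ∈ distTriang (Dual.D A) := by
  refine ⟨((Q (C := ModuleCat.{u} A)).mapTriangle.obj
    (CochainComplex.mappingCone.triangle (f • 𝟙 (Koszul.koszul A l)))).mor₃, ?_⟩
  have h := DerivedCategory.mappingCone_triangle_distinguished (f • 𝟙 (Koszul.koszul A l))
  rw [← Q_map_smul f]
  exact h

/-- Higher powers map to lower ones. -/
theorem exists_transition : ∀ (l : List A) {e e' : ℕ}, e ≤ e' →
    ∃ π : (Q.obj (Koszul.koszul A (l.map (· ^ e'))) : Dual.D A) ⟶ Q.obj (Koszul.koszul A (l.map (· ^ e))),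
      qK (l.map (· ^ e')) ≫ π = qK (l.map (· ^ e))
  | [], _, _, _ => ⟨𝟙 _, Category.comp_id _⟩
  | f :: l, e, e', h => by
    obtain ⟨π, hπ⟩ := exists_transition l h
    obtain ⟨m, hm⟩ := exists_koszul_triangle_inr (f ^ e) (l.map (· ^ e))
    obtain ⟨m', hm'⟩ := exists_koszul_triangle_inr (f ^ e') (l.map (· ^ e'))
    obtain ⟨c, hc, -⟩ := complete_distinguished_triangle_morphism _ _ hm' hm (f ^ (e' - e) • π) π (by
      change (f ^ e' • 𝟙 _) ≫ π = (f ^ (e' - e) • π) ≫ (f ^ e • 𝟙 _)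
      rw [Linear.smul_comp, Category.id_comp, Linear.comp_smul, Category.comp_id, smul_smul, ← pow_add,
        Nat.add_sub_cancel' h])
    refine ⟨c, ?_⟩
    show (qK _ ≫ Q.map (CochainComplex.mappingCone.inr _)) ≫ c = qK _ ≫ Q.map (CochainComplex.mappingCone.inr _)
    refine (Category.assoc _ _ _).trans ((congrArg (qK _ ≫ ·) hc).trans ?_)
    exact (Category.assoc _ _ _).symm.trans (congrArg (· ≫ _) hπ)

/-- Factorisation through powers. -/
theorem exists_factor_koszul_pow {C : Dual.D A}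
    (φ : (singleFunctor (ModuleCat.{u} A) 0).obj (ModuleCat.of A A) ⟶ C) :
    ∀ (l : List A), (∀ f ∈ l, ∀ j, -(l.length : ℤ) < j → j ≤ 0 → TorsionAt f C j) →
      ∃ (e : ℕ) (ψ : (Q.obj (Koszul.koszul A (l.map (· ^ e))) : Dual.D A) ⟶ C), qK (l.map (· ^ e)) ≫ ψ = φ
  | [], _ => ⟨0, ((singleFunctorIsoCompQ (ModuleCat.{u} A) 0).app (ModuleCat.of A A)).inv ≫ φ,
      ((singleFunctorIsoCompQ (ModuleCat.{u} A) 0).app (ModuleCat.of A A)).hom_inv_id_assoc φ⟩
  | f :: l, hC => by
    obtain ⟨e, ψ, hψ⟩ := exists_factor_koszul_pow φ l fun g hg j hj hj' =>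
      hC g (List.mem_cons_of_mem _ hg) j (by simp only [List.length_cons]; push_cast; omega) hj'
    obtain ⟨k, hk⟩ := TriCat.torsion_of_iso ((shiftFunctorZero (Dual.D A) ℤ).app _)
      (winHom_koszul (l.map (· ^ e)) f 0 C fun j hj hj' => hC f List.mem_cons_self j
        (by simp only [List.length_cons, List.length_map] at hj ⊢; push_cast; omega) (by omega)) ψ
    obtain ⟨π, hπ⟩ := exists_transition l (le_max_left e k)
    obtain ⟨m, hm⟩ := exists_koszul_triangle_inr (f ^ max e k) (l.map (· ^ max e k))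
    have h0 : (f ^ max e k • 𝟙 _) ≫ π ≫ ψ = 0 := by
      obtain ⟨m, hm⟩ := Nat.exists_eq_add_of_le (le_max_right e k)
      have h1 : f ^ max e k • ψ = 0 := by rw [hm, add_comm, pow_add, mul_smul, hk, smul_zero]
      rw [Linear.smul_comp, Category.id_comp, ← Linear.comp_smul, h1, comp_zero]
    obtain ⟨χ, hχ⟩ : ∃ χ, π ≫ ψ = Q.map (CochainComplex.mappingCone.inr _) ≫ χ :=
      Triangle.yoneda_exact₂ _ hm (π ≫ ψ) h0
    refine ⟨max e k, χ, ?_⟩
    show (qK _ ≫ Q.map (CochainComplex.mappingCone.inr _)) ≫ χ = φ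
    refine (Category.assoc _ _ _).trans ((congrArg (qK _ ≫ ·) hχ.symm).trans ?_)
    exact (Category.assoc _ _ _).symm.trans ((congrArg (· ≫ ψ) hπ).trans hψ)

end GrothLib.DR

namespace GrothLib.OX

theorem section_factors_koszul {A : Type u} [CommRing A] (fs : List A) {E : DCoh.D (Spec (CommRingCat.of A))}
    (hE : DCoh.IsQCohD E)
    (hU : ∀ i : ℤ, -(fs.length : ℤ) < i → i ≤ 0 →
      IsZero ((DCoh.HD E i).restrict (Scheme.Opens.ι (Uo fs))))
    (s : DCoh.inD (Spec (CommRingCat.of A)) (Coh.structureModule (Spec (CommRingCat.of A))) ⟶ E) :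
    ∃ (e : ℕ) (ψ : Kz (fs.map (fun a => a ^ e)) ⟶ E)
      (t : DCoh.inD (Spec (CommRingCat.of A)) (Coh.structureModule (Spec (CommRingCat.of A))) ⟶
        Kz (fs.map (fun a => a ^ e))), t ≫ ψ = s := by
  let R := CommRingCat.of A
  obtain ⟨N, ⟨eN⟩⟩ := (tildeD_full_faithful_essImage (R := R)).2.2 _ hE
  have := (tildeD_full_faithful_essImage (R := R)).1
  let T := DCoh.tildeD R
  let c : T.obj ((DerivedCategory.singleFunctor (ModuleCat.{u} A) 0).obj (ModuleCat.of A A)) ≅
      DCoh.inD (Spec R) (Coh.structureModule (Spec R)) :=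
    ((tilde.functor R).mapDerivedCategorySingleFunctor 0).app (ModuleCat.of R R) ≪≫
      (DerivedCategory.singleFunctor _ 0).mapIso tildeSelf
  obtain ⟨φ, hφ⟩ : ∃ φ, T.map φ = c.hom ≫ s ≫ eN.inv := ⟨_, T.map_preimage _⟩
  obtain ⟨e, ψ, hψ⟩ := DR.exists_factor_koszul_pow φ fs fun f hf j hj hj' x => by
    have hz : IsZero ((Scheme.Modules.restrictFunctor (Scheme.Opens.ι (Uo fs))).obj
        ((tilde.functor R).obj ((DerivedCategory.homologyFunctor (ModuleCat.{u} A) j).obj N))) :=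
      (hU j hj hj').of_iso ((Scheme.Modules.restrictFunctor _).mapIso
        ((DerivedCategory.homologyFunctor _ j).mapIso eN.symm ≪≫ HDTildeIso (R := R) N j).symm)
    exact torsion_of_isZero_restrict (A := R) (Scheme.Opens.ι (Uo fs)) _ hz f
      ((opensRange_puncturedOpen fs) ▸ le_iSup (fun k : {f // f ∈ fs} => PrimeSpectrum.basicOpen k.1) ⟨f, hf⟩) x
  refine ⟨e, T.map ψ ≫ eN.hom, c.inv ≫ T.map (DR.qK _), ?_⟩
  rw [Category.assoc, ← T.map_comp_assoc, hψ, hφ]
  simp

end GrothLib.OX
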