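import Groth.Agent.Lib.OX.QCohFun

/-! # From complexes with one cohomology sheaf to complexes bounded above -/

set_option autoImplicit false
set_option maxHeartbeats 800000
universe u

open CategoryTheory CategoryTheory.Limits AlgebraicGeometry HomologicalComplex

namespace GrothLib.OX

variable {X Z : Scheme.{u}} (Φ : CochainComplex X.Modules ℤ ⥤ CochainComplex Z.Modules ℤ)

/-- The functor sends degreewise split short exact sequences of K-flat complexes to short exact sequences. -/
def PreservesSplitSES [Φ.PreservesZeroMorphisms] : Prop :=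
  ∀ S : ShortComplex (CochainComplex X.Modules ℤ),
    (∀ q, Nonempty (S.map (HomologicalComplex.eval X.Modules (ComplexShape.up ℤ) q)).Splitting) →
      DCoh.IsKFlat S.X₁ → DCoh.IsKFlat S.X₂ → DCoh.IsKFlat S.X₃ → (S.map Φ).ShortExact

/-- The functor is right exact up to the shift `c` on K-flat complexes. -/
def RightBound (c : ℤ) : Prop :=
  ∀ (b : ℤ) (P : CochainComplex X.Modules ℤ), DCoh.IsKFlat P → (∀ j, b < j → IsZero (P.homology j)) →
    ∀ i, b + c < i → IsZero ((Φ.obj P).homology i)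

/-- Quasi-coherence for complexes with one cohomology sheaf. -/
def SingleQCoh : Prop :=
  ∀ (n : ℤ) (N : CochainComplex X.Modules ℤ), DCoh.IsKFlat N → (∀ j, j ≠ n → IsZero (N.homology j)) →
    Coh.IsQCoh (N.homology n) → ∀ i, Coh.IsQCoh ((Φ.obj N).homology i)

/-- The dévissage along the top cohomology sheaf. -/
theorem exists_top_sequence {P : CochainComplex X.Modules ℤ} (hP : DCoh.IsKFlat P) (b : ℤ)
    (hb : ∀ j, b < j → IsZero (P.homology j)) :
    ∃ S : ShortComplex (CochainComplex X.Modules ℤ),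
      (∀ q, Nonempty (S.map (HomologicalComplex.eval X.Modules (ComplexShape.up ℤ) q)).Splitting) ∧
      S.ShortExact ∧ Nonempty (S.X₁ ≅ P) ∧ DCoh.IsKFlat S.X₁ ∧ DCoh.IsKFlat S.X₂ ∧ DCoh.IsKFlat S.X₃ ∧
      (∀ j, j ≠ b → IsZero (S.X₂.homology j)) ∧ IsIso (homologyMap S.f b) := by
  obtain ⟨N, a, c, hN, hc, hac, -⟩ := exists_factorization (P.πTruncGE b) hP
  let C := CochainComplex.mappingCone (𝟙 P)
  have hC : DCoh.IsKFlat C := isKFlat_mappingCone _ hP hP
  have hCa : C.Acyclic := (DerCat.quasiIso_iff_acyclic_mappingCone (𝟙 P)).1 inferInstance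
  let ι : P ⟶ N ⊞ C := biprod.lift a (CochainComplex.mappingCone.inr (𝟙 P))
  have hr : ∀ q, ι.f q ≫ ((biprod.snd : N ⊞ C ⟶ C).f q ≫
      (CochainComplex.mappingCone.snd (𝟙 P)).v q q (add_zero q)) = 𝟙 (P.X q) := fun q => by
    rw [← Category.assoc, ← HomologicalComplex.comp_f, biprod.lift_snd]
    exact CochainComplex.mappingCone.inr_f_snd_v (𝟙 P) q
  have hm : ∀ q, Mono (ι.f q) := fun q => mono_of_mono_fac (hr q)
  have : Mono ι := HomologicalComplex.mono_of_mono_f _ hm
  let S := ShortComplex.mk ι (cokernel.π ι) (cokernel.condition ι)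
  have hS : S.ShortExact := { exact := ShortComplex.exact_cokernel ι, epi_g := coequalizer.π_epi }
  have σ : ∀ q, Nonempty (S.map (HomologicalComplex.eval X.Modules (ComplexShape.up ℤ) q)).Splitting := fun q =>
    have h := hS.map_of_exact (HomologicalComplex.eval X.Modules (ComplexShape.up ℤ) q)
    ⟨ShortComplex.Splitting.ofExactOfRetraction _ h.exact _ (hr q) h.epi_g⟩
  have h₂ : DCoh.IsKFlat (N ⊞ C) := isKFlat_biprod hN hC
  let T := ShortComplex.mk (biprod.inr : C ⟶ N ⊞ C) biprod.fst biprod.inr_fst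
  have hT : T.ShortExact :=
    ({ r := biprod.snd, s := biprod.inl, f_r := biprod.inr_snd, s_g := biprod.inl_fst
       id := (add_comm _ _).trans biprod.total } : T.Splitting).shortExact
  have hfst : ∀ j, IsIso (homologyMap (biprod.fst : N ⊞ C ⟶ N) j) := fun j => by
    have h0 := (DerCat.acyclic_iff _).1 hCa
    have : Mono (homologyMap (biprod.fst : N ⊞ C ⟶ N) j) := (hT.homology_exact₂ j).mono_g ((h0 j).eq_of_src _ _)
    have : Epi (homologyMap (biprod.fst : N ⊞ C ⟶ N) j) :=
      (hT.homology_exact₃ j (j + 1) rfl).epi_f ((h0 (j + 1)).eq_of_tgt _ _)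
    exact isIso_of_mono_of_epi _
  refine ⟨S, σ, hS, ⟨Iso.refl P⟩, hP, h₂, isKFlat_X₃ (S := S)
    (fun L => tensorCx_shortExact_of_splitting (fun q => (σ q).some) L) hP h₂, fun j hj => ?_, ?_⟩
  · have := hfst j
    refine IsZero.of_iso ?_ (asIso (homologyMap (biprod.fst : N ⊞ C ⟶ N) j) ≪≫
      @asIso _ _ _ _ (homologyMap c j) ((quasiIsoAt_iff_isIso_homologyMap _ j).1 inferInstance))
    rcases lt_or_gt_of_ne hj with h | h
    · exact CochainComplex.isZero_of_isGE (P.truncGE b) b j h
    · have := CochainComplex.quasiIsoAt_πTruncGE P b j h.le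
      exact (hb j h).of_iso (isoOfQuasiIsoAt (P.πTruncGE b) j).symm
  · have := hfst b
    have h1 : IsIso (homologyMap (P.πTruncGE b) b) := (quasiIsoAt_iff_isIso_homologyMap _ b).1 inferInstance
    have h2 : IsIso (homologyMap c b) := (quasiIsoAt_iff_isIso_homologyMap _ b).1 inferInstance
    have : IsIso (homologyMap ι b ≫ homologyMap (biprod.fst : N ⊞ C ⟶ N) b ≫ homologyMap c b) := by
      rw [← homologyMap_comp, ← homologyMap_comp, ← Category.assoc, biprod.lift_fst, hac]
      exact h1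
    exact IsIso.of_isIso_comp_right (homologyMap ι b)
      (homologyMap (biprod.fst : N ⊞ C ⟶ N) b ≫ homologyMap c b)

/-- From complexes with one cohomology sheaf to complexes bounded above. -/
theorem qcohBelow_of_single [Φ.PreservesZeroMorphisms] (hs : PreservesSplitSES Φ) {c : ℤ} (hc : RightBound Φ c)
    (h1 : SingleQCoh Φ) : QCohBelow Φ := by
  suffices H : ∀ (n : ℕ) (b : ℤ) (P : CochainComplex X.Modules ℤ), DCoh.IsKFlat P →
      (∀ j, b < j → IsZero (P.homology j)) → (∀ j, Coh.IsQCoh (P.homology j)) →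
      ∀ i, b + c < i + n → Coh.IsQCoh ((Φ.obj P).homology i) from
    fun b P hP hb hq i => H (b + c + 1 - i).toNat b P hP hb hq i (by omega)
  intro n
  induction n with
  | zero => intro b P hP hb _ i hi; exact isQCoh_of_isZero (hc b P hP hb i (by simpa using hi))
  | succ n ih =>
    intro b P hP hb hq i hi
    obtain ⟨S, σ, hS, ⟨e⟩, h₁, h₂, h₃, hz, hiso⟩ := exists_top_sequence hP b hb
    have hq₁ : ∀ j, Coh.IsQCoh (S.X₁.homology j) := fun j =>
      isQCoh_of_iso ((homologyFunctor _ _ j).mapIso e).symm (hq j)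
    have hz₁ : ∀ j, b < j → IsZero (S.X₁.homology j) := fun j hj =>
      (hb j hj).of_iso ((homologyFunctor _ _ j).mapIso e)
    have hq₂ : ∀ j, Coh.IsQCoh (S.X₂.homology j) := fun j => by
      by_cases hj : j = b
      · subst hj; exact isQCoh_of_iso (asIso (homologyMap S.f j)) (hq₁ j)
      · exact isQCoh_of_isZero (hz j hj)
    have hq₃ : ∀ j, Coh.IsQCoh (S.X₃.homology j) := fun j =>
      isQCoh_of_five (homologyMap S.f j) (homologyMap S.g j) (hS.δ j (j + 1) rfl) (homologyMap S.f (j + 1)) _ _ _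
        (hS.homology_exact₂ j) (hS.homology_exact₃ j (j + 1) rfl) (hS.homology_exact₁ j (j + 1) rfl)
        (hq₁ j) (hq₂ j) (hq₁ (j + 1)) (hq₂ (j + 1))
    have hz₃ : ∀ j, b - 2 < j → IsZero (S.X₃.homology j) := fun j hj => by
      refine (hS.homology_exact₃ j (j + 1) rfl).isZero_of_both_zeros ?_ ?_
      · by_cases hjb : j = b
        · subst hjb
          exact (cancel_epi (homologyMap S.f j)).1
            ((S.map (homologyFunctor X.Modules (ComplexShape.up ℤ) j)).zero.trans comp_zero.symm)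
        · exact (hz j hjb).eq_of_src _ _
      · by_cases hjb : j + 1 = b
        · subst hjb
          exact (cancel_mono (homologyMap S.f (j + 1))).1 ((hS.δ_comp j (j + 1) rfl).trans zero_comp.symm)
        · exact (hz₁ (j + 1) (by omega)).eq_of_tgt _ _
    have hT := hs S σ h₁ h₂ h₃
    have hn : Coh.IsQCoh ((Φ.obj S.X₁).homology i) :=
      isQCoh_of_five (homologyMap (Φ.map S.g) (i - 1)) (hT.δ (i - 1) i (show i - 1 + 1 = i by omega))
        (homologyMap (Φ.map S.f) i) (homologyMap (Φ.map S.g) i) _ _ _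
        (hT.homology_exact₃ (i - 1) i (show i - 1 + 1 = i by omega))
        (hT.homology_exact₁ (i - 1) i (show i - 1 + 1 = i by omega)) (hT.homology_exact₂ i)
        (h1 b S.X₂ h₂ hz (hq₂ b) (i - 1)) (ih (b - 2) S.X₃ h₃ hz₃ hq₃ (i - 1) (by push_cast at hi; omega))
        (h1 b S.X₂ h₂ hz (hq₂ b) i) (ih (b - 2) S.X₃ h₃ hz₃ hq₃ i (by push_cast at hi; omega))
    exact isQCoh_of_iso ((homologyFunctor _ _ i).mapIso (Φ.mapIso e)) hn

end GrothLib.OX
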