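import Groth.Agent.Lib.OX.CompactBdd
import Groth.Agent.Lib.OX.AffineLocal
import Groth.Agent.Lib.OX.TildePerfect
import Groth.Agent.Lib.OX.AffineApps
import Groth.Agent.Lib.DCxRing.Regular

/-! # Perfect objects on regular Noetherian schemes are the bounded coherent ones -/

set_option autoImplicit false
universe u

open CategoryTheory CategoryTheory.Limits AlgebraicGeometry Opposite TopologicalSpace

attribute [local instance] HasDerivedCategory.standard

namespace GrothLib.OX

variable {X : Scheme.{u}}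

theorem isZero_tilde_iff {R : CommRingCat.{u}} (N : ModuleCat.{u} R) :
    IsZero ((tilde.functor R).obj N) ↔ Subsingleton N := by
  constructor
  · intro h
    have : (moduleSpecΓFunctor (R := R)).Additive := tilde.adjunction.right_adjoint_additive
    have : Subsingleton ((tilde.functor R ⋙ moduleSpecΓFunctor).obj N) :=
      ModuleCat.subsingleton_of_isZero ((moduleSpecΓFunctor (R := R)).map_isZero h)
    exact (tilde.toTildeΓNatIso.app N).toLinearEquiv.toEquiv.subsingleton
  · intro h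
    exact (tilde.functor R).map_isZero (ModuleCat.isZero_of_subsingleton N)

/-- On an affine chart a perfect object is bounded with coherent cohomology. -/
theorem isPerfect_chart [IsLocallyNoetherian X] {K : DCoh.D X} (hK : DCoh.IsPerfect K) {R : CommRingCat.{u}}
    (j : Spec R ⟶ X) [IsOpenImmersion j] :
    (∀ i, Coh.IsCoh ((Scheme.Modules.restrictFunctor j).obj (DCoh.HD K i))) ∧
      ∃ a b : ℤ, ∀ i : ℤ, i < a ∨ b < i →
        IsZero ((Scheme.Modules.restrictFunctor j).obj (DCoh.HD K i)) := by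
  have : IsLocallyNoetherian (Spec R) := LocallyOfFiniteType.isLocallyNoetherian j
  have : IsNoetherianRing R := isLocallyNoetherian_Spec.1 inferInstance
  obtain ⟨M, ⟨e⟩⟩ := exists_tildeD_rep (isQCohD_of_isPerfect hK) j
  have hM : DRing.IsPerfect R M :=
    (isPerfect_tildeD_iff (A := R) M).1 (isPerfect_of_iso (isPerfect_resD hK j) e.symm)
  let t : ∀ i, (Scheme.Modules.restrictFunctor j).obj (DCoh.HD K i) ≅
      (tilde.functor R).obj ((DerivedCategory.homologyFunctor (ModuleCat.{u} R) i).obj M) := fun i =>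
    (HDResIso j K i).symm ≪≫ (DerivedCategory.homologyFunctor _ i).mapIso e.symm ≪≫ HDTildeIso M i
  refine ⟨fun i => QCoh.isCoh_of_iso (t i).symm ((isCoh_tilde_iff _).2 (DR.finite_homology_of_isPerfect hM i)), ?_⟩
  obtain ⟨E, a, b, hv, -, ⟨α⟩⟩ := hM
  refine ⟨a, b, fun i hi => IsZero.of_iso ?_ (t i)⟩
  refine (tilde.functor R).map_isZero (IsZero.of_iso ?_
    ((DerivedCategory.homologyFunctor _ i).mapIso α.symm ≪≫
      (DerivedCategory.homologyFunctorFactors (ModuleCat.{u} R) i).app E))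
  exact ShortComplex.isZero_homology_of_isZero_X₂ _ (hv i hi)

theorem isCohD_and_bounded_of_isPerfect [IsNoetherian X] {K : DCoh.D X} (hK : DCoh.IsPerfect K) :
    DCoh.IsCohD K ∧ ∃ a b : ℤ, K.IsGE a ∧ K.IsLE b := by
  refine ⟨fun i => isCoh_of_affines fun U hU => (isPerfect_chart hK hU.fromSpec).1 i, ?_⟩
  have hb : ∀ x : X, ∃ U : X.Opens, x ∈ U ∧ ∃ a b : ℤ, ∀ i : ℤ, i < a ∨ b < i →
      IsZero ((Scheme.Modules.restrictFunctor U.ι).obj (DCoh.HD K i)) := fun x => by
    obtain ⟨U, hU, hx, -⟩ := exists_isAffineOpen_mem_and_subset (x := x) (U := ⊤) trivial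
    obtain ⟨a, b, h⟩ := (isPerfect_chart hK hU.fromSpec).2
    exact ⟨U, hx, a, b, fun i hi =>
      ((Scheme.Modules.restrictFunctor hU.isoSpec.hom).map_isZero (h i hi)).of_iso
        ((Scheme.Modules.restrictFunctorCongr hU.isoSpec_hom_fromSpec.symm).app _ ≪≫
          (Scheme.Modules.restrictFunctorComp hU.isoSpec.hom hU.fromSpec).app _)⟩
  choose U hx a b h using hb
  obtain ⟨t, ht⟩ := CompactSpace.isCompact_univ.elim_finite_subcover (fun x => (U x : Set X))
    (fun x => (U x).isOpen) (fun x _ => Set.mem_iUnion.2 ⟨x, hx x⟩)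
  obtain ⟨A₀, hA⟩ := (t.image a).bddBelow
  obtain ⟨B₀, hB⟩ := (t.image b).bddAbove
  have hz : ∀ i : ℤ, i < A₀ ∨ B₀ < i → IsZero (DCoh.HD K i) := fun i hi => isZero_of_local fun x => by
    obtain ⟨y, hy⟩ := Set.mem_iUnion.1 (ht (Set.mem_univ x))
    obtain ⟨hyt, hxy⟩ := Set.mem_iUnion.1 hy
    refine ⟨_, (U y).ι, inferInstance, (U y).range_ι.symm ▸ hxy, h y i ?_⟩
    have h1 := hA (Finset.mem_coe.2 (Finset.mem_image_of_mem a hyt))
    have h2 := hB (Finset.mem_coe.2 (Finset.mem_image_of_mem b hyt))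
    omega
  exact ⟨A₀, B₀, (DerivedCategory.isGE_iff _ _).2 fun i hi => hz i (Or.inl hi),
    (DerivedCategory.isLE_iff _ _).2 fun i hi => hz i (Or.inr hi)⟩

/-- Bounded coherent objects of a regular scheme are perfect. -/
theorem isPerfect_of_regular [IsLocallyNoetherian X]
    (hreg : ∀ x : X, IsRegularLocalRing (X.presheaf.stalk x)) {K : DCoh.D X} (hK : DCoh.IsCohD K)
    {a b : ℤ} [K.IsGE a] [K.IsLE b] : DCoh.IsPerfect K := by
  refine isPerfect_of_local fun x => ?_
  obtain ⟨U, hU, hx, -⟩ := exists_isAffineOpen_mem_and_subset (x := x) (U := ⊤) trivial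
  let j := hU.fromSpec
  refine ⟨_, j, inferInstance, mem_range_fromSpec hU hx, ?_⟩
  have : IsLocallyNoetherian (Spec Γ(X, U)) := LocallyOfFiniteType.isLocallyNoetherian j
  have : IsNoetherianRing Γ(X, U) := isLocallyNoetherian_Spec.1 inferInstance
  obtain ⟨M, ⟨e⟩⟩ := exists_tildeD_rep (fun i => (hK i).1) j
  refine isPerfect_of_iso ((isPerfect_tildeD_iff (A := Γ(X, U)) M).2 ?_) e
  let t : ∀ i, (Scheme.Modules.restrictFunctor j).obj (DCoh.HD K i) ≅
      (tilde.functor Γ(X, U)).obj ((DerivedCategory.homologyFunctor (ModuleCat.{u} Γ(X, U)) i).obj M) := fun i =>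
    (HDResIso j K i).symm ≪≫ (DerivedCategory.homologyFunctor _ i).mapIso e.symm ≪≫ HDTildeIso M i
  refine DR.isPerfect_of_regular (fun p => ?_) M a b (fun i hi => ?_) fun i => ?_
  · have hy : j p ∈ U := by
      have h : j p ∈ j.opensRange := ⟨p, rfl⟩
      rwa [IsAffineOpen.opensRange_fromSpec] at h
    have hprime : hU.primeIdealOf ⟨j p, hy⟩ = p :=
      j.isOpenEmbedding.injective (hU.fromSpec_primeIdealOf ⟨j p, hy⟩)
    letI := TopCat.Presheaf.algebra_section_stalk X.presheaf (⟨j p, hy⟩ : U)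
    have hl := hU.isLocalization_stalk ⟨j p, hy⟩
    rw [hprime] at hl
    haveI : IsLocalization.AtPrime (X.presheaf.stalk (j p)) p.asIdeal := hl
    have := hreg (j p)
    exact IsRegularLocalRing.of_ringEquiv
      (IsLocalization.algEquiv p.asIdeal.primeCompl (X.presheaf.stalk (j p)) (Localization.AtPrime p.asIdeal)).toRingEquiv
  · refine (isZero_tilde_iff _).1 (IsZero.of_iso ((Scheme.Modules.restrictFunctor j).map_isZero ?_) (t i).symm)
    rcases hi with hi | hi
    · exact DerivedCategory.isZero_of_isGE K a i hi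
    · exact DerivedCategory.isZero_of_isLE K b i hi
  · exact (isCoh_tilde_iff _).1 (QCoh.isCoh_of_iso (t i) (Cohom.isCoh_restrict _ (hK i) j))

end GrothLib.OX
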