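import Groth.Agent.Lib.OX.CompactBdd
import Groth.Agent.Lib.OX.RpushCoprod

/-! # `Rf_*` commutes with direct sums of uniformly bounded below families -/

set_option autoImplicit false
set_option maxHeartbeats 400000
universe u

open CategoryTheory CategoryTheory.Limits AlgebraicGeometry Opposite TopologicalSpace Pretriangulated
open GrothLib.TriCat (FinHom homSum_of homSum_π)

attribute [local instance] HasDerivedCategory.standard
attribute [local instance] Classical.decEq

namespace GrothLib.OX

variable {X S : Scheme.{u}}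

/-- Generators at compact quasi-separated opens see direct sums of uniformly bounded below families. -/
theorem genFin_of_isGE {ι : Type u} (K : ι → DCoh.D X) [HasCoproduct K] (n : ℤ) (hK : ∀ i, (K i).IsGE n)
    {U : X.Opens} (hUc : IsCompact (U : Set X)) (hU : IsQuasiSeparated (U : Set X)) : GenFin K U := fun j => by
  have := HoCat.derivedCategory_hasColimitsOfShape (C := X.Modules) (J := ι)
  let M : ι → DCoh.D X := fun i => (K i)⟦j⟧
  have hM : ∀ i, (M i).IsGE (n - j) := fun i =>
    have := hK i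
    DerivedCategory.TStructure.t.isGE_shift _ n j (n - j) (by omega)
  have h0 : FinHom M ((DerivedCategory.singleFunctor X.Modules 0).obj ((genF X).obj U)) :=
    CptBdd19.finHom_of_isGE (fun p H => preservesColimit_ext_genF hUc hU p H) M _ hM
  have hiso : IsIso (Sigma.desc fun i => (shiftFunctor (DCoh.D X) j).map (Sigma.ι K i)) :=
    inferInstanceAs (IsIso (sigmaComparison (shiftFunctor (DCoh.D X) j) K))
  exact FinHom.of_iso (singleShiftNeg ((genF X).obj U) j)
    (finHom_leftAdjoint (shiftEquiv (DCoh.D X) j).symm.toAdjunction K hiso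
      (inferInstanceAs (shiftFunctor (DCoh.D X) (-j)).Additive) h0)

variable (f : X ⟶ S) [QuasiCompact f] [QuasiSeparated f] {ι : Type u} (K : ι → DCoh.D X) [HasCoproduct K]
  [HasCoproduct fun i => (RR f).obj (K i)]

/-- The direct sum of the `Rf_* K_i` maps isomorphically to `Rf_* (∐ K_i)`. -/
theorem isIso_Rres_coprod_of_isGE (n : ℤ) (hK : ∀ i, (K i).IsGE n) :
    IsIso (Sigma.desc fun i => (RR f).map (Sigma.ι K i)) := by
  let R := RR f
  let RK := fun i => R.obj (K i)
  let a : (∐ RK) ⟶ R.obj (∐ K) := Sigma.desc fun i => R.map (Sigma.ι K i)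
  have hRK : ∀ i, (RK i).IsGE n := fun i => by
    refine @SiteDer.isGE_Rres _ _ _ _ _ _ _ _ (rmor f) (K i) n ?_
    exact hK i
  refine (DerivedCategory.isIso_iff (C := S.Modules) a).2 fun j => ?_
  refine isIso_of_restrict_cover _ (fun V : S.affineOpens => V.1) (fun x => ?_) fun V =>
    isIso_restrict_homology a V.2 j fun s => ?_
  · obtain ⟨U, hU, hx, -⟩ := exists_isAffineOpen_mem_and_subset (x := x) (U := ⊤) trivial
    exact ⟨⟨U, hU⟩, hx⟩
  let W := S.basicOpen s
  let gW := (DerivedCategory.singleFunctor S.Modules j).obj ((genF S).obj W)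
  let gT := (DerivedCategory.singleFunctor X.Modules j).obj ((genF X).obj (f ⁻¹ᵁ W))
  let e : ∀ E : DCoh.D X, (gW ⟶ R.obj E) ≃ (gT ⟶ E) := fun E => SiteDer.pushHomEquiv (rmor f) W j E
  have hπ : ∀ k, a ≫ R.map (Sigma.π K k) = Sigma.π RK k := fun k => Sigma.hom_ext _ _ fun i => by
    rw [Sigma.ι_desc_assoc, ← R.map_comp]
    by_cases hi : i = k
    · subst hi; rw [Sigma.ι_π_eq_id, Sigma.ι_π_eq_id, R.map_id]
    · rw [Sigma.ι_π_of_ne _ hi, Sigma.ι_π_of_ne _ hi, R.map_zero]
  refine ⟨fun φ φ' h => ?_, fun ψ => ?_⟩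
  · obtain ⟨c, rfl⟩ := genFin_of_isGE RK n hRK (V.2.basicOpen s).isCompact (V.2.basicOpen s).isQuasiSeparated j φ
    obtain ⟨c', rfl⟩ := genFin_of_isGE RK n hRK (V.2.basicOpen s).isCompact (V.2.basicOpen s).isQuasiSeparated j φ'
    refine congrArg _ (DFinsupp.ext fun k => ?_)
    rw [← homSum_π RK gW c k, ← homSum_π RK gW c' k, ← hπ k, ← Category.assoc, ← Category.assoc]
    exact congrArg (· ≫ R.map (Sigma.π K k)) h
  · obtain ⟨c, hc⟩ := genFin_of_isGE K n hK
      (QuasiCompact.isCompact_preimage (f := f) (W : Set S) W.isOpen (V.2.basicOpen s).isCompact)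
      (f.isQuasiSeparated_preimage (V.2.basicOpen s).isQuasiSeparated) j (e _ ψ)
    have he : ∀ (E : DCoh.D X) (x y : gW ⟶ R.obj E), e E (x + y) = e E x + e E y :=
      fun E x y => add_of_natural R e (fun g φ => SiteDer.pushHomEquiv_comp (rmor f) W j g φ) E x y
    have key : ∀ c, ∃ φ, e _ (φ ≫ a) = PerfAux.homSumToHomCoprod gT K c := by
      intro c
      induction c using DirectSum.induction_on with
      | zero =>
        exact ⟨0, ((congrArg (e _) zero_comp).trans (SiteDer.pushHomEquiv_zero (rmor f) W j _)).trans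
          (map_zero (PerfAux.homSumToHomCoprod gT K)).symm⟩
      | of k x =>
        refine ⟨(e _).symm x ≫ Sigma.ι RK k, ?_⟩
        rw [Category.assoc, Sigma.ι_desc, homSum_of]
        exact (SiteDer.pushHomEquiv_comp (rmor f) W j _ _).trans
          (congrArg (· ≫ Sigma.ι K k) ((e _).apply_symm_apply x))
      | add x y hx hy =>
        obtain ⟨φ, hφ⟩ := hx
        obtain ⟨φ', hφ'⟩ := hy
        exact ⟨φ + φ', by rw [Preadditive.add_comp, he, hφ, hφ', map_add]⟩
    obtain ⟨φ, hφ⟩ := key c
    exact ⟨φ, (e _).injective (hφ.trans hc)⟩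

/-- `Rf_*` commutes with direct sums of uniformly bounded below families, for any choice of `Rf_*`. -/
theorem isIso_Rpush_coprod_of_isGE [DCoh.HasRpush f] [HasCoproduct fun i => (DCoh.Rpush f).obj (K i)]
    (n : ℤ) (hK : ∀ i, (K i).IsGE n) : IsIso (Sigma.desc fun i => (DCoh.Rpush f).map (Sigma.ι K i)) :=
  isIso_sigmaDesc_of_iso (rpushIsoRres f) K (isIso_Rres_coprod_of_isGE f K n hK)

end GrothLib.OX
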